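import Mathlib.LinearAlgebra.Matrix.SpecialLinearGroup
import Mathlib.LinearAlgebra.Matrix.Basis
import Mathlib.LinearAlgebra.Matrix.ToLin
import Mathlib.LinearAlgebra.FiniteDimensional.Lemmas
import Mathlib.LinearAlgebra.Basis.Prod
import Mathlib.LinearAlgebra.Projection
import Mathlib.LinearAlgebra.Dimension.DivisionRing
import Mathlib.Tactic
import Cfsg.Agent.H46.TL.Ord_m3
import Cfsg.Agent.H122.Pw.EightThree
import Cfsg.Agent.H494.TC.Base
import Cfsg.Agent.TitsThree.RTFast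
import Mathlib
import Cfsg.Agent.LieClassical.OrthTrans
import Cfsg.Agent.LieClassical.OrthForms
import Cfsg.Agent.LieClassical.OrthFinite
import Cfsg.Prelude.Def_Characters
import Cfsg.Agent.H701.F43.Cent
import Cfsg.Agent.KFacts.RgdEx
import Cfsg.Agent.H240.Sp44.Main_m3
import Cfsg.Agent.H538.TC.SLThreeC_m3
import Cfsg.Agent.KFacts.RgdVJ
import Cfsg.Agent.KFacts.RgdLieCharP
import Cfsg.Agent.S1054
import Cfsg.Agent.H962.TC.Num_m3
import Cfsg.Agent.H744.FC.Par
import Cfsg.Agent.SmallSimple.BTBasic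
import Cfsg.Agent.H129.Tor
import Cfsg.Agent.Nodes.ClsPair
import Cfsg.Agent.H126.PwO.FiveThree_m3
import Cfsg.Agent.FourTwo.Base
import Cfsg.Agent.H972.CS.F4Two_m3
import Cfsg.Agent.H931.KC.Alcove
import Cfsg.Agent.S1092
import Cfsg.Agent.H45.GG.Series_m3
import Cfsg.Agent.OddOrderCharacters.IndRes
import Cfsg.Agent.CharactersDeep.InvRep
import Cfsg.Agent.Characters.Values
import Cfsg.Agent.Characters.Linear
import Cfsg.Agent.Characters.DefectZero
import Cfsg.Agent.FastGrp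
import Cfsg.Agent.Prune
set_option linter.all false

section
prune_inst 0x7ff0a8f80baca9dedfff7e3fa6d2cff831800fffa6dff943ffe061bf0bdf038009c5fb8509e010fe0e56e21410b87803797ecabfe06bd87ffffd17b41ffbee0fe5f6350851948c3406ac0ffe03e0770a6a3ffc7e7fffdffffffffff7ffffffbeffbfe3feffff

-- part: H122/SX/EFrame
section
prune_inst 0xd0503b050520020000040000c0005883bf000000004880000804020006c0ac40000008601400011a1002080400350828125400a00000000000840000011d0080080000000000009104001801000801500038180002000000000080000000000001c010000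
set_option linter.all false
open scoped Cfsg.Agent.FastGrp

namespace Cfsg.Agent.H90F

private noncomputable def frc {α : Type} (x : ℕ) (f : ℕ → α) : α := Nat.rec (f 0) (fun k _ => f (Nat.succ k)) x

private theorem frc_eq {α : Type} (x : ℕ) (f : ℕ → α) : frc x f = f x := by cases x <;> rfl

private noncomputable def nth {α : Type} (d : α) (l : List α) : ℕ → α :=
  List.rec (fun _ => d) (fun a _ ih n => Nat.rec a (fun k _ => ih k) n) l

private theorem nth_eq {α : Type} (d : α) (l : List α) (n : ℕ) : nth d l n = l.getD n d := by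
  induction l generalizing n with
  | nil => rfl
  | cons a l ih => cases n with
    | zero => rfl
    | succ k => exact ih k

private theorem nth_arr {α : Type} (d : α) (a : Array α) (n : ℕ) : a.getD n d = nth d a.toList n := by
  rw [nth_eq, List.getD_eq_getElem?_getD, Array.getD_eq_getD_getElem?, Array.getElem?_toList]

private noncomputable def fca (D : Cfsg.Lie.ChevalleyDatum) (i s : ℕ) : ℤ :=
  frc i fun i => frc s (nth 0 (nth #[] D.cartanSR.toList i).toList)

private theorem ca_eq (D : Cfsg.Lie.ChevalleyDatum) : D.cartan = fca D := by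
  funext i s
  rw [fca, frc_eq, frc_eq, ← nth_arr, ← nth_arr]
  rfl

private theorem ca_fun : Cfsg.Lie.ChevalleyDatum.cartan = fca := funext ca_eq

end Cfsg.Agent.H90F
attribute [local instance] Cfsg.Agent.TitsThree.RTFast.decRTb Cfsg.Agent.TitsThree.RTFast.decRTc

-- part: H422/TW/LemB
section
/-!
# An identity block of an element of `SL_8(2)` (helper422)

Every element of `SL_8(2)` has a conjugate whose upper left `2 × 2` block is the identity.
-/

set_option autoImplicit false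

namespace Cfsg.Agent.H422.TW

open Module Matrix

variable {K : Type*} [Field K]

section lin

variable {V : Type*} [AddCommGroup V] [Module K V] [FiniteDimensional K V]

theorem finrank_comap_le (N : V →ₗ[K] V) (U : Submodule K V) :
    finrank K ↥(U.comap N) ≤ finrank K U + finrank K (LinearMap.ker N) := by
  have h1 := (N.domRestrict (U.comap N)).finrank_range_add_finrank_ker
  have h2 : finrank K ↥(LinearMap.range (N.domRestrict (U.comap N))) ≤ finrank K U := by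
    refine Submodule.finrank_mono ?_
    rintro _ ⟨w, rfl⟩
    exact w.2
  have h3 : finrank K ↥(LinearMap.ker (N.domRestrict (U.comap N))) ≤ finrank K (LinearMap.ker N) := by
    rw [← Submodule.finrank_map_subtype_eq]
    refine Submodule.finrank_mono ?_
    rintro _ ⟨w, hw, rfl⟩
    exact hw
  omega

/-- the plane -/
theorem exists_plane (hK : ∀ a : K, a = 0 ∨ a = 1) (hd : 8 ≤ finrank K V) (f : V →ₗ[K] V)
    (hf : Function.Injective f) :
    ∃ W : Submodule K V, finrank K W = 2 ∧ Disjoint W (W.map (f - LinearMap.id)) := by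
  have h11 : (1 : K) + 1 = 0 := by
    rcases hK (1 + 1) with h | h
    · exact h
    · exact absurd (by linear_combination h : (1 : K) = 0) one_ne_zero
  have hneg : ∀ v : V, v + v = 0 := fun v => by
    rw [← one_smul K v, ← add_smul, h11, zero_smul]
  set N : V →ₗ[K] V := f - LinearMap.id with hN
  have hNv : ∀ v, N v = f v - v := fun v => by simp [hN]
  by_cases hk : 2 ≤ finrank K (LinearMap.ker N)
  · obtain ⟨w, hw⟩ := exists_linearIndependent_of_le_finrank hk
    refine ⟨Submodule.span K (Set.range fun i => (w i : V)), ?_, ?_⟩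
    · have h1 : LinearIndependent K fun i => (w i : V) :=
        hw.map' (Submodule.subtype _) (Submodule.ker_subtype _)
      rw [finrank_span_eq_card h1, Fintype.card_fin]
    · have h2 : (Submodule.span K (Set.range fun i => (w i : V))).map N = ⊥ := by
        rw [Submodule.map_span, Submodule.span_eq_bot]
        rintro _ ⟨_, ⟨i, rfl⟩, rfl⟩
        exact (w i).2
      rw [h2]
      exact disjoint_bot_right
  · push Not at hk
    obtain ⟨e, he⟩ : ∃ e, N e ≠ 0 := by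
      by_contra hcon
      push Not at hcon
      have h1 : LinearMap.ker N = ⊤ := by
        rw [LinearMap.ker_eq_top]
        exact LinearMap.ext hcon
      rw [h1, finrank_top] at hk
      omega
    have he0 : e ≠ 0 := by
      rintro rfl
      exact he (map_zero _)
    set U : Submodule K V := Submodule.span K {e, N e} with hU
    have hUd : finrank K U ≤ 2 := by
      classical
      have h1 := finrank_span_finset_le_card (R := K) ({e, N e} : Finset V)
      rw [Set.finrank, Finset.coe_insert, Finset.coe_singleton] at h1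
      exact h1.trans Finset.card_le_two
    have heU : e ∈ U := Submodule.subset_span (by simp)
    have hNeU : N e ∈ U := Submodule.subset_span (by simp)
    have hk0 : LinearMap.ker f = ⊥ := LinearMap.ker_eq_bot.2 hf
    have h1 := finrank_comap_le N U
    have h2 := finrank_comap_le f U
    rw [hk0, finrank_bot, add_zero] at h2
    have h3 : finrank K ↥(U ⊔ U.comap N ⊔ U.comap f) ≤ 7 := by
      have a1 := Submodule.finrank_add_le_finrank_add_finrank U (U.comap N)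
      have a2 := Submodule.finrank_add_le_finrank_add_finrank (U ⊔ U.comap N) (U.comap f)
      omega
    obtain ⟨g, hg⟩ : ∃ g, g ∉ U ⊔ U.comap N ⊔ U.comap f := by
      by_contra hcon
      push Not at hcon
      have h4 : U ⊔ U.comap N ⊔ U.comap f = ⊤ := by
        rw [Submodule.eq_top_iff']
        exact hcon
      rw [h4, finrank_top] at h3
      omega
    have g1 : g ∉ U := fun h => hg (Submodule.mem_sup_left (Submodule.mem_sup_left h))
    have g2 : N g ∉ U := fun h => hg (Submodule.mem_sup_left (Submodule.mem_sup_right h))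
    have g3 : f g ∉ U := fun h => hg (Submodule.mem_sup_right h)
    refine ⟨Submodule.span K {e, g}, ?_, ?_⟩
    · have h5 : LinearIndependent K ![e, g] := by
        rw [LinearIndependent.pair_iff]
        intro s t hst
        rcases hK t with rfl | rfl
        · rw [zero_smul, add_zero] at hst
          exact ⟨(smul_eq_zero.1 hst).resolve_right he0, rfl⟩
        · exfalso
          refine g1 ?_
          have h6 : g = (-s) • e := by
            rw [one_smul] at hst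
            rw [neg_smul]
            exact (neg_eq_of_add_eq_zero_right hst).symm
          rw [h6]
          exact U.smul_mem _ heU
      have h7 := finrank_span_eq_card h5
      rw [Fintype.card_fin, Matrix.range_cons, Matrix.range_cons, Matrix.range_empty, Set.union_empty,
        Set.singleton_union] at h7
      exact h7
    · rw [Submodule.disjoint_def]
      intro w hw hw'
      rw [Submodule.map_span, Set.image_pair, Submodule.mem_span_pair] at hw'
      rw [Submodule.mem_span_pair] at hw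
      obtain ⟨a, b, rfl⟩ := hw
      obtain ⟨c, d, h⟩ := hw'
      have ha : a • e ∈ U := U.smul_mem _ heU
      have hc : c • N e ∈ U := U.smul_mem _ hNeU
      rcases hK b with rfl | rfl <;> rcases hK d with rfl | rfl
      · rw [zero_smul, add_zero] at h ⊢
        rw [zero_smul, add_zero] at h
        rcases hK a with rfl | rfl
        · rw [zero_smul]
        · exfalso
          rcases hK c with rfl | rfl
          · rw [zero_smul, one_smul] at h
            exact he0 h.symm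
          · rw [one_smul, one_smul, hNv] at h
            have h8 : f e = 0 := by
              rw [sub_eq_iff_eq_add, hneg] at h
              exact h
            exact he0 (hf (by rw [h8, map_zero]))
      · exfalso
        rw [zero_smul, add_zero, one_smul] at h
        refine g2 ?_
        rw [show N g = a • e - c • N e by rw [← h]; abel]
        exact U.sub_mem ha hc
      · exfalso
        rw [zero_smul, add_zero, one_smul] at h
        refine g1 ?_
        rw [show g = c • N e - a • e by rw [h]; abel]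
        exact U.sub_mem hc ha
      · exfalso
        rw [one_smul, one_smul, hNv g] at h
        refine g3 ?_
        have h9 : f g = a • e - c • N e + (g + g) := by
          have h10 : f g - g = a • e + g - c • N e := by
            rw [← h]
            abel
          rw [sub_eq_iff_eq_add.1 h10]
          abel
        rw [h9, hneg, add_zero]
        exact U.sub_mem ha hc

end lin

/-- a plane which is disjoint from its image under `M - 1` gives the block -/
theorem exists_block {M : Matrix (Fin 2 ⊕ Fin 6) (Fin 2 ⊕ Fin 6) K} (W : Submodule K (Fin 2 ⊕ Fin 6 → K))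
    (hW : finrank K W = 2) (h : Disjoint W (W.map (Matrix.toLin' M - LinearMap.id))) :
    ∃ S T : Matrix (Fin 2 ⊕ Fin 6) (Fin 2 ⊕ Fin 6) K, S * T = 1 ∧ (S * M * T).toBlocks₁₁ = 1 := by
  obtain ⟨W', hle, hc⟩ := h.symm.exists_isCompl
  have h6 : finrank K W' = 6 := by
    have h1 := Submodule.finrank_add_eq_of_isCompl hc
    rw [hW, finrank_fintype_fun_eq_card, Fintype.card_sum, Fintype.card_fin, Fintype.card_fin] at h1
    omega
  let b : Basis (Fin 2 ⊕ Fin 6) K (Fin 2 ⊕ Fin 6 → K) :=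
    ((finBasisOfFinrankEq K W hW).prod (finBasisOfFinrankEq K W' h6)).map (W.prodEquivOfIsCompl W' hc.symm)
  have hb1 : ∀ j, b (Sum.inl j) ∈ W := fun j => by
    simp [b]
  have hb2 : ∀ w ∈ W', ∀ i, b.repr w (Sum.inl i) = 0 := fun w hw i => by
    have h2 : (W.prodEquivOfIsCompl W' hc.symm).symm w = ((0 : W), (⟨w, hw⟩ : W')) := by
      rw [LinearEquiv.symm_apply_eq]
      simp
    simp [b, h2]
  refine ⟨b.toMatrix (Pi.basisFun K _), (Pi.basisFun K _).toMatrix b, b.toMatrix_mul_toMatrix_flip _, ?_⟩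
  have h3 : b.toMatrix (Pi.basisFun K _) * M * (Pi.basisFun K _).toMatrix b =
      LinearMap.toMatrix b b (Matrix.toLin' M) := by
    rw [← basis_toMatrix_mul_linearMap_toMatrix_mul_basis_toMatrix b (Pi.basisFun K _) b (Pi.basisFun K _),
      LinearMap.toMatrix_eq_toMatrix', LinearMap.toMatrix'_toLin']
  rw [h3]
  ext i j
  rw [Matrix.toBlocks₁₁, Matrix.of_apply, LinearMap.toMatrix_apply]
  have h4 : (Matrix.toLin' M) (b (Sum.inl j)) =
      ((Matrix.toLin' M - LinearMap.id : (Fin 2 ⊕ Fin 6 → K) →ₗ[K] (Fin 2 ⊕ Fin 6 → K)) (b (Sum.inl j))) +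
        b (Sum.inl j) := by simp
  rw [h4, map_add, Finsupp.add_apply, hb2 _ (hle ⟨_, hb1 j, rfl⟩) i, zero_add, b.repr_self]
  by_cases hij : i = j
  · subst hij
    simp
  · rw [Matrix.one_apply_ne hij, Finsupp.single_apply, if_neg]
    intro h5
    exact hij (Sum.inl_injective h5).symm

/-- **Lemma B** -/
theorem lemB (hK : Nat.card K = 2) (M : Matrix.SpecialLinearGroup (Fin 2 ⊕ Fin 6) K) :
    ∃ S : Matrix.SpecialLinearGroup (Fin 2 ⊕ Fin 6) K, (S * M * S⁻¹).1.toBlocks₁₁ = 1 := by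
  have hK' : ∀ a : K, a = 0 ∨ a = 1 := by
    intro a
    classical
    by_contra hcon
    push Not at hcon
    have hfin : Finite K := Nat.finite_of_card_ne_zero (by rw [hK]; norm_num)
    let _ : Fintype K := Fintype.ofFinite K
    rw [Nat.card_eq_fintype_card] at hK
    have h1 : ({0, 1, a} : Finset K).card ≤ Fintype.card K := Finset.card_le_univ _
    rw [Finset.card_insert_of_notMem (by simp [hcon.1.symm]), Finset.card_insert_of_notMem (by simp [hcon.2.symm]),
      Finset.card_singleton] at h1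
    omega
  have hinj : Function.Injective (Matrix.toLin' M.1) := by
    have h1 : (M⁻¹).1 * M.1 = 1 := congrArg Subtype.val (inv_mul_cancel M)
    intro v w hvw
    rw [Matrix.toLin'_apply, Matrix.toLin'_apply] at hvw
    have h2 : (M⁻¹).1 *ᵥ (M.1 *ᵥ v) = (M⁻¹).1 *ᵥ (M.1 *ᵥ w) := by rw [hvw]
    rwa [Matrix.mulVec_mulVec, Matrix.mulVec_mulVec, h1, Matrix.one_mulVec, Matrix.one_mulVec] at h2
  obtain ⟨W, hW, hd⟩ := exists_plane hK' (V := Fin 2 ⊕ Fin 6 → K)
    (by rw [finrank_fintype_fun_eq_card]; simp) (Matrix.toLin' M.1) hinj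
  obtain ⟨S, T, hST, hB⟩ := exists_block W hW hd
  have hdet : S.det = 1 := by
    have h1 : S.det * T.det = 1 := by rw [← Matrix.det_mul, hST, Matrix.det_one]
    rcases hK' S.det with h | h
    · rw [h, zero_mul] at h1
      exact absurd h1 zero_ne_one
    · exact h
  let S' : Matrix.SpecialLinearGroup (Fin 2 ⊕ Fin 6) K := ⟨S, hdet⟩
  have h2 : (S'⁻¹).1 = T := by
    have h3 : S * (S'⁻¹).1 = 1 := congrArg Subtype.val (mul_inv_cancel S')
    have h4 : T * S = 1 := mul_eq_one_comm.1 hST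
    calc (S'⁻¹).1 = T * S * (S'⁻¹).1 := by rw [h4, one_mul]
      _ = T * (S * (S'⁻¹).1) := mul_assoc _ _ _
      _ = T := by rw [h3, mul_one]
  refine ⟨S', ?_⟩
  have h5 : (S' * M * S'⁻¹).1 = S * M.1 * (S'⁻¹).1 := rfl
  rw [h5, h2]
  exact hB

end Cfsg.Agent.H422.TW
end

-- part: H122/SX/E127
section
/-!
# `E₈(2)` : every `g ≠ 1` is a product of two elements of ONE class of order `127` (helper122, S2452, idea of helper207)

The Levi subgroups of type `A₇` (all nodes but `2`) and `A₆ A₁` (all nodes but `3`): a conjugation in `SL_8(2)` makes the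
`A₁` part of the Gauss decomposition EXACTLY `1`; the `A₆` part is a product of two elements of order `127`.
-/

set_option autoImplicit false
set_option linter.unusedSectionVars false

namespace Cfsg.Agent.H122.SX.E127

open CoxeterSystem Cfsg.Agent.ChevalleyStructure.CoxeterGeom Cfsg.Agent.Tits.Roots Cfsg.Agent.Tits.Core
  Cfsg.Agent.Nodes.Reps Cfsg.Agent.Nodes.BNOf Cfsg.Agent.Nodes.RGDLib Cfsg.Agent.Nodes.Bruhat
  Cfsg.Agent.Nodes.OppDec Cfsg.Agent.Nodes.LeviDec Cfsg.Agent.Nodes.KindChev Cfsg.Agent.Nodes.ChevCls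
  Cfsg.Agent.OddHalf.NI.ModelChev Cfsg.Agent.Nodes.StabComb
  Cfsg.Agent.H162.GaussDec Cfsg.Agent.H162.GaussLevi Cfsg.Agent.H162.GaussSL Cfsg.Agent.H162.GaussReg
  Cfsg.Agent.H162.GaussPQ
  Cfsg.Agent.H928.Ore.Frame
open Cfsg.Lie Cfsg.Agent.ChevalleyStructure Cfsg.Agent.ChevalleyStructure.Elts
  Cfsg.Agent.ChevalleyStructure.RootVec Cfsg.Agent.ChevalleyStructure.NPerm
  Cfsg.Agent.ChevalleyStructure.CoxeterGeomTypes Cfsg.Agent.Nodes.RGDChev Cfsg.Agent.KFacts.RgdChevCoord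
open Cfsg.Agent.FixBN.FieldRGD (uu vv dd ww)
open Cfsg.Agent.TitsThree.KExcRT Cfsg.Agent.AGraded
open Cfsg.Agent.H78.Pw Cfsg.Agent.H85.Pw Cfsg.Agent.H194.Pw
open Cfsg.Agent.H150.E6T (le_of_gen)
open Cfsg.Agent.H162.GaussExc (coord)
open Cfsg.Agent.H122.Pw
open scoped MatrixGroups

universe u

/-! ### The table of type `A₆` -/

/-- nodes `2, 4, 5, 6, 7, 8` -/
def r7 : Fin 7 → Fin 7 → ℕ :=
  ![![0, 141, 142, 143, 144, 145, 146], ![98, 0, 130, 131, 132, 133, 134], ![97, 109, 0, 126, 127, 128, 129],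
    ![96, 108, 113, 0, 123, 124, 125], ![95, 107, 112, 116, 0, 121, 122], ![94, 106, 111, 115, 118, 0, 120],
    ![93, 105, 110, 114, 117, 119, 0]]

/-- signs -/
def s7 : Fin 7 → Fin 7 → ℤ :=
  ![![1, 1, -1, 1, -1, 1, -1], ![1, 1, 1, -1, 1, -1, 1], ![-1, 1, 1, 1, -1, 1, -1], ![1, -1, 1, 1, 1, -1, 1],
    ![-1, 1, -1, 1, 1, 1, -1], ![1, -1, 1, -1, 1, 1, 1], ![-1, 1, -1, 1, -1, 1, 1]]

/-- nodes -/
def j7 : Fin 6 → Fin 8 := ![1, 3, 4, 5, 6, 7]

theorem rt7 : RTa chevE8 r7 ∧ RTb chevE8 r7 s7 ∧ RTc chevE8 r7 ∧ RTd s7 ∧ (∀ i j, s7 j i = s7 i j) ∧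
    ∀ i j, i ≠ j → r7 j i = chevE8.neg (r7 i j) := by decide +kernel

theorem sim7 : (∀ a : Fin 6, r7 a.castSucc a.succ = chevE8.simple (j7 a)) ∧
    ∀ a : Fin 6, r7 a.succ a.castSucc = chevE8.neg (chevE8.simple (j7 a)) := by decide +kernel

/-- all nodes but `3` -/
def J6 : List (Fin 8) := [0, 1, 3, 4, 5, 6, 7]

theorem r7J : ∀ a b : Fin 7, a ≠ b → ∀ k : Fin 8, k ∉ J6 → vec chevE8 8 (r7 a b) k = 0 := by decide +kernel

/-- the splitting of the indices -/
def e26 : Fin 2 ⊕ Fin 6 ≃ Fin 8 := finSumFinEquiv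

/-- a root of the block -/
def R7 (q : ℕ) : Prop := ∃ a b : Fin 7, a ≠ b ∧ r7 a b = q

instance decR7 (q : ℕ) : Decidable (R7 q) := by
  unfold R7
  refine @Fintype.decidableExistsFintype _ _ (fun a => ?_) _
  refine @Fintype.decidableExistsFintype _ _ (fun b => ?_) _
  infer_instance

theorem out6n : ∀ q < chevE8.nroots, (∃ k : Fin 8, k ∉ J7 ∧ vec chevE8 8 q k < 0) →
    (∃ k : Fin 8, k ∉ J6 ∧ vec chevE8 8 q k < 0) ∨ R7 q := by
  intro q hq
  revert q
  refine @of_decide_eq_true _ ?_ ?_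
  · refine @Nat.decidableBallLT _ _ fun q _ => ?_
    infer_instance
  · decide +kernel

theorem out6p : ∀ q < chevE8.nroots, (∃ k : Fin 8, k ∉ J7 ∧ 0 < vec chevE8 8 q k) →
    (∃ k : Fin 8, k ∉ J6 ∧ 0 < vec chevE8 8 q k) ∨ R7 q := by
  intro q hq
  revert q
  refine @of_decide_eq_true _ ?_ ?_
  · refine @Nat.decidableBallLT _ _ fun q _ => ?_
    infer_instance
  · decide +kernel

theorem r8_R7 : ∀ a b : Fin 6, a ≠ b → R7 (r8 (e26 (Sum.inr a)) (e26 (Sum.inr b))) := by decide +kernel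

theorem r8_low6 : ∀ (a : Fin 6) (b : Fin 2), vec chevE8 8 (r8 (e26 (Sum.inr a)) (e26 (Sum.inl b))) 2 < 0 := by
  decide +kernel

theorem r8_up6 : ∀ (a : Fin 2) (b : Fin 6), 0 < vec chevE8 8 (r8 (e26 (Sum.inl a)) (e26 (Sum.inr b))) 2 := by
  decide +kernel

theorem not2 : (2 : Fin 8) ∉ J6 := by decide

/-- the exponent of a root -/
def ex127 (q : ℕ) : ℤ := ∑ b : Fin 7, (2 : ℤ) ^ (b : ℕ) * H482.Ore.Fix.wt chevE8 j7 q b

theorem ex127_ne : ∀ q < chevE8.nroots, (∃ k : Fin 8, k ∉ J6 ∧ vec chevE8 8 q k ≠ 0) → ex127 q % 127 ≠ 0 := by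
  intro q hq
  revert q
  refine @of_decide_eq_true _ ?_ ?_
  · refine @Nat.decidableBallLT _ _ fun q _ => ?_
    infer_instance
  · (delta Cfsg.Agent.H122.SX.E127.ex127 Cfsg.Agent.H482.Ore.Fix.wt; rewrite [H90F.ca_fun]; decide +kernel)

theorem ne_one_127 {K' : Type*} [Field K'] {z : K'} (hz : orderOf z = 127) (hz0 : z ≠ 0) {q : ℕ} (hq : q < chevE8.nroots)
    (hk : ∃ k : Fin 8, k ∉ J6 ∧ vec chevE8 8 q k ≠ 0) :
    ∏ b : Fin 7, (z ^ (2 ^ (b : ℕ))) ^ H482.Ore.Fix.wt chevE8 j7 q b ≠ 1 := by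
  have h1 : ∀ b : Fin 7, (z ^ (2 ^ (b : ℕ))) ^ H482.Ore.Fix.wt chevE8 j7 q b =
      z ^ ((2 : ℤ) ^ (b : ℕ) * H482.Ore.Fix.wt chevE8 j7 q b) := by
    intro b
    rw [← zpow_natCast, ← zpow_mul]
    push_cast
    rfl
  rw [Finset.prod_congr rfl fun b _ => h1 b, Cfsg.Agent.H85.Ore.prod_zpow' hz0]
  intro h2
  refine ex127_ne q hq hk (Int.emod_eq_zero_of_dvd ?_)
  obtain ⟨u, rfl⟩ : ∃ u : K'ˣ, (u : K') = z := ⟨Units.mk0 z hz0, rfl⟩
  have h3 : u ^ (ex127 q) = 1 := by
    apply Units.ext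
    rw [Units.val_zpow_eq_zpow_val, Units.val_one]
    exact h2
  have h4 := orderOf_dvd_iff_zpow_eq_one.2 h3
  rw [← orderOf_units, hz] at h4
  exact_mod_cast h4

/-! ### Block matrices -/

section blocks

open Matrix

variable {K : Type*} [Field K]

/-- lower block unipotent -/
def low (Z : Matrix (Fin 6) (Fin 2) K) : SpecialLinearGroup (Fin 2 ⊕ Fin 6) K :=
  ⟨fromBlocks 1 0 Z 1, by rw [Matrix.det_fromBlocks_zero₁₂, Matrix.det_one, Matrix.det_one, mul_one]⟩

/-- upper block unipotent -/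
def up (Y : Matrix (Fin 2) (Fin 6) K) : SpecialLinearGroup (Fin 2 ⊕ Fin 6) K :=
  ⟨fromBlocks 1 Y 0 1, by rw [Matrix.det_fromBlocks_zero₂₁, Matrix.det_one, Matrix.det_one, mul_one]⟩

/-- second block -/
def dR : SpecialLinearGroup (Fin 6) K →* SpecialLinearGroup (Fin 2 ⊕ Fin 6) K where
  toFun A := ⟨fromBlocks 1 0 0 A.1, by rw [Matrix.det_fromBlocks_zero₂₁, Matrix.det_one, one_mul]; exact A.2⟩
  map_one' := by
    apply Subtype.ext
    change fromBlocks 1 0 0 (1 : Matrix (Fin 6) (Fin 6) K) = 1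
    exact Matrix.fromBlocks_one
  map_mul' A B := by
    apply Subtype.ext
    change fromBlocks 1 0 0 (A.1 * B.1) = fromBlocks 1 0 0 A.1 * fromBlocks 1 0 0 B.1
    rw [Matrix.fromBlocks_multiply]
    simp

theorem coe_low (Z : Matrix (Fin 6) (Fin 2) K) : (low Z).1 = fromBlocks 1 0 Z 1 := rfl
theorem coe_up (Y : Matrix (Fin 2) (Fin 6) K) : (up Y).1 = fromBlocks 1 Y 0 1 := rfl
theorem low_add (Z Z' : Matrix (Fin 6) (Fin 2) K) : low Z * low Z' = low (Z + Z') := by
  apply Subtype.ext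
  change (low Z).1 * (low Z').1 = (low (Z + Z')).1
  rw [coe_low, coe_low, coe_low, Matrix.fromBlocks_multiply]
  simp

theorem up_add (Z Z' : Matrix (Fin 2) (Fin 6) K) : up Z * up Z' = up (Z + Z') := by
  apply Subtype.ext
  change (up Z).1 * (up Z').1 = (up (Z + Z')).1
  rw [coe_up, coe_up, coe_up, Matrix.fromBlocks_multiply]
  simp [add_comm]

theorem low_zero : low (0 : Matrix (Fin 6) (Fin 2) K) = 1 := by
  apply Subtype.ext
  change (low 0).1 = 1
  rw [coe_low, Matrix.fromBlocks_one]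

theorem up_zero : up (0 : Matrix (Fin 2) (Fin 6) K) = 1 := by
  apply Subtype.ext
  change (up 0).1 = 1
  rw [coe_up, Matrix.fromBlocks_one]

/-- the decomposition -/
theorem dec {N : SpecialLinearGroup (Fin 2 ⊕ Fin 6) K} (hN : N.1.toBlocks₁₁ = 1) :
    ∃ Z Y c, N = low Z * dR c * up Y := by
  obtain ⟨B, hB⟩ : ∃ B, B = N.1.toBlocks₁₂ := ⟨_, rfl⟩
  obtain ⟨G, hG⟩ : ∃ G, G = N.1.toBlocks₂₁ := ⟨_, rfl⟩
  obtain ⟨E, hE⟩ : ∃ E, E = N.1.toBlocks₂₂ := ⟨_, rfl⟩
  have h1 : N.1 = fromBlocks 1 B G E := by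
    rw [hB, hG, hE, ← hN, Matrix.fromBlocks_toBlocks]
  have hmat : N.1 = fromBlocks 1 0 G 1 * fromBlocks 1 0 0 (E - G * B) * fromBlocks 1 B 0 1 := by
    rw [h1, Matrix.fromBlocks_multiply, Matrix.fromBlocks_multiply]
    simp
  have hdet : (E - G * B).det = 1 := by
    have h2 := congrArg Matrix.det hmat
    rw [Matrix.det_mul, Matrix.det_mul, Matrix.det_fromBlocks_zero₂₁, Matrix.det_fromBlocks_zero₂₁,
      Matrix.det_fromBlocks_zero₁₂, Matrix.det_one, Matrix.det_one, N.2] at h2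
    simp only [mul_one, one_mul] at h2
    exact h2.symm
  exact ⟨G, B, ⟨_, hdet⟩, Subtype.ext hmat⟩

theorem dR_tv {a b : Fin 6} (hab : a ≠ b) (c : K) : dR (Matrix.SpecialLinearGroup.transvection hab c) =
    Matrix.SpecialLinearGroup.transvection (Sum.inr_injective.ne hab : (Sum.inr a : Fin 2 ⊕ Fin 6) ≠ Sum.inr b) c := by
  apply Subtype.ext
  change Matrix.fromBlocks 1 0 0 (Matrix.transvection a b c) = Matrix.transvection (Sum.inr a) (Sum.inr b) c
  ext i j
  rcases i with i | i <;> rcases j with j | j <;>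
    simp [Matrix.transvection, Matrix.one_apply, Matrix.single_apply]

theorem low_single (a : Fin 6) (b : Fin 2) (c : K) : low (Matrix.single a b c) =
    Matrix.SpecialLinearGroup.transvection (Sum.inr_ne_inl : (Sum.inr a : Fin 2 ⊕ Fin 6) ≠ Sum.inl b) c := by
  apply Subtype.ext
  change Matrix.fromBlocks 1 0 (Matrix.single a b c) 1 = Matrix.transvection (Sum.inr a) (Sum.inl b) c
  ext i j
  rcases i with i | i <;> rcases j with j | j <;>
    simp [Matrix.transvection, Matrix.one_apply, Matrix.single_apply]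

theorem up_single (a : Fin 2) (b : Fin 6) (c : K) : up (Matrix.single a b c) =
    Matrix.SpecialLinearGroup.transvection (Sum.inl_ne_inr : (Sum.inl a : Fin 2 ⊕ Fin 6) ≠ Sum.inr b) c := by
  apply Subtype.ext
  change Matrix.fromBlocks 1 (Matrix.single a b c) 0 1 = Matrix.transvection (Sum.inl a) (Sum.inr b) c
  ext i j
  rcases i with i | i <;> rcases j with j | j <;>
    simp [Matrix.transvection, Matrix.one_apply, Matrix.single_apply]

end blocks

/-! ### Homomorphisms -/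

section Hom

theorem exists_p7 (K : Type u) [Field K] : ∃ φ : Matrix.SpecialLinearGroup (Fin 7) K →* ↥(chevE8.group K),
    ∀ a b (hab : a ≠ b) c, φ (Matrix.SpecialLinearGroup.transvection hab c) =
      xc hp8 (vec chevE8 8 (r7 a b)) ((s7 a b : K) * c) :=
  exists_hom_S hp8 rt7.1 rt7.2.1 rt7.2.2.1 rt7.2.2.2.1 rt7.2.2.2.2.1 rt7.2.2.2.2.2

variable (K : Type u) [Field K]

noncomputable def p7 : Matrix.SpecialLinearGroup (Fin 7) K →* ↥(chevE8.group K) := (exists_p7 K).choose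

theorem p7_tv (a b : Fin 7) (hab : a ≠ b) (c : K) : p7 K (Matrix.SpecialLinearGroup.transvection hab c) =
    xc hp8 (vec chevE8 8 (r7 a b)) ((s7 a b : K) * c) := (exists_p7 K).choose_spec a b hab c

/-- reindexing -/
def Re : Matrix.SpecialLinearGroup (Fin 2 ⊕ Fin 6) K →* Matrix.SpecialLinearGroup (Fin 8) K where
  toFun A := ⟨Matrix.reindex e26 e26 A.1, by rw [Matrix.det_reindex_self]; exact A.2⟩
  map_one' := by
    apply Subtype.ext
    change Matrix.reindex e26 e26 1 = 1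
    rw [Matrix.reindex_apply, Matrix.submatrix_one_equiv]
  map_mul' A B := by
    apply Subtype.ext
    change Matrix.reindex e26 e26 (A.1 * B.1) = Matrix.reindex e26 e26 A.1 * Matrix.reindex e26 e26 B.1
    rw [Matrix.reindex_apply, Matrix.reindex_apply, Matrix.reindex_apply, Matrix.submatrix_mul_equiv]

/-- back -/
def Ri (A : Matrix.SpecialLinearGroup (Fin 8) K) : Matrix.SpecialLinearGroup (Fin 2 ⊕ Fin 6) K :=
  ⟨A.1.submatrix e26 e26, by rw [Matrix.det_submatrix_equiv_self]; exact A.2⟩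

variable {K}

theorem Re_Ri (A : Matrix.SpecialLinearGroup (Fin 8) K) : Re K (Ri K A) = A := by
  apply Subtype.ext
  change Matrix.reindex e26 e26 (A.1.submatrix e26 e26) = A.1
  rw [Matrix.reindex_apply, Matrix.submatrix_submatrix]
  simp

theorem Re_tv {a b : Fin 2 ⊕ Fin 6} (hab : a ≠ b) (c : K) : Re K (Matrix.SpecialLinearGroup.transvection hab c) =
    Matrix.SpecialLinearGroup.transvection (e26.injective.ne hab) c := by
  apply Subtype.ext
  change Matrix.reindex e26 e26 (Matrix.transvection a b c) = Matrix.transvection (e26 a) (e26 b) c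
  ext i j
  rw [Matrix.reindex_apply, Matrix.submatrix_apply, Matrix.transvection, Matrix.transvection, Matrix.add_apply,
    Matrix.add_apply, Matrix.one_apply, Matrix.one_apply, Matrix.single_apply, Matrix.single_apply]
  simp only [Equiv.eq_symm_apply, Equiv.apply_symm_apply]

variable (K)

/-- the block matrices in the group -/
noncomputable def Ps : Matrix.SpecialLinearGroup (Fin 2 ⊕ Fin 6) K →* ↥(chevE8.group K) := (p8 K).comp (Re K)

theorem Ps_tv {a b : Fin 2 ⊕ Fin 6} (hab : a ≠ b) (c : K) : Ps K (Matrix.SpecialLinearGroup.transvection hab c) =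
    xc hp8 (vec chevE8 8 (r8 (e26 a) (e26 b))) ((s8 (e26 a) (e26 b) : K) * c) := by
  rw [Ps, MonoidHom.comp_apply, Re_tv, p8_tv]

theorem mem_p7 {q : ℕ} (hq : R7 q) (c : K) : xc hp8 (vec chevE8 8 q) c ∈ (p7 K).range := by
  obtain ⟨a, b, hab, rfl⟩ := hq
  refine ⟨Matrix.SpecialLinearGroup.transvection hab ((s7 a b : K) * c), ?_⟩
  rw [p7_tv, ← mul_assoc, ← Int.cast_mul, rt7.2.2.2.1, Int.cast_one, one_mul]

theorem Ps_dR (A : Matrix.SpecialLinearGroup (Fin 6) K) : Ps K (dR A) ∈ (p7 K).range :=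
  le_of_gen ((Ps K).comp dR) _ (fun a b hab c => by
    change Ps K (dR (Matrix.SpecialLinearGroup.transvection hab c)) ∈ _
    rw [dR_tv, Ps_tv]
    exact mem_p7 K (r8_R7 a b hab) _) A

theorem xc_VJ {q : ℕ} (hq : q < chevE8.nroots) (h : ∃ k : Fin 8, k ∉ J6 ∧ 0 < vec chevE8 8 q k) (c : K) :
    xc hp8 (vec chevE8 8 q) c ∈ VJ cs8 hp8.isCartan (XX chevE8 8 K) {k | k ∈ J6} := by
  obtain ⟨k, hk, h0⟩ := h
  have hr := isRoot_vec hp8 cs8 hq
  have hx : vec chevE8 8 q ∈ NotJ cs8 hp8.isCartan {k | k ∈ J6} :=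
    ⟨hr, nonneg_of_pos_apply hr h0, k, hk, h0⟩
  exact RGD.le_Sup (X := XX chevE8 8 K) hx ((mem_XX hp8 hq _).2 ⟨c, rfl⟩)

theorem xc_VNJ {q : ℕ} (hq : q < chevE8.nroots) (h : ∃ k : Fin 8, k ∉ J6 ∧ vec chevE8 8 q k < 0) (c : K) :
    xc hp8 (vec chevE8 8 q) c ∈ VNJ cs8 hp8.isCartan (XX chevE8 8 K) {k | k ∈ J6} := by
  obtain ⟨k, hk, h0⟩ := h
  have hr := (isRoot_vec hp8 cs8 hq).neg
  have h1 : 0 < (-vec chevE8 8 q) k := by
    rw [Pi.neg_apply]
    omega
  have hx : vec chevE8 8 q ∈ NotNJ cs8 hp8.isCartan {k | k ∈ J6} :=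
    ⟨hr, nonneg_of_pos_apply hr h1, k, hk, h1⟩
  exact RGD.le_Sup (X := XX chevE8 8 K) hx ((mem_XX hp8 hq _).2 ⟨c, rfl⟩)

theorem Ps_low (Z : Matrix (Fin 6) (Fin 2) K) :
    Ps K (low Z) ∈ VNJ cs8 hp8.isCartan (XX chevE8 8 K) {k | k ∈ J6} := by
  induction Z using Matrix.induction_on' with
  | h_zero => rw [low_zero, map_one]; exact one_mem _
  | h_add p q hp hq => rw [← low_add, map_mul]; exact mul_mem hp hq
  | h_std_basis i j x =>
    rw [low_single, Ps_tv]
    exact xc_VNJ K (rt8.1 _ _ (e26.injective.ne Sum.inr_ne_inl)) ⟨2, not2, r8_low6 i j⟩ _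

theorem Ps_up (Z : Matrix (Fin 2) (Fin 6) K) :
    Ps K (up Z) ∈ VJ cs8 hp8.isCartan (XX chevE8 8 K) {k | k ∈ J6} := by
  induction Z using Matrix.induction_on' with
  | h_zero => rw [up_zero, map_one]; exact one_mem _
  | h_add p q hp hq => rw [← up_add, map_mul]; exact mul_mem hp hq
  | h_std_basis i j x =>
    rw [up_single, Ps_tv]
    exact xc_VJ K (rt8.1 _ _ (e26.injective.ne Sum.inl_ne_inr)) ⟨2, not2, r8_up6 i j⟩ _

theorem V6_le : VJ cs8 hp8.isCartan (XX chevE8 8 K) {k | k ∈ J7} ≤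
    (p7 K).range ⊔ VJ cs8 hp8.isCartan (XX chevE8 8 K) {k | k ∈ J6} := by
  refine RGD.Sup_le fun x hx => ?_
  obtain ⟨q, hq, rfl⟩ := (isRoot_iff hp8 _ x).1 hx.1
  obtain ⟨-, -, k, hk, h0⟩ := hx
  intro y hy
  obtain ⟨c, rfl⟩ := (mem_XX hp8 hq y).1 hy
  rcases out6p q hq ⟨k, hk, h0⟩ with h | h
  · exact (le_sup_right : _ ≤ (p7 K).range ⊔ VJ cs8 hp8.isCartan (XX chevE8 8 K) {k | k ∈ J6}) (xc_VJ K hq h c)
  · exact (le_sup_left : _ ≤ (p7 K).range ⊔ VJ cs8 hp8.isCartan (XX chevE8 8 K) {k | k ∈ J6}) (mem_p7 K h c)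

theorem VN6_le : VNJ cs8 hp8.isCartan (XX chevE8 8 K) {k | k ∈ J7} ≤
    VNJ cs8 hp8.isCartan (XX chevE8 8 K) {k | k ∈ J6} ⊔ (p7 K).range := by
  refine RGD.Sup_le fun x hx => ?_
  obtain ⟨-, -, k, hk, h0⟩ := id hx
  have hx1 : IsRoot cs8 hp8.isCartan x := NotNJ.isRoot hx
  obtain ⟨q, hq, rfl⟩ := (isRoot_iff hp8 _ x).1 hx1
  rw [Pi.neg_apply] at h0
  intro y hy
  obtain ⟨c, rfl⟩ := (mem_XX hp8 hq y).1 hy
  rcases out6n q hq ⟨k, hk, by omega⟩ with h | h
  · exact (le_sup_left : _ ≤ VNJ cs8 hp8.isCartan (XX chevE8 8 K) {k | k ∈ J6} ⊔ (p7 K).range) (xc_VNJ K hq h c)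
  · exact (le_sup_right : _ ≤ VNJ cs8 hp8.isCartan (XX chevE8 8 K) {k | k ∈ J6} ⊔ (p7 K).range) (mem_p7 K h c)

theorem p7_mem (A : Matrix.SpecialLinearGroup (Fin 7) K) :
    p7 K A ∈ LJ cs8 hp8.isCartan (TT chevE8 K) (XX chevE8 8 K) {k | k ∈ J6} :=
  (Pc.block (J := {k | k ∈ J6}) (p7_tv K) rt7.1 r7J rt7.2.2.2.1).mem A

end Hom

/-! ### The group -/

/-- **`E₈(2)`.** -/
theorem fixed127 {K : Type u} [Field K] (hK : Nat.card K = 2) : ∃ x : ↥(chevE8.group K), x ^ 127 = 1 ∧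
    ∀ g : ↥(chevE8.group K), g ≠ 1 → ∃ u v : ↥(chevE8.group K), g = (u * x * u⁻¹) * (v * x * v⁻¹) := by
  have hfin : Finite K := Nat.finite_of_card_ne_zero (by rw [hK]; norm_num)
  have hc2 : CharP K 2 := by
    have : Fintype K := Fintype.ofFinite K
    exact charP_of_card_eq_prime (by rw [Fintype.card_eq_nat_card, hK])
  have hneg : ((-1 : ℤ) : K) = 1 := by
    rw [Int.cast_neg, Int.cast_one]
    exact CharTwo.neg_eq 1
  have hS := Cfsg.Agent.S1054.result (F := K) chevE8 (by simp)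
  have hs1 : ∀ a b : Fin 7, ((s7 a b : ℤ) : K) = ((1 : ℤ) : K) := by
    intro a b
    have h1 := rt7.2.2.2.1 a b
    rcases mul_self_eq_one_iff.1 h1 with h | h
    · rw [h]
    · rw [h, hneg, Int.cast_one]
  have hφ : ∀ a b (hab : a ≠ b) c, p7 K (Matrix.SpecialLinearGroup.transvection hab c) =
      xc hp8 (vec chevE8 8 (r7 a b)) (((1 : ℤ) : K) * c) := fun a b hab c => by rw [p7_tv, hs1]
  obtain ⟨c, hc, -, hA⟩ := H934.MF.cert7 hK
  obtain ⟨L', _, _, i, z, hz, -, hd⟩ := H934.MF.eig7 hK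
  obtain ⟨g, hg⟩ := hd _ hc
  have hc2' : CharP L' 2 := charP_of_injective_ringHom i.injective 2
  have : Fact (Nat.Prime 2) := ⟨Nat.prime_two⟩
  have hneg' : ((-1 : ℤ) : L') = 1 := by
    rw [Int.cast_neg, Int.cast_one]
    exact CharTwo.neg_eq 1
  have hs1' : ∀ a b : Fin 7, ((s7 a b : ℤ) : L') = ((1 : ℤ) : L') := by
    intro a b
    have h1 := rt7.2.2.2.1 a b
    rcases mul_self_eq_one_iff.1 h1 with h | h
    · rw [h]
    · rw [h, hneg', Int.cast_one]
  have B : H482.Ore.Fix.Bk hp8 i {k | k ∈ J6} 5 r7 j7 (p7 K) (p7 L') (fun _ _ => ((1 : ℤ) : K)) :=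
    { simp := ⟨sim7.1, sim7.2⟩
      rlt := rt7.1
      rJ := r7J
      hφ := hφ
      hφ' := fun a b hab c => by rw [p7_tv, hs1', map_intCast]
      ss := fun a => by norm_num }
  have hz0 : z ≠ 0 := by
    rintro rfl
    have h1 : orderOf (0 : L') = 0 := by
      rw [orderOf_eq_zero_iff']
      intro m hm
      rw [zero_pow hm.ne']
      exact zero_ne_one
    rw [h1] at hz
    norm_num at hz
  obtain ⟨n1, n2⟩ := H482.Ore.Fix.nf_block' hp8 2 B hg (fun q hq hk => ne_one_127 hz hz0 hq hk)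
  have hc127 : c ^ 127 = 1 := by
    apply Subtype.ext
    change c.1 ^ 127 = 1
    have h1 : (c.1 ^ 127).map i = (1 : Matrix (Fin 7) (Fin 7) K).map i := by
      rw [Matrix.map_pow, hg, Matrix.map_one _ (map_zero _) (map_one _)]
      have h2 : ∀ m : ℕ, ((g : Matrix (Fin 7) (Fin 7) L') * Matrix.diagonal (fun a : Fin 7 => z ^ (2 ^ (a : ℕ))) *
          ((g⁻¹ : GL (Fin 7) L') : Matrix (Fin 7) (Fin 7) L')) ^ m = (g : Matrix (Fin 7) (Fin 7) L') *
          Matrix.diagonal (fun a : Fin 7 => z ^ (2 ^ (a : ℕ))) ^ m * ((g⁻¹ : GL (Fin 7) L') : Matrix (Fin 7) (Fin 7) L') :=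
        fun m => Units.conj_pow g _ m
      rw [h2, Matrix.diagonal_pow]
      have h3 : (fun a : Fin 7 => z ^ (2 ^ (a : ℕ))) ^ 127 = 1 := by
        funext a
        rw [Pi.pow_apply, Pi.one_apply, ← pow_mul, mul_comm, pow_mul, ← hz, pow_orderOf_eq_one, one_pow]
      rw [h3]
      have h4 : Matrix.diagonal (1 : Fin 7 → L') = 1 := Matrix.diagonal_one
      rw [h4, Matrix.mul_one, ← Units.val_mul, mul_inv_cancel, Units.val_one]
    ext a b
    have h5 := congrFun (congrFun h1 a) b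
    rw [Matrix.map_apply, Matrix.map_apply] at h5
    exact i.injective h5
  obtain ⟨t, ht, hti⟩ := Cfsg.Agent.H122.Ore.Blk.inv_of_irr hp8
    (Cfsg.Agent.H122.Ore.Blk.rep_neg_of hp8 Cfsg.Agent.H122.Ore.Blk.frE8) (ε := 1) (by norm_num)
    (fun a b hab => rt7.1 a b hab) (fun a b hab => rt7.2.2.2.2.2 a b hab) hφ (by rw [hc]; exact H934.MF.irr7 hK)
  refine ⟨p7 K c, by rw [← map_pow, hc127, map_one], fun g₀ hg₀ => ?_⟩
  have hW := finite_W hp8 cs8
  have : Nonempty (Fin 8) := ⟨0⟩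
  have R := rgd (K := K) hp8 cs8 2
  have hnf : ∀ g, NF (VJ cs8 hp8.isCartan (XX chevE8 8 K) {k | k ∈ J6}) (p7 K (g * c * g⁻¹)) ∧
      NF (VNJ cs8 hp8.isCartan (XX chevE8 8 K) {k | k ∈ J6}) (p7 K (g * c * g⁻¹)) := by
    intro g
    rw [map_mul, map_mul, map_inv]
    exact ⟨Cfsg.Agent.H928.Ore.Fix.NF.conj (LJ_le_normalizer_VJ R _ (p7_mem K g)) n1, Cfsg.Agent.H928.Ore.Fix.NF.conj (LJ_le_normalizer_VNJ R _ (p7_mem K g)) n2⟩
  obtain ⟨x, v, hv, u, hu, e⟩ := gauss R (G1_eq_top hp8 _) (coord hp8)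
    (Cfsg.Agent.Nodes.ChevChart.irr_of Cfsg.Agent.Nodes.ChevChart.irr8)
    (Cfsg.Agent.H224.Ore.Row.not_mem_core (by norm_num) hS.1 2 hp8 hg₀)
  obtain ⟨vP, hvP, vL, hvL, rfl⟩ := exists_UNJ R (J := {k | k ∈ J7}) hv
  obtain ⟨uL, huL, uP, huP, rfl⟩ := (mem_U_iff R (J := {k | k ∈ J7})).1 hu
  obtain ⟨L, hL, rfl⟩ := (pc7 K).exists_lo sub7 hvL
  obtain ⟨U, hU, rfl⟩ := (pc7 K).exists_up sub7 huL
  obtain ⟨S, hS1⟩ := Cfsg.Agent.H422.TW.lemB hK (Ri K (L * U))
  obtain ⟨Z, Y, d, hdec⟩ := dec hS1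
  obtain ⟨s, hs⟩ : ∃ s, s = Ps K S := ⟨_, rfl⟩
  have hsL : s ∈ LJ cs8 hp8.isCartan (TT chevE8 K) (XX chevE8 8 K) {k | k ∈ J7} := by
    rw [hs]; exact (pc7 K).mem _
  have hM : s * (p8 K L * p8 K U) * s⁻¹ = Ps K (low Z) * Ps K (dR d) * Ps K (up Y) := by
    have h1 : p8 K L * p8 K U = Ps K (Ri K (L * U)) := by
      rw [Ps, MonoidHom.comp_apply, Re_Ri, map_mul]
    rw [h1, hs, ← map_inv, ← map_mul, ← map_mul, hdec, map_mul, map_mul]
  have hv1 : s * vP * s⁻¹ ∈ VNJ cs8 hp8.isCartan (XX chevE8 8 K) {k | k ∈ J7} :=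
    (Subgroup.mem_normalizer_iff.1 (LJ_le_normalizer_VNJ R _ hsL) vP).1 hvP
  have hu1 : s * uP * s⁻¹ ∈ VJ cs8 hp8.isCartan (XX chevE8 8 K) {k | k ∈ J7} :=
    (Subgroup.mem_normalizer_iff.1 (LJ_le_normalizer_VJ R _ hsL) uP).1 huP
  have hpL : (p7 K).range ≤ LJ cs8 hp8.isCartan (TT chevE8 K) (XX chevE8 8 K) {k | k ∈ J6} := by
    rintro _ ⟨A, rfl⟩
    exact p7_mem K A
  obtain ⟨w, hw, _, ⟨A1, rfl⟩, ew⟩ : ∃ w ∈ VNJ cs8 hp8.isCartan (XX chevE8 8 K) {k | k ∈ J6}, ∃ l ∈ (p7 K).range,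
      s * vP * s⁻¹ = w * l := by
    have h1 : s * vP * s⁻¹ ∈ ((VNJ cs8 hp8.isCartan (XX chevE8 8 K) {k | k ∈ J6} ⊔ (p7 K).range : Subgroup _) : Set _) :=
      VN6_le K hv1
    rw [Subgroup.coe_mul_of_right_le_normalizer_left _ _ (le_trans hpL (LJ_le_normalizer_VNJ R _)), Set.mem_mul] at h1
    obtain ⟨w, hw, l, hl, e⟩ := h1
    exact ⟨w, hw, l, hl, e.symm⟩
  obtain ⟨_, ⟨A3, rfl⟩, w', hw', ew'⟩ : ∃ l ∈ (p7 K).range, ∃ w ∈ VJ cs8 hp8.isCartan (XX chevE8 8 K) {k | k ∈ J6},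
      s * uP * s⁻¹ = l * w := by
    have h1 : s * uP * s⁻¹ ∈ (((p7 K).range ⊔ VJ cs8 hp8.isCartan (XX chevE8 8 K) {k | k ∈ J6} : Subgroup _) : Set _) :=
      V6_le K hu1
    rw [Subgroup.coe_mul_of_left_le_normalizer_right _ _ (le_trans hpL (LJ_le_normalizer_VJ R _)), Set.mem_mul] at h1
    obtain ⟨l, hl, w, hw, e⟩ := h1
    exact ⟨l, hl, w, hw, e.symm⟩
  obtain ⟨A2, hA2⟩ := Ps_dR K d
  obtain ⟨z', hz'⟩ : ∃ z', z' = Ps K (low Z) := ⟨_, rfl⟩
  obtain ⟨y', hy'⟩ : ∃ y', y' = Ps K (up Y) := ⟨_, rfl⟩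
  have hzm : z' ∈ VNJ cs8 hp8.isCartan (XX chevE8 8 K) {k | k ∈ J6} := by rw [hz']; exact Ps_low K Z
  have hym : y' ∈ VJ cs8 hp8.isCartan (XX chevE8 8 K) {k | k ∈ J6} := by rw [hy']; exact Ps_up K Y
  rw [← hz', ← hy', ← hA2] at hM
  have hvv : w * (p7 K A1 * z' * (p7 K A1)⁻¹) ∈ VNJ cs8 hp8.isCartan (XX chevE8 8 K) {k | k ∈ J6} :=
    mul_mem hw ((Subgroup.mem_normalizer_iff.1 (LJ_le_normalizer_VNJ R _ (hpL ⟨A1, rfl⟩)) z').1 hzm)
  have huu : (p7 K A3)⁻¹ * y' * p7 K A3 * w' ∈ VJ cs8 hp8.isCartan (XX chevE8 8 K) {k | k ∈ J6} := by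
    refine mul_mem ?_ hw'
    have h1 := (Subgroup.mem_normalizer_iff.1 (LJ_le_normalizer_VJ R _ (inv_mem (hpL ⟨A3, rfl⟩))) y').1 hym
    rwa [inv_inv] at h1
  have etot : (s * x) * g₀ * (s * x)⁻¹ = w * (p7 K A1 * z' * (p7 K A1)⁻¹) * p7 K (A1 * A2 * A3) *
      ((p7 K A3)⁻¹ * y' * p7 K A3 * w') := by
    rw [map_mul, map_mul]
    calc (s * x) * g₀ * (s * x)⁻¹ = s * (x * g₀ * x⁻¹) * s⁻¹ := by group
      _ = (s * vP * s⁻¹) * (s * (p8 K L * p8 K U) * s⁻¹) * (s * uP * s⁻¹) := by rw [e]; group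
      _ = w * p7 K A1 * (z' * p7 K A2 * y') * (p7 K A3 * w') := by rw [ew, ew', hM]
      _ = _ := by group
  obtain ⟨c₁, c₂, hcc, hm1, hm2, hn1, hn2, ⟨x₁, hx1⟩, x₂, hx2⟩ : ∃ c₁ c₂ : ↥(chevE8.group K),
      p7 K (A1 * A2 * A3) = c₁ * c₂ ∧
      c₁ ∈ LJ cs8 hp8.isCartan (TT chevE8 K) (XX chevE8 8 K) {k | k ∈ J6} ∧
      c₂ ∈ LJ cs8 hp8.isCartan (TT chevE8 K) (XX chevE8 8 K) {k | k ∈ J6} ∧
      NF (VNJ cs8 hp8.isCartan (XX chevE8 8 K) {k | k ∈ J6}) c₁ ∧
      NF (VJ cs8 hp8.isCartan (XX chevE8 8 K) {k | k ∈ J6}) c₂ ∧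
      (∃ x₁, c₁ = x₁ * p7 K c * x₁⁻¹) ∧ ∃ x₂, c₂ = x₂ * p7 K c * x₂⁻¹ := by
    by_cases h1 : A1 * A2 * A3 = 1
    · exact ⟨p7 K c, (p7 K c)⁻¹, by rw [h1, map_one, mul_inv_cancel], p7_mem K c, inv_mem (p7_mem K c), n2, Cfsg.Agent.H928.Ore.Fix.NF.inv n1,
        ⟨1, by group⟩, t, hti.symm⟩
    · obtain ⟨g, h, e⟩ := hA _ h1
      exact ⟨p7 K (g * c * g⁻¹), p7 K (h * c * h⁻¹), by rw [e, map_mul], p7_mem K _, p7_mem K _, (hnf g).2, (hnf h).1,
        ⟨p7 K g, by rw [map_mul, map_mul, map_inv]⟩, p7 K h, by rw [map_mul, map_mul, map_inv]⟩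
  rw [hcc] at etot
  obtain ⟨a, ha, e1⟩ := exists_conj_of_fix R (LJ_le_normalizer_VNJ R _ hm1) hn1 hvv
  have huP' : c₂ * ((p7 K A3)⁻¹ * y' * p7 K A3 * w') * c₂⁻¹ ∈ VJ cs8 hp8.isCartan (XX chevE8 8 K) {k | k ∈ J6} :=
    (Subgroup.mem_normalizer_iff.1 (LJ_le_normalizer_VJ R _ hm2) _).1 huu
  obtain ⟨b, hb, e2⟩ := exists_conj_of_fix R (LJ_le_normalizer_VJ R _ hm2) hn2 huP'
  have e3 : (s * x) * g₀ * (s * x)⁻¹ = (a * c₁ * a⁻¹) * (b * c₂ * b⁻¹) := by
    rw [etot, ← e1, ← e2]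
    group
  refine ⟨(s * x)⁻¹ * a * x₁, (s * x)⁻¹ * b * x₂, ?_⟩
  calc g₀ = (s * x)⁻¹ * ((s * x) * g₀ * (s * x)⁻¹) * (s * x) := by group
    _ = _ := by rw [e3, hx1, hx2]; group

/-- **`E₈(2)`.** -/
theorem pp_E8_two {K : Type u} [Field K] (hK : Nat.card K = 2) : Cfsg.Agent.H494.TC.PP ↥(chevE8.group K) := by
  have hfin : Finite K := Nat.finite_of_card_ne_zero (by rw [hK]; norm_num)
  obtain ⟨x, hx, h⟩ := fixed127 hK
  have hS := Cfsg.Agent.S1054.result (F := K) chevE8 (by simp)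
  have hx1 : x ≠ 1 := by
    rintro rfl
    have := hS.1.toNontrivial
    obtain ⟨g, hg⟩ := exists_ne (1 : ↥(chevE8.group K))
    obtain ⟨u, v, e⟩ := h g hg
    exact hg (by rw [e]; group)
  have h1 : orderOf x = 127 := (haveI : Fact (Nat.Prime 127) := ⟨by norm_num⟩; orderOf_eq_prime hx hx1)
  refine ⟨x, by rw [h1]; norm_num, by rw [h1]; norm_num, h⟩

end Cfsg.Agent.H122.SX.E127
end

-- part: H122/SX/EFrame
section
/-!
# The Levi subgroups `A₇` and `A₆ A₁` of `E₈(q)`, all `q`: the frame (helper122, S2452)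

* `V6_le'`, `VN6_le'` : the unipotent radical of `A₇` in that of `A₆ A₁` times the first row (column) of `SL_7`;
* `Ps_dR'` : the `6 × 6` block;
* `hz`, `hz_mem`, `hz_p8`, `p7_Hz` : the torus element `h_{α₂}(z)`.
-/

set_option autoImplicit false
set_option linter.unusedSectionVars false

namespace Cfsg.Agent.H122.SX.E127

open CoxeterSystem Cfsg.Agent.ChevalleyStructure.CoxeterGeom Cfsg.Agent.Tits.Roots Cfsg.Agent.Tits.Core
  Cfsg.Agent.Nodes.Reps Cfsg.Agent.Nodes.BNOf Cfsg.Agent.Nodes.RGDLib Cfsg.Agent.Nodes.Bruhat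
  Cfsg.Agent.Nodes.OppDec Cfsg.Agent.Nodes.LeviDec Cfsg.Agent.Nodes.KindChev Cfsg.Agent.Nodes.ChevCls
  Cfsg.Agent.OddHalf.NI.ModelChev Cfsg.Agent.Nodes.StabComb
  Cfsg.Agent.H162.GaussDec Cfsg.Agent.H162.GaussLevi Cfsg.Agent.H162.GaussSL Cfsg.Agent.H162.GaussReg
  Cfsg.Agent.H162.GaussPQ
  Cfsg.Agent.H928.Ore.Frame
open Cfsg.Lie Cfsg.Agent.ChevalleyStructure Cfsg.Agent.ChevalleyStructure.Elts
  Cfsg.Agent.ChevalleyStructure.RootVec Cfsg.Agent.ChevalleyStructure.NPerm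
  Cfsg.Agent.ChevalleyStructure.CoxeterGeomTypes Cfsg.Agent.Nodes.RGDChev Cfsg.Agent.KFacts.RgdChevCoord
open Cfsg.Agent.FixBN.FieldRGD (uu vv dd ww)
open Cfsg.Agent.TitsThree.KExcRT Cfsg.Agent.AGraded
open Cfsg.Agent.H78.Pw Cfsg.Agent.H85.Pw Cfsg.Agent.H194.Pw
open Cfsg.Agent.H150.E6T (le_of_gen)
open Cfsg.Agent.H162.GaussExc (coord act_sg sg_mem)
open Cfsg.Agent.H122.Pw Cfsg.Agent.H122.SX
open scoped MatrixGroups

universe u

/-! ### First row and first column -/

/-- the first row -/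
def Rr7 (q : ℕ) : Prop := ∃ b : Fin 7, b ≠ 0 ∧ r7 0 b = q

/-- the first column -/
def Rc7 (q : ℕ) : Prop := ∃ b : Fin 7, b ≠ 0 ∧ r7 b 0 = q

instance decRr7 (q : ℕ) : Decidable (Rr7 q) := by
  unfold Rr7
  refine @Fintype.decidableExistsFintype _ _ (fun b => ?_) _
  infer_instance

instance decRc7 (q : ℕ) : Decidable (Rc7 q) := by
  unfold Rc7
  refine @Fintype.decidableExistsFintype _ _ (fun b => ?_) _
  infer_instance

theorem out6n' : ∀ q < chevE8.nroots, (∃ k : Fin 8, k ∉ J7 ∧ vec chevE8 8 q k < 0) →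
    (∃ k : Fin 8, k ∉ J6 ∧ vec chevE8 8 q k < 0) ∨ Rc7 q := by
  intro q hq
  revert q
  refine @of_decide_eq_true _ ?_ ?_
  · refine @Nat.decidableBallLT _ _ fun q _ => ?_
    infer_instance
  · decide +kernel

theorem out6p' : ∀ q < chevE8.nroots, (∃ k : Fin 8, k ∉ J7 ∧ 0 < vec chevE8 8 q k) →
    (∃ k : Fin 8, k ∉ J6 ∧ 0 < vec chevE8 8 q k) ∨ Rr7 q := by
  intro q hq
  revert q
  refine @of_decide_eq_true _ ?_ ?_
  · refine @Nat.decidableBallLT _ _ fun q _ => ?_
    infer_instance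
  · decide +kernel

theorem r8_R7' : ∀ a b : Fin 6, a ≠ b → r8 (e26 (Sum.inr a)) (e26 (Sum.inr b)) = r7 a.succ b.succ ∧
    s8 (e26 (Sum.inr a)) (e26 (Sum.inr b)) = s7 a.succ b.succ := by decide +kernel

section

variable (K : Type u) [Field K]

theorem mem_row7 {q : ℕ} (hq : Rr7 q) (c : K) :
    xc hp8 (vec chevE8 8 q) c ∈ (RowS K (fun i : Fin 7 => i ≠ 0)).map (p7 K) := by
  obtain ⟨b, hb, rfl⟩ := hq
  refine ⟨Matrix.SpecialLinearGroup.transvection hb.symm ((s7 0 b : K) * c), tv_RowS _ (fun h => h rfl) _, ?_⟩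
  rw [p7_tv, ← mul_assoc, ← Int.cast_mul, rt7.2.2.2.1, Int.cast_one, one_mul]

theorem mem_col7 {q : ℕ} (hq : Rc7 q) (c : K) :
    xc hp8 (vec chevE8 8 q) c ∈ (ColS K (fun i : Fin 7 => i ≠ 0)).map (p7 K) := by
  obtain ⟨b, hb, rfl⟩ := hq
  refine ⟨Matrix.SpecialLinearGroup.transvection hb ((s7 b 0 : K) * c), tv_ColS _ (fun h => h rfl) _, ?_⟩
  rw [p7_tv, ← mul_assoc, ← Int.cast_mul, rt7.2.2.2.1, Int.cast_one, one_mul]

/-- **(F2)** -/
theorem V6_le' : VJ cs8 hp8.isCartan (XX chevE8 8 K) {k | k ∈ J7} ≤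
    (RowS K (fun i : Fin 7 => i ≠ 0)).map (p7 K) ⊔ VJ cs8 hp8.isCartan (XX chevE8 8 K) {k | k ∈ J6} := by
  refine RGD.Sup_le fun x hx => ?_
  obtain ⟨q, hq, rfl⟩ := (isRoot_iff hp8 _ x).1 hx.1
  obtain ⟨-, -, k, hk, h0⟩ := hx
  intro y hy
  obtain ⟨c, rfl⟩ := (mem_XX hp8 hq y).1 hy
  rcases out6p' q hq ⟨k, hk, h0⟩ with h | h
  · exact (le_sup_right : _ ≤ (RowS K (fun i : Fin 7 => i ≠ 0)).map (p7 K) ⊔
      VJ cs8 hp8.isCartan (XX chevE8 8 K) {k | k ∈ J6}) (xc_VJ K hq h c)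
  · exact (le_sup_left : _ ≤ (RowS K (fun i : Fin 7 => i ≠ 0)).map (p7 K) ⊔
      VJ cs8 hp8.isCartan (XX chevE8 8 K) {k | k ∈ J6}) (mem_row7 K h c)

/-- **(F2)** -/
theorem VN6_le' : VNJ cs8 hp8.isCartan (XX chevE8 8 K) {k | k ∈ J7} ≤
    VNJ cs8 hp8.isCartan (XX chevE8 8 K) {k | k ∈ J6} ⊔ (ColS K (fun i : Fin 7 => i ≠ 0)).map (p7 K) := by
  refine RGD.Sup_le fun x hx => ?_
  obtain ⟨-, -, k, hk, h0⟩ := id hx
  have hx1 : IsRoot cs8 hp8.isCartan x := NotNJ.isRoot hx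
  obtain ⟨q, hq, rfl⟩ := (isRoot_iff hp8 _ x).1 hx1
  rw [Pi.neg_apply] at h0
  intro y hy
  obtain ⟨c, rfl⟩ := (mem_XX hp8 hq y).1 hy
  rcases out6n' q hq ⟨k, hk, by omega⟩ with h | h
  · exact (le_sup_left : _ ≤ VNJ cs8 hp8.isCartan (XX chevE8 8 K) {k | k ∈ J6} ⊔
      (ColS K (fun i : Fin 7 => i ≠ 0)).map (p7 K)) (xc_VNJ K hq h c)
  · exact (le_sup_right : _ ≤ VNJ cs8 hp8.isCartan (XX chevE8 8 K) {k | k ∈ J6} ⊔
      (ColS K (fun i : Fin 7 => i ≠ 0)).map (p7 K)) (mem_col7 K h c)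

/-! ### The `6 × 6` block -/

/-- the indices -/
def e16 : Fin 1 ⊕ Fin 6 ≃ Fin 7 := finSumFinEquiv

theorem e16_inr (a : Fin 6) : e16 (Sum.inr a) = a.succ := by
  revert a
  decide

theorem e16_inl (a : Fin 1) : e16 (Sum.inl a) = 0 := by
  revert a
  decide

variable {K} in
/-- `C` on the indices `1, …, 6` -/
def emb : Matrix.SpecialLinearGroup (Fin 6) K →* Matrix.SpecialLinearGroup (Fin 7) K where
  toFun C := ⟨Matrix.reindex e16 e16 (Matrix.fromBlocks 1 0 0 C.1), by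
    rw [Matrix.det_reindex_self, Matrix.det_fromBlocks_zero₂₁, Matrix.det_one, one_mul]; exact C.2⟩
  map_one' := by
    apply Subtype.ext
    change Matrix.reindex e16 e16 (Matrix.fromBlocks 1 0 0 1) = 1
    rw [Matrix.fromBlocks_one, Matrix.reindex_apply, Matrix.submatrix_one_equiv]
  map_mul' A B := by
    apply Subtype.ext
    change Matrix.reindex e16 e16 (Matrix.fromBlocks 1 0 0 (A.1 * B.1)) =
      Matrix.reindex e16 e16 (Matrix.fromBlocks 1 0 0 A.1) * Matrix.reindex e16 e16 (Matrix.fromBlocks 1 0 0 B.1)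
    rw [Matrix.reindex_apply, Matrix.reindex_apply, Matrix.reindex_apply, Matrix.submatrix_mul_equiv,
      Matrix.fromBlocks_multiply]
    simp

variable {K}

theorem emb_val (C : Matrix.SpecialLinearGroup (Fin 6) K) :
    (emb C).1 = Matrix.reindex e16 e16 (Matrix.fromBlocks 1 0 0 C.1) := rfl

theorem emb_succ (C : Matrix.SpecialLinearGroup (Fin 6) K) (i j : Fin 6) : (emb C).1 i.succ j.succ = C.1 i j := by
  rw [emb_val, ← e16_inr, ← e16_inr]
  simp

theorem emb_zero_zero (C : Matrix.SpecialLinearGroup (Fin 6) K) : (emb C).1 0 0 = 1 := by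
  rw [emb_val, ← e16_inl 0]
  simp

theorem emb_zero_succ (C : Matrix.SpecialLinearGroup (Fin 6) K) (j : Fin 6) : (emb C).1 0 j.succ = 0 := by
  rw [emb_val, ← e16_inr, ← e16_inl 0]
  simp

theorem emb_succ_zero (C : Matrix.SpecialLinearGroup (Fin 6) K) (j : Fin 6) : (emb C).1 j.succ 0 = 0 := by
  rw [emb_val, ← e16_inr, ← e16_inl 0]
  simp

theorem emb_tv {a b : Fin 6} (hab : a ≠ b) (c : K) : emb (Matrix.SpecialLinearGroup.transvection hab c) =
    Matrix.SpecialLinearGroup.transvection ((Fin.succ_injective 6).ne hab) c := by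
  apply Subtype.ext
  ext i j
  refine Fin.cases ?_ (fun i => ?_) i
  · refine Fin.cases ?_ (fun j => ?_) j
    · rw [emb_zero_zero]
      change _ = Matrix.transvection a.succ b.succ c 0 0
      rw [Matrix.transvection, Matrix.add_apply, Matrix.one_apply_eq, Matrix.single_apply, if_neg, add_zero]
      exact fun h => Fin.succ_ne_zero _ h.1
    · rw [emb_zero_succ]
      change _ = Matrix.transvection a.succ b.succ c 0 j.succ
      rw [Matrix.transvection, Matrix.add_apply, Matrix.one_apply_ne (Fin.succ_ne_zero j).symm, Matrix.single_apply,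
        if_neg, add_zero]
      exact fun h => Fin.succ_ne_zero _ h.1
  · refine Fin.cases ?_ (fun j => ?_) j
    · rw [emb_succ_zero]
      change _ = Matrix.transvection a.succ b.succ c i.succ 0
      rw [Matrix.transvection, Matrix.add_apply, Matrix.one_apply_ne (Fin.succ_ne_zero i), Matrix.single_apply,
        if_neg, add_zero]
      exact fun h => Fin.succ_ne_zero _ h.2
    · rw [emb_succ]
      change Matrix.transvection a b c i j = Matrix.transvection a.succ b.succ c i.succ j.succ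
      rw [Matrix.transvection, Matrix.transvection, Matrix.add_apply, Matrix.add_apply, Matrix.one_apply,
        Matrix.one_apply, Matrix.single_apply, Matrix.single_apply]
      simp only [Fin.succ_inj]

variable (K)

/-- **(F3)** -/
theorem Ps_dR' (C : Matrix.SpecialLinearGroup (Fin 6) K) : Ps K (dR C) = p7 K (emb C) := by
  have h := le_of_gen (MonoidHom.id (Matrix.SpecialLinearGroup (Fin 6) K)) (((Ps K).comp dR).eqLocus ((p7 K).comp emb))
    (fun a b hab c => by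
      change Ps K (dR (Matrix.SpecialLinearGroup.transvection hab c)) =
        p7 K (emb (Matrix.SpecialLinearGroup.transvection hab c))
      rw [dR_tv, Ps_tv, emb_tv, p7_tv, (r8_R7' a b hab).1, (r8_R7' a b hab).2]) C
  exact h

/-! ### The torus element -/

variable {K}

/-- `h_{α₂}(z)` -/
noncomputable def hz (z : Kˣ) : ↥(chevE8.group K) := Cfsg.Agent.H162.GaussExc.sg hp8 (Pi.single 1 1) z

/-- `diag(1, 1, 1, z, …, z)` -/
def dz (z : Kˣ) : Fin 8 → K := ![1, 1, 1, z, z, z, z, z]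

theorem dz_inv (z : Kˣ) (i : Fin 8) : dz z i * dz z⁻¹ i = 1 := by
  fin_cases i <;> simp [dz]

theorem dz_inv' (z : Kˣ) (i : Fin 8) : dz z⁻¹ i * dz z i = 1 := by
  rw [mul_comm]; exact dz_inv z i

theorem dz_mul (z : Kˣ) : Matrix.diagonal (dz z) * Matrix.diagonal (dz z⁻¹) = 1 := by
  rw [Matrix.diagonal_mul_diagonal]
  simp only [dz_inv]
  exact Matrix.diagonal_one

theorem dz_mul' (z : Kˣ) : Matrix.diagonal (dz z⁻¹) * Matrix.diagonal (dz z) = 1 := by
  rw [Matrix.diagonal_mul_diagonal]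
  simp only [dz_inv']
  exact Matrix.diagonal_one

/-- conjugation by `diag(1, 1, 1, z, …, z)` -/
def Dz (z : Kˣ) : Matrix.SpecialLinearGroup (Fin 8) K →* Matrix.SpecialLinearGroup (Fin 8) K where
  toFun A := ⟨Matrix.diagonal (dz z) * A.1 * Matrix.diagonal (dz z⁻¹), by
    rw [Matrix.det_mul, Matrix.det_mul, A.2, mul_one, ← Matrix.det_mul, dz_mul, Matrix.det_one]⟩
  map_one' := by
    apply Subtype.ext
    change Matrix.diagonal (dz z) * 1 * Matrix.diagonal (dz z⁻¹) = 1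
    rw [Matrix.mul_one, dz_mul]
  map_mul' A B := by
    apply Subtype.ext
    change Matrix.diagonal (dz z) * (A.1 * B.1) * Matrix.diagonal (dz z⁻¹) =
      (Matrix.diagonal (dz z) * A.1 * Matrix.diagonal (dz z⁻¹)) * (Matrix.diagonal (dz z) * B.1 * Matrix.diagonal (dz z⁻¹))
    calc Matrix.diagonal (dz z) * (A.1 * B.1) * Matrix.diagonal (dz z⁻¹) =
        Matrix.diagonal (dz z) * A.1 * 1 * B.1 * Matrix.diagonal (dz z⁻¹) := by
          rw [Matrix.mul_one]; simp only [Matrix.mul_assoc]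
      _ = _ := by rw [← dz_mul' z]; simp only [Matrix.mul_assoc]

theorem Dz_val (z : Kˣ) (A : Matrix.SpecialLinearGroup (Fin 8) K) :
    (Dz z A).1 = Matrix.diagonal (dz z) * A.1 * Matrix.diagonal (dz z⁻¹) := rfl

theorem Dz_apply (z : Kˣ) (A : Matrix.SpecialLinearGroup (Fin 8) K) (i j : Fin 8) :
    (Dz z A).1 i j = dz z i * A.1 i j * dz z⁻¹ j := by
  rw [Dz_val, Matrix.mul_diagonal, Matrix.diagonal_mul]

theorem Dz_tv (z : Kˣ) {a b : Fin 8} (hab : a ≠ b) (c : K) : Dz z (Matrix.SpecialLinearGroup.transvection hab c) =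
    Matrix.SpecialLinearGroup.transvection hab (dz z a * c * dz z⁻¹ b) := by
  apply Subtype.ext
  ext i j
  rw [Dz_apply]
  change _ * Matrix.transvection a b c i j * _ = Matrix.transvection a b _ i j
  rw [Matrix.transvection, Matrix.transvection, Matrix.add_apply, Matrix.add_apply, Matrix.single_apply,
    Matrix.single_apply, Matrix.one_apply]
  by_cases h : a = i ∧ b = j
  · obtain ⟨rfl, rfl⟩ := h
    rw [if_neg hab, if_pos ⟨rfl, rfl⟩, if_pos ⟨rfl, rfl⟩, zero_add, zero_add]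
  · rw [if_neg h, if_neg h]
    by_cases hij : i = j
    · subst hij
      rw [if_pos rfl, add_zero, mul_one, dz_inv]
    · rw [if_neg hij, add_zero, mul_zero, zero_mul]

theorem zpow_dl (z : Kˣ) (a b : Fin 8) : ((z ^ (-dl a + dl b) : Kˣ) : K) = dz z a * dz z⁻¹ b := by
  fin_cases a <;> fin_cases b <;> simp [dl, dz]

theorem hz_tv (z : Kˣ) {a b : Fin 8} (hab : a ≠ b) (c : K) : hz z * xc hp8 (vec chevE8 8 (r8 a b)) c * (hz z)⁻¹ =
    xc hp8 (vec chevE8 8 (r8 a b)) (dz z a * c * dz z⁻¹ b) := by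
  have h1 : ∑ i : Fin 8, (Pi.single 1 1 : Fin 8 → ℤ) i * chevE8.cartan (i : ℕ) (r8 a b) = -dl a + dl b := by
    rw [Finset.sum_eq_single 1]
    · rw [Pi.single_eq_same, one_mul]
      exact (cart8 a b hab).trans (by rw [sub_eq_add_neg, add_comm])
    · intro i _ hi
      rw [Pi.single_eq_of_ne hi, zero_mul]
    · intro h
      exact absurd (Finset.mem_univ _) h
  have h2 : ((z ^ (-dl a + dl b) : Kˣ) : K) * c = dz z a * c * dz z⁻¹ b := by
    rw [zpow_dl]
    ring
  rw [hz, act_sg hp8 _ _ (rt8.1 a b hab), h1, h2]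

/-- **(F4)** -/
theorem hz_p8 (z : Kˣ) (A : Matrix.SpecialLinearGroup (Fin 8) K) : hz z * p8 K A * (hz z)⁻¹ = p8 K (Dz z A) := by
  have h := le_of_gen (MonoidHom.id (Matrix.SpecialLinearGroup (Fin 8) K))
    (((MulAut.conj (hz z)).toMonoidHom.comp (p8 K)).eqLocus ((p8 K).comp (Dz z)))
    (fun a b hab c => by
      change hz z * p8 K (Matrix.SpecialLinearGroup.transvection hab c) * (hz z)⁻¹ =
        p8 K (Dz z (Matrix.SpecialLinearGroup.transvection hab c))
      rw [Dz_tv, p8_tv, p8_tv, hz_tv z hab]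
      congr 1
      ring) A
  exact h

/-- `diag(z, z⁻¹, 1, …)` -/
def Hz (z : Kˣ) : Matrix.SpecialLinearGroup (Fin 7) K :=
  H482.Ore.Fix.hab' (0 : Fin 6).castSucc (0 : Fin 6).succ (Cfsg.Agent.H162.GaussPQ.cs_ne 0) z

theorem Hz_val (z : Kˣ) : (Hz z).1 = Matrix.diagonal ![(z : K), ((z⁻¹ : Kˣ) : K), 1, 1, 1, 1, 1] := by
  change Matrix.diagonal _ = _
  congr 1
  funext k
  fin_cases k <;> rfl

/-- **(F4)** -/
theorem p7_Hz (z : Kˣ) : p7 K (Hz z) = hz z := by
  rw [Hz, H482.Ore.Fix.phi_hab hp8 (j := j7) ⟨sim7.1, sim7.2⟩ (p7_tv K) (fun a => by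
    rw [← Int.cast_mul, rt7.2.2.2.2.1, rt7.2.2.2.1, Int.cast_one]) 0 z]
  have h3 : (fun i : Fin 8 => z ^ ((Pi.single 1 1 : Fin 8 → ℤ) i)) = Pi.mulSingle 1 z := by
    funext i
    by_cases hi : i = 1
    · subst hi
      rw [Pi.single_eq_same, Pi.mulSingle_eq_same, zpow_one]
    · rw [Pi.single_eq_of_ne hi, Pi.mulSingle_eq_of_ne hi, zpow_zero]
  rw [hz, Cfsg.Agent.H162.GaussExc.sg, h3, th_mulSingle, sl_dd]
  rfl

end

end Cfsg.Agent.H122.SX.E127
end

private theorem dce_4ab8df93d176 : _root_.True := by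
  try have : _root_.True := by simp only [_root_.Cfsg.Agent.H122.SX.E127.Hz.eq_1]
  try have : _root_.True := by simp only [_root_.Cfsg.Agent.H122.SX.E127.hz.eq_1]
  try have : _root_.True := by simp only [_root_.Matrix.toBlocks₁₁.eq_1]
  try have : _root_.True := by simp only [_root_.Cfsg.Agent.H122.SX.E127.dz.eq_1]
  try have : _root_.True := by simp only [_root_.Cfsg.Agent.H122.SX.E127.Ps.eq_1]
  exact _root_.True.intro
end

-- part: H572/FR/Main_mg
section
prune_inst 0x5202800010010000000058091000000000004000000000000a000000800006200022840000001001000808000040000001000000040000004000400000001000880020421000000000016000000400000000800020000000000800000000000008000000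
set_option linter.all false
open scoped Cfsg.Agent.FastGrp

-- part: H572/FR/Gauss
section
/-!
helper572 (S2464, `F4(q)`): Gauss sums of a nondegenerate quadratic form.
-/

set_option autoImplicit false

namespace Cfsg.Agent.H572.FR

open Module
open Cfsg.Agent.LieClassical Cfsg.Agent.LieClassical.OrthForms Cfsg.Agent.LieClassical.OrthCore
  Cfsg.Agent.LieClassical.OrthTrans

section Lin

variable {K : Type*} [Field K] {ψ : AddChar K ℂ}

/-- the sum of an additive character over the values of a linear form -/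
theorem sum_lin (hψ : ψ.IsPrimitive) {A : Type*} [AddCommGroup A] [Module K A] [Fintype A] (L : A →ₗ[K] K)
    [Decidable (L = 0)] :
    ∑ a : A, ψ (L a) = if L = 0 then (Fintype.card A : ℂ) else 0 := by
  classical
  split_ifs with h
  · subst h
    simp
  · have h1 : ∃ a, L a ≠ 0 := by
      by_contra h2
      push Not at h2
      exact h (LinearMap.ext h2)
    obtain ⟨a0, ha0⟩ := h1
    have h2 := hψ ha0
    obtain ⟨c, hc⟩ := (AddChar.ne_one_iff).1 h2
    rw [AddChar.mulShift_apply] at hc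
    set! a1 : A := c • a0 with ha1
    have h3 : ψ (L a1) ≠ 1 := by
      rw [ha1, map_smul, smul_eq_mul, mul_comm]
      exact hc
    have h4 : ∑ a : A, ψ (L (a + a1)) = ∑ a : A, ψ (L a) := Equiv.sum_comp (Equiv.addRight a1) (fun a => ψ (L a))
    have h5 : ∑ a : A, ψ (L (a + a1)) = (∑ a : A, ψ (L a)) * ψ (L a1) := by
      rw [Finset.sum_mul]
      refine Finset.sum_congr rfl fun a _ => ?_
      rw [map_add, AddChar.map_add_eq_mul]
    rw [h5] at h4
    have h6 : (∑ a : A, ψ (L a)) * (ψ (L a1) - 1) = 0 := by linear_combination h4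
    exact (mul_eq_zero.1 h6).resolve_right (sub_ne_zero.2 h3)

/-- the sum over the field -/
theorem sum_mul' [Fintype K] (hψ : ψ.IsPrimitive) (x : K) [Decidable (x = 0)] :
    ∑ s : K, ψ (s * x) = if x = 0 then (Fintype.card K : ℂ) else 0 := by
  classical
  have h := sum_lin hψ (LinearMap.mulRight K x)
  have h1 : (LinearMap.mulRight K x = 0) ↔ x = 0 := by
    constructor
    · intro h2
      have := LinearMap.congr_fun h2 1
      simpa using this
    · rintro rfl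
      ext
      simp
  simp only [LinearMap.mulRight_apply, h1] at h
  rw [h]
  
theorem norm_psi [Finite K] (x : K) : ‖ψ x‖ = 1 := by
  exact AddChar.norm_apply ψ x

end Lin

section Quad

variable {K V : Type*} [Field K] [Fintype K] [AddCommGroup V] [Module K V] [Fintype V] {Q : QuadraticForm K V}
  {ψ : AddChar K ℂ}

/-- Gauss sum -/
theorem gauss_sq (hψ : ψ.IsPrimitive) (hQ : Nondeg Q) {s : K} (hs : s ≠ 0) (v : V) :
    ‖∑ u : V, ψ (s * Q u + QuadraticMap.polar Q u v)‖ ^ 2 = Fintype.card V := by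
  classical
  set! f : V → K := fun u => s * Q u + QuadraticMap.polar Q u v with hf
  have h1 : ((‖∑ u : V, ψ (f u)‖ ^ 2 : ℝ) : ℂ) = (Fintype.card V : ℂ) := by
    have e1 : ((‖∑ u : V, ψ (f u)‖ ^ 2 : ℝ) : ℂ) = (∑ u : V, ψ (f u)) * (starRingEnd ℂ) (∑ u : V, ψ (f u)) := by
      rw [Complex.mul_conj, Complex.normSq_eq_norm_sq]
    rw [e1, map_sum]
    have e2 : ∀ u, (starRingEnd ℂ) (ψ (f u)) = ψ (-(f u)) := fun u => (AddChar.map_neg_eq_conj ψ (f u)).symm
    simp only [e2]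
    rw [Finset.sum_mul_sum, Finset.sum_comm]
    have e3 : ∀ u' : V, ∑ u : V, ψ (f u) * ψ (-(f u')) = ∑ h : V, ψ (f (u' + h)) * ψ (-(f u')) := fun u' =>
      (Equiv.sum_comp (Equiv.addLeft u') (fun u => ψ (f u) * ψ (-(f u')))).symm
    simp only [e3]
    rw [Finset.sum_comm]
    have e4 : ∀ h : V, ∑ u' : V, ψ (f (u' + h)) * ψ (-(f u')) =
        ψ (f h) * ∑ u' : V, ψ ((s • (QuadraticMap.polarBilin Q h)) u') := by
      intro h
      rw [Finset.mul_sum]
      refine Finset.sum_congr rfl fun u' _ => ?_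
      rw [← AddChar.map_add_eq_mul, ← AddChar.map_add_eq_mul]
      congr 1
      simp only [hf, LinearMap.smul_apply, QuadraticMap.polarBilin_apply_apply, smul_eq_mul]
      rw [Q_add, QuadraticMap.polar_add_left, QuadraticMap.polar_comm Q h u']
      ring
    simp only [e4]
    rw [Finset.sum_eq_single 0]
    · rw [sum_lin hψ, if_pos]
      · simp [hf]
      · ext
        simp
    · intro h _ hh
      rw [sum_lin hψ, if_neg, mul_zero]
      intro h2
      apply hh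
      apply hQ
      intro y
      have := LinearMap.congr_fun h2 y
      simp only [LinearMap.smul_apply, QuadraticMap.polarBilin_apply_apply, smul_eq_mul, LinearMap.zero_apply,
        mul_eq_zero, hs, false_or] at this
      exact this
    · intro h
      exact absurd (Finset.mem_univ _) h
  exact_mod_cast h1

/-- the level sums -/
theorem level_sum [DecidableEq K] (hψ : ψ.IsPrimitive) (c : K) (v : V) :
    (Fintype.card K : ℂ) * ∑ u : V with Q u = c, ψ (QuadraticMap.polar Q u v) =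
      ∑ s : K, ψ (-(s * c)) * ∑ u : V, ψ (s * Q u + QuadraticMap.polar Q u v) := by
  classical
  have h1 : ∀ s : K, ψ (-(s * c)) * ∑ u : V, ψ (s * Q u + QuadraticMap.polar Q u v) =
      ∑ u : V, ψ (s * (Q u - c)) * ψ (QuadraticMap.polar Q u v) := by
    intro s
    rw [Finset.mul_sum]
    refine Finset.sum_congr rfl fun u _ => ?_
    rw [← AddChar.map_add_eq_mul, ← AddChar.map_add_eq_mul]
    congr 1
    ring
  simp only [h1]
  rw [Finset.sum_comm]
  simp only [← Finset.sum_mul, sum_mul' hψ, sub_eq_zero]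
  rw [Finset.sum_filter, Finset.mul_sum]
  refine Finset.sum_congr rfl fun u _ => ?_
  split_ifs <;> ring

theorem gauss_le (hψ : ψ.IsPrimitive) (hQ : Nondeg Q) {s : K} (hs : s ≠ 0) (v : V) {b : ℝ} (hb : 0 ≤ b)
    (h : (Fintype.card V : ℝ) ≤ b ^ 2) : ‖∑ u : V, ψ (s * Q u + QuadraticMap.polar Q u v)‖ ≤ b := by
  refine le_of_sq_le_sq ?_ hb
  rw [gauss_sq hψ hQ hs v]
  exact h

theorem sum_ne_le [DecidableEq K] (hψ : ψ.IsPrimitive) (hQ : Nondeg Q) (c : K) (v : V) {b : ℝ} (hb : 0 ≤ b)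
    (h : (Fintype.card V : ℝ) ≤ b ^ 2) :
    ‖∑ s ∈ Finset.univ.erase (0 : K), ψ (-(s * c)) * ∑ u : V, ψ (s * Q u + QuadraticMap.polar Q u v)‖ ≤
      ((Fintype.card K : ℝ) - 1) * b := by
  classical
  refine (norm_sum_le _ _).trans ?_
  have h1 : ∀ s ∈ Finset.univ.erase (0 : K),
      ‖ψ (-(s * c)) * ∑ u : V, ψ (s * Q u + QuadraticMap.polar Q u v)‖ ≤ b := by
    intro s hs
    rw [norm_mul, norm_psi, one_mul]
    exact gauss_le hψ hQ (Finset.ne_of_mem_erase hs) v hb h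
  refine (Finset.sum_le_card_nsmul _ _ _ h1).trans ?_
  rw [Finset.card_erase_of_mem (Finset.mem_univ _), Finset.card_univ, nsmul_eq_mul,
    Nat.cast_sub Fintype.card_pos]
  simp

/-- level sums for `v ≠ 0` -/
theorem level_le [DecidableEq K] (hψ : ψ.IsPrimitive) (hQ : Nondeg Q) (c : K) {v : V} (hv : v ≠ 0) {b : ℝ}
    (hb : 0 ≤ b) (h : (Fintype.card V : ℝ) ≤ b ^ 2) :
    (Fintype.card K : ℝ) * ‖∑ u : V with Q u = c, ψ (QuadraticMap.polar Q u v)‖ ≤
      ((Fintype.card K : ℝ) - 1) * b := by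
  classical
  have h1 := level_sum (Q := Q) hψ c v
  rw [← Finset.add_sum_erase _ _ (Finset.mem_univ (0 : K))] at h1
  have h2 : ∑ u : V, ψ (0 * Q u + QuadraticMap.polar Q u v) = 0 := by
    have h3 : ∀ u, (0 : K) * Q u + QuadraticMap.polar Q u v = (QuadraticMap.polarBilin Q v) u := by
      intro u
      rw [zero_mul, zero_add, QuadraticMap.polar_comm]
      rfl
    simp only [h3]
    rw [sum_lin hψ, if_neg]
    intro h4
    apply hv
    apply hQ
    intro y
    exact LinearMap.congr_fun h4 y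
  rw [h2, mul_zero, zero_add] at h1
  have h3 := sum_ne_le hψ hQ c v hb h
  rw [← h1, norm_mul, Complex.norm_natCast] at h3
  exact h3

/-- lower bound for the number of vectors of given norm -/
theorem card_level_ge [DecidableEq K] (hψ : ψ.IsPrimitive) (hQ : Nondeg Q) (c : K) {b : ℝ}
    (hb : 0 ≤ b) (h : (Fintype.card V : ℝ) ≤ b ^ 2) :
    (Fintype.card V : ℝ) - ((Fintype.card K : ℝ) - 1) * b ≤
      (Fintype.card K : ℝ) * (Finset.univ.filter (fun u : V => Q u = c)).card := by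
  classical
  have h1 := level_sum (Q := Q) hψ c 0
  rw [← Finset.add_sum_erase _ _ (Finset.mem_univ (0 : K))] at h1
  have h2 : ψ (-(0 * c)) * ∑ u : V, ψ (0 * Q u + QuadraticMap.polar Q u 0) = (Fintype.card V : ℂ) := by
    simp only [_root_.MulZeroClass.zero_mul, _root_.neg_zero, _root_.AddChar.map_zero_eq_one, _root_.QuadraticMap.polar_zero_right, _root_.add_zero, _root_.Finset.sum_const, _root_.Finset.card_univ, _root_.nsmul_eq_mul, _root_.mul_one, _root_.one_mul]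
  have h4 : ∑ u : V with Q u = c, ψ (QuadraticMap.polar Q u 0) =
      ((Finset.univ.filter (fun u : V => Q u = c)).card : ℂ) := by
    simp
  rw [h2, h4] at h1
  have h3 := sum_ne_le hψ hQ c 0 hb h
  set z := ∑ s ∈ Finset.univ.erase (0 : K), ψ (-(s * c)) * ∑ u : V, ψ (s * Q u + QuadraticMap.polar Q u 0) with hz
  have h5 : z = (((Fintype.card K : ℝ) * (Finset.univ.filter (fun u : V => Q u = c)).card - Fintype.card V : ℝ) : ℂ) := by
    push_cast
    linear_combination -h1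
  rw [h5, Complex.norm_real, Real.norm_eq_abs] at h3
  have := (abs_le.1 h3).1
  linarith

end Quad

end Cfsg.Agent.H572.FR
end

-- part: H572/FR/Fx
section
/-!
helper572 (S2464, `F4(q)`): dimensions of fixed spaces of subgroups in a representation.
-/

set_option autoImplicit false

namespace Cfsg.Agent.H572.FR

open Module

section Fx

variable {G V : Type*} [Group G] [AddCommGroup V] [Module ℂ V] (ρ : Representation ℂ G V)

/-- the fixed space -/
def fx (A : Subgroup G) : Submodule ℂ V where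
  carrier := {x | ∀ a ∈ A, ρ a x = x}
  zero_mem' := fun a _ => map_zero _
  add_mem' := fun {x y} hx hy a ha => by rw [map_add, hx a ha, hy a ha]
  smul_mem' := fun c x hx a ha => by rw [map_smul, hx a ha]

theorem mem_fx {A : Subgroup G} {x : V} : x ∈ fx ρ A ↔ ∀ a ∈ A, ρ a x = x := Iff.rfl

theorem fx_anti {A B : Subgroup G} (h : A ≤ B) : fx ρ B ≤ fx ρ A := fun _ hx a ha => hx a (h ha)

theorem fx_sup (A B : Subgroup G) : fx ρ (A ⊔ B) = fx ρ A ⊓ fx ρ B := by
  apply le_antisymm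
  · exact le_inf (fx_anti ρ le_sup_left) (fx_anti ρ le_sup_right)
  · rintro x ⟨hA, hB⟩ a ha
    have h1 : A ⊔ B ≤
        ({ carrier := {g | ρ g x = x}
           mul_mem' := fun {a b} ha hb => by
             show ρ (a * b) x = x
             rw [map_mul, Module.End.mul_apply, hb, ha]
           one_mem' := by
             show ρ 1 x = x
             rw [map_one, Module.End.one_apply]
           inv_mem' := fun {a} ha => by
             show ρ a⁻¹ x = x
             have ha' : ρ a x = x := ha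
             conv_lhs => rw [← ha']
             rw [← Module.End.mul_apply, ← map_mul, inv_mul_cancel, map_one, Module.End.one_apply] } : Subgroup G) :=
      sup_le hA hB
    exact h1 ha

/-- dimension of the fixed space -/
noncomputable def cd (A : Subgroup G) : ℕ := finrank ℂ (fx ρ A)

theorem fx_conj (g : G) (A : Subgroup G) (x : V) :
    x ∈ fx ρ (A.map (MulAut.conj g).toMonoidHom) ↔ ρ g⁻¹ x ∈ fx ρ A := by
  constructor
  · intro h a ha
    have h1 := h _ ⟨a, ha, rfl⟩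
    have h2 : ρ (g * a * g⁻¹) x = x := h1
    rw [← Module.End.mul_apply, ← map_mul]
    have h3 : a * g⁻¹ = g⁻¹ * (g * a * g⁻¹) := by group
    rw [h3, map_mul, Module.End.mul_apply, h2]
  · rintro h _ ⟨a, ha, rfl⟩
    show ρ (g * a * g⁻¹) x = x
    have h1 := h a ha
    rw [map_mul, map_mul, Module.End.mul_apply, Module.End.mul_apply, h1, ← Module.End.mul_apply, ← map_mul,
      mul_inv_cancel, map_one, Module.End.one_apply]

theorem cd_conj (g : G) (A : Subgroup G) : cd ρ (A.map (MulAut.conj g).toMonoidHom) = cd ρ A := by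
  have hgi : ∀ x, ρ g⁻¹ (ρ g x) = x := fun x => by
    rw [← Module.End.mul_apply, ← map_mul, inv_mul_cancel, map_one, Module.End.one_apply]
  have hgi' : ∀ x, ρ g (ρ g⁻¹ x) = x := fun x => by
    rw [← Module.End.mul_apply, ← map_mul, mul_inv_cancel, map_one, Module.End.one_apply]
  let eg : V ≃ₗ[ℂ] V := LinearEquiv.ofLinearMap (ρ g) (ρ g⁻¹) (LinearMap.ext hgi') (LinearMap.ext hgi)
  have h1 : fx ρ (A.map (MulAut.conj g).toMonoidHom) = (fx ρ A).map (eg : V →ₗ[ℂ] V) := by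
    ext x
    rw [fx_conj, Submodule.mem_map]
    constructor
    · intro h
      exact ⟨_, h, hgi' x⟩
    · rintro ⟨y, hy, rfl⟩
      show ρ g⁻¹ (ρ g y) ∈ _
      rw [hgi]
      exact hy
  unfold cd
  rw [h1]
  exact LinearEquiv.finrank_map_eq eg (fx ρ A)

theorem cd_sub [FiniteDimensional ℂ V] {A B C : Subgroup G} (hA : C ≤ A) (hB : C ≤ B) :
    cd ρ A + cd ρ B ≤ cd ρ C + cd ρ (A ⊔ B) := by
  unfold cd
  rw [fx_sup, ← Submodule.finrank_sup_add_finrank_inf_eq]
  exact Nat.add_le_add_right (Submodule.finrank_mono (sup_le (fx_anti ρ hA) (fx_anti ρ hB))) _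

end Fx

section Irr

variable {G : Type*} [Group G] {n : ℕ} (ρ : Representation ℂ G (Fin n → ℂ))

/-- an irreducible representation with a nonzero fixed vector is trivial -/
theorem cd_top (hirr : ρ.IsIrreducible) (h1 : ρ.character ≠ fun _ => 1) : cd ρ ⊤ = 0 := by
  by_contra h
  apply h1
  have h2 : fx ρ ⊤ ≠ ⊥ := by
    intro h3
    apply h
    unfold cd
    rw [h3, finrank_bot]
  obtain ⟨x, hx, hx0⟩ := Submodule.exists_mem_ne_zero_of_ne_bot h2
  let S : Subrepresentation ρ :=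
    { toSubmodule := Submodule.span ℂ {x}
      apply_mem_toSubmodule := by
        intro g v hv
        obtain ⟨c, rfl⟩ := Submodule.mem_span_singleton.1 hv
        rw [map_smul, hx g trivial]
        exact hv }
  have h3 : S = ⊥ ∨ S = ⊤ := hirr.eq_bot_or_eq_top S
  have h4 : Submodule.span ℂ {x} = ⊤ := by
    rcases h3 with h3 | h3
    · exfalso
      apply hx0
      have h5 : x ∈ S.toSubmodule := Submodule.mem_span_singleton_self x
      rw [h3] at h5
      exact h5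
    · have h5 := congrArg Subrepresentation.toSubmodule h3
      exact h5
  funext g
  have h5 : ρ g = 1 := by
    refine LinearMap.ext fun v => ?_
    have h6 : v ∈ Submodule.span ℂ {x} := by rw [h4]; trivial
    obtain ⟨c, rfl⟩ := Submodule.mem_span_singleton.1 h6
    rw [map_smul, hx g trivial]
    rfl
  have h7 : finrank ℂ (Fin n → ℂ) = 1 := by
    rw [← finrank_top, ← h4, finrank_span_singleton hx0]
  show LinearMap.trace ℂ _ (ρ g) = 1
  rw [h5, LinearMap.trace_one, h7]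
  simp

end Irr

/-- the numerical consequence -/
theorem four_le {G V : Type*} [Group G] [AddCommGroup V] [Module ℂ V] [FiniteDimensional ℂ V]
    (ρ : Representation ℂ G V) {E0 E1 E2 E3 F0 : Subgroup G} {s1 n s3 c : G}
    (h1 : E1 = E0.map (MulAut.conj s1).toMonoidHom) (hn : E0 = E0.map (MulAut.conj n).toMonoidHom)
    (h2 : E2 = E1.map (MulAut.conj n).toMonoidHom) (h3 : E3 = E1.map (MulAut.conj s3).toMonoidHom)
    (hF0 : F0 ≤ E0) (hF1 : F0 ≤ E1) (hc1 : F0.map (MulAut.conj c).toMonoidHom ≤ E1)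
    (hc3 : F0.map (MulAut.conj c).toMonoidHom ≤ E3) (ht : E0 ⊔ E1 ⊔ E2 ⊔ E3 = ⊤) (h0 : cd ρ ⊤ = 0) :
    4 * cd ρ E0 ≤ 3 * cd ρ F0 := by
  have a1 : cd ρ E1 = cd ρ E0 := by rw [h1, cd_conj]
  have a3 : cd ρ E3 = cd ρ E0 := by rw [h3, cd_conj, a1]
  have b1 := cd_sub ρ hF0 hF1
  have e1 : (E0 ⊔ E1).map (MulAut.conj n).toMonoidHom = E0 ⊔ E2 := by
    rw [Subgroup.map_sup, ← hn, ← h2]
  have a4 : cd ρ (E0 ⊔ E2) = cd ρ (E0 ⊔ E1) := by rw [← e1, cd_conj]
  have b2 := cd_sub ρ (A := E0 ⊔ E1) (B := E0 ⊔ E2) (C := E0) le_sup_left le_sup_left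
  have e2 : E0 ⊔ E1 ⊔ (E0 ⊔ E2) = E0 ⊔ E1 ⊔ E2 := by
    rw [sup_sup_sup_comm, sup_idem, sup_assoc]
  have b3 := cd_sub ρ (A := E0 ⊔ E1 ⊔ E2) (B := E3) (C := F0.map (MulAut.conj c).toMonoidHom)
    (hc1.trans (le_sup_right.trans le_sup_left)) hc3
  rw [ht, h0, cd_conj] at b3
  rw [e2] at b2
  omega

end Cfsg.Agent.H572.FR
end

-- part: H572/FR/Four
section
/-!
helper572 (S2464, `F4(q)`): Fourier multiplicities of a representation restricted to an elementary abelian subgroup.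
-/

set_option autoImplicit false
set_option linter.unusedSectionVars false

namespace Cfsg.Agent.H572.FR

open Module
open Cfsg.Agent.LieClassical Cfsg.Agent.LieClassical.OrthForms Cfsg.Agent.LieClassical.OrthCore
  Cfsg.Agent.LieClassical.OrthTrans

section Range

variable {G V : Type*} [Group G] [AddCommGroup V] [Module ℂ V] [FiniteDimensional ℂ V] (ρ : Representation ℂ G V)

theorem cd_range {H : Type*} [Group H] [Fintype H] (θ : H →* G) :
    (cd ρ θ.range : ℂ) = (Fintype.card H : ℂ)⁻¹ * ∑ h : H, ρ.character (θ h) := by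
  have : Invertible (Nat.card H : ℂ) := invertibleOfNonzero (Nat.cast_ne_zero.2 Nat.card_pos.ne')
  have h1 := Representation.card_inv_mul_sum_char_eq_finrank (ρ.comp θ)
  have h2 : fx ρ θ.range = Representation.invariants (ρ.comp θ) := by
    ext x
    rw [mem_fx, Representation.mem_invariants]
    constructor
    · intro h a
      exact h _ ⟨a, rfl⟩
    · rintro h _ ⟨a, rfl⟩
      exact h a
  unfold cd
  rw [h2, ← h1, Nat.card_eq_fintype_card]
  rfl

end Range

section Tw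

variable {K W : Type*} [Field K] [AddCommGroup W] [Module K W] {Q : QuadraticForm K W}
  {G V : Type*} [Group G] [AddCommGroup V] [Module ℂ V] (ρ : Representation ℂ G V)
  (e : Multiplicative W →* G) (ψ : AddChar K ℂ)

/-- the twisted representation -/
noncomputable def tw (Q : QuadraticForm K W) (u : W) : Representation ℂ (Multiplicative W) V where
  toFun w := ψ (-(QuadraticMap.polarBilin Q u w.toAdd)) • ρ (e w)
  map_one' := by
    rw [toAdd_one, map_zero, neg_zero, AddChar.map_zero_eq_one, one_smul, map_one, map_one]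
  map_mul' a b := by
    rw [toAdd_mul, map_add, neg_add, AddChar.map_add_eq_mul, map_mul, map_mul, smul_mul_smul_comm]

/-- the multiplicity -/
noncomputable def mu (Q : QuadraticForm K W) (u : W) : ℕ := finrank ℂ (Representation.invariants (tw ρ e ψ Q u))

variable [FiniteDimensional ℂ V] [Fintype W]

theorem mu_eq (u : W) : (mu ρ e ψ Q u : ℂ) =
    (Fintype.card W : ℂ)⁻¹ * ∑ w : W, ψ (-(QuadraticMap.polar Q u w)) * ρ.character (e (Multiplicative.ofAdd w)) := by
  have : Invertible (Nat.card (Multiplicative W) : ℂ) := invertibleOfNonzero (Nat.cast_ne_zero.2 Nat.card_pos.ne')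
  have h1 := Representation.card_inv_mul_sum_char_eq_finrank (tw ρ e ψ Q u)
  have h2 : Nat.card (Multiplicative W) = Fintype.card W := by
    rw [Nat.card_eq_fintype_card]
    exact Fintype.card_multiplicative W
  rw [h2] at h1
  unfold mu
  rw [← h1]
  congr 1
  rw [← Equiv.sum_comp Multiplicative.ofAdd]
  refine Finset.sum_congr rfl fun w _ => ?_
  show LinearMap.trace ℂ V (ψ (-(QuadraticMap.polarBilin Q u w)) • ρ (e (Multiplicative.ofAdd w))) = _
  rw [map_smul, smul_eq_mul]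
  rfl

variable {ψ} [Fintype K]

/-- Fourier inversion -/
theorem chi_eq (hψ : ψ.IsPrimitive) (hQ : Nondeg Q) (v : W) :
    ρ.character (e (Multiplicative.ofAdd v)) = ∑ u : W, (mu ρ e ψ Q u : ℂ) * ψ (QuadraticMap.polar Q u v) := by
  classical
  have hW : (Fintype.card W : ℂ) ≠ 0 := Nat.cast_ne_zero.2 Fintype.card_ne_zero
  have h1 : ∀ u : W, (mu ρ e ψ Q u : ℂ) * ψ (QuadraticMap.polar Q u v) =
      ∑ w : W, (Fintype.card W : ℂ)⁻¹ * ρ.character (e (Multiplicative.ofAdd w)) *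
        ψ ((QuadraticMap.polarBilin Q (v - w)) u) := by
    intro u
    rw [mu_eq, Finset.mul_sum, Finset.sum_mul]
    refine Finset.sum_congr rfl fun w _ => ?_
    have h2 : ψ ((QuadraticMap.polarBilin Q (v - w)) u) =
        ψ (-(QuadraticMap.polar Q u w)) * ψ (QuadraticMap.polar Q u v) := by
      rw [← AddChar.map_add_eq_mul]
      congr 1
      rw [QuadraticMap.polarBilin_apply_apply, QuadraticMap.polar_comm, QuadraticMap.polar_sub_right]
      ring
    rw [h2]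
    ring
  simp only [h1]
  rw [Finset.sum_comm]
  simp only [← Finset.mul_sum]
  rw [Finset.sum_eq_single v]
  · rw [sum_lin hψ, if_pos]
    · field_simp
    · rw [sub_self, map_zero]
  · intro w _ hw
    rw [sum_lin hψ, if_neg, mul_zero]
    intro h2
    apply hw
    have h3 : v - w = 0 := hQ _ fun y => LinearMap.congr_fun h2 y
    exact (sub_eq_zero.1 h3).symm
  · intro h
    exact absurd (Finset.mem_univ _) h

/-- the degree -/
theorem deg_eq (hψ : ψ.IsPrimitive) (hQ : Nondeg Q) : ρ.character 1 = ∑ u : W, (mu ρ e ψ Q u : ℂ) := by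
  have h := chi_eq ρ e hψ hQ 0
  rw [ofAdd_zero, map_one] at h
  rw [h]
  refine Finset.sum_congr rfl fun u _ => ?_
  rw [QuadraticMap.polar_zero_right, AddChar.map_zero_eq_one, mul_one]

/-- the homomorphism of a subspace -/
def eF (F : Submodule K W) : Multiplicative F →* G :=
  e.comp (AddMonoidHom.toMultiplicative (F.subtype : F →ₗ[K] W).toAddMonoidHom)

/-- fixed space of a subspace -/
theorem cd_eF (hψ : ψ.IsPrimitive) (hQ : Nondeg Q) (F : Submodule K W)
    [DecidablePred fun u : W => ∀ w ∈ F, QuadraticMap.polar Q u w = 0] :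
    cd ρ (eF e F).range = ∑ u : W with ∀ w ∈ F, QuadraticMap.polar Q u w = 0, mu ρ e ψ Q u := by
  classical
  have : Fintype F := Fintype.ofFinite F
  have hF : (Fintype.card F : ℂ) ≠ 0 := Nat.cast_ne_zero.2 Fintype.card_ne_zero
  have h1 := cd_range ρ (eF e F)
  have h2 : Fintype.card (Multiplicative F) = Fintype.card F := Fintype.card_multiplicative F
  rw [h2] at h1
  have h3 : ∑ h : Multiplicative F, ρ.character (eF e F h) =
      ∑ u : W, (mu ρ e ψ Q u : ℂ) * ∑ w : F, ψ (((QuadraticMap.polarBilin Q u).comp F.subtype) w) := by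
    have h4 : ∑ h : Multiplicative F, ρ.character (eF e F h) =
        ∑ w : F, ρ.character (e (Multiplicative.ofAdd (w : W))) :=
      (Equiv.sum_comp Multiplicative.ofAdd (fun h : Multiplicative F => ρ.character (eF e F h))).symm
    rw [h4]
    simp only [chi_eq ρ e hψ hQ]
    rw [Finset.sum_comm]
    simp only [Finset.mul_sum]
    rfl
  rw [h3] at h1
  have h5 : ∀ u : W, ∑ w : F, ψ (((QuadraticMap.polarBilin Q u).comp F.subtype) w) =
      if ∀ w ∈ F, QuadraticMap.polar Q u w = 0 then (Fintype.card F : ℂ) else 0 := by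
    intro u
    rw [sum_lin hψ]
    refine if_congr ?_ rfl rfl
    constructor
    · intro h w hw
      exact LinearMap.congr_fun h ⟨w, hw⟩
    · intro h
      ext w
      exact h w w.2
  simp only [h5] at h1
  have h6 : (cd ρ (eF e F).range : ℂ) =
      ((∑ u : W with ∀ w ∈ F, QuadraticMap.polar Q u w = 0, mu ρ e ψ Q u : ℕ) : ℂ) := by
    rw [h1, Finset.mul_sum, Nat.cast_sum, Finset.sum_filter]
    refine Finset.sum_congr rfl fun u _ => ?_
    split_ifs
    · field_simp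
    · ring
  exact_mod_cast h6

/-- the multiplicities are invariant -/
theorem mu_inv {h : W ≃ₗ[K] W} (hh : h ∈ O Q) {g : G}
    (hg : ∀ w : W, g * e (Multiplicative.ofAdd w) * g⁻¹ = e (Multiplicative.ofAdd (h w))) (u : W) :
    mu ρ e ψ Q (h u) = mu ρ e ψ Q u := by
  have h1 : (mu ρ e ψ Q (h u) : ℂ) = (mu ρ e ψ Q u : ℂ) := by
    rw [mu_eq, mu_eq]
    congr 1
    rw [← Equiv.sum_comp h.toEquiv]
    refine Finset.sum_congr rfl fun w _ => ?_
    show ψ (-(QuadraticMap.polar Q (h u) (h w))) * ρ.character (e (Multiplicative.ofAdd (h w))) = _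
    rw [polar_map hh, ← hg, ρ.char_conj]
  exact_mod_cast h1

end Tw

end Cfsg.Agent.H572.FR
end

-- part: H572/FR/Main
section
/-!
helper572 (S2464, `F4(q)`, `q` odd, `q ≥ 5`): the ratio bound for the elements of the seven dimensional abelian
subgroup `E₀`: abstract form.
-/

set_option autoImplicit false
set_option linter.unusedSectionVars false

namespace Cfsg.Agent.H572.FR

open Module
open Cfsg.Agent.LieClassical Cfsg.Agent.LieClassical.OrthForms Cfsg.Agent.LieClassical.OrthCore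
  Cfsg.Agent.LieClassical.OrthTrans Cfsg.Agent.LieClassical.OrthFinite

/-- the seven dimensional space -/
abbrev W7 (K : Type*) := Unit ⊕ (Fin 3 ⊕ Fin 3) → K

/-- the totally singular plane -/
def FF (K : Type*) [Field K] : Submodule K (W7 K) where
  carrier := {w | w (.inl ()) = 0 ∧ ∀ j, w (.inr (.inr j)) = 0}
  zero_mem' := ⟨rfl, fun _ => rfl⟩
  add_mem' := fun {x y} hx hy => ⟨by rw [Pi.add_apply, hx.1, hy.1, add_zero], fun j => by
    rw [Pi.add_apply, hx.2, hy.2, add_zero]⟩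
  smul_mem' := fun c x hx => ⟨by rw [Pi.smul_apply, hx.1, smul_zero], fun j => by
    rw [Pi.smul_apply, hx.2, smul_zero]⟩

theorem mem_FF {K : Type*} [Field K] {w : W7 K} : w ∈ FF K ↔ w (.inl ()) = 0 ∧ ∀ j, w (.inr (.inr j)) = 0 := Iff.rfl

theorem perp_FF {K : Type*} [Field K] {u : W7 K} (h : ∀ w ∈ FF K, QuadraticMap.polar (oddForm 3 K) u w = 0) (j : Fin 3) :
    u (.inr (.inr j)) = 0 := by
  classical
  have h1 := h (Pi.single (.inr (.inl j)) 1) ⟨by simp, fun i => by simp⟩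
  rw [polar_oddForm] at h1
  simpa [Pi.single_apply] using h1

theorem card_W7 (K : Type*) [Fintype K] : Fintype.card (W7 K) = Fintype.card K ^ 7 := by
  rw [Fintype.card_fun]
  simp only [_root_.Fintype.card_sum, _root_.Fintype.card_unique, _root_.Fintype.card_fin, _root_.Nat.reduceAdd]

theorem card_perp_le {K : Type*} [Field K] [Fintype K] [DecidableEq K] (c : K) :
    ((Finset.univ.filter (fun u : W7 K => (∀ j, u (.inr (.inr j)) = 0) ∧ oddForm 3 K u = c)).card) ≤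
      2 * Fintype.card K ^ 3 := by
  classical
  have h1 : (Finset.univ.filter (fun x : K => x ^ 2 = c)).card ≤ 2 := by
    by_contra h
    push Not at h
    obtain ⟨a, b, d, ha, hb, hd, hab, had, hbd⟩ := Finset.two_lt_card_iff.1 h
    simp only [Finset.mem_filter, Finset.mem_univ, true_and] at ha hb hd
    have e1 : (a - b) * (a + b) = 0 := by linear_combination ha - hb
    have e2 : (a - d) * (a + d) = 0 := by linear_combination ha - hd
    have e3 := (mul_eq_zero.1 e1).resolve_left (sub_ne_zero.2 hab)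
    have e4 := (mul_eq_zero.1 e2).resolve_left (sub_ne_zero.2 had)
    exact hbd (by linear_combination e3 - e4)
  have h2 : (Finset.univ.filter (fun u : W7 K => (∀ j, u (.inr (.inr j)) = 0) ∧ oddForm 3 K u = c)).card ≤
      ((Finset.univ.filter (fun x : K => x ^ 2 = c)) ×ˢ (Finset.univ : Finset (Fin 3 → K))).card := by
    refine Finset.card_le_card_of_injOn (fun u => (u (.inl ()), fun j => u (.inr (.inl j)))) ?_ ?_
    · intro u hu
      simp only [Finset.coe_filter, Finset.mem_univ, true_and, Set.mem_ofPred_eq] at hu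
      simp only [Finset.coe_product, Finset.coe_filter, Finset.mem_univ, true_and, Finset.coe_univ, Set.mem_prod,
        Set.mem_ofPred_eq, Set.mem_univ, and_true]
      have h3 := hu.2
      rw [coe_oddForm, quadFormOdd_apply] at h3
      rw [← h3]
      simp [hu.1]
    · intro u hu v hv huv
      simp only [Finset.coe_filter, Finset.mem_univ, true_and, Set.mem_ofPred_eq] at hu hv
      simp only [Prod.mk.injEq] at huv
      funext i
      rcases i with i | i | i
      · exact huv.1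
      · exact congrFun huv.2 i
      · rw [hu.1, hv.1]
  refine h2.trans ?_
  rw [Finset.card_product, Finset.card_univ, Fintype.card_fun, Fintype.card_fin]
  exact Nat.mul_le_mul_right _ h1

section Split

variable {K W : Type*} [Field K] [Fintype K] [DecidableEq K] {R : Type*} [CommSemiring R] {q : W → K} {m : W → ℕ}
  {M : K → ℕ}

theorem split_sum (s : Finset W) (hM : ∀ u ∈ s, m u = M (q u)) (g : W → R) :
    ∑ u ∈ s, (m u : R) * g u = ∑ c : K, (M c : R) * ∑ u ∈ s with q u = c, g u := by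
  rw [← Finset.sum_fiberwise s q]
  refine Finset.sum_congr rfl fun c _ => ?_
  rw [Finset.mul_sum]
  refine Finset.sum_congr rfl fun u hu => ?_
  rw [Finset.mem_filter] at hu
  rw [hM u hu.1, hu.2]

end Split

section Num

variable {K : Type*} [Field K] [Fintype K] {ψ : AddChar K ℂ}

/-- `q ≥ 5` -/
theorem five_aux {q x d : ℝ} (hq5 : 5 ≤ q) (_hx : 0 ≤ x) (hd : 0 ≤ d)
    (h : x * (q ^ 6 - (q - 7) * q ^ 3 - 1) ≤ ((q + 5) * q ^ 3 + 1) * d) : x ≤ 2 / 25 * d := by
  have h6 : (125 : ℝ) ≤ q ^ 3 := by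
    calc (125 : ℝ) = 5 ^ 3 := by norm_num
      _ ≤ q ^ 3 := pow_le_pow_left₀ (by norm_num) hq5 3
  have h8 : 4 ≤ 2 * q ^ 3 - 27 * q - 111 := by
    nlinarith only [hq5, h6, sq_nonneg q]
  have h9 : 25 * ((q + 5) * q ^ 3 + 1) ≤ 2 * (q ^ 6 - (q - 7) * q ^ 3 - 1) := by nlinarith only [h6, h8]
  have h10 : 0 < q ^ 6 - (q - 7) * q ^ 3 - 1 := by nlinarith only [h6, h9]
  have h11 := mul_le_mul_of_nonneg_right h9 hd
  have h12 : x * (q ^ 6 - (q - 7) * q ^ 3 - 1) ≤ (2 / 25 * d) * (q ^ 6 - (q - 7) * q ^ 3 - 1) := by linarith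
  exact le_of_mul_le_mul_right h12 h10

/-- the numerical core, general form -/
theorem num_core_gen (h2 : (2 : K) ≠ 0) (h5 : 3 ≤ Fintype.card K) (hψ : ψ.IsPrimitive) {m : W7 K → ℕ}
    (htr : ∀ u v : W7 K, u ≠ 0 → v ≠ 0 → oddForm 3 K u = oddForm 3 K v → m u = m v) {f : ℕ}
    {D : Finset (W7 K)} (hD : ∀ u ∈ D, ∀ j, u (.inr (.inr j)) = 0) (hf : f = ∑ u ∈ D, m u)
    (h4 : 4 * m 0 ≤ 3 * f) {v : W7 K} (hv : v ≠ 0) :
    ‖∑ u : W7 K, (m u : ℂ) * ψ (QuadraticMap.polar (oddForm 3 K) u v)‖ *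
        ((Fintype.card K : ℝ) ^ 6 - ((Fintype.card K : ℝ) - 7) * (Fintype.card K : ℝ) ^ 3 - 1) ≤
      (((Fintype.card K : ℝ) + 5) * (Fintype.card K : ℝ) ^ 3 + 1) * ∑ u : W7 K, (m u : ℝ) ∧
    (m 0 : ℝ) * ((Fintype.card K : ℝ) ^ 6 - ((Fintype.card K : ℝ) - 7) * (Fintype.card K : ℝ) ^ 3 - 1) ≤
      6 * (Fintype.card K : ℝ) ^ 3 * ∑ u : W7 K, (m u : ℝ) := by
  classical
  set Q := oddForm 3 K with hQdef
  have hQ : Nondeg Q := nondeg_oddForm 3 K h2
  set q : ℝ := (Fintype.card K : ℝ) with hq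
  have hq5 : (3 : ℝ) ≤ q := by
    rw [hq]
    exact_mod_cast h5
  -- the function M
  let M : K → ℕ := fun c => if h : ∃ u : W7 K, u ≠ 0 ∧ Q u = c then m h.choose else 0
  have hM : ∀ u : W7 K, u ≠ 0 → m u = M (Q u) := by
    intro u hu
    have h : ∃ u' : W7 K, u' ≠ 0 ∧ Q u' = Q u := ⟨u, hu, rfl⟩
    show m u = if h : ∃ u' : W7 K, u' ≠ 0 ∧ Q u' = Q u then m h.choose else 0
    rw [dif_pos h]
    exact htr _ _ hu h.choose_spec.1 h.choose_spec.2.symm
  set! S : ℝ := ∑ c : K, (M c : ℝ) with hS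
  have hMn : ∀ c, (0 : ℝ) ≤ (M c : ℝ) := fun c => Nat.cast_nonneg _
  have hcardW : (Fintype.card (W7 K) : ℝ) = q ^ 7 := by
    rw [card_W7]
    push_cast
    rfl
  have hb : (Fintype.card (W7 K) : ℝ) ≤ (q ^ 4) ^ 2 := by
    rw [hcardW, ← pow_mul]
    exact pow_le_pow_right₀ (by linarith only [hq5]) (by norm_num)
  have hb0 : (0 : ℝ) ≤ q ^ 4 := by positivity
  have hq0 : (0 : ℝ) < q := by linarith only [hq5]
  -- the set of nonzero vectors
  set! U : Finset (W7 K) := Finset.univ.erase 0 with hU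
  have hMU : ∀ u ∈ U, m u = M (Q u) := fun u hu => hM u (Finset.ne_of_mem_erase hu)
  -- levels
  have hlev : ∀ c : K, U.filter (fun u => Q u = c) = (Finset.univ.filter (fun u : W7 K => Q u = c)).erase 0 := by
    intro c
    ext u
    simp only [hU, Finset.mem_filter, Finset.mem_erase, Finset.mem_univ]
    (clear * -; itauto)
  have hN : ∀ c : K, q ^ 6 - (q - 1) * q ^ 3 - 1 ≤ ((U.filter (fun u => Q u = c)).card : ℝ) := by
    intro c
    have e1 := card_level_ge (Q := Q) hψ hQ c hb0 hb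
    rw [hcardW, ← hq] at e1
    have e2 : ((Finset.univ.filter (fun u : W7 K => Q u = c)).card : ℝ) ≤ (U.filter (fun u => Q u = c)).card + 1 := by
      rw [hlev]
      have := Finset.pred_card_le_card_erase (s := Finset.univ.filter (fun u : W7 K => Q u = c)) (a := 0)
      have h3 : (Finset.univ.filter (fun u : W7 K => Q u = c)).card ≤
          ((Finset.univ.filter (fun u : W7 K => Q u = c)).erase 0).card + 1 := by omega
      exact_mod_cast h3
    have e3 : q * (q ^ 6 - (q - 1) * q ^ 3) ≤ q * ((Finset.univ.filter (fun u : W7 K => Q u = c)).card : ℝ) := by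
      refine le_trans (le_of_eq ?_) e1
      ring
    have e4 := le_of_mul_le_mul_left e3 hq0
    linarith only [e2, e4]
  have hT : ∀ c : K, ‖∑ u ∈ U with Q u = c, ψ (QuadraticMap.polar Q u v)‖ ≤ (q - 1) * q ^ 3 + 1 := by
    intro c
    have e1 := level_le (Q := Q) hψ hQ c hv hb0 hb
    rw [← hq] at e1
    have e2 : q * ‖∑ u : W7 K with Q u = c, ψ (QuadraticMap.polar Q u v)‖ ≤ q * ((q - 1) * q ^ 3) := by
      refine e1.trans (le_of_eq ?_)
      ring
    have e3 := le_of_mul_le_mul_left e2 hq0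
    rw [hlev]
    by_cases h0 : (0 : W7 K) ∈ Finset.univ.filter (fun u : W7 K => Q u = c)
    · have e4 := Finset.add_sum_erase (Finset.univ.filter (fun u : W7 K => Q u = c))
        (fun u => ψ (QuadraticMap.polar Q u v)) h0
      have e5 : ∑ u ∈ (Finset.univ.filter (fun u : W7 K => Q u = c)).erase 0, ψ (QuadraticMap.polar Q u v) =
          (∑ u : W7 K with Q u = c, ψ (QuadraticMap.polar Q u v)) - ψ (QuadraticMap.polar Q 0 v) := by
        rw [← e4]
        ring
      rw [e5]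
      refine (norm_sub_le _ _).trans ?_
      rw [norm_psi]
      linarith only [e3]
    · rw [Finset.erase_eq_of_notMem h0]
      linarith only [e3]
  -- the total
  have hd : (∑ u : W7 K, (m u : ℝ)) = m 0 + ∑ c : K, (M c : ℝ) * ((U.filter (fun u => Q u = c)).card : ℝ) := by
    rw [← Finset.add_sum_erase _ _ (Finset.mem_univ (0 : W7 K))]
    congr 1
    have := split_sum (R := ℝ) U hMU (fun _ => 1)
    simp only [mul_one, Finset.sum_const, nsmul_eq_mul] at this
    exact this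
  have hd1 : (m 0 : ℝ) + (q ^ 6 - (q - 1) * q ^ 3 - 1) * S ≤ ∑ u : W7 K, (m u : ℝ) := by
    rw [hd, hS, Finset.mul_sum]
    refine add_le_add le_rfl (Finset.sum_le_sum fun c _ => ?_)
    rw [mul_comm]
    exact mul_le_mul_of_nonneg_left (hN c) (hMn c)
  -- the fixed space of F
  have hf1 : (f : ℝ) ≤ m 0 + 2 * q ^ 3 * S := by
    have e1 : f ≤ ∑ u : W7 K with (∀ j, u (.inr (.inr j)) = 0), m u := by
      rw [hf]
      refine Finset.sum_le_sum_of_subset fun u hu => ?_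
      rw [Finset.mem_filter]
      exact ⟨Finset.mem_univ _, hD u hu⟩
    set P : Finset (W7 K) := Finset.univ.filter (fun u : W7 K => ∀ j, u (.inr (.inr j)) = 0) with hP
    have e2 : (0 : W7 K) ∈ P := by
      rw [hP, Finset.mem_filter]
      exact ⟨Finset.mem_univ _, fun j => rfl⟩
    have e3 : (∑ u ∈ P, (m u : ℝ)) = m 0 + ∑ u ∈ P.erase 0, (m u : ℝ) * 1 := by
      rw [← Finset.add_sum_erase _ _ e2]
      simp only [mul_one]
    rw [split_sum (P.erase 0) (fun u hu => hM u (Finset.ne_of_mem_erase hu))] at e3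
    have e4 : (f : ℝ) ≤ ∑ u ∈ P, (m u : ℝ) := by exact_mod_cast e1
    refine e4.trans ?_
    rw [e3, hS, Finset.mul_sum]
    refine add_le_add le_rfl (Finset.sum_le_sum fun c _ => ?_)
    rw [mul_comm]
    refine mul_le_mul_of_nonneg_right ?_ (hMn c)
    rw [Finset.sum_const, nsmul_eq_mul, mul_one]
    have e5 : ((P.erase 0).filter (fun u => Q u = c)).card ≤ 2 * Fintype.card K ^ 3 := by
      refine le_trans (Finset.card_le_card ?_) (card_perp_le c)
      intro u hu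
      simp only [hP, Finset.mem_filter, Finset.mem_erase, Finset.mem_univ, true_and] at hu ⊢
      exact ⟨hu.1.2, hu.2⟩
    rw [hq]
    exact_mod_cast e5
  -- the character value
  have hx : ‖∑ u : W7 K, (m u : ℂ) * ψ (QuadraticMap.polar Q u v)‖ ≤ m 0 + ((q - 1) * q ^ 3 + 1) * S := by
    rw [← Finset.add_sum_erase _ _ (Finset.mem_univ (0 : W7 K)), split_sum (Finset.univ.erase 0) hMU]
    refine (norm_add_le _ _).trans (add_le_add ?_ ?_)
    · rw [norm_mul, norm_psi, mul_one, Complex.norm_natCast]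
    · refine (norm_sum_le _ _).trans ?_
      rw [hS, Finset.mul_sum]
      refine Finset.sum_le_sum fun c _ => ?_
      rw [norm_mul, Complex.norm_natCast, mul_comm]
      exact mul_le_mul_of_nonneg_right (hT c) (hMn c)
  have hS0 : 0 ≤ S := Finset.sum_nonneg fun c _ => hMn c
  have h4' : 4 * (m 0 : ℝ) ≤ 3 * f := by exact_mod_cast h4
  have hm0 : (m 0 : ℝ) ≤ 6 * q ^ 3 * S := by linarith only [hf1, h4']
  have h27 : (27 : ℝ) ≤ q ^ 3 := by
    calc (27 : ℝ) = 3 ^ 3 := by norm_num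
      _ ≤ q ^ 3 := pow_le_pow_left₀ (by norm_num) hq5 3
  have h9 : (9 : ℝ) ≤ q ^ 2 := by
    calc (9 : ℝ) = 3 ^ 2 := by norm_num
      _ ≤ q ^ 2 := pow_le_pow_left₀ (by norm_num) hq5 2
  have hNT : (q - 1) * q ^ 3 + 1 ≤ q ^ 6 - (q - 1) * q ^ 3 - 1 := by
    have e1 : (9 : ℝ) * q ≤ q ^ 3 := by nlinarith only [hq5, _root_.sq_nonneg (q : ℝ)]
    nlinarith only [hq5, hb0, h9]
  set N : ℝ := q ^ 6 - (q - 1) * q ^ 3 - 1 with hNdef
  set T : ℝ := (q - 1) * q ^ 3 + 1 with hTdef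
  set D : ℝ := ∑ u : W7 K, (m u : ℝ) with hDdef
  have hNe : q ^ 6 - (q - 7) * q ^ 3 - 1 = N + 6 * q ^ 3 := by rw [hNdef]; ring
  have hTe : (q + 5) * q ^ 3 + 1 = T + 6 * q ^ 3 := by rw [hTdef]; ring
  have hT0 : 0 ≤ T := by
    rw [hTdef]
    nlinarith only [hq5, h27]
  have hN0 : 0 ≤ N := hT0.trans hNT
  have h60 : 0 ≤ 6 * q ^ 3 := by positivity
  have hk : 0 ≤ (N - T) * (6 * q ^ 3 * S - m 0) := mul_nonneg (sub_nonneg.2 hNT) (sub_nonneg.2 hm0)
  rw [hNe, hTe]
  constructor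
  · calc _ ≤ (m 0 + T * S) * (N + 6 * q ^ 3) := mul_le_mul_of_nonneg_right hx (by linarith only [h27, hNT, hT0])
      _ ≤ (T + 6 * q ^ 3) * (m 0 + N * S) := by linarith only [hk]
      _ ≤ (T + 6 * q ^ 3) * D := mul_le_mul_of_nonneg_left hd1 (by linarith only [h27, hT0])
  · calc (m 0 : ℝ) * (N + 6 * q ^ 3) ≤ 6 * q ^ 3 * (m 0 + N * S) := by
          have := mul_le_mul_of_nonneg_right hm0 hN0
          linarith only [this]
      _ ≤ 6 * q ^ 3 * D := mul_le_mul_of_nonneg_left hd1 h60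

end Num

/-- **abstract ratio bound, general form** -/
theorem ratio_bound_gen {K : Type*} [Field K] [Finite K] (h2 : (2 : K) ≠ 0) (h5 : 3 ≤ Nat.card K) {G : Type*} [Group G]
    {e : Multiplicative (W7 K) →* G}
    (act : ∀ h ∈ E (oddForm 3 K), ∃ g : G, ∀ w : W7 K,
      g * e (Multiplicative.ofAdd w) * g⁻¹ = e (Multiplicative.ofAdd (h w)))
    {E1 E2 E3 : Subgroup G} {s1 n s3 c : G}
    (h1 : E1 = e.range.map (MulAut.conj s1).toMonoidHom) (hn : e.range = e.range.map (MulAut.conj n).toMonoidHom)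
    (hE2 : E2 = E1.map (MulAut.conj n).toMonoidHom) (hE3 : E3 = E1.map (MulAut.conj s3).toMonoidHom)
    (hF1 : ∀ w ∈ FF K, e (Multiplicative.ofAdd w) ∈ E1)
    (hc1 : ∀ w ∈ FF K, c * e (Multiplicative.ofAdd w) * c⁻¹ ∈ E1)
    (hc3 : ∀ w ∈ FF K, c * e (Multiplicative.ofAdd w) * c⁻¹ ∈ E3)
    (ht : e.range ⊔ E1 ⊔ E2 ⊔ E3 = ⊤) {d : ℕ} (ρ : Representation ℂ G (Fin d → ℂ)) (hirr : ρ.IsIrreducible)
    (hρ : ρ.character ≠ fun _ => 1) {w : W7 K} (hw : w ≠ 0) :
    ‖ρ.character (e (Multiplicative.ofAdd w))‖ *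
        ((Nat.card K : ℝ) ^ 6 - ((Nat.card K : ℝ) - 7) * (Nat.card K : ℝ) ^ 3 - 1) ≤
      (((Nat.card K : ℝ) + 5) * (Nat.card K : ℝ) ^ 3 + 1) * d ∧
    (cd ρ e.range : ℝ) * ((Nat.card K : ℝ) ^ 6 - ((Nat.card K : ℝ) - 7) * (Nat.card K : ℝ) ^ 3 - 1) ≤
      6 * (Nat.card K : ℝ) ^ 3 * d := by
  classical
  have : Fintype K := Fintype.ofFinite K
  rw [Nat.card_eq_fintype_card] at h5 ⊢
  obtain ⟨ψ, hψ1⟩ : ∃ ψ : AddChar K ℂ, ψ ≠ 1 := by
    obtain ⟨ψ, hψ⟩ := (AddChar.exists_apply_ne_zero (α := K)).2 (one_ne_zero)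
    refine ⟨ψ, fun h => hψ ?_⟩
    rw [h]
    rfl
  have hψ : ψ.IsPrimitive := AddChar.IsPrimitive.of_ne_one hψ1
  have hQ : Nondeg (oddForm 3 K) := nondeg_oddForm 3 K h2
  have hG : Good (oddForm 3 K) := good_of_finite hQ (by simp)
  have htr : ∀ u v : W7 K, u ≠ 0 → v ≠ 0 → oddForm 3 K u = oddForm 3 K v →
      mu ρ e ψ (oddForm 3 K) u = mu ρ e ψ (oddForm 3 K) v := by
    intro u v hu hv huv
    obtain ⟨g, hg, hgv⟩ := hG.trans_norm hu hv huv
    obtain ⟨x, hx⟩ := act g hg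
    rw [← hgv]
    exact (mu_inv ρ e (E_le_O hg) hx u).symm
  have h0 : cd ρ e.range = mu ρ e ψ (oddForm 3 K) 0 := by
    have e1 := cd_range ρ e
    have e2 := mu_eq ρ e ψ (Q := oddForm 3 K) 0
    have e3 : (Fintype.card (Multiplicative (W7 K)) : ℂ) = (Fintype.card (W7 K) : ℂ) := by
      rw [Fintype.card_multiplicative]
    rw [e3] at e1
    have e4 : ∑ h : Multiplicative (W7 K), ρ.character (e h) =
        ∑ w : W7 K, ρ.character (e (Multiplicative.ofAdd w)) :=
      (Equiv.sum_comp Multiplicative.ofAdd (fun h : Multiplicative (W7 K) => ρ.character (e h))).symm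
    rw [e4] at e1
    have e5 : (cd ρ e.range : ℂ) = mu ρ e ψ (oddForm 3 K) 0 := by
      rw [e1, e2]
      (with_reducible congr 1)
      refine Finset.sum_congr rfl fun w _ => ?_
      rw [QuadraticMap.polar_zero_left, neg_zero, AddChar.map_zero_eq_one, one_mul]
    exact_mod_cast e5
  have hfd := four_le ρ (F0 := (eF e (FF K)).range) h1 hn hE2 hE3 (by
      rintro _ ⟨w, rfl⟩
      exact ⟨_, rfl⟩) (by
      rintro _ ⟨w, rfl⟩
      exact hF1 _ w.toAdd.2) (c := c) (by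
      rintro _ ⟨_, ⟨w, rfl⟩, rfl⟩
      exact hc1 _ w.toAdd.2) (by
      rintro _ ⟨_, ⟨w, rfl⟩, rfl⟩
      exact hc3 _ w.toAdd.2) ht (cd_top ρ hirr hρ)
  rw [h0] at hfd
  have hcore := num_core_gen h2 h5 hψ htr (D := Finset.univ.filter
      (fun u : W7 K => ∀ w ∈ FF K, QuadraticMap.polar (oddForm 3 K) u w = 0)) (by
      intro u hu
      rw [Finset.mem_filter] at hu
      exact perp_FF hu.2) (cd_eF ρ e hψ hQ (FF K)) hfd hw
  rw [← chi_eq ρ e hψ hQ w] at hcore
  have e6 := deg_eq ρ e hψ hQ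
  rw [Representation.char_one, Module.finrank_fintype_fun_eq_card, Fintype.card_fin] at e6
  have e7 : ((∑ u : W7 K, (mu ρ e ψ (oddForm 3 K) u : ℝ) : ℝ) : ℂ) = ((d : ℝ) : ℂ) := by
    push_cast
    exact e6.symm
  have e8 : (∑ u : W7 K, (mu ρ e ψ (oddForm 3 K) u : ℝ)) = (d : ℝ) := by exact_mod_cast e7
  rw [e8] at hcore
  rw [h0]
  exact hcore

/-- **abstract ratio bound** -/
theorem ratio_bound {K : Type*} [Field K] [Finite K] (h2 : (2 : K) ≠ 0) (h5 : 5 ≤ Nat.card K) {G : Type*} [Group G]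
    {e : Multiplicative (W7 K) →* G}
    (act : ∀ h ∈ E (oddForm 3 K), ∃ g : G, ∀ w : W7 K,
      g * e (Multiplicative.ofAdd w) * g⁻¹ = e (Multiplicative.ofAdd (h w)))
    {E1 E2 E3 : Subgroup G} {s1 n s3 c : G}
    (h1 : E1 = e.range.map (MulAut.conj s1).toMonoidHom) (hn : e.range = e.range.map (MulAut.conj n).toMonoidHom)
    (hE2 : E2 = E1.map (MulAut.conj n).toMonoidHom) (hE3 : E3 = E1.map (MulAut.conj s3).toMonoidHom)
    (hF1 : ∀ w ∈ FF K, e (Multiplicative.ofAdd w) ∈ E1)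
    (hc1 : ∀ w ∈ FF K, c * e (Multiplicative.ofAdd w) * c⁻¹ ∈ E1)
    (hc3 : ∀ w ∈ FF K, c * e (Multiplicative.ofAdd w) * c⁻¹ ∈ E3)
    (ht : e.range ⊔ E1 ⊔ E2 ⊔ E3 = ⊤) {d : ℕ} (ρ : Representation ℂ G (Fin d → ℂ)) (hirr : ρ.IsIrreducible)
    (hρ : ρ.character ≠ fun _ => 1) {w : W7 K} (hw : w ≠ 0) :
    ‖ρ.character (e (Multiplicative.ofAdd w))‖ ≤ 2 / 25 * d := by
  refine five_aux (by exact_mod_cast h5) (norm_nonneg _) (Nat.cast_nonneg _)
    (ratio_bound_gen h2 (by omega) act h1 hn hE2 hE3 hF1 hc1 hc3 ht ρ hirr hρ hw).1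

end Cfsg.Agent.H572.FR
end

-- part: H224/FR/RThree
section
/-!
# Four conjugate elementary abelian subgroups of `F₄(q)` (ratio bound of helper572, box R3)

`X r` is the root subgroup of the root with number `r` (`-r` has the number `47 - r`), `EE L = ⨆ r ∈ L, X r`.
-/

set_option autoImplicit false
set_option linter.unusedSectionVars false

namespace Cfsg.Agent.H224.FR

open CoxeterSystem Cfsg.Agent.ChevalleyStructure.CoxeterGeom Cfsg.Agent.Tits.Roots Cfsg.Agent.Tits.Core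
  Cfsg.Agent.Tits.Exchange Cfsg.Agent.Nodes.Reps Cfsg.Agent.Nodes.BNOf Cfsg.Agent.Nodes.StabComb
  Cfsg.Agent.Nodes.Bruhat Cfsg.Agent.Nodes.OppDec Cfsg.Agent.Nodes.LeviDec Cfsg.Agent.Nodes.NormX
  Cfsg.Agent.Nodes.Coroot Cfsg.Agent.Nodes.RGDChev Cfsg.Agent.KFacts.RgdPar Cfsg.Agent.KFacts.RgdTI
  Cfsg.Agent.KFacts.RgdCent Cfsg.Agent.KFacts.RgdChevCoord Cfsg.Agent.Nodes.ChevCls
  Cfsg.Agent.OddHalf.NI.ModelChev Cfsg.Agent.H225.PPow Cfsg.Agent.KFacts.RgdEx Cfsg.Agent.Nodes.PosPair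
  Cfsg.Agent.KFacts.RgdSL Cfsg.Agent.KFacts.RgdOdd
open Cfsg.Lie Cfsg.Agent.ChevalleyStructure Cfsg.Agent.ChevalleyStructure.Elts
  Cfsg.Agent.ChevalleyStructure.RootVec Cfsg.Agent.ChevalleyStructure.NPerm
  Cfsg.Agent.ChevalleyStructure.CoxeterGeomTypes
open Cfsg.Agent.H701.F43.Cent (hF cF nroots)

universe u

variable (K : Type u) [Field K]

/-- the root subgroup with number `r` -/
abbrev X (r : ℕ) : Subgroup ↥(chevF4.group K) := XX chevF4 4 K (vec chevF4 4 r)

/-- the join of the root subgroups with numbers in `L` -/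
def EE (L : List ℕ) : Subgroup ↥(chevF4.group K) := ⨆ r ∈ L, X K r

variable {K}

theorem mem_X {r : ℕ} (hr : r < 48) (y : ↥(chevF4.group K)) : y ∈ X K r ↔ ∃ a, y = xc hF (vec chevF4 4 r) a :=
  mem_XX hF (by rw [nroots]; exact hr) y

theorem X_le_EE {L : List ℕ} {r : ℕ} (h : r ∈ L) : X K r ≤ EE K L := le_iSup₂_of_le r h le_rfl

theorem EE_le {L : List ℕ} {H : Subgroup ↥(chevF4.group K)} (h : ∀ r ∈ L, X K r ≤ H) : EE K L ≤ H := iSup₂_le h

theorem EE_congr {L L' : List ℕ} (h : ∀ r, r ∈ L ↔ r ∈ L') : EE K L = EE K L' :=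
  le_antisymm (EE_le fun r hr => X_le_EE ((h r).1 hr)) (EE_le fun r hr => X_le_EE ((h r).2 hr))

theorem isRoot {r : ℕ} (hr : r < 48) : IsRoot cF hF.isCartan (vec chevF4 4 r) :=
  (isRoot_iff hF cF _).2 ⟨r, by rw [nroots]; exact hr, rfl⟩

variable [Finite K]

section

variable (p : ℕ) [Fact p.Prime] [CharP K p]

/-- conjugation by a representative of a word -/
theorem cj_X {ω : List (Fin 4)} {g : ↥(chevF4.group K)}
    (hg : Rp cF (rgd (K := K) hF cF p).nsys (cF.wordProd ω) g) {r : ℕ} (hr : r < 48) :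
    cj g (X K r) = X K (wact chevF4 ω r) := by
  rw [X, (rgd (K := K) hF cF p).conj_rp hg (isRoot hr), rep_word hF cF ω (by rw [nroots]; exact hr)]

theorem cj_EE {ω : List (Fin 4)} {g : ↥(chevF4.group K)}
    (hg : Rp cF (rgd (K := K) hF cF p).nsys (cF.wordProd ω) g) {L : List ℕ} (hL : ∀ r ∈ L, r < 48) :
    cj g (EE K L) = EE K (L.map (wact chevF4 ω)) := by
  rw [EE, cj_iSup]
  apply le_antisymm
  · refine iSup_le fun r => ?_
    rw [cj_iSup]
    refine iSup_le fun hr => ?_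
    rw [cj_X p hg (hL r hr)]
    exact X_le_EE (List.mem_map_of_mem hr)
  · refine EE_le fun s hs => ?_
    obtain ⟨r, hr, rfl⟩ := List.mem_map.1 hs
    rw [← cj_X p hg (hL r hr)]
    refine le_iSup_of_le r ?_
    rw [cj_iSup]
    exact le_iSup_of_le hr le_rfl


/-- `⟨y, x^∨⟩` for a root `x` given by a word -/
theorem cpr_word (ω : List (Fin 4)) (i : Fin 4) {b : ℕ} (hb : b < 48) :
    cpr cF hF.isCartan (vec chevF4 4 b) (vec chevF4 4 (wact chevF4 ω (chevF4.simple i))) =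
      chevF4.cartan i (wact chevF4 ω.reverse b) := by
  have hb' : b < chevF4.nroots := by rw [nroots]; exact hb
  have hr : IsRoot cF hF.isCartan (vec chevF4 4 b) := isRoot hb
  have e : vec chevF4 4 (wact chevF4 ω (chevF4.simple i)) = rep cF hF.isCartan (cF.wordProd ω) (sr i) := by
    rw [← vec_simple hF i, rep_word hF cF _ (RootVec.simple_lt hF.checked (lt_rank hF i))]
  have h1 : cpr cF hF.isCartan (rep cF hF.isCartan (cF.wordProd ω)⁻¹ (vec chevF4 4 b)) (sr i) =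
      cpr cF hF.isCartan (vec chevF4 4 b) (vec chevF4 4 (wact chevF4 ω (chevF4.simple i))) := by
    rw [cpr_rep_left _ _ (isRoot_sr cF hF.isCartan i), inv_inv, e]
  rw [← h1, ← wordProd_reverse, rep_word hF cF _ hb', Cfsg.Agent.Nodes.ChevCls.cpr_vec hF cF i (wact_lt hF _ hb')]

theorem neg_eq {r : ℕ} (hr : r < 48) : -vec chevF4 4 r = vec chevF4 4 (47 - r) := by
  have h : ∀ r < 48, chevF4.neg r = 47 - r := by decide +kernel
  rw [← h r hr, vec_neg hF (by rw [nroots]; exact hr)]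

include p in
/-- one reflection -/
theorem step (ω : List (Fin 4)) (i : Fin 4) {r b t : ℕ} (hr : wact chevF4 ω (chevF4.simple i) = r) (hr' : r < 48)
    (hb : b < 48) (ht : vec chevF4 4 t = vec chevF4 4 b - chevF4.cartan i (wact chevF4 ω.reverse b) • vec chevF4 4 r)
    {H : Subgroup ↥(chevF4.group K)} (h1 : X K r ≤ H) (h2 : X K (47 - r) ≤ H) (h3 : X K b ≤ H) : X K t ≤ H := by
  have R := rgd (K := K) hF cF p
  have hr2 : r < chevF4.nroots := by rw [nroots]; exact hr'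
  have hu : xc hF (vec chevF4 4 r) (1 : K) ∈ X K r := (mem_X hr' _).2 ⟨1, rfl⟩
  have hu1 : xc hF (vec chevF4 4 r) (1 : K) ≠ (1 : ↥(chevF4.group K)) :=
    ((coords (K := K) hF cF p).coord _ (isRoot hr')).ne_one one_ne_zero
  obtain ⟨s, hs, a, ha, c, hc, m, hm, he⟩ := exists_mu R (isRoot hr') hu hu1
  rw [neg_eq hr'] at ha hc
  have hmH : m ∈ H := by
    rw [he]
    exact mul_mem (mul_mem (h2 ha) (h1 hu)) (h2 hc)
  have h4 : cj m (X K b) = X K t := by
    rw [X, R.conj_rp hm (isRoot hb), hs, X, ht, ← hr, cpr_word ω i hb]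
  rw [← h4, ← cj_eq_of_mem hmH]
  exact cj_mono m h3

end

/-- the four sets of roots -/
def L0 : List ℕ := [20, 2, 16, 17, 43, 26, 25]
def L1 : List ℕ := [7, 0, 1, 15, 2, 16, 17]
def L2 : List ℕ := [39, 25, 26, 43, 32, 46, 47]
def L3 : List ℕ := [8, 4, 21, 22, 0, 1, 15]

theorem top_eq : EE K L0 ⊔ EE K L1 ⊔ EE K L2 ⊔ EE K L3 = ⊤ := by
  obtain ⟨p, hpc⟩ := CharP.exists K
  have : Fact p.Prime := ⟨CharP.char_is_prime K p⟩
  set H : Subgroup ↥(chevF4.group K) := EE K L0 ⊔ EE K L1 ⊔ EE K L2 ⊔ EE K L3 with hH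
  have a0 : ∀ r ∈ L0, X K r ≤ H := fun r h =>
    le_trans (X_le_EE h) (le_trans le_sup_left (le_trans le_sup_left le_sup_left))
  have a1 : ∀ r ∈ L1, X K r ≤ H := fun r h =>
    le_trans (X_le_EE h) (le_trans le_sup_right (le_trans le_sup_left le_sup_left))
  have a2 : ∀ r ∈ L2, X K r ≤ H := fun r h => le_trans (X_le_EE h) (le_trans le_sup_right le_sup_left)
  have a3 : ∀ r ∈ L3, X K r ≤ H := fun r h => le_trans (X_le_EE h) le_sup_right
  have x20 : X K 20 ≤ H := a0 20 (by decide)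
  have x2 : X K 2 ≤ H := a0 2 (by decide)
  have x16 : X K 16 ≤ H := a0 16 (by decide)
  have x17 : X K 17 ≤ H := a0 17 (by decide)
  have x43 : X K 43 ≤ H := a0 43 (by decide)
  have x26 : X K 26 ≤ H := a0 26 (by decide)
  have x25 : X K 25 ≤ H := a0 25 (by decide)
  have x7 : X K 7 ≤ H := a1 7 (by decide)
  have x0 : X K 0 ≤ H := a1 0 (by decide)
  have x1 : X K 1 ≤ H := a1 1 (by decide)
  have x15 : X K 15 ≤ H := a1 15 (by decide)
  have x39 : X K 39 ≤ H := a2 39 (by decide)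
  have x32 : X K 32 ≤ H := a2 32 (by decide)
  have x46 : X K 46 ≤ H := a2 46 (by decide)
  have x47 : X K 47 ≤ H := a2 47 (by decide)
  have x8 : X K 8 ≤ H := a3 8 (by decide)
  have x4 : X K 4 ≤ H := a3 4 (by decide)
  have x21 : X K 21 ≤ H := a3 21 (by decide)
  have x22 : X K 22 ≤ H := a3 22 (by decide)
  have x24 : X K 24 ≤ H := step p [3, 2, 1, 2, 3, 0, 1, 2] 2 (r := 0) (b := 1) (by decide +kernel) (by norm_num) (by norm_num)
    (by decide +kernel) x0 x47 x1
  have x31 : X K 31 ≤ H := step p [3, 2, 1, 2, 3, 0, 1, 2] 2 (r := 0) (b := 4) (by decide +kernel) (by norm_num) (by norm_num)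
    (by decide +kernel) x0 x47 x4
  have x36 : X K 36 ≤ H := step p [3, 2, 1, 2, 3, 0, 1, 2] 2 (r := 0) (b := 7) (by decide +kernel) (by norm_num) (by norm_num)
    (by decide +kernel) x0 x47 x7
  have x38 : X K 38 ≤ H := step p [3, 2, 1, 2, 3, 0, 1, 2] 2 (r := 0) (b := 8) (by decide +kernel) (by norm_num) (by norm_num)
    (by decide +kernel) x0 x47 x8
  have x42 : X K 42 ≤ H := step p [3, 2, 1, 2, 3, 0, 1, 2] 2 (r := 0) (b := 15) (by decide +kernel) (by norm_num) (by norm_num)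
    (by decide +kernel) x0 x47 x15
  have x45 : X K 45 ≤ H := step p [3, 2, 1, 2, 3, 0, 1, 2] 2 (r := 0) (b := 21) (by decide +kernel) (by norm_num) (by norm_num)
    (by decide +kernel) x0 x47 x21
  have x5 : X K 5 ≤ H := step p [3, 2, 1, 2, 3, 0, 1, 2] 2 (r := 0) (b := 32) (by decide +kernel) (by norm_num) (by norm_num)
    (by decide +kernel) x0 x47 x32
  have x9 : X K 9 ≤ H := step p [3, 2, 1, 2, 3, 0, 1, 2] 2 (r := 0) (b := 39) (by decide +kernel) (by norm_num) (by norm_num)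
    (by decide +kernel) x0 x47 x39
  have x23 : X K 23 ≤ H := step p [3, 2, 1, 2, 3, 0, 1, 2] 2 (r := 0) (b := 46) (by decide +kernel) (by norm_num) (by norm_num)
    (by decide +kernel) x0 x47 x46
  have x30 : X K 30 ≤ H := step p [2, 1, 2, 3, 0, 1, 2] 2 (r := 1) (b := 4) (by decide +kernel) (by norm_num) (by norm_num)
    (by decide +kernel) x1 x46 x4
  have x35 : X K 35 ≤ H := step p [2, 1, 2, 3, 0, 1, 2] 2 (r := 1) (b := 7) (by decide +kernel) (by norm_num) (by norm_num)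
    (by decide +kernel) x1 x46 x7
  have x37 : X K 37 ≤ H := step p [2, 1, 2, 3, 0, 1, 2] 2 (r := 1) (b := 8) (by decide +kernel) (by norm_num) (by norm_num)
    (by decide +kernel) x1 x46 x8
  have x41 : X K 41 ≤ H := step p [2, 1, 2, 3, 0, 1, 2] 2 (r := 1) (b := 15) (by decide +kernel) (by norm_num) (by norm_num)
    (by decide +kernel) x1 x46 x15
  have x6 : X K 6 ≤ H := step p [2, 1, 2, 3, 0, 1, 2] 2 (r := 1) (b := 32) (by decide +kernel) (by norm_num) (by norm_num)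
    (by decide +kernel) x1 x46 x32
  have x10 : X K 10 ≤ H := step p [2, 1, 2, 3, 0, 1, 2] 2 (r := 1) (b := 39) (by decide +kernel) (by norm_num) (by norm_num)
    (by decide +kernel) x1 x46 x39
  have x34 : X K 34 ≤ H := step p [1, 2, 3, 0, 1, 2] 2 (r := 2) (b := 7) (by decide +kernel) (by norm_num) (by norm_num)
    (by decide +kernel) x2 x45 x7
  have x44 : X K 44 ≤ H := step p [1, 2, 3, 0, 1, 2] 2 (r := 2) (b := 20) (by decide +kernel) (by norm_num) (by norm_num)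
    (by decide +kernel) x2 x45 x20
  have x33 : X K 33 ≤ H := step p [2, 3, 0, 1, 2] 2 (r := 4) (b := 8) (by decide +kernel) (by norm_num) (by norm_num)
    (by decide +kernel) x4 x43 x8
  have x3 : X K 3 ≤ H := step p [2, 3, 0, 1, 2] 2 (r := 4) (b := 20) (by decide +kernel) (by norm_num) (by norm_num)
    (by decide +kernel) x4 x43 x20
  have x11 : X K 11 ≤ H := step p [2, 3, 0, 1, 2] 2 (r := 4) (b := 35) (by decide +kernel) (by norm_num) (by norm_num)
    (by decide +kernel) x4 x43 x35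
  have x12 : X K 12 ≤ H := step p [2, 3, 0, 1, 2] 2 (r := 4) (b := 36) (by decide +kernel) (by norm_num) (by norm_num)
    (by decide +kernel) x4 x43 x36
  have x14 : X K 14 ≤ H := step p [2, 3, 0, 1, 2] 2 (r := 4) (b := 39) (by decide +kernel) (by norm_num) (by norm_num)
    (by decide +kernel) x4 x43 x39
  have x27 : X K 27 ≤ H := step p [2, 3, 0, 1, 2] 2 (r := 4) (b := 44) (by decide +kernel) (by norm_num) (by norm_num)
    (by decide +kernel) x4 x43 x44
  have x13 : X K 13 ≤ H := step p [2, 3, 1, 2, 1, 0] 0 (r := 8) (b := 3) (by decide +kernel) (by norm_num) (by norm_num)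
    (by decide +kernel) x8 x39 x3
  have x28 : X K 28 ≤ H := step p [2, 3, 1, 2, 1, 0] 0 (r := 8) (b := 11) (by decide +kernel) (by norm_num) (by norm_num)
    (by decide +kernel) x8 x39 x11
  have x29 : X K 29 ≤ H := step p [2, 3, 1, 2, 1, 0] 0 (r := 8) (b := 12) (by decide +kernel) (by norm_num) (by norm_num)
    (by decide +kernel) x8 x39 x12
  have x40 : X K 40 ≤ H := step p [2, 3, 1, 2, 1, 0] 0 (r := 8) (b := 27) (by decide +kernel) (by norm_num) (by norm_num)
    (by decide +kernel) x8 x39 x27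
  have x18 : X K 18 ≤ H := step p [2, 3, 1, 2, 1, 0] 0 (r := 8) (b := 35) (by decide +kernel) (by norm_num) (by norm_num)
    (by decide +kernel) x8 x39 x35
  have x19 : X K 19 ≤ H := step p [2, 3, 1, 2, 1, 0] 0 (r := 8) (b := 36) (by decide +kernel) (by norm_num) (by norm_num)
    (by decide +kernel) x8 x39 x36
  have all : ∀ r < 48, X K r ≤ H := by
    intro r hr
    interval_cases r
    · exact x0
    · exact x1
    · exact x2
    · exact x3
    · exact x4
    · exact x5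
    · exact x6
    · exact x7
    · exact x8
    · exact x9
    · exact x10
    · exact x11
    · exact x12
    · exact x13
    · exact x14
    · exact x15
    · exact x16
    · exact x17
    · exact x18
    · exact x19
    · exact x20
    · exact x21
    · exact x22
    · exact x23
    · exact x24
    · exact x25
    · exact x26
    · exact x27
    · exact x28
    · exact x29
    · exact x30
    · exact x31
    · exact x32
    · exact x33
    · exact x34
    · exact x35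
    · exact x36
    · exact x37
    · exact x38
    · exact x39
    · exact x40
    · exact x41
    · exact x42
    · exact x43
    · exact x44
    · exact x45
    · exact x46
    · exact x47
  rw [eq_top_iff, ← G1_eq_top hF (K := K) cF]
  refine RGD.Sup_le fun x hx => ?_
  obtain ⟨r, hr, rfl⟩ := (isRoot_iff hF cF x).1 hx
  rw [nroots] at hr
  exact all r hr

def W1 : List (Fin 4) := [1, 2, 3, 1, 2, 0]
def WN : List (Fin 4) := [2, 1, 2, 3, 2, 1, 2, 0, 1, 2, 3, 1, 2, 0, 1, 2]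
def W3 : List (Fin 4) := [1]
def WC : List (Fin 4) := [2, 3, 0, 1, 2, 0]

theorem t1 : L0.map (wact chevF4 W1) = [7, 0, 1, 2, 17, 16, 15] := by decide +kernel
theorem t2 : L0.map (wact chevF4 WN) = [20, 25, 26, 43, 17, 16, 2] := by decide +kernel
theorem t3 : L1.map (wact chevF4 WN) = [39, 32, 46, 47, 25, 26, 43] := by decide +kernel
theorem t4 : L1.map (wact chevF4 W3) = [8, 0, 1, 15, 4, 21, 22] := by decide +kernel
theorem t5 : ([2, 16, 17] : List ℕ).map (wact chevF4 WC) = [0, 1, 15] := by decide +kernel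

theorem mem_iff_of_sub {L L' : List ℕ} (h : (L.all fun x => L'.contains x) = true)
    (h' : (L'.all fun x => L.contains x) = true) (r : ℕ) : r ∈ L ↔ r ∈ L' := by
  rw [List.all_eq_true] at h h'
  exact ⟨fun hr => by simpa using h r hr, fun hr => by simpa using h' r hr⟩

/-- **box R3** -/
theorem rthree : ∃ s1 n s3 c : ↥(chevF4.group K),
    EE K L1 = (EE K L0).map (MulAut.conj s1).toMonoidHom ∧
    EE K L0 = (EE K L0).map (MulAut.conj n).toMonoidHom ∧
    EE K L2 = (EE K L1).map (MulAut.conj n).toMonoidHom ∧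
    EE K L3 = (EE K L1).map (MulAut.conj s3).toMonoidHom ∧
    (∀ r ∈ [2, 16, 17], (X K r).map (MulAut.conj c).toMonoidHom ≤ X K 0 ⊔ X K 1 ⊔ X K 15) ∧
    EE K L0 ⊔ EE K L1 ⊔ EE K L2 ⊔ EE K L3 = ⊤ := by
  obtain ⟨p, hpc⟩ := CharP.exists K
  have : Fact p.Prime := ⟨CharP.char_is_prime K p⟩
  obtain ⟨s1, h1⟩ := exists_rp cF (rgd (K := K) hF cF p).nsys (cF.wordProd W1)
  obtain ⟨n, h2⟩ := exists_rp cF (rgd (K := K) hF cF p).nsys (cF.wordProd WN)
  obtain ⟨s3, h3⟩ := exists_rp cF (rgd (K := K) hF cF p).nsys (cF.wordProd W3)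
  obtain ⟨c, h4⟩ := exists_rp cF (rgd (K := K) hF cF p).nsys (cF.wordProd WC)
  refine ⟨s1, n, s3, c, ?_, ?_, ?_, ?_, ?_, top_eq⟩
  · refine Eq.trans ?_ (cj_EE p h1 (L := L0) (by decide)).symm
    rw [t1]; exact EE_congr (mem_iff_of_sub (by decide) (by decide))
  · refine Eq.trans ?_ (cj_EE p h2 (L := L0) (by decide)).symm
    rw [t2]; exact EE_congr (mem_iff_of_sub (by decide) (by decide))
  · refine Eq.trans ?_ (cj_EE p h2 (L := L1) (by decide)).symm
    rw [t3]; exact EE_congr (mem_iff_of_sub (by decide) (by decide))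
  · refine Eq.trans ?_ (cj_EE p h3 (L := L1) (by decide)).symm
    rw [t4]; exact EE_congr (mem_iff_of_sub (by decide) (by decide))
  · intro r hr
    have h5 : (X K r).map (MulAut.conj c).toMonoidHom = X K (wact chevF4 WC r) := by
      refine cj_X p h4 ?_
      simp only [List.mem_cons, List.not_mem_nil, or_false] at hr
      omega
    rw [h5]
    simp only [List.mem_cons, List.not_mem_nil, or_false] at hr
    rcases hr with rfl | rfl | rfl
    · have e : wact chevF4 WC 2 = 0 := by decide +kernel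
      rw [e]; exact le_trans le_sup_left le_sup_left
    · have e : wact chevF4 WC 16 = 1 := by decide +kernel
      rw [e]; exact le_trans le_sup_right le_sup_left
    · have e : wact chevF4 WC 17 = 15 := by decide +kernel
      rw [e]; exact le_sup_right

end Cfsg.Agent.H224.FR
end

-- part: H31/FR/Range
section
/-!
# `F4(q)`, `q` odd: the image of `C(t1) → O₉(q)` contains `Ω₉(q)` (helper31)

`E_le_range` : the version of `H885.Pw.JE` for every finite field of odd characteristic.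
-/

set_option autoImplicit false
set_option linter.unusedSectionVars false

namespace Cfsg.Agent.H31.FR

open Cfsg Cfsg.Lie Module Matrix
open Cfsg.Agent.ChevalleyStructure.E6Min.Tables Cfsg.Agent.ChevalleyStructure.E6Min.Basic
open Cfsg.Agent.H952.F4 Cfsg.Agent.H952.F4.Jord
open Cfsg.Agent.LieClassical Cfsg.Agent.LieClassical.OrthForms Cfsg.Agent.LieClassical.OrthCore
  Cfsg.Agent.LieClassical.OrthTrans Cfsg.Agent.LieClassical.OrthFinite Cfsg.Agent.LieClassical.OrthSimple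
open Cfsg.Agent.H557.InvF4 Cfsg.Agent.H557.SignTorus Cfsg.Agent.H557.OrbF4 Cfsg.Agent.OddHalf.NI.ModelChev
open Cfsg.Agent.H815.F4Tor Cfsg.Agent.H557.SubTab Cfsg.Agent.H557.InvClass Cfsg.Agent.H557.ToralTypes
open Cfsg.Agent.Tits.Roots Cfsg.Agent.Nodes.BNOf Cfsg.Agent.Nodes.RGDChev Cfsg.Agent.KFacts.RgdChevCoord
open Cfsg.Agent.H885.Pw.JB

universe u

section Abs

variable {F V : Type*} [Field F] [Finite F] [AddCommGroup V] [Module F V] [Finite V] {Q : QuadraticForm F V}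

/-- a subgroup of index at most 4 of `O Q` contains `E Q` -/
theorem E_le_of_index (hG : _root_.Cfsg.Agent.LieClassical.OrthTrans.Good Q) {R : Subgroup (V ≃ₗ[F] V)} (hR : R ≤ O Q)
    (hc : Nat.card (O Q) ≤ 4 * Nat.card R) (hE : 24 * Nat.card F < Nat.card (E Q)) : E Q ≤ R := by
  classical
  have : Finite (V ≃ₗ[F] V) := Finite.of_injective (fun g : V ≃ₗ[F] V => (g : V → V)) DFunLike.coe_injective
  have h1 : Nat.card R * R.relIndex (O Q) = Nat.card (O Q) := by
    rw [← Subgroup.relIndex_bot_left, Subgroup.relIndex_mul_relIndex _ _ _ bot_le hR, Subgroup.relIndex_bot_left]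
  have h2 : R.relIndex (O Q) ≤ 4 := by
    have h3 : 0 < Nat.card R := Nat.card_pos
    by_contra h4
    push Not at h4
    have : Nat.card R * 5 ≤ Nat.card R * R.relIndex (O Q) := Nat.mul_le_mul_left _ h4
    omega
  have h0 : R.relIndex (O Q) ≠ 0 := by
    intro h
    rw [h, mul_zero] at h1
    exact (Nat.card_pos (α := ↥(O Q))).ne h1
  have h3 : (R.subgroupOf (E Q)).index ≤ 4 := (Subgroup.relIndex_le_of_le_right (H := R) E_le_O h0).trans h2
  have h4 : Nat.card (E Q) ≤ Nat.card (R.subgroupOf (E Q)).normalCore * 24 := by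
    rw [← Subgroup.card_mul_index (R.subgroupOf (E Q)).normalCore]
    exact Nat.mul_le_mul_left _ (core_index _ h3)
  have hNn : (R.subgroupOf (E Q)).normalCore.Normal := Subgroup.normalCore_normal _
  have hNl : (R.subgroupOf (E Q)).normalCore ≤ R.subgroupOf (E Q) := Subgroup.normalCore_le _
  generalize (R.subgroupOf (E Q)).normalCore = N at h4 hNn hNl
  have ha : N.map (E Q).subtype ≤ E Q := by
    rintro _ ⟨n, -, rfl⟩
    exact n.2
  have hb : ∀ g ∈ E Q, ∀ n ∈ N.map (E Q).subtype, g * n * g⁻¹ ∈ N.map (E Q).subtype := by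
    rintro g hg _ ⟨n, hn, rfl⟩
    exact ⟨(⟨g, hg⟩ * n * ⟨g, hg⟩⁻¹ :), hNn.conj_mem n hn ⟨g, hg⟩, rfl⟩
  rcases good_normal_dichotomy hG ha hb with h5 | h5
  · exfalso
    have h6 : Nat.card N ≤ Nat.card F := by
      choose! c hc' using h5
      refine Nat.card_le_card_of_injective (fun n : N => c ((n : ↥(E Q)) : V ≃ₗ[F] V)) ?_
      intro a b hab
      apply Subtype.ext
      apply Subtype.ext
      apply LinearEquiv.ext
      intro v
      exact (hc' _ ⟨a, a.2, rfl⟩ v).trans ((congrArg (fun t : F => t • v) hab).trans (hc' _ ⟨b, b.2, rfl⟩ v).symm)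
    omega
  · intro g hg
    rw [← h5] at hg
    obtain ⟨n, hn, rfl⟩ := hg
    exact hNl hn

end Abs

section

variable {K : Type u} [Field K]

theorem odd_of [Finite K] (h2 : (2 : K) ≠ 0) : Odd (Nat.card K) := by
  have : Fintype K := Fintype.ofFinite K
  rw [Nat.card_eq_fintype_card, ← Nat.not_even_iff_odd]
  intro h
  have h1 : ringChar K = 2 := by
    by_contra hne
    have := FiniteField.odd_card_of_char_ne_two hne
    rw [Nat.even_iff] at h
    omega
  apply h2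
  have h3 := (ringChar.spec K 2).2 (by rw [h1])
  exact_mod_cast h3

theorem card_t1 [Finite K] (h2 : (2 : K) ≠ 0) :
    Nat.card (Subgroup.centralizer ({t1 K} : Set ↥(chevF4.group K))) =
      Nat.card K ^ 16 * ((Nat.card K ^ 2 - 1) * ((Nat.card K ^ 4 - 1) * ((Nat.card K ^ 6 - 1) * (Nat.card K ^ 8 - 1)))) := by
  have : Fintype K := Fintype.ofFinite K
  have ho : Odd (Fintype.card K) := by
    rw [← Nat.card_eq_fintype_card]
    exact odd_of h2
  obtain ⟨p, hpp, hpc, hp2⟩ := exists_char K ho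
  have : Fact p.Prime := ⟨hpp⟩
  have hW : Finite (CoxeterMatrix.F₄).Group := Nat.finite_of_card_ne_zero (by rw [cardW]; norm_num)
  have hc1 : Nat.card (chevF4.diagonalSubgroup K) = (Nat.card K - 1) ^ 4 := by
    have := Cfsg.Agent.S1035.result (F := K) rfl (chevF4, 1) (by simp only [_root_.List.mem_cons, _root_.Prod.mk.injEq, _root_.and_true, _root_.List.not_mem_nil, _root_.or_false, _root_.true_or, _root_.or_true])
    rw [Nat.card_eq_fintype_card (α := K)]
    rwa [one_mul] at this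
  have hT : Nat.card ↥(TT chevF4 K) = (Nat.card K - 1) ^ 4 := by
    rw [← hc1]
    exact Nat.card_congr (Subgroup.subgroupOfEquivOfLe
      (Cfsg.Agent.ChevalleyStructure.Elts.diagonal_le_group (Nodes.KindF.isType).inList K)).toEquiv
  have h := D_TabB4.card_cent Cfsg.Agent.H557.OrbF4.hcm (K := K) p h2 inj_F4 hT
  have hm : Cfsg.Agent.H557.TabB4.tab.m = 16 := by decide +kernel
  rw [hm] at h
  refine h.trans ?_
  simp only [_root_.Nat.card_eq_fintype_card, _root_.List.map_cons, _root_.List.map_nil, _root_.List.prod_cons, _root_.List.prod_nil, _root_.mul_one]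

theorem card_O [Finite K] (h2 : (2 : K) ≠ 0) : Nat.card (O (oddForm 4 K)) =
    2 * (Nat.card K ^ 16 * ((Nat.card K ^ 2 - 1) * ((Nat.card K ^ 4 - 1) * ((Nat.card K ^ 6 - 1) * (Nat.card K ^ 8 - 1))))) := by
  have : Fintype K := Fintype.ofFinite K
  have h := Cfsg.Agent.S0286.result (F := K) rfl (by rw [← Nat.card_eq_fintype_card]; exact odd_of h2) 4
  rw [← coe_oddForm, Nat.card_congr (isometryEquiv (oddForm 4 K)).toEquiv] at h
  rw [h]
  simp only [Finset.prod_range_succ, Finset.prod_range_zero, ← Nat.card_eq_fintype_card]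
  norm_num only [_root_.Nat.card_eq_fintype_card, _root_.one_mul]
  ring

theorem good [Finite K] (h2 : (2 : K) ≠ 0) : _root_.Cfsg.Agent.LieClassical.OrthTrans.Good (oddForm 4 K) :=
  good_of_finite (nondeg_oddForm 4 K h2) (by simp)

theorem three_le [Finite K] (h2 : (2 : K) ≠ 0) : 3 ≤ Nat.card K := by
  have h1 := odd_of h2
  have h3 : 1 < Nat.card K := Finite.one_lt_card
  obtain ⟨k, hk⟩ := h1
  omega

theorem card_E [Finite K] (h2 : (2 : K) ≠ 0) : 24 * Nat.card K < Nat.card (E (oddForm 4 K)) := by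
  classical
  have : Fintype K := Fintype.ofFinite K
  have : Finite (VV K ≃ₗ[K] VV K) :=
    Finite.of_injective (fun g : VV K ≃ₗ[K] VV K => (g : VV K → VV K)) DFunLike.coe_injective
  let f : (Fin 4 → K) → VV K := fun a => Sum.elim 0 (Sum.elim a 0)
  have hf : ∀ a, (oddForm 4 K) (f a) = 0 := by
    intro a
    rw [coe_oddForm, quadFormOdd_apply]
    simp [f]
  have hfi : Function.Injective f := by
    intro a b hab
    funext i
    exact congrFun hab (.inr (.inl i))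
  have h0 : f 0 = 0 := by
    funext i
    rcases i with i | i | i <;> rfl
  set! a0 : Fin 4 → K := 1 with ha0
  have hne : ∀ a : Fin 4 → K, a ≠ 0 → f a ≠ 0 := by
    intro a ha h
    exact ha (hfi (h.trans h0.symm))
  have key : ∀ a : {a : Fin 4 → K // a ≠ 0}, ∃ g : ↥(E (oddForm 4 K)), (g : VV K ≃ₗ[K] VV K) (f a0) = f a := by
    intro a
    obtain ⟨g, hg, h⟩ := (good h2).trans_sing (hf a0) (hf a) (hne _ (by rw [ha0]; exact one_ne_zero)) (hne _ a.2)
    exact ⟨⟨g, hg⟩, h⟩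
  choose g hg using key
  have hgi : Function.Injective g := by
    intro a b hab
    apply Subtype.ext
    apply hfi
    rw [← hg a, ← hg b, hab]
  have h1 := Nat.card_le_card_of_injective g hgi
  have h3 : Nat.card {a : Fin 4 → K // a ≠ 0} = Nat.card K ^ 4 - 1 := by
    rw [Nat.card_eq_fintype_card, Fintype.card_subtype_compl, Fintype.card_subtype_eq, Fintype.card_fun,
      ← Nat.card_eq_fintype_card]
    simp only [_root_.Nat.card_eq_fintype_card, _root_.Fintype.card_fin]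
  rw [h3] at h1
  have h4 := three_le h2
  have h5 : 27 * Nat.card K ≤ Nat.card K ^ 4 := by
    rw [pow_succ]
    exact Nat.mul_le_mul_right _ (by
      calc 27 = 3 ^ 3 := by norm_num
        _ ≤ Nat.card K ^ 3 := Nat.pow_le_pow_left h4 3)
  omega

variable {ρ : ↥(chevF4.group K) →* GL I27 K}

/-- **the image of the centralizer of `t1` contains `E Q`** -/
theorem E_le_range [Finite K] (h2 : (2 : K) ≠ 0) (hρ : IsJ ρ) (hi : Function.Injective ρ) :
    E (oddForm 4 K) ≤ (Ph hρ h2 (isT_t1 hρ)).range := by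
  classical
  have : Fintype K := Fintype.ofFinite K
  have : Finite ↥(chevF4.group K) := inferInstance
  set P := Ph hρ h2 (isT_t1 hρ) with hP
  have h1 : Nat.card P.ker ≤ 2 := by
    have h2 : ∀ x : P.ker, ((x : ↥(Subgroup.centralizer ({t1 K} : Set ↥(chevF4.group K)))) : ↥(chevF4.group K)) = 1 ∨
        ((x : ↥(Subgroup.centralizer ({t1 K} : Set ↥(chevF4.group K)))) : ↥(chevF4.group K)) = t1 K :=
      fun x => ker_Ph hρ h2 (isT_t1 hρ) hi x.2
    have h3 : Nat.card P.ker ≤ Nat.card Bool := by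
      refine Nat.card_le_card_of_injective (fun x : P.ker =>
        decide (((x : ↥(Subgroup.centralizer ({t1 K} : Set ↥(chevF4.group K)))) : ↥(chevF4.group K)) = 1)) ?_
      intro a b hab
      apply Subtype.ext
      apply Subtype.ext
      simp only [decide_eq_decide] at hab
      rcases h2 a with ha | ha
      · rw [ha, hab.1 ha]
      · rcases h2 b with hb | hb
        · rw [hb, hab.2 hb]
        · rw [ha, hb]
    simpa only [_root_.MonoidHom.mem_ker, _root_.Nat.card_eq_fintype_card, _root_.ge_iff_le, _root_.Fintype.card_bool] using h3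
  have h2' : Nat.card P.range * Nat.card P.ker = Nat.card (Subgroup.centralizer ({t1 K} : Set ↥(chevF4.group K))) := by
    rw [← Subgroup.card_mul_index P.ker, Subgroup.index_ker, mul_comm]
  refine E_le_of_index (good h2) ?_ ?_ (card_E h2)
  · rintro _ ⟨g, rfl⟩
    exact Ph_mem_O hρ h2 (isT_t1 hρ) g
  · rw [card_O h2, ← card_t1 h2, ← h2']
    nlinarith only [h1]

end

end Cfsg.Agent.H31.FR
end

-- part: H31/FR/Lift
section
/-!
# `F4(q)`, `q` odd: the abelian group `q^7` with its natural `Ω₇(q)`-structure (helper31)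

`lift_abs` : lifting a homomorphism of an elementary abelian `p`-group through a central kernel of order two;
`jj` : the 7-dimensional space in the 9-dimensional one; `ext_E` : `Ω₇(q)` acts on `u₀^⊥ / u₀`;
`exists_e` : the embedding `e : W → F4(q)`, equivariant for `Ω₇(q)`.
-/

set_option autoImplicit false
set_option linter.unusedSectionVars false
set_option linter.unusedSimpArgs false

namespace Cfsg.Agent.H31.FR

open Cfsg Cfsg.Lie Module Matrix
open Cfsg.Agent.ChevalleyStructure Cfsg.Agent.ChevalleyStructure.Elts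
open Cfsg.Agent.ChevalleyStructure.E6Min.Tables Cfsg.Agent.ChevalleyStructure.E6Min.Basic
open Cfsg.Agent.H952.F4 Cfsg.Agent.H952.F4.Jord
open Cfsg.Agent.LieClassical Cfsg.Agent.LieClassical.OrthForms Cfsg.Agent.LieClassical.OrthCore
open Cfsg.Agent.H557.InvF4 Cfsg.Agent.OddHalf.NI.ModelChev
open Cfsg.Agent.Tits.Roots Cfsg.Agent.Nodes.BNOf Cfsg.Agent.Nodes.RGDChev Cfsg.Agent.KFacts.RgdChevCoord
open Cfsg.Agent.H885.Pw.JB

universe u

/-- **the abstract lift** -/
theorem lift_abs {C H W : Type*} [Group C] [Group H] [AddCommGroup W] (P : C →* H) {τ : C} (hτ : τ * τ = 1) (hτ1 : τ ≠ 1)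
    (hc : ∀ x, x * τ = τ * x) (hk : ∀ x, P x = 1 → x = 1 ∨ x = τ) {p : ℕ} (hp : Odd p) (S : W → H)
    (hS : ∀ a b, S (a + b) = S a * S b) (hpW : ∀ a : W, p • a = 0) (hr : ∀ a, ∃ x, P x = S a) :
    ∃ e : Multiplicative W →* C, (∀ a, P (e (.ofAdd a)) = S a) ∧ (∀ a, e (.ofAdd a) ^ p = 1) ∧
      ∀ a y, P y = S a → y ^ p = 1 → y = e (.ofAdd a) := by
  classical
  obtain ⟨k, hk'⟩ := hp
  have hS0 : S 0 = 1 := by
    have := hS 0 0
    rw [add_zero] at this
    exact left_eq_mul.1 this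
  have hSn : ∀ (n : ℕ) (a : W), S (n • a) = S a ^ n := by
    intro n a
    induction n with
    | zero => rw [zero_smul, hS0, pow_zero]
    | succ n ih => rw [succ_nsmul, hS, ih, pow_succ]
  have hτp : τ ^ p = τ := by
    rw [hk', pow_succ, pow_mul, pow_two, hτ, one_pow, one_mul]
  -- uniqueness
  have huniq : ∀ x y : C, P x = P y → x ^ p = 1 → y ^ p = 1 → x = y := by
    intro x y hxy hx hy
    rcases hk (y⁻¹ * x) (by rw [map_mul, map_inv, hxy, inv_mul_cancel]) with h | h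
    · exact (inv_mul_eq_one.1 h).symm
    · exfalso
      have h1 : x = y * τ := by rw [← h]; group
      have h2 : Commute y τ := hc y
      rw [h1, h2.mul_pow, hy, one_mul, hτp] at hx
      exact hτ1 hx
  -- existence
  have hex : ∀ a, ∃ x, P x = S a ∧ x ^ p = 1 := by
    intro a
    obtain ⟨x, hx⟩ := hr a
    refine ⟨x ^ (p + 1), ?_, ?_⟩
    · rw [map_pow, hx, pow_succ, ← hSn, hpW, hS0, one_mul]
    · rw [← pow_mul, mul_comm, pow_mul, show p + 1 = 2 * (k + 1) by omega, pow_mul, pow_two]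
      have h1 : P (x ^ p) = 1 := by rw [map_pow, hx, ← hSn, hpW, hS0]
      rcases hk _ h1 with h | h
      · rw [h, mul_one, one_pow]
      · rw [h, hτ, one_pow]
  choose f hf1 hf2 using hex
  have hmul : ∀ a b, f (a + b) = f a * f b := by
    intro a b
    apply huniq
    · rw [hf1, map_mul, hf1, hf1, hS]
    · exact hf2 _
    · -- the lifts commute
      have h1 : P (f a * f b * (f a)⁻¹) = P (f b) := by
        rw [map_mul, map_mul, map_inv, hf1, hf1, ← hS, add_comm, hS, mul_inv_cancel_right]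
      have h2 : (f a * f b * (f a)⁻¹) ^ p = 1 := by rw [conj_pow, hf2, mul_one, mul_inv_cancel]
      have h3 := huniq _ _ h1 h2 (hf2 b)
      have h4 : Commute (f a) (f b) := mul_inv_eq_iff_eq_mul.1 h3
      rw [h4.mul_pow, hf2, hf2, one_mul]
  refine ⟨MonoidHom.mk' (fun a => f a.toAdd) (fun a b => hmul _ _), fun a => hf1 a, fun a => hf2 a, fun a y h1 h2 => ?_⟩
  exact huniq _ _ (h1.trans (hf1 a).symm) h2 (hf2 a)

/-- the 7-dimensional space -/
abbrev W7 (K : Type u) := Unit ⊕ (Fin 3 ⊕ Fin 3) → K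

section

variable {K : Type u} [Field K]

/-- the singular vector -/
def u0 (K : Type u) [Field K] : VV K := Pi.single (.inr (.inr 0)) 1

/-- its partner -/
def v0 (K : Type u) [Field K] : VV K := Pi.single (.inr (.inl 0)) 1

/-- the 7-dimensional space inside the 9-dimensional space -/
def jj : W7 K →ₗ[K] VV K where
  toFun w := Sum.elim (fun _ => w (.inl ())) (Sum.elim ![0, w (.inr (.inl 0)), w (.inr (.inl 1)), w (.inr (.inl 2))]
    ![0, w (.inr (.inr 0)), w (.inr (.inr 1)), w (.inr (.inr 2))])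
  map_add' v w := by
    funext a
    rcases a with _ | a | a
    · rfl
    · (revert a; simp only [_root_.Fin.forall_fin_succ, _root_.Pi.add_apply, Fin.isValue, _root_.Sum.elim_inr, _root_.Sum.elim_inl, _root_.Matrix.cons_val_zero, _root_.add_zero, _root_.Matrix.cons_val_succ, _root_.Matrix.cons_val_fin_one, _root_.implies_true, _root_.and_self])
    · (revert a; simp only [_root_.Fin.forall_fin_succ, _root_.Pi.add_apply, Fin.isValue, _root_.Sum.elim_inr, _root_.Matrix.cons_val_zero, _root_.add_zero, _root_.Matrix.cons_val_succ, _root_.Matrix.cons_val_fin_one, _root_.implies_true, _root_.and_self])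
  map_smul' c v := by
    funext a
    rcases a with _ | a | a
    · rfl
    · (revert a; simp only [_root_.Fin.forall_fin_succ, _root_.Pi.smul_apply, _root_.smul_eq_mul, Fin.isValue, _root_.Sum.elim_inr, _root_.Sum.elim_inl, _root_.RingHom.id_apply, _root_.Matrix.cons_val_zero, _root_.MulZeroClass.mul_zero, _root_.Matrix.cons_val_succ, _root_.Matrix.cons_val_fin_one, _root_.implies_true, _root_.and_self])
    · (revert a; simp only [_root_.Fin.forall_fin_succ, _root_.Pi.smul_apply, _root_.smul_eq_mul, Fin.isValue, _root_.Sum.elim_inr, _root_.RingHom.id_apply, _root_.Matrix.cons_val_zero, _root_.MulZeroClass.mul_zero, _root_.Matrix.cons_val_succ, _root_.Matrix.cons_val_fin_one, _root_.implies_true, _root_.and_self])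

/-- the shift of the indices -/
def sh7 : Unit ⊕ (Fin 3 ⊕ Fin 3) → Unit ⊕ (Fin 4 ⊕ Fin 4) := Sum.map id (Sum.map Fin.succ Fin.succ)

theorem jj_sh (w : W7 K) (k : Unit ⊕ (Fin 3 ⊕ Fin 3)) : jj w (sh7 k) = w k := by
  rcases k with _ | k | k
  · rfl
  · fin_cases k <;> rfl
  · fin_cases k <;> rfl

theorem jj_single (k : Unit ⊕ (Fin 3 ⊕ Fin 3)) (s : K) : jj (Pi.single k s) = Pi.single (sh7 k) s := by
  funext a
  rcases k with _ | k | k
  · rcases a with _ | a | a
    · rfl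
    · (revert a; simp only [jj, sh7, _root_.Fin.forall_fin_succ, Fin.isValue, _root_.LinearMap.coe_mk, _root_.AddHom.coe_mk, _root_.Pi.single_eq_same, _root_.ne_eq, reduceCtorEq, _root_.not_false_eq_true, _root_.Pi.single_eq_of_ne, _root_.Sum.elim_inr, _root_.Sum.elim_inl, _root_.Sum.map_inl, _root_.id_eq, _root_.Matrix.cons_val_zero, _root_.Matrix.cons_val_succ, _root_.Matrix.cons_val_fin_one, _root_.implies_true, _root_.and_self])
    · (revert a; simp only [jj, sh7, _root_.Fin.forall_fin_succ, Fin.isValue, _root_.LinearMap.coe_mk, _root_.AddHom.coe_mk, _root_.Pi.single_eq_same, _root_.ne_eq, reduceCtorEq, _root_.not_false_eq_true, _root_.Pi.single_eq_of_ne, _root_.Sum.elim_inr, _root_.Sum.map_inl, _root_.id_eq, _root_.Matrix.cons_val_zero, _root_.Matrix.cons_val_succ, _root_.Matrix.cons_val_fin_one, _root_.implies_true, _root_.and_self])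
  · rcases a with _ | a | a
    · simp [jj, sh7]
    · (revert k a; simp only [jj, sh7, Pi.single_apply, _root_.Fin.forall_fin_succ, Fin.isValue, _root_.LinearMap.coe_mk, _root_.AddHom.coe_mk, _root_.ne_eq, reduceCtorEq, _root_.not_false_eq_true, _root_.Pi.single_eq_of_ne, _root_.Sum.inr.injEq, _root_.Sum.inl.injEq, _root_.Sum.elim_inr, _root_.Sum.elim_inl, _root_.Sum.map_inr, _root_.Sum.map_inl, _root_.Matrix.cons_val_zero, _root_.right_eq_ite_iff, _root_.Matrix.cons_val_succ, _root_.Fin.succ_inj, _root_.Fin.succ_zero_eq_one, _root_.Matrix.cons_val_fin_one, _root_.Fin.succ_one_eq_two, _root_.IsEmpty.forall_iff, _root_.and_self, _root_.and_true, _root_.zero_ne_one, Fin.reduceEq, Fin.reduceSucc])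
    · (revert k a; simp [jj, sh7, Pi.single_apply, _root_.Fin.forall_fin_succ])
  · rcases a with _ | a | a
    · simp [jj, sh7]
    · (revert k a; simp [jj, sh7, Pi.single_apply, _root_.Fin.forall_fin_succ])
    · (revert k a; simp only [jj, sh7, Pi.single_apply, _root_.Fin.forall_fin_succ, Fin.isValue, _root_.LinearMap.coe_mk, _root_.AddHom.coe_mk, _root_.ne_eq, reduceCtorEq, _root_.not_false_eq_true, _root_.Pi.single_eq_of_ne, _root_.Sum.inr.injEq, _root_.Sum.elim_inr, _root_.Sum.map_inr, _root_.Matrix.cons_val_zero, _root_.right_eq_ite_iff, _root_.Matrix.cons_val_succ, _root_.Fin.succ_inj, _root_.Fin.succ_zero_eq_one, _root_.Matrix.cons_val_fin_one, _root_.Fin.succ_one_eq_two, _root_.IsEmpty.forall_iff, _root_.and_self, _root_.and_true, _root_.zero_ne_one, Fin.reduceEq, Fin.reduceSucc])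

theorem Q_jj (w : W7 K) : (oddForm 4 K) (jj w) = (oddForm 3 K) w := by
  rw [coe_oddForm, coe_oddForm, quadFormOdd_apply, quadFormOdd_apply, Fin.sum_univ_four, Fin.sum_univ_three]
  simp only [jj, _root_.Fin.isValue, _root_.LinearMap.coe_mk, _root_.AddHom.coe_mk, _root_.Sum.elim_inl, _root_.Sum.elim_inr, _root_.Matrix.cons_val_zero, _root_.MulZeroClass.mul_zero, _root_.Matrix.cons_val_one, _root_.zero_add, _root_.Matrix.cons_val]

theorem polar_jj (v w : W7 K) : QuadraticMap.polar (oddForm 4 K) (jj v) (jj w) = QuadraticMap.polar (oddForm 3 K) v w := by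
  unfold QuadraticMap.polar
  rw [← map_add, Q_jj, Q_jj, Q_jj]

theorem Q_u0 : (oddForm 4 K) (u0 K) = 0 := by
  rw [coe_oddForm, quadFormOdd_apply, Fin.sum_univ_four]
  simp [u0]

theorem polar_u0 (y : VV K) : QuadraticMap.polar (oddForm 4 K) (u0 K) y = y (.inr (.inl 0)) := by
  rw [polar_oddForm]
  simp only [u0, Pi.single_apply, _root_.Fin.isValue, _root_.ne_eq, _root_.reduceCtorEq, _root_.not_false_eq_true, _root_.Pi.single_eq_of_ne, _root_.MulZeroClass.mul_zero, _root_.MulZeroClass.zero_mul, _root_.Sum.inr.injEq, _root_.mul_ite, _root_.mul_one, _root_.zero_add, _root_.Finset.sum_ite_eq', _root_.Finset.mem_univ, ↓ _root_.reduceIte]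

theorem polar_u0_jj (w : W7 K) : QuadraticMap.polar (oddForm 4 K) (u0 K) (jj w) = 0 := by
  rw [polar_u0]
  rfl

theorem polar_jj_u0 (w : W7 K) : QuadraticMap.polar (oddForm 4 K) (jj w) (u0 K) = 0 := by
  rw [QuadraticMap.polar_comm, polar_u0_jj]

/-- the Siegel element of `w` -/
def sgl (w : W7 K) : VV K ≃ₗ[K] VV K := siegel (oddForm 4 K) (u0 K) (jj w) Q_u0 (polar_u0_jj w)

theorem sgl_add (v w : W7 K) : sgl (v + w) = sgl v * sgl w := by
  unfold sgl
  rw [siegel_mul (by exact Q_u0) (polar_u0_jj v) (polar_u0_jj w) (by rw [← map_add]; exact polar_u0_jj _)]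
  congr 1
  exact map_add _ _ _

theorem sgl_mem (w : W7 K) : sgl w ∈ E (oddForm 4 K) := siegel_mem_E _ _

theorem sgl_inj : Function.Injective (sgl (K := K)) := by
  intro v w h
  have key : ∀ (w : W7 K) (k : Unit ⊕ (Fin 3 ⊕ Fin 3)), sgl w (v0 K) (sh7 k) = w k := by
    intro w k
    rw [sgl, siegel_apply, polar_u0]
    have h1 : (v0 K) (.inr (.inl 0)) = 1 := by simp [v0]
    have h2 : (v0 K) (sh7 k) = 0 := by
      rcases k with _ | k | k
      · rfl
      · (revert k; simp [v0, sh7, _root_.Fin.forall_fin_succ])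
      · fin_cases k <;> simp [v0, sh7]
    have h3 : (u0 K) (sh7 k) = 0 := by
      rcases k with _ | k | k
      · rfl
      · fin_cases k <;> simp [u0, sh7]
      · (revert k; simp [u0, sh7, _root_.Fin.forall_fin_succ])
    simp only [Pi.add_apply, Pi.sub_apply, Pi.smul_apply, h1, h2, h3, jj_sh, one_smul, smul_zero, sub_zero, zero_add]
  funext k
  rw [← key v k, ← key w k, h]

/-- `Ω₇` acts on `u₀^⊥ / u₀` -/
theorem ext_E {h : W7 K ≃ₗ[K] W7 K} (hh : h ∈ E (oddForm 3 K)) :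
    ∃ H ∈ E (oddForm 4 K), H (u0 K) = u0 K ∧ ∀ w, H (jj w) = jj (h w) := by
  unfold E at hh
  induction hh using Subgroup.closure_induction with
  | mem x hx =>
    obtain ⟨u, w, hu, hw, rfl⟩ := hx
    have hu' : (oddForm 4 K) (jj u) = 0 := by rw [Q_jj, hu]
    have hw' : QuadraticMap.polar (oddForm 4 K) (jj u) (jj w) = 0 := by rw [polar_jj, hw]
    refine ⟨siegel (oddForm 4 K) (jj u) (jj w) hu' hw', siegel_mem_E _ _, ?_, fun y => ?_⟩
    · rw [siegel_apply, polar_jj_u0, polar_jj_u0]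
      simp
    · rw [siegel_apply, siegel_apply, polar_jj, polar_jj, Q_jj]
      simp only [map_add, map_sub, map_smul]
  | one => exact ⟨1, one_mem _, rfl, fun _ => rfl⟩
  | mul x y _ _ hx hy =>
    obtain ⟨X, hX, h1, h2⟩ := hx
    obtain ⟨Y, hY, h3, h4⟩ := hy
    refine ⟨X * Y, mul_mem hX hY, ?_, fun w => ?_⟩
    · rw [LinearEquiv.mul_apply, h3, h1]
    · rw [LinearEquiv.mul_apply, h4, h2, LinearEquiv.mul_apply]
  | inv x _ hx =>
    obtain ⟨X, hX, h1, h2⟩ := hx
    refine ⟨X⁻¹, inv_mem hX, ?_, fun w => ?_⟩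
    · have h3 : X⁻¹ (X (u0 K)) = u0 K := LinearEquiv.symm_apply_apply X _
      rwa [h1] at h3
    · have h3 : X⁻¹ (X (jj (x⁻¹ w))) = jj (x⁻¹ w) := LinearEquiv.symm_apply_apply X _
      have h4 : x (x⁻¹ w) = w := LinearEquiv.apply_symm_apply x w
      rwa [h2, h4] at h3

theorem conj_sgl {h : W7 K ≃ₗ[K] W7 K} {H : VV K ≃ₗ[K] VV K} (hH : H ∈ E (oddForm 4 K)) (h1 : H (u0 K) = u0 K)
    (h2 : ∀ w, H (jj w) = jj (h w)) (w : W7 K) : H * sgl w * H⁻¹ = sgl (h w) := by
  have hO : H ∈ O (oddForm 4 K) := E_le_O hH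
  unfold sgl
  rw [siegel_conj hO Q_u0 (polar_u0_jj w) (by rw [h1]; exact Q_u0) (by rw [h1, h2]; exact polar_u0_jj _)]
  congr 1
  exact h2 w

variable {ρ : ↥(chevF4.group K) →* GL I27 K}

theorem xc_pow [Finite K] {p : ℕ} [CharP K p] {r : ℕ} (hr : r < chevF4.nroots) (t : K) :
    xc Cfsg.Agent.Nodes.KindF.isType (_root_.Cfsg.Agent.Nodes.RGDChev.vec chevF4 4 r) t ^ p = 1 := by
  have key : ∀ n : ℕ, xc Cfsg.Agent.Nodes.KindF.isType (_root_.Cfsg.Agent.Nodes.RGDChev.vec chevF4 4 r) t ^ n =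
      xc Cfsg.Agent.Nodes.KindF.isType (_root_.Cfsg.Agent.Nodes.RGDChev.vec chevF4 4 r) (n * t) := by
    intro n
    apply Subtype.ext
    rw [Subgroup.coe_pow, coe_xc Cfsg.Agent.Nodes.KindF.isType hr, coe_xc Cfsg.Agent.Nodes.KindF.isType hr]
    induction n with
    | zero => rw [pow_zero, Nat.cast_zero, zero_mul, xG_zero]
    | succ n ih => rw [pow_succ, ih, xG_add, Nat.cast_succ, add_mul, one_mul]
  rw [key, CharP.cast_eq_zero, zero_mul]
  have h0 := key 0
  rw [pow_zero, Nat.cast_zero, zero_mul] at h0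
  exact h0.symm

theorem t1_ne_one (h2 : (2 : K) ≠ 0) (hρ : IsJ ρ) : t1 K ≠ 1 := t_ne_one h2 (isT_t1 hρ)

/-- **the embedding `e`** -/
theorem exists_e [Finite K] (h2 : (2 : K) ≠ 0) (hρ : IsJ ρ) (hi : Function.Injective ρ) :
    ∃ e : Multiplicative (W7 K) →* ↥(chevF4.group K), Function.Injective e ∧
      (∀ h ∈ E (oddForm 3 K), ∃ g, ∀ w, g * e (.ofAdd w) * g⁻¹ = e (.ofAdd (h w))) ∧
      ∀ (w : W7 K) (p : ℕ) [CharP K p] (y : ↥(Subgroup.centralizer ({t1 K} : Set ↥(chevF4.group K)))),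
        Ph hρ h2 (isT_t1 hρ) y = sgl w → y ^ p = 1 → (y : ↥(chevF4.group K)) = e (.ofAdd w) := by
  classical
  obtain ⟨p, hpc⟩ := CharP.exists K
  have : Fact p.Prime := ⟨CharP.char_is_prime K p⟩
  have hp2 : p ≠ 2 := by
    rintro rfl
    exact h2 (by exact_mod_cast CharP.cast_eq_zero K 2)
  set P := Ph hρ h2 (isT_t1 hρ) with hP
  have hmem : t1 K ∈ Subgroup.centralizer ({t1 K} : Set ↥(chevF4.group K)) := by
    rw [Subgroup.mem_centralizer_singleton_iff]
  set! τ : ↥(Subgroup.centralizer ({t1 K} : Set ↥(chevF4.group K))) := ⟨t1 K, hmem⟩ with hτ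
  obtain ⟨e, he1, he2, he3⟩ := lift_abs P (τ := τ) (Subtype.ext (t_sq hi (isT_t1 hρ)))
    (fun h => t1_ne_one h2 hρ (congrArg Subtype.val h)) (fun x => Subtype.ext (comm_of_mem x.2))
    (fun x hx => (ker_Ph hρ h2 (isT_t1 hρ) hi hx).imp (fun h => Subtype.ext h) (fun h => Subtype.ext h))
    ((Fact.out : p.Prime).odd_of_ne_two hp2) (sgl (K := K)) sgl_add
    (fun a => by rw [← Nat.cast_smul_eq_nsmul K, CharP.cast_eq_zero, zero_smul])
    (fun a => E_le_range h2 hρ hi (sgl_mem a))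
  refine ⟨(Subgroup.subtype _).comp e, ?_, ?_, ?_⟩
  · refine (Subgroup.subtype_injective _).comp ?_
    intro a b hab
    have h1 : P (e (.ofAdd a.toAdd)) = P (e (.ofAdd b.toAdd)) := congrArg P hab
    rw [he1, he1] at h1
    exact congrArg Multiplicative.ofAdd (sgl_inj h1)
  · intro h hh
    obtain ⟨H, hH, h1, h3⟩ := ext_E hh
    obtain ⟨g, hg⟩ := E_le_range h2 hρ hi hH
    refine ⟨g, fun w => ?_⟩
    have h4 : g * e (.ofAdd w) * g⁻¹ = e (.ofAdd (h w)) := by
      apply he3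
      · rw [map_mul, map_mul, map_inv, he1, ← conj_sgl hH h1 h3]
        rw [← hP] at hg
        rw [hg]
      · rw [conj_pow, he2, mul_one, mul_inv_cancel]
    exact congrArg Subtype.val h4
  · intro w q _ y h1 h3
    have hq : q = p := CharP.eq K ‹_› hpc
    subst hq
    exact congrArg Subtype.val (he3 w y h1 h3)

end

end Cfsg.Agent.H31.FR
end

private theorem dce_0f8eeb23ba10 : _root_.True := by
  try have : _root_.True := by simp only [_root_.Cfsg.Agent.H31.FR.sh7.eq_1]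
  try have : _root_.True := by simp only [_root_.Cfsg.Agent.H224.FR.X.eq_1]
  try have : _root_.True := by simp only [_root_.Cfsg.Agent.H31.FR.v0.eq_1]
  try have : _root_.True := by simp only [_root_.Cfsg.Agent.H224.FR.EE.eq_1]
  try have : _root_.True := by simp only [_root_.Cfsg.Agent.H31.FR.sgl.eq_1]
  try have : _root_.True := by simp only [_root_.Cfsg.Agent.H31.FR.jj.eq_1]
  try have : _root_.True := by simp only [_root_.Cfsg.Agent.H31.FR.u0.eq_1]
  exact _root_.True.intro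
end

-- part: H374/FR/Comm
section
prune_inst 0x38180002000000000080000000000001c010000
set_option linter.all false
open scoped Cfsg.Agent.FastGrp

/-!
# The radical of the parabolic subgroup of type `C₃` of `F₄(q)`, `q` odd, is of Heisenberg type (S2452)

`θ = vec chevF4 4 47`, `V = VK K {k | k ≠ 3}` (order `q ^ 15`), `xh t = x_θ(t)`.

* `mem`, `cen`, `com`, `nd`, `cv`, `scal` : the fields of the structures of helper210 and helper980;
* `range_xh` : the range of `xh` is `XT K`;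
* `hei_norm` : `PK K {k | k ≠ 3}` normalises `V`, `hei_act` : it acts on `XT K` by scalars.
-/

set_option autoImplicit false
set_option linter.unusedSectionVars false

namespace Cfsg.Agent.H374.FR.Comm

open CoxeterSystem Cfsg.Agent.ChevalleyStructure.CoxeterGeom Cfsg.Agent.Tits.Roots Cfsg.Agent.Tits.Core
  Cfsg.Agent.Tits.Exchange Cfsg.Agent.Nodes.Reps Cfsg.Agent.Nodes.BNOf Cfsg.Agent.Nodes.StabComb
  Cfsg.Agent.Nodes.Bruhat Cfsg.Agent.Nodes.OppDec Cfsg.Agent.Nodes.LeviDec Cfsg.Agent.Nodes.NormX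
  Cfsg.Agent.Nodes.Coroot Cfsg.Agent.Nodes.RGDChev Cfsg.Agent.KFacts.RgdPar Cfsg.Agent.KFacts.RgdTI
  Cfsg.Agent.KFacts.RgdCent Cfsg.Agent.KFacts.RgdChevCoord Cfsg.Agent.Nodes.ChevCls
  Cfsg.Agent.OddHalf.NI.ModelChev Cfsg.Agent.H225.PPow
open Cfsg.Lie Cfsg.Agent.ChevalleyStructure Cfsg.Agent.ChevalleyStructure.Elts
  Cfsg.Agent.ChevalleyStructure.RootVec Cfsg.Agent.ChevalleyStructure.NPerm
  Cfsg.Agent.ChevalleyStructure.CoxeterGeomTypes
open Cfsg.Agent.H701.F43.Cent (hF cF nroots isRoot_theta cart_theta cent comm_theta VV MM J3 idxV lt_idxV idxM)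
open Cfsg.Agent.H797.FQ
open Cfsg.Agent.H520.FC (PK VK XT)
open Cfsg.Agent.KFacts

universe u

variable {K : Type u} [Field K]

/-- structure constants -/
def nn (r s : ℕ) : ℤ := if r = s then 0 else ((chevF4.commTerms r s).map fun c => c.2.1).sum

theorem tabN : ∀ r ∈ L14, ∀ s ∈ L14, s ≠ r →
    s ≠ chevF4.neg r ∧ ((chevF4.commTerms r s = [] ∧ nn r s = 0) ∨ chevF4.commTerms r s = [(47, nn r s, 1, 1)]) := by
  decide +kernel

theorem tabP : ∀ s ∈ L14, ∃ r ∈ L14, (nn r s = 1 ∨ nn r s = -1 ∨ nn r s = 2 ∨ nn r s = -2) ∧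
    ∀ s' ∈ L14, s' ≠ s → nn r s' = 0 := by
  decide +kernel

theorem nn_self (r : ℕ) : nn r r = 0 := if_pos rfl

theorem e_comm {r s : ℕ} (hr : r ∈ L14) (hs : s ∈ L14) (x y : K) :
    e s x * e r y = e r y * e s x * e 47 (-((nn r s : ℤ) : K) * x * y) := by
  by_cases h : s = r
  · subst h
    rw [nn_self, Int.cast_zero, neg_zero, zero_mul, zero_mul]
    have h0 : (e 47 (0 : K)) = 1 := ex_zero hF 47
    rw [h0, mul_one]
    show ex hF s x * ex hF s y = ex hF s y * ex hF s x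
    rw [← ex_add hF, ← ex_add hF, add_comm]
  · obtain ⟨h1, h2⟩ := tabN r hr s hs h
    have h3 := ex_comm hF (lt_idxV r (L14_sub r hr)) (lt_idxV s (L14_sub s hs)) h h1 y x
    rcases h2 with ⟨h4, h5⟩ | h4
    · rw [h4, List.map_nil, List.prod_nil, mul_one] at h3
      rw [h5, Int.cast_zero, neg_zero, zero_mul, zero_mul, show (e 47 (0 : K)) = 1 from ex_zero hF 47, mul_one]
      exact h3
    · rw [h4, List.map_cons, List.map_nil, List.prod_cons, List.prod_nil, mul_one, pow_one, pow_one] at h3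
      rw [show -((nn r s : ℤ) : K) * x * y = ((nn r s : ℤ) : K) * (-y) * x by ring]
      exact h3

theorem E_comm_e {L : List ℕ} (hL : ∀ s ∈ L, s ∈ L14) (c : ℕ → K) {r : ℕ} (hr : r ∈ L14) (y : K) :
    E L c * e r y = e r y * E L c * e 47 ((L.map fun s => -((nn r s : ℤ) : K) * c s * y).sum) := by
  induction L with
  | nil => rw [E_nil, List.map_nil, List.sum_nil, show (e 47 (0 : K)) = 1 from ex_zero hF 47, mul_one, mul_one, one_mul]
  | cons s L ih =>
    have hL' : ∀ s ∈ L, s ∈ L14 := fun s hs => hL s (List.mem_cons_of_mem _ hs)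
    have h1 := ih hL'
    have h2 := e_comm hr (hL s List.mem_cons_self) (c s) y
    have h3 := e47_comm_E hL' c (-((nn r s : ℤ) : K) * c s * y)
    rw [E_cons, List.map_cons, List.sum_cons, ← e47_add, mul_assoc, h1]
    calc e s (c s) * (e r y * E L c * e 47 ((L.map fun s => -((nn r s : ℤ) : K) * c s * y).sum))
        = (e s (c s) * e r y) * E L c * e 47 ((L.map fun s => -((nn r s : ℤ) : K) * c s * y).sum) := by group
      _ = e r y * e s (c s) * (e 47 (-((nn r s : ℤ) : K) * c s * y) * E L c) *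
          e 47 ((L.map fun s => -((nn r s : ℤ) : K) * c s * y).sum) := by rw [h2]; group
      _ = e r y * e s (c s) * (E L c * e 47 (-((nn r s : ℤ) : K) * c s * y)) *
          e 47 ((L.map fun s => -((nn r s : ℤ) : K) * c s * y).sum) := by rw [h3]
      _ = _ := by group

/-- the form -/
noncomputable def om (L M : List ℕ) (c d : ℕ → K) : K :=
  (M.map fun r => (L.map fun s => -((nn r s : ℤ) : K) * c s * d r).sum).sum

theorem E_comm_E {L M : List ℕ} (hL : ∀ s ∈ L, s ∈ L14) (hM : ∀ s ∈ M, s ∈ L14) (c d : ℕ → K) :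
    E L c * E M d = E M d * E L c * e 47 (om L M c d) := by
  induction M with
  | nil =>
    unfold om
    rw [E_nil, List.map_nil, List.sum_nil, show (e 47 (0 : K)) = 1 from ex_zero hF 47, mul_one, mul_one, one_mul]
  | cons r M ih =>
    have hM' : ∀ s ∈ M, s ∈ L14 := fun s hs => hM s (List.mem_cons_of_mem _ hs)
    have h1 := ih hM'
    have h2 := E_comm_e hL c (hM r List.mem_cons_self) (d r)
    have h3 := e47_comm_E hM' d ((L.map fun s => -((nn r s : ℤ) : K) * c s * d r).sum)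
    have h4 : om L (r :: M) c d = om L M c d + (L.map fun s => -((nn r s : ℤ) : K) * c s * d r).sum := by
      unfold om
      rw [List.map_cons, List.sum_cons, add_comm]
    rw [E_cons, h4, ← e47_add]
    calc E L c * (e r (d r) * E M d) = (E L c * e r (d r)) * E M d := by group
      _ = e r (d r) * E L c * (e 47 ((L.map fun s => -((nn r s : ℤ) : K) * c s * d r).sum) * E M d) := by
        rw [h2]; group
      _ = e r (d r) * (E L c * E M d) * e 47 ((L.map fun s => -((nn r s : ℤ) : K) * c s * d r).sum) := by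
        rw [← h3]; group
      _ = _ := by rw [h1]; group

theorem lt47 : 47 < chevF4.nroots := by rw [nroots]; norm_num

theorem xc_e (a : K) : xc hF (vec chevF4 4 47) a = e 47 a := Subtype.ext (coe_xc hF lt47 a)

/-- `x_θ` -/
noncomputable def xh (K : Type u) [Field K] : Multiplicative K →* ↥(chevF4.group K) where
  toFun t := xc hF (vec chevF4 4 47) t.toAdd
  map_one' := by
    rw [toAdd_one, xc_e]
    exact ex_zero hF 47
  map_mul' a b := by
    rw [toAdd_mul, xc_e, xc_e, xc_e]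
    exact ex_add hF 47 _ _

theorem xh_e (t : K) : xh K (.ofAdd t) = e 47 t := xc_e t

theorem inj : Function.Injective (xh K) := fun _ _ h => Multiplicative.toAdd.injective (xc_inj hF lt47 h)

theorem range_xh : (xh K).range = XT K := by
  ext z
  rw [mem_XX_vec hF lt47]
  constructor
  · rintro ⟨t, rfl⟩
    exact ⟨t.toAdd, (xc_e _).symm⟩
  · rintro ⟨t, rfl⟩
    exact ⟨.ofAdd t, xh_e t⟩

theorem mem_range {z : ↥(chevF4.group K)} : z ∈ (xh K).range ↔ ∃ t : K, z = e 47 t :=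
  ⟨fun ⟨t, h⟩ => ⟨t.toAdd, h.symm.trans (xh_e _)⟩, fun ⟨t, h⟩ => ⟨.ofAdd t, (xh_e t).trans h.symm⟩⟩

variable {u v : ↥(chevF4.group K)}

/-- `e 47` is central in `V` -/
theorem cen_R {c : ℕ → K} (hu : R u c) (b : K) : u * e 47 b = e 47 b * u := by
  obtain ⟨a, rfl⟩ := hu
  have h1 := e47_comm_E (fun s hs => hs) c b (L := L14)
  rw [mul_assoc, e47_add, add_comm a b, ← e47_add, ← mul_assoc, h1, mul_assoc]

theorem R_comm {c d : ℕ → K} (hu : R u c) (hv : R v d) : u * v = v * u * e 47 (om L14 L14 c d) := by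
  have hu' := hu
  have hv' := hv
  obtain ⟨a, rfl⟩ := hu
  obtain ⟨b, rfl⟩ := hv
  have h1 := e47_comm_E (fun s hs => hs) d a (L := L14)
  have h2 := e47_comm_E (fun s hs => hs) c b (L := L14)
  have h3 := E_comm_E (fun s hs => hs) (fun s hs => hs) c d (L := L14) (M := L14)
  calc E L14 c * e 47 a * (E L14 d * e 47 b) = E L14 c * (e 47 a * E L14 d) * e 47 b := by group
    _ = (E L14 c * E L14 d) * e 47 a * e 47 b := by rw [← h1]; group
    _ = E L14 d * E L14 c * (e 47 (om L14 L14 c d) * e 47 a * e 47 b) := by rw [h3]; group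
    _ = E L14 d * E L14 c * (e 47 b * e 47 a * e 47 (om L14 L14 c d)) := by
      rw [e47_add, e47_add, e47_add, e47_add]
      congr 2
      ring
    _ = E L14 d * (E L14 c * e 47 b) * e 47 a * e 47 (om L14 L14 c d) := by group
    _ = _ := by rw [h2]; group

theorem R_commutator {c d : ℕ → K} (hu : R u c) (hv : R v d) : u * v * u⁻¹ * v⁻¹ = e 47 (om L14 L14 c d) := by
  have h1 := cen_R (hv.mul hu) (om L14 L14 c d)
  rw [R_comm hu hv, h1]
  group

theorem com (a : ↥(chevF4.group K)) (ha : a ∈ VK K {k | k ≠ 3}) (b : ↥(chevF4.group K)) (hb : b ∈ VK K {k | k ≠ 3}) :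
    a * b * a⁻¹ * b⁻¹ ∈ (xh K).range := by
  obtain ⟨c, hc⟩ := exists_R ha
  obtain ⟨d, hd⟩ := exists_R hb
  exact mem_range.2 ⟨_, R_commutator hc hd⟩

theorem com' (a : ↥(chevF4.group K)) (ha : a ∈ VK K {k | k ≠ 3}) (b : ↥(chevF4.group K)) (hb : b ∈ VK K {k | k ≠ 3}) :
    a * b * a⁻¹ * b⁻¹ ∈ XT K := by
  rw [← range_xh]
  exact com a ha b hb

theorem nn_ne (h2 : (2 : K) ≠ 0) {r s : ℕ} (h : nn r s = 1 ∨ nn r s = -1 ∨ nn r s = 2 ∨ nn r s = -2) :
    ((nn r s : ℤ) : K) ≠ 0 := by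
  rcases h with h | h | h | h <;> rw [h] <;> push_cast
  · exact one_ne_zero
  · exact neg_ne_zero.2 one_ne_zero
  · exact h2
  · exact neg_ne_zero.2 h2

/-- the form is non-degenerate -/
theorem nd (h2 : (2 : K) ≠ 0) (q : ↥(chevF4.group K)) (hq : q ∈ VK K {k | k ≠ 3}) (hn : q ∉ (xh K).range) (t : K) :
    ∃ q' ∈ VK K {k | k ≠ 3}, q' * q * q'⁻¹ * q⁻¹ = xh K (.ofAdd t) := by
  obtain ⟨c, hc⟩ := exists_R hq
  obtain ⟨s, hs, hcs⟩ : ∃ s ∈ L14, c s ≠ 0 := by
    by_contra hcon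
    push Not at hcon
    obtain ⟨b, hb⟩ := hc
    apply hn
    rw [mem_range]
    refine ⟨b, ?_⟩
    rw [hb, E_congr (d := (0 : ℕ → K)) hcon, E_zero, one_mul]
  obtain ⟨r, hr, h3, h4⟩ := tabP s hs
  have h5 := nn_ne h2 h3
  refine ⟨e r (t / (((nn r s : ℤ) : K) * c s)), e_mem_VV (L14_sub r hr) _, ?_⟩
  set y := t / (((nn r s : ℤ) : K) * c s) with hy
  obtain ⟨b, rfl⟩ := hc
  have h6 := E_comm_e (fun s hs => hs) c hr y (L := L14)
  have h7 : (L14.map fun s' => -((nn r s' : ℤ) : K) * c s' * y).sum = -t := by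
    have h8 := sum_delta L14_nodup hs (fun s' => -((nn r s' : ℤ) : K) * c s' * y)
    rw [show -t = -((nn r s : ℤ) : K) * c s * y by rw [hy]; field_simp, ← h8]
    congr 1
    refine List.map_congr_left fun s' hs' => ?_
    by_cases h9 : s' = s
    · rw [if_pos h9]
    · rw [if_neg h9, h4 s' hs' h9, Int.cast_zero, neg_zero, zero_mul, zero_mul]
  rw [h7] at h6
  have h10 : e r y * e 47 b = e 47 b * e r y := comm47 (List.mem_append_left _ (L14_sub r hr)) y b
  have h11 : E L14 c * e 47 (-t) = e 47 (-t) * E L14 c := e47_comm_E (fun s hs => hs) c (-t) (L := L14)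
  have h12 : (e 47 (-t) : ↥(chevF4.group K)) = (e 47 t)⁻¹ := ex_neg hF 47 t
  have h13 : e r y * E L14 c = E L14 c * e r y * e 47 t := by
    rw [h6, h12]; group
  have h14 : (E L14 c * e 47 b) * e r y = E L14 c * e r y * e 47 b := by
    rw [mul_assoc, ← h10]; group
  have h15 : e r y * (E L14 c * e 47 b) = (E L14 c * e 47 b) * e r y * e 47 t := by
    rw [h14, ← mul_assoc, h13, mul_assoc _ (e 47 t), mul_assoc _ (e 47 b), e47_add, e47_add, add_comm]
  have h16 : R ((E L14 c * e 47 b) * e r y) (c + sg r y) :=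
    R.mul ⟨b, rfl⟩ (R.sg (L14_sub r hr) y)
  rw [h15, cen_R h16 t, xh_e]
  group

theorem nd' (h2 : (2 : K) ≠ 0) (q : ↥(chevF4.group K)) (hq : q ∈ VK K {k | k ≠ 3}) (hn : q ∉ XT K)
    (z : ↥(chevF4.group K)) (hz : z ∈ XT K) : ∃ q' ∈ VK K {k | k ≠ 3}, q' * q * q'⁻¹ * q⁻¹ = z := by
  rw [← range_xh] at hn hz
  obtain ⟨t, rfl⟩ := hz
  exact nd h2 q hq hn t.toAdd

variable [Finite K]

/-- the parabolic subgroup normalises `V` -/
theorem hei_norm {g : ↥(chevF4.group K)} (hg : g ∈ PK K {k | k ≠ 3}) (q : ↥(chevF4.group K)) :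
    q ∈ VK K {k | k ≠ 3} ↔ g * q * g⁻¹ ∈ VK K {k | k ≠ 3} := by
  obtain ⟨p, hpc⟩ := CharP.exists K
  have : Fact p.Prime := ⟨CharP.char_is_prime K p⟩
  exact Subgroup.mem_normalizer_iff.1 (PJ_le_normalizer_VJ (rgd (K := K) hF cF p) {k | k ≠ 3} hg) q

/-- the parabolic subgroup acts on `X_θ` by scalars -/
theorem hei_act {g : ↥(chevF4.group K)} (hg : g ∈ PK K {k | k ≠ 3}) :
    ∃ c : K, c ≠ 0 ∧ ∀ t : K, g * xh K (.ofAdd t) * g⁻¹ = xh K (.ofAdd (c * t)) := by
  let S : Subgroup ↥(chevF4.group K) :=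
    { carrier := {g | ∃ c : K, c ≠ 0 ∧ ∀ t : K, g * e 47 t * g⁻¹ = e 47 (c * t)}
      mul_mem' := by
        rintro a b ⟨c, hc, h1⟩ ⟨d, hd, h2⟩
        refine ⟨c * d, mul_ne_zero hc hd, fun t => ?_⟩
        rw [mul_assoc c, ← h1, ← h2]
        group
      one_mem' := ⟨1, one_ne_zero, fun t => by rw [one_mul, inv_one, mul_one, one_mul]⟩
      inv_mem' := by
        rintro a ⟨c, hc, h1⟩
        refine ⟨c⁻¹, inv_ne_zero hc, fun t => ?_⟩
        have h2 := h1 (c⁻¹ * t)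
        rw [← mul_assoc, mul_inv_cancel₀ hc, one_mul] at h2
        rw [← h2]
        group }
  have hT : TT chevF4 K ≤ S := by
    intro t ht
    obtain ⟨h1, h2⟩ := act hF lt47 ht
    exact ⟨_, h1, fun a => by rw [← xc_e, ← xc_e]; exact h2 a⟩
  have hC : VV K ⊔ MM K ≤ S := by
    intro t ht
    refine ⟨1, one_ne_zero, fun a => ?_⟩
    rw [one_mul, comm_theta ht ((mem_XX_vec hF lt47).2 ⟨a, rfl⟩), mul_inv_cancel_right]
  have hP : PK K {k | k ≠ 3} ≤ S :=
    sup_le (sup_le hT (le_trans le_sup_right hC)) (le_trans le_sup_left hC)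
  obtain ⟨c, hc, h1⟩ := hP hg
  exact ⟨c, hc, fun t => by rw [xh_e, xh_e]; exact h1 t⟩

theorem card_V : Nat.card ↥(VK K {k | k ≠ 3}) = Nat.card K ^ 15 := card_VV

end Cfsg.Agent.H374.FR.Comm
end

-- part: H374/FR/Hei
section
prune_inst 0x14707940052210000018009291005c446a000502004b800081e00b020fc026622003ae61bcb00112100280c4603d0820025400a00060000004000c00011c0180188012049108000002000601100040500008100002000000000080000000000400c010000
set_option linter.all false
open scoped Cfsg.Agent.FastGrp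

-- part: H980/RB/CutQ
section
/-!
# Cutting a representation along a central root group (S2452, `F₄(q)`; helper980)

`G` finite, `X : Multiplicative F →* G` with central image (`F` a finite additive group), `Q` a subgroup containing the image,
`Q` modulo the image abelian, `g` normalises `Q`:

* `ratioQ` : nondegenerate commutator form, `|{x ∈ Q : [x, g] ∈ X}| ≤ s² |Q|`:
  `‖tr g‖ ≤ dim V^(X, [Q, g]) + (dim V - dim V^X) * s`;
* `ratioQ_zero` : every `X t` is a commutator `[x, g]`: `‖tr g‖ ≤ dim V^(X, [Q, g])`;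
* `finrank_fixQ_le` : `‖tr q‖ ≤ B` on `Q ∖ X`, `|{x ∈ Q : [x, g] ∈ X}| ≤ t |Q|`: `dim V^(X, [Q, g]) ≤ t dim V^X + B`;
* `tr_fixQ`, `tr_conjQ` : the two combined.
-/

set_option autoImplicit false

namespace Cfsg.Agent.H980.RB

open Module

variable {G : Type*} [Group G] {V : Type*} [AddCommGroup V] [Module ℂ V] {F : Type*} [AddCommGroup F]

/-- the isotypic part of the character `ψ` of the root group -/
def isoM (ρ : Representation ℂ G V) (X : Multiplicative F →* G) (ψ : AddChar F ℂ) : Submodule ℂ V where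
  carrier := {v | ∀ t : F, ρ (X (Multiplicative.ofAdd t)) v = ψ t • v}
  add_mem' := fun {v w} hv hw t => by rw [map_add, smul_add, hv t, hw t]
  zero_mem' := fun t => by rw [map_zero, smul_zero]
  smul_mem' := fun c v hv t => by rw [map_smul, hv t, smul_comm]

theorem mem_isoM {ρ : Representation ℂ G V} {X : Multiplicative F →* G} {ψ : AddChar F ℂ} {v : V} :
    v ∈ isoM ρ X ψ ↔ ∀ t : F, ρ (X (Multiplicative.ofAdd t)) v = ψ t • v := Iff.rfl

/-- the projection onto the isotypic part -/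
noncomputable def prjQ [Fintype F] (ρ : Representation ℂ G V) (X : Multiplicative F →* G) (ψ : AddChar F ℂ) : V →ₗ[ℂ] V :=
  (Fintype.card F : ℂ)⁻¹ • ∑ t : F, ψ (-t) • ρ (X (Multiplicative.ofAdd t))

theorem prjQ_apply [Fintype F] (ρ : Representation ℂ G V) (X : Multiplicative F →* G) (ψ : AddChar F ℂ) (v : V) :
    prjQ ρ X ψ v = (Fintype.card F : ℂ)⁻¹ • ∑ t : F, ψ (-t) • ρ (X (Multiplicative.ofAdd t)) v := by
  rw [prjQ, LinearMap.smul_apply, LinearMap.sum_apply]
  rfl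

theorem card_ne [Fintype F] : (Fintype.card F : ℂ) ≠ 0 := by
  exact_mod_cast Fintype.card_ne_zero

theorem prjQ_mem [Fintype F] {ρ : Representation ℂ G V} {X : Multiplicative F →* G} (ψ : AddChar F ℂ) (v : V) :
    prjQ ρ X ψ v ∈ isoM ρ X ψ := by
  intro s
  rw [prjQ_apply, map_smul, map_sum, smul_comm]
  congr 1
  rw [Finset.smul_sum, ← Equiv.sum_comp (Equiv.addLeft s) fun t => ψ s • ψ (-t) • ρ (X (Multiplicative.ofAdd t)) v]
  refine Finset.sum_congr rfl fun t _ => ?_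
  have h1 : ψ s * ψ (-(s + t)) = ψ (-t) := by
    rw [← AddChar.map_add_eq_mul, neg_add, add_neg_cancel_left]
  rw [Equiv.coe_addLeft, map_smul, ← Module.End.mul_apply, ← map_mul, ← map_mul, ← ofAdd_add, smul_smul, h1]

theorem prjQ_eq [Fintype F] {ρ : Representation ℂ G V} {X : Multiplicative F →* G} {ψ : AddChar F ℂ} {v : V}
    (hv : v ∈ isoM ρ X ψ) : prjQ ρ X ψ v = v := by
  rw [mem_isoM] at hv
  rw [prjQ_apply]
  have h1 : ∀ t : F, ψ (-t) • ρ (X (Multiplicative.ofAdd t)) v = v := by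
    intro t
    rw [hv t, smul_smul, ← AddChar.map_add_eq_mul, neg_add_cancel, AddChar.map_zero_eq_one, one_smul]
  rw [Finset.sum_congr rfl fun t _ => h1 t, Finset.sum_const, Finset.card_univ, ← Nat.cast_smul_eq_nsmul ℂ, smul_smul,
    inv_mul_cancel₀ card_ne, one_smul]

open Classical in
/-- the projections add up to `1` -/
theorem prjQ_sum [Fintype F] (ρ : Representation ℂ G V) (X : Multiplicative F →* G) :
    ∑ ψ : AddChar F ℂ, prjQ ρ X ψ = 1 := by
  ext v
  rw [LinearMap.sum_apply, Finset.sum_congr rfl fun ψ _ => prjQ_apply ρ X ψ v, ← Finset.smul_sum, Finset.sum_comm]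
  have h1 : ∀ t : F, ∑ ψ : AddChar F ℂ, ψ (-t) • ρ (X (Multiplicative.ofAdd t)) v =
      if t = 0 then (Fintype.card F : ℂ) • v else 0 := by
    intro t
    rw [← Finset.sum_smul, AddChar.sum_apply_eq_ite]
    by_cases ht : t = 0
    · rw [if_pos ht, if_pos (by rw [ht, neg_zero]), ht, ofAdd_zero, map_one, map_one, Module.End.one_apply]
    · rw [if_neg ht, if_neg (fun h => ht (neg_eq_zero.1 h)), zero_smul]
  rw [Finset.sum_congr rfl fun t _ => h1 t, Finset.sum_ite_eq' Finset.univ (0 : F), if_pos (Finset.mem_univ _), smul_smul,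
    inv_mul_cancel₀ card_ne, one_smul, Module.End.one_apply]

/-- invariance of the isotypic parts -/
theorem isoM_inv {ρ : Representation ℂ G V} {X : Multiplicative F →* G} (hX : ∀ (t : Multiplicative F) (g : G), g * X t = X t * g)
    (ψ : AddChar F ℂ) : ∀ p : G, ∀ w ∈ isoM ρ X ψ, ρ p w ∈ isoM ρ X ψ := by
  intro p w hw t
  rw [← Module.End.mul_apply, ← map_mul, ← hX, map_mul, Module.End.mul_apply, hw t, map_smul]

theorem res_X {ρ : Representation ℂ G V} {X : Multiplicative F →* G} (hX : ∀ (t : Multiplicative F) (g : G), g * X t = X t * g)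
    (ψ : AddChar F ℂ) (t : F) : resRep ρ (isoM ρ X ψ) (isoM_inv hX ψ) (X (Multiplicative.ofAdd t)) = ψ t • 1 := by
  ext w
  rw [resRep_apply]
  exact w.2 t

section cut

variable [Finite G] [FiniteDimensional ℂ V] [Fintype F] {ρ : Representation ℂ G V} {X : Multiplicative F →* G}
  {Q : Subgroup G} {g : G}

/-- the faithful part -/
theorem faithfulQ_le (hX : ∀ (t : Multiplicative F) (g : G), g * X t = X t * g) (hXQ : ∀ t, X t ∈ Q)
    (hnd : ∀ q ∈ Q, q ∉ X.range → ∀ t : F, ∃ q' ∈ Q, q' * q * q'⁻¹ * q⁻¹ = X (Multiplicative.ofAdd t))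
    (hg : ∀ q, q ∈ Q ↔ g * q * g⁻¹ ∈ Q) {ψ : AddChar F ℂ} (hψ : ψ ≠ 1) :
    ‖LinearMap.trace ℂ V (prjQ ρ X ψ * ρ g)‖ ^ 2 * Nat.card Q ≤ (finrank ℂ ↥(isoM ρ X ψ) : ℝ) ^ 2 *
      Nat.card {x : ↥Q // (x : G) * g * (x : G)⁻¹ * g⁻¹ ∈ X.range} := by
  rw [trace_proj' ρ (isoM ρ X ψ) (isoM_inv hX ψ) (prjQ ρ X ψ) (prjQ_mem ψ) (fun w hw => prjQ_eq hw)]
  refine weil (resRep ρ (isoM ρ X ψ) (isoM_inv hX ψ)) Q X.range ?_ ?_ ?_ g (fun q hq => (hg q).1 hq) ?_
  · rintro _ ⟨t, rfl⟩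
    exact ⟨_, res_X hX ψ (Multiplicative.toAdd t)⟩
  · intro q hq hqz
    obtain ⟨t, ht⟩ := AddChar.ne_one_iff.1 hψ
    obtain ⟨q', -, h1⟩ := hnd q hq hqz t
    exact ⟨q', ψ t, ht, by rw [h1]; exact res_X hX ψ t⟩
  · rintro _ ⟨t, rfl⟩
    exact hXQ t
  · rintro _ ⟨t, rfl⟩ q _
    exact (hX t q).symm

omit [Finite G] [FiniteDimensional ℂ V] [Fintype F] in
/-- the abelian action on the fixed space of `X` -/
theorem resQ_comm (hX : ∀ (t : Multiplicative F) (g : G), g * X t = X t * g)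
    (hQX : ∀ q ∈ Q, ∀ q' ∈ Q, q * q' * q⁻¹ * q'⁻¹ ∈ X.range) :
    ∀ q ∈ Q, ∀ q' ∈ Q, resRep ρ (isoM ρ X 1) (isoM_inv hX 1) q * resRep ρ (isoM ρ X 1) (isoM_inv hX 1) q' =
      resRep ρ (isoM ρ X 1) (isoM_inv hX 1) q' * resRep ρ (isoM ρ X 1) (isoM_inv hX 1) q := by
  intro q hq q' hq'
  obtain ⟨t, ht⟩ := hQX q hq q' hq'
  have h1 : q * q' = (q * q' * q⁻¹ * q'⁻¹) * (q' * q) := by group
  have h2 : resRep ρ (isoM ρ X 1) (isoM_inv hX 1) (X t) = 1 := by
    have := res_X (ρ := ρ) hX 1 (Multiplicative.toAdd t)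
    rw [AddChar.one_apply, one_smul] at this
    exact this
  rw [← map_mul, h1, ← ht, map_mul, h2, one_mul, map_mul]

/-- the part with trivial `X` -/
theorem fixedQ_le (hX : ∀ (t : Multiplicative F) (g : G), g * X t = X t * g)
    (hQX : ∀ q ∈ Q, ∀ q' ∈ Q, q * q' * q⁻¹ * q'⁻¹ ∈ X.range) (hg : ∀ q, q ∈ Q ↔ g * q * g⁻¹ ∈ Q) :
    ‖LinearMap.trace ℂ V (prjQ ρ X 1 * ρ g)‖ ≤ finrank ℂ ↥(fixM ρ ((X.range : Set G) ∪ comSet Q g)) := by
  rw [trace_proj' ρ (isoM ρ X 1) (isoM_inv hX 1) (prjQ ρ X 1) (prjQ_mem 1) (fun w hw => prjQ_eq hw)]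
  refine (norm_trace_le_fix (resRep ρ (isoM ρ X 1) (isoM_inv hX 1)) Q (resQ_comm hX hQX) g hg).trans ?_
  have h1 : (fixM (resRep ρ (isoM ρ X 1) (isoM_inv hX 1)) (comSet Q g)).map (isoM ρ X 1).subtype ≤
      fixM ρ ((X.range : Set G) ∪ comSet Q g) := by
    rintro v ⟨w, hw, rfl⟩ s hs
    rcases hs with ⟨t, rfl⟩ | hs
    · have h2 := w.2 (Multiplicative.toAdd t)
      rw [AddChar.one_apply, one_smul] at h2
      exact h2
    · have h2 := hw s hs
      exact congrArg (fun u : ↥(isoM ρ X 1) => (u : V)) h2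
  have h2 := Submodule.finrank_mono h1
  rw [← (Submodule.equivMapOfInjective (isoM ρ X 1).subtype Subtype.val_injective _).finrank_eq] at h2
  exact_mod_cast h2

omit [Finite G] in
open Classical in
/-- the dimensions -/
theorem finrank_iso (ρ : Representation ℂ G V) (hX : ∀ (t : Multiplicative F) (g : G), g * X t = X t * g) :
    ∑ ψ ∈ Finset.univ.erase (1 : AddChar F ℂ), (finrank ℂ ↥(isoM ρ X ψ) : ℝ) = finrank ℂ V - finrank ℂ ↥(isoM ρ X 1) := by
  have h1 : ∀ ψ : AddChar F ℂ, LinearMap.trace ℂ V (prjQ ρ X ψ) = finrank ℂ ↥(isoM ρ X ψ) := by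
    intro ψ
    have h2 := trace_proj' ρ (isoM ρ X ψ) (isoM_inv hX ψ) (prjQ ρ X ψ) (prjQ_mem ψ) (fun w hw => prjQ_eq hw) 1
    rwa [map_one, map_one, mul_one, LinearMap.trace_one] at h2
  have h5 := congrArg (LinearMap.trace ℂ V) (prjQ_sum ρ X)
  rw [map_sum, Finset.sum_congr rfl fun ψ _ => h1 ψ, LinearMap.trace_one,
    ← Finset.add_sum_erase _ _ (Finset.mem_univ (1 : AddChar F ℂ))] at h5
  have h6 : (finrank ℂ ↥(isoM ρ X 1) : ℝ) + ∑ ψ ∈ Finset.univ.erase (1 : AddChar F ℂ), (finrank ℂ ↥(isoM ρ X ψ) : ℝ) =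
      finrank ℂ V := by exact_mod_cast h5
  linarith only [h6]

/-- **The ratio bound.** -/
theorem ratioQ (ρ : Representation ℂ G V) (hX : ∀ (t : Multiplicative F) (g : G), g * X t = X t * g) (hXQ : ∀ t, X t ∈ Q)
    (hQX : ∀ q ∈ Q, ∀ q' ∈ Q, q * q' * q⁻¹ * q'⁻¹ ∈ X.range)
    (hnd : ∀ q ∈ Q, q ∉ X.range → ∀ t : F, ∃ q' ∈ Q, q' * q * q'⁻¹ * q⁻¹ = X (Multiplicative.ofAdd t))
    (hg : ∀ q, q ∈ Q ↔ g * q * g⁻¹ ∈ Q) {s : ℝ} (hs : 0 ≤ s)
    (hK : (Nat.card {x : ↥Q // (x : G) * g * (x : G)⁻¹ * g⁻¹ ∈ X.range} : ℝ) ≤ s ^ 2 * Nat.card Q) :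
    ‖LinearMap.trace ℂ V (ρ g)‖ ≤ finrank ℂ ↥(fixM ρ ((X.range : Set G) ∪ comSet Q g)) +
      (finrank ℂ V - finrank ℂ ↥(isoM ρ X 1)) * s := by
  classical
  have hQ0 : (0 : ℝ) < Nat.card Q := by exact_mod_cast Nat.card_pos
  have h1 : ∀ ψ : AddChar F ℂ, ψ ≠ 1 → ‖LinearMap.trace ℂ V (prjQ ρ X ψ * ρ g)‖ ≤ finrank ℂ ↥(isoM ρ X ψ) * s := by
    intro ψ hψ
    have h2 := faithfulQ_le (ρ := ρ) hX hXQ hnd hg hψ
    have h3 : ‖LinearMap.trace ℂ V (prjQ ρ X ψ * ρ g)‖ ^ 2 * Nat.card Q ≤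
        ((finrank ℂ ↥(isoM ρ X ψ) : ℝ) * s) ^ 2 * Nat.card Q := by
      refine h2.trans ?_
      calc (finrank ℂ ↥(isoM ρ X ψ) : ℝ) ^ 2 * Nat.card {x : ↥Q // (x : G) * g * (x : G)⁻¹ * g⁻¹ ∈ X.range}
          ≤ (finrank ℂ ↥(isoM ρ X ψ) : ℝ) ^ 2 * (s ^ 2 * Nat.card Q) := mul_le_mul_of_nonneg_left hK (sq_nonneg _)
        _ = _ := by ring
    exact le_of_sq_le_sq (le_of_mul_le_mul_right h3 hQ0) (mul_nonneg (Nat.cast_nonneg _) hs)
  have h4 := fixedQ_le (ρ := ρ) hX hQX hg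
  have h5 : LinearMap.trace ℂ V (ρ g) = LinearMap.trace ℂ V (prjQ ρ X 1 * ρ g) +
      ∑ ψ ∈ Finset.univ.erase (1 : AddChar F ℂ), LinearMap.trace ℂ V (prjQ ρ X ψ * ρ g) := by
    rw [Finset.add_sum_erase Finset.univ (fun ψ : AddChar F ℂ => LinearMap.trace ℂ V (prjQ ρ X ψ * ρ g))
      (Finset.mem_univ (1 : AddChar F ℂ)), ← map_sum, ← Finset.sum_mul, prjQ_sum ρ X, one_mul]
  have h6 := finrank_iso ρ hX
  rw [h5, ← h6, Finset.sum_mul]
  refine (norm_add_le _ _).trans (add_le_add h4 ((norm_sum_le _ _).trans (Finset.sum_le_sum fun ψ hψ => ?_)))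
  exact h1 ψ (Finset.ne_of_mem_erase hψ)

end cut

end Cfsg.Agent.H980.RB
end

-- part: H980/RB/TraceQ
section
/-!
# Trace bounds along a root group (S2452, `F₄(q)`; helper980)

* `finrank_fixQ_le` : `‖tr q‖ ≤ B` on `Q ∖ X`, `|{x ∈ Q : [x, g] ∈ X}| ≤ t |Q|`: `dim V^(X, [Q, g]) ≤ t dim V^X + B`;
* `tr_fixQ`, `tr_conjQ` : combined with `ratioQ`, `ratioQ_zero`;
* `finrank_isoQ` : `dim V^X` from the traces.
-/

set_option autoImplicit false

namespace Cfsg.Agent.H980.RB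

open Module

variable {G : Type*} [Group G] {V : Type*} [AddCommGroup V] [Module ℂ V] {F : Type*} [AddCommGroup F] [Fintype F]

/-- `tr (e_X g)` -/
theorem trace_prjQ_one (ρ : Representation ℂ G V) (X : Multiplicative F →* G) (g : G) :
    LinearMap.trace ℂ V (prjQ ρ X 1 * ρ g) =
      (Fintype.card F : ℂ)⁻¹ * ∑ t : F, LinearMap.trace ℂ V (ρ (X (Multiplicative.ofAdd t) * g)) := by
  rw [prjQ, smul_mul_assoc, map_smul, smul_eq_mul, Finset.sum_mul, map_sum]
  congr 1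
  refine Finset.sum_congr rfl fun t _ => ?_
  rw [AddChar.one_apply, one_smul, ← map_mul]

variable [Finite G] [FiniteDimensional ℂ V] {X : Multiplicative F →* G} {Q : Subgroup G} {g : G}

/-- the dimension of the space fixed by `X` and `[Q, g]` -/
theorem finrank_fixQ_le (ρ : Representation ℂ G V) (hX : ∀ (t : Multiplicative F) (g : G), g * X t = X t * g)
    (hXQ : ∀ t, X t ∈ Q) (hQX : ∀ q ∈ Q, ∀ q' ∈ Q, q * q' * q⁻¹ * q'⁻¹ ∈ X.range) (hg : ∀ q, q ∈ Q ↔ g * q * g⁻¹ ∈ Q)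
    {B : ℝ} (hB0 : 0 ≤ B) (hB : ∀ q ∈ Q, q ∉ X.range → ‖LinearMap.trace ℂ V (ρ q)‖ ≤ B) {t : ℝ}
    (hc : (Nat.card {x : ↥Q // (x : G) * g * (x : G)⁻¹ * g⁻¹ ∈ X.range} : ℝ) ≤ t * Nat.card Q) :
    (finrank ℂ ↥(fixM ρ ((X.range : Set G) ∪ comSet Q g)) : ℝ) ≤ t * finrank ℂ ↥(isoM ρ X 1) + B := by
  classical
  have := Fintype.ofFinite ↥Q
  set σ := resRep ρ (isoM ρ X 1) (isoM_inv hX 1) with hσ
  have hQσ : ∀ q ∈ Q, ∀ q' ∈ Q, σ q * σ q' = σ q' * σ q := resQ_comm hX hQX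
  have h1 : fixM ρ ((X.range : Set G) ∪ comSet Q g) ≤ (fixM σ (comSet Q g)).map (isoM ρ X 1).subtype := by
    intro v hv
    have h2 : v ∈ isoM ρ X 1 := by
      intro t
      rw [AddChar.one_apply, one_smul]
      exact hv _ (Or.inl ⟨Multiplicative.ofAdd t, rfl⟩)
    refine ⟨⟨v, h2⟩, fun s hs => ?_, rfl⟩
    apply Subtype.ext
    rw [hσ, resRep_apply]
    exact hv s (Or.inr hs)
  have h2 : (finrank ℂ ↥(fixM ρ ((X.range : Set G) ∪ comSet Q g)) : ℝ) ≤ finrank ℂ ↥(fixM σ (comSet Q g)) := by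
    have h3 := Submodule.finrank_mono h1
    rw [← (Submodule.equivMapOfInjective (isoM ρ X 1).subtype Subtype.val_injective _).finrank_eq] at h3
    exact_mod_cast h3
  refine h2.trans ?_
  have h4 := finrank_fix σ Q hQσ g hg
  have hN : (0 : ℝ) < Fintype.card ↥Q := by exact_mod_cast Fintype.card_pos
  have hF : (0 : ℝ) < Fintype.card F := by exact_mod_cast Fintype.card_pos
  have h5 : ∀ q : ↥Q, ‖LinearMap.trace ℂ ↥(isoM ρ X 1) (σ ((q : G) * g * (q : G)⁻¹ * g⁻¹))‖ ≤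
      if (q : G) * g * (q : G)⁻¹ * g⁻¹ ∈ X.range then (finrank ℂ ↥(isoM ρ X 1) : ℝ) else B := by
    intro q
    split_ifs with hq
    · exact norm_trace_le σ _
    · rw [hσ, ← trace_proj' ρ (isoM ρ X 1) (isoM_inv hX 1) (prjQ ρ X 1) (prjQ_mem 1) (fun w hw => prjQ_eq hw),
        trace_prjQ_one]
      have hqQ : (q : G) * g * (q : G)⁻¹ * g⁻¹ ∈ Q := by
        have h6 : (q : G) * g * (q : G)⁻¹ * g⁻¹ = (q : G) * (g * (q : G)⁻¹ * g⁻¹) := by group
        rw [h6]
        exact Q.mul_mem q.2 ((hg _).1 (Q.inv_mem q.2))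
      generalize (q : G) * g * (q : G)⁻¹ * g⁻¹ = r at hq hqQ
      have h7 : ∀ t : F, ‖LinearMap.trace ℂ V (ρ (X (Multiplicative.ofAdd t) * r))‖ ≤ B := by
        intro t
        refine hB _ (Q.mul_mem (hXQ _) hqQ) fun h8 => hq ?_
        have h9 := Subgroup.mul_mem _ (Subgroup.inv_mem _ (⟨_, rfl⟩ : X (Multiplicative.ofAdd t) ∈ X.range)) h8
        rwa [inv_mul_cancel_left] at h9
      rw [norm_mul, norm_inv, Complex.norm_natCast]
      have h11 : ‖∑ t : F, LinearMap.trace ℂ V (ρ (X (Multiplicative.ofAdd t) * r))‖ ≤ Fintype.card F * B := by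
        refine (norm_sum_le _ _).trans ((Finset.sum_le_sum fun t _ => h7 t).trans ?_)
        rw [Finset.sum_const, Finset.card_univ, nsmul_eq_mul]
      calc (Fintype.card F : ℝ)⁻¹ * ‖∑ t : F, LinearMap.trace ℂ V (ρ (X (Multiplicative.ofAdd t) * r))‖
          ≤ (Fintype.card F : ℝ)⁻¹ * (Fintype.card F * B) := mul_le_mul_of_nonneg_left h11 (by positivity)
        _ = B := by rw [← mul_assoc, inv_mul_cancel₀ hF.ne', one_mul]
  have hKc : (Finset.univ.filter fun q : ↥Q => (q : G) * g * (q : G)⁻¹ * g⁻¹ ∈ X.range).card =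
      Nat.card {x : ↥Q // (x : G) * g * (x : G)⁻¹ * g⁻¹ ∈ X.range} := by
    rw [Nat.card_eq_fintype_card, Fintype.card_subtype]
  have h6 : (Fintype.card ↥Q : ℝ) * finrank ℂ ↥(fixM σ (comSet Q g)) ≤
      Nat.card {x : ↥Q // (x : G) * g * (x : G)⁻¹ * g⁻¹ ∈ X.range} * finrank ℂ ↥(isoM ρ X 1) + Fintype.card ↥Q * B := by
    have h7 : ‖((Fintype.card ↥Q : ℂ) * finrank ℂ ↥(fixM σ (comSet Q g)))‖ =
        (Fintype.card ↥Q : ℝ) * finrank ℂ ↥(fixM σ (comSet Q g)) := by
      rw [norm_mul, Complex.norm_natCast, Complex.norm_natCast]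
    rw [← h7, h4]
    refine (norm_sum_le _ _).trans ((Finset.sum_le_sum fun q _ => h5 q).trans ?_)
    have h8 : ∀ q : ↥Q, (if (q : G) * g * (q : G)⁻¹ * g⁻¹ ∈ X.range then (finrank ℂ ↥(isoM ρ X 1) : ℝ) else B) ≤
        (if (q : G) * g * (q : G)⁻¹ * g⁻¹ ∈ X.range then (finrank ℂ ↥(isoM ρ X 1) : ℝ) else 0) + B := by
      intro q
      split_ifs
      · linarith only [hB0]
      · linarith only []
    refine (Finset.sum_le_sum fun q _ => h8 q).trans ?_
    rw [Finset.sum_add_distrib, ← Finset.sum_filter, Finset.sum_const, Finset.sum_const, Finset.card_univ, nsmul_eq_mul,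
      nsmul_eq_mul, hKc]
  have hQc : (Nat.card Q : ℝ) = Fintype.card ↥Q := by rw [Nat.card_eq_fintype_card]
  rw [hQc] at hc
  have h7 : (Fintype.card ↥Q : ℝ) * finrank ℂ ↥(fixM σ (comSet Q g)) ≤
      (Fintype.card ↥Q : ℝ) * (t * finrank ℂ ↥(isoM ρ X 1) + B) := by
    refine h6.trans ?_
    have h8 : (Nat.card {x : ↥Q // (x : G) * g * (x : G)⁻¹ * g⁻¹ ∈ X.range} : ℝ) * finrank ℂ ↥(isoM ρ X 1) ≤
        t * Fintype.card ↥Q * finrank ℂ ↥(isoM ρ X 1) := mul_le_mul_of_nonneg_right hc (Nat.cast_nonneg _)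
    calc _ ≤ t * Fintype.card ↥Q * finrank ℂ ↥(isoM ρ X 1) + Fintype.card ↥Q * B := by linarith only [h8]
      _ = _ := by ring
  exact le_of_mul_le_mul_left h7 hN

/-- **`|{x ∈ Q : [x, g] ∈ X}| ≤ s² |Q|`.** -/
theorem tr_fixQ (ρ : Representation ℂ G V) (hX : ∀ (t : Multiplicative F) (g : G), g * X t = X t * g)
    (hXQ : ∀ t, X t ∈ Q) (hQX : ∀ q ∈ Q, ∀ q' ∈ Q, q * q' * q⁻¹ * q'⁻¹ ∈ X.range)
    (hnd : ∀ q ∈ Q, q ∉ X.range → ∀ t : F, ∃ q' ∈ Q, q' * q * q'⁻¹ * q⁻¹ = X (Multiplicative.ofAdd t))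
    (hg : ∀ q, q ∈ Q ↔ g * q * g⁻¹ ∈ Q)
    {B : ℝ} (hB0 : 0 ≤ B) (hB : ∀ q ∈ Q, q ∉ X.range → ‖LinearMap.trace ℂ V (ρ q)‖ ≤ B) {s : ℝ} (hs : 0 ≤ s)
    (hc : (Nat.card {x : ↥Q // (x : G) * g * (x : G)⁻¹ * g⁻¹ ∈ X.range} : ℝ) ≤ s ^ 2 * Nat.card Q) :
    ‖LinearMap.trace ℂ V (ρ g)‖ ≤ s ^ 2 * finrank ℂ ↥(isoM ρ X 1) + B + (finrank ℂ V - finrank ℂ ↥(isoM ρ X 1)) * s := by
  have h1 := ratioQ ρ hX hXQ hQX hnd hg hs hc
  have h2 := finrank_fixQ_le ρ hX hXQ hQX hg hB0 hB hc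
  linarith only [h1, h2]

end Cfsg.Agent.H980.RB
end

-- part: H980/RB/Step3
section
/-!
# Elements which centralise a long root group (S2452, `F₄(q)`, step 3; helper980)

* `Hei X Q` : `Q` is a Heisenberg group with centre `X.range`;
* `ratio_cent` : `g` centralises `X`, normalises `Q`, `|{x ∈ Q : [x, g] ∈ X}| ≤ s² |Q|`:
  `‖tr g‖ ≤ dim V^X + (dim V - dim V^X) s`;
* `finrank_X_le` : `‖tr x‖ ≤ r dim V` on `X ∖ 1`: `dim V^X ≤ (1 / q + (1 - 1 / q) r) dim V`;
* `step3` : `‖tr g‖ ≤ (c + (1 - c) s) dim V`, `c = 1 / q + (1 - 1 / q) r`.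
-/

set_option autoImplicit false

namespace Cfsg.Agent.H980.RB

open Module

variable {G : Type*} [Group G] {V : Type*} [AddCommGroup V] [Module ℂ V] {F : Type*} [AddCommGroup F]

/-- a Heisenberg group `Q` with centre `X.range` -/
structure Hei (X : Multiplicative F →* G) (Q : Subgroup G) : Prop where
  mem : ∀ t, X t ∈ Q
  cen : ∀ q ∈ Q, ∀ t, q * X t = X t * q
  com : ∀ q ∈ Q, ∀ q' ∈ Q, q * q' * q⁻¹ * q'⁻¹ ∈ X.range
  nd : ∀ q ∈ Q, q ∉ X.range → ∀ t : F, ∃ q' ∈ Q, q' * q * q'⁻¹ * q⁻¹ = X (Multiplicative.ofAdd t)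

variable {X : Multiplicative F →* G} {Q : Subgroup G}

theorem mem_cent {g : G} (h : ∀ t, g * X t = X t * g) : g ∈ Subgroup.centralizer (X.range : Set G) := by
  rw [Subgroup.mem_centralizer_iff]
  rintro _ ⟨t, rfl⟩
  exact (h t).symm

theorem of_mem_cent {g : G} (h : g ∈ Subgroup.centralizer (X.range : Set G)) (t : Multiplicative F) : g * X t = X t * g :=
  (Subgroup.mem_centralizer_iff.1 h _ ⟨t, rfl⟩).symm

theorem X_mem (h : Hei X Q) (t : Multiplicative F) : X t ∈ Subgroup.centralizer (X.range : Set G) :=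
  mem_cent fun s => h.cen _ (h.mem t) s

theorem Q_le (h : Hei X Q) : Q ≤ Subgroup.centralizer (X.range : Set G) := fun q hq => mem_cent fun t => h.cen q hq t

/-- `X` in its centraliser -/
def XP (h : Hei X Q) : Multiplicative F →* ↥(Subgroup.centralizer (X.range : Set G)) :=
  X.codRestrict _ (X_mem h)

theorem XP_cen (h : Hei X Q) (t : Multiplicative F) (g : ↥(Subgroup.centralizer (X.range : Set G))) :
    g * XP h t = XP h t * g := Subtype.ext (of_mem_cent g.2 t)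

theorem mem_XP (h : Hei X Q) (g : ↥(Subgroup.centralizer (X.range : Set G))) :
    g ∈ (XP h).range ↔ (g : G) ∈ X.range := by
  constructor
  · rintro ⟨t, rfl⟩
    exact ⟨t, rfl⟩
  · rintro ⟨t, ht⟩
    exact ⟨t, Subtype.ext ht⟩

theorem XP_com (h : Hei X Q) : ∀ q ∈ Q.subgroupOf (Subgroup.centralizer (X.range : Set G)),
    ∀ q' ∈ Q.subgroupOf (Subgroup.centralizer (X.range : Set G)), q * q' * q⁻¹ * q'⁻¹ ∈ (XP h).range :=
  fun q hq q' hq' => (mem_XP h _).2 (h.com q hq q' hq')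

theorem XP_nd (h : Hei X Q) : ∀ q ∈ Q.subgroupOf (Subgroup.centralizer (X.range : Set G)), q ∉ (XP h).range →
    ∀ t : F, ∃ q' ∈ Q.subgroupOf (Subgroup.centralizer (X.range : Set G)),
      q' * q * q'⁻¹ * q⁻¹ = XP h (Multiplicative.ofAdd t) := by
  intro q hq hqX t
  obtain ⟨q', hq', h1⟩ := h.nd q hq (fun h2 => hqX ((mem_XP h q).2 h2)) t
  exact ⟨⟨q', Q_le h hq'⟩, hq', Subtype.ext h1⟩

theorem XP_norm {g : G} (hgX : ∀ t, g * X t = X t * g) (hg : ∀ q, q ∈ Q ↔ g * q * g⁻¹ ∈ Q) :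
    ∀ q, q ∈ Q.subgroupOf (Subgroup.centralizer (X.range : Set G)) ↔
      (⟨g, mem_cent hgX⟩ : ↥(Subgroup.centralizer (X.range : Set G))) * q *
        (⟨g, mem_cent hgX⟩ : ↥(Subgroup.centralizer (X.range : Set G)))⁻¹ ∈
          Q.subgroupOf (Subgroup.centralizer (X.range : Set G)) := fun q => hg q

/-- the restriction of the representation -/
def resC (ρ : Representation ℂ G V) (X : Multiplicative F →* G) :
    Representation ℂ ↥(Subgroup.centralizer (X.range : Set G)) V :=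
  MonoidHom.comp ρ (Subgroup.centralizer (X.range : Set G)).subtype

theorem isoM_resC (ρ : Representation ℂ G V) (h : Hei X Q) (ψ : AddChar F ℂ) :
    isoM (resC ρ X) (XP h) ψ = isoM ρ X ψ := rfl

theorem card_sub (h : Hei X Q) {g : G} (hgX : ∀ t, g * X t = X t * g) :
    Nat.card {x : ↥(Q.subgroupOf (Subgroup.centralizer (X.range : Set G))) //
      (x : ↥(Subgroup.centralizer (X.range : Set G))) * ⟨g, mem_cent hgX⟩ *
        (x : ↥(Subgroup.centralizer (X.range : Set G)))⁻¹ * (⟨g, mem_cent hgX⟩ : ↥(Subgroup.centralizer (X.range : Set G)))⁻¹ ∈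
        (XP h).range} = Nat.card {x : ↥Q // (x : G) * g * (x : G)⁻¹ * g⁻¹ ∈ X.range} := by
  refine Nat.card_congr ?_
  refine Equiv.subtypeEquiv (Subgroup.subgroupOfEquivOfLe (Q_le h)).toEquiv fun x => ?_
  rw [mem_XP]
  rfl

variable [Fintype F] [Finite G] [FiniteDimensional ℂ V]

/-- **`g` centralises `X`, `g ∉ Q`**, with a bound `B` on `Q ∖ X`. -/
theorem ratio_out (ρ : Representation ℂ G V) (h : Hei X Q) {g : G} (hgX : ∀ t, g * X t = X t * g)
    (hg : ∀ q, q ∈ Q ↔ g * q * g⁻¹ ∈ Q) {B s : ℝ} (hB0 : 0 ≤ B)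
    (hB : ∀ q ∈ Q, q ∉ X.range → ‖LinearMap.trace ℂ V (ρ q)‖ ≤ B) (hs0 : 0 ≤ s) (hs1 : s ≤ 1)
    (hK : (Nat.card {x : ↥Q // (x : G) * g * (x : G)⁻¹ * g⁻¹ ∈ X.range} : ℝ) ≤ s ^ 2 * Nat.card Q) :
    ‖LinearMap.trace ℂ V (ρ g)‖ ≤ B + s * finrank ℂ V := by
  have h1 := tr_fixQ (resC ρ X) (XP_cen h) (fun t => show X t ∈ Q from h.mem t) (XP_com h) (XP_nd h) (XP_norm hgX hg) hB0
    (fun q hq hqX => hB q hq fun h2 => hqX ((mem_XP h q).2 h2)) hs0 (by
    rw [card_sub h hgX, Nat.card_congr (Subgroup.subgroupOfEquivOfLe (Q_le h)).toEquiv]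
    exact hK)
  rw [isoM_resC] at h1
  refine h1.trans ?_
  have hD0 : (0 : ℝ) ≤ ((finrank ℂ ↥(isoM ρ X 1) : ℕ) : ℝ) := Nat.cast_nonneg _
  generalize ((finrank ℂ ↥(isoM ρ X 1) : ℕ) : ℝ) = D at hD0 ⊢
  have h2 : 0 ≤ D * (s * (1 - s)) := mul_nonneg hD0 (mul_nonneg hs0 (by linarith))
  have h3 : s ^ 2 * D + B + (finrank ℂ V - D) * s = B + s * finrank ℂ V - D * (s * (1 - s)) := by ring
  linarith

end Cfsg.Agent.H980.RB
end

-- part: H980/RB/Step3F
section
/-!
# `F₄(q)`: elements which centralise a long root element (S2452, step 3; helper980)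

* `xt K` : the root group of the highest root, `Hei (xt K) (VK K {k | k ≠ 3})` from the commutators (`hei_of`);
* `step3F` : `‖χ x‖ ≤ r χ(1)` on `V_J ∖ 1` and `|{x ∈ V_J : [x, g] ∈ X_θ}| ≤ s² |V_J|` for `g ∈ C(X_θ) ∖ V_J`:
  `‖χ g‖ ≤ (r + s) χ(1)` for all `g ≠ 1` which centralise a long root element.
-/

set_option autoImplicit false
set_option linter.unusedSectionVars false

namespace Cfsg.Agent.H980.RB

open CoxeterSystem Cfsg.Agent.ChevalleyStructure.CoxeterGeom Cfsg.Agent.Tits.Roots Cfsg.Agent.Tits.Core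
  Cfsg.Agent.Tits.Exchange Cfsg.Agent.Nodes.Reps Cfsg.Agent.Nodes.BNOf Cfsg.Agent.Nodes.StabComb
  Cfsg.Agent.Nodes.Bruhat Cfsg.Agent.Nodes.OppDec Cfsg.Agent.Nodes.LeviDec Cfsg.Agent.Nodes.NormX
  Cfsg.Agent.Nodes.Coroot Cfsg.Agent.Nodes.RGDChev Cfsg.Agent.KFacts.RgdPar Cfsg.Agent.KFacts.RgdTI
  Cfsg.Agent.KFacts.RgdCent Cfsg.Agent.KFacts.RgdChevCoord Cfsg.Agent.Nodes.ChevCls
  Cfsg.Agent.OddHalf.NI.ModelChev Cfsg.Agent.H225.PPow
open Cfsg.Lie Cfsg.Agent.ChevalleyStructure Cfsg.Agent.ChevalleyStructure.Elts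
  Cfsg.Agent.ChevalleyStructure.RootVec Cfsg.Agent.ChevalleyStructure.NPerm
  Cfsg.Agent.ChevalleyStructure.CoxeterGeomTypes
open Cfsg.Agent.H701.F43.Cent Cfsg.Agent.H520.FC
open Module

universe u

variable {K : Type u} [Field K] [Finite K]

theorem xt_add (a b : K) :
    xc hF (vec chevF4 4 47) (a + b) = xc hF (vec chevF4 4 47) a * xc hF (vec chevF4 4 47) b := by
  obtain ⟨p, hpc⟩ := CharP.exists K
  have : Fact p.Prime := ⟨CharP.char_is_prime K p⟩
  exact ((coords (K := K) hF cF p).coord _ isRoot_theta).add a b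

theorem xt_zero : xc hF (vec chevF4 4 47) (0 : K) = 1 := by
  obtain ⟨p, hpc⟩ := CharP.exists K
  have : Fact p.Prime := ⟨CharP.char_is_prime K p⟩
  exact ((coords (K := K) hF cF p).coord _ isRoot_theta).zero

theorem mem_XT {z : ↥(chevF4.group K)} : z ∈ XT K ↔ ∃ a, xc hF (vec chevF4 4 47) a = z := by
  obtain ⟨p, hpc⟩ := CharP.exists K
  have : Fact p.Prime := ⟨CharP.char_is_prime K p⟩
  exact ((coords (K := K) hF cF p).coord _ isRoot_theta).mem z

/-- the root group of the highest root -/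
noncomputable def xt (K : Type u) [Field K] [Finite K] : Multiplicative K →* ↥(chevF4.group K) where
  toFun t := xc hF (vec chevF4 4 47) (Multiplicative.toAdd t)
  map_one' := xt_zero
  map_mul' _ _ := xt_add _ _

theorem xt_apply (t : Multiplicative K) : xt K t = xc hF (vec chevF4 4 47) (Multiplicative.toAdd t) := rfl

theorem xt_mem (t : Multiplicative K) : xt K t ∈ XT K := mem_XT.2 ⟨_, rfl⟩

theorem xt_range : (xt K).range = XT K := by
  ext z
  rw [mem_XT]
  constructor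
  · rintro ⟨t, rfl⟩
    exact ⟨_, rfl⟩
  · rintro ⟨a, rfl⟩
    exact ⟨Multiplicative.ofAdd a, rfl⟩

theorem XT_le_VK : XT K ≤ VK K {k | k ≠ 3} := by
  have h1 : vec chevF4 4 47 ∈ NotJ cF hF.isCartan J3 := mem_NotJ_iff.2 ⟨47, by decide, rfl⟩
  exact RGD.le_Sup h1

theorem hei_of (hcom : ∀ a ∈ VK K {k | k ≠ 3}, ∀ b ∈ VK K {k | k ≠ 3}, a * b * a⁻¹ * b⁻¹ ∈ XT K)
    (hnd : ∀ v ∈ VK K {k | k ≠ 3}, v ∉ XT K → ∀ z ∈ XT K, ∃ w ∈ VK K {k | k ≠ 3}, w * v * w⁻¹ * v⁻¹ = z) :
    Hei (xt K) (VK K {k | k ≠ 3}) where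
  mem t := XT_le_VK (xt_mem t)
  cen q hq t := comm_theta (le_sup_left (a := VV K) hq) (xt_mem t)
  com q hq q' hq' := by
    rw [xt_range]
    exact hcom q hq q' hq'
  nd q hq hqX t := by
    rw [xt_range] at hqX
    exact hnd q hq hqX _ (xt_mem _)

theorem mem_sup {g z : ↥(chevF4.group K)} (hz : z ∈ XT K) (hz1 : z ≠ 1) (hg : g * z = z * g) : g ∈ VV K ⊔ MM K := by
  obtain ⟨c, rfl⟩ := mem_XT.1 hz
  have hc : c ≠ 0 := by
    rintro rfl
    exact hz1 xt_zero
  obtain ⟨v, hv, m, hm, rfl⟩ := cent hc hg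
  exact mul_mem (le_sup_left (a := VV K) hv) (le_sup_right (a := VV K) hm)

theorem norm_VV {g : ↥(chevF4.group K)} (hg : g ∈ VV K ⊔ MM K) (q : ↥(chevF4.group K)) :
    q ∈ VV K ↔ g * q * g⁻¹ ∈ VV K := by
  obtain ⟨p, hpc⟩ := CharP.exists K
  have : Fact p.Prime := ⟨CharP.char_is_prime K p⟩
  have h1 : VV K ⊔ MM K ≤ Subgroup.normalizer (VV K : Set ↥(chevF4.group K)) :=
    sup_le Subgroup.le_normalizer (MM_le_normalizer p)
  exact Subgroup.mem_normalizer_iff.1 (h1 hg) q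

variable {V : Type*} [AddCommGroup V] [Module ℂ V] [FiniteDimensional ℂ V]

/-- **Elements which centralise a long root element.** -/
theorem step3F (H : Hei (xt K) (VK K {k | k ≠ 3})) (ρ : Representation ℂ ↥(chevF4.group K) V)
    {r s : ℝ} (hr0 : 0 ≤ r) (hs0 : 0 ≤ s) (hs1 : s ≤ 1)
    (hr : ∀ x ∈ VK K {k | k ≠ 3}, x ≠ 1 → ‖ρ.character x‖ ≤ r * finrank ℂ V)
    {g z : ↥(chevF4.group K)} (hg1 : g ≠ 1) (hz : z ∈ XT K) (hz1 : z ≠ 1) (hgz : g * z = z * g)
    (hX : g ∉ VK K {k | k ≠ 3} → (Nat.card {x : ↥(VK K {k | k ≠ 3}) //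
      (x : ↥(chevF4.group K)) * g * (x : ↥(chevF4.group K))⁻¹ * g⁻¹ ∈ XT K} : ℝ) ≤ s ^ 2 * Nat.card ↥(VK K {k | k ≠ 3})) :
    ‖ρ.character g‖ ≤ (r + s) * finrank ℂ V := by
  have hd : (0 : ℝ) ≤ finrank ℂ V := Nat.cast_nonneg _
  have := Fintype.ofFinite K
  by_cases hgQ : g ∈ VK K {k | k ≠ 3}
  · refine (hr g hgQ hg1).trans ?_
    have := mul_nonneg hs0 hd
    linarith
  · have h1 := mem_sup hz hz1 hgz
    have h2 := ratio_out ρ H (fun t => comm_theta h1 (xt_mem t)) (fun q => norm_VV h1 q) (B := r * finrank ℂ V)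
      (mul_nonneg hr0 hd) (fun q hq hqX => hr q hq fun h3 => hqX (by rw [h3]; exact one_mem _)) hs0 hs1
      (by rw [xt_range]; exact hX hgQ)
    have h3 : (r + s) * (finrank ℂ V : ℝ) = r * finrank ℂ V + s * finrank ℂ V := by ring
    rw [h3]
    exact h2

/-- `q ≥ 9`, `|{x ∈ V_J : [x, g] ∈ X_θ}| ≤ q^12`: `‖χ g‖ ≤ (r + 1 / 27) χ(1)` -/
theorem step3F_nine (H : Hei (xt K) (VK K {k | k ≠ 3})) (hc : Nat.card ↥(VK K {k | k ≠ 3}) = Nat.card K ^ 15)
    (hq : 9 ≤ Nat.card K) (ρ : Representation ℂ ↥(chevF4.group K) V) {r : ℝ} (hr0 : 0 ≤ r)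
    (hr : ∀ x ∈ VK K {k | k ≠ 3}, x ≠ 1 → ‖ρ.character x‖ ≤ r * finrank ℂ V)
    {g z : ↥(chevF4.group K)} (hg1 : g ≠ 1) (hz : z ∈ XT K) (hz1 : z ≠ 1) (hgz : g * z = z * g)
    (hX : g ∉ VK K {k | k ≠ 3} → Nat.card {x : ↥(VK K {k | k ≠ 3}) //
      (x : ↥(chevF4.group K)) * g * (x : ↥(chevF4.group K))⁻¹ * g⁻¹ ∈ XT K} ≤ Nat.card K ^ 12) :
    ‖ρ.character g‖ ≤ (r + 1 / 27) * finrank ℂ V := by
  refine step3F H ρ hr0 (by norm_num) (by norm_num) hr hg1 hz hz1 hgz fun h1 => ?_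
  have h2 : (Nat.card {x : ↥(VK K {k | k ≠ 3}) //
      (x : ↥(chevF4.group K)) * g * (x : ↥(chevF4.group K))⁻¹ * g⁻¹ ∈ XT K} : ℝ) ≤ (Nat.card K : ℝ) ^ 12 := by
    exact_mod_cast hX h1
  refine h2.trans ?_
  rw [hc]
  push_cast
  have h3 : (9 : ℝ) ≤ Nat.card K := by exact_mod_cast hq
  generalize (Nat.card K : ℝ) = x at h3 ⊢
  have h4 : (9 : ℝ) ^ 3 ≤ x ^ 3 := pow_le_pow_left₀ (by norm_num) h3 3
  have h5 : (0 : ℝ) ≤ x ^ 12 := by positivity
  calc x ^ 12 = (1 / 27) ^ 2 * ((9 : ℝ) ^ 3 * x ^ 12) := by ring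
    _ ≤ (1 / 27) ^ 2 * (x ^ 3 * x ^ 12) := by gcongr
    _ = (1 / 27) ^ 2 * x ^ 15 := by ring

end Cfsg.Agent.H980.RB
end

-- part: H374/FR/Hei
section
/-!
# The Heisenberg structure of helper980 for `F₄(q)`, `q` odd (S2452)
-/

set_option autoImplicit false

namespace Cfsg.Agent.H374.FR.Comm

open Cfsg.Lie Cfsg.Agent.ChevalleyStructure
open Cfsg.Agent.H520.FC (PK VK XT)
open Cfsg.Agent.H980.RB (Hei xt hei_of step3F step3F_nine)

universe u

variable {K : Type u} [Field K] [Finite K]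

/-- **The radical of the parabolic subgroup of type `C₃`.** -/
theorem hei (h2 : (2 : K) ≠ 0) : Hei (xt K) (VK K {k | k ≠ 3}) := hei_of com' (nd' h2)

end Cfsg.Agent.H374.FR.Comm
end

private theorem dce_7fea9091c583 : _root_.True := by
  try have : _root_.True := by simp only [_root_.Cfsg.Agent.H980.RB.prjQ.eq_1]
  exact _root_.True.intro
end

-- part: H744/FR/Gen
section
prune_inst 0x38180002000000000080000000000001c010000
set_option linter.all false
open scoped Cfsg.Agent.FastGrp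

/-!
# `F₄(q)`, `q ≥ 3`: `M = MM K` (type `C₃`) is generated by the `M`-conjugates of the root group of the long simple
root `2` (S2452, third part of the box (X))
-/

set_option autoImplicit false
set_option linter.unusedSectionVars false

namespace Cfsg.Agent.H744.FR

open CoxeterSystem Cfsg.Agent.ChevalleyStructure.CoxeterGeom Cfsg.Agent.Tits.Roots Cfsg.Agent.Tits.Core
  Cfsg.Agent.Tits.Exchange Cfsg.Agent.Nodes.Reps Cfsg.Agent.Nodes.BNOf Cfsg.Agent.Nodes.StabComb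
  Cfsg.Agent.Nodes.Bruhat Cfsg.Agent.Nodes.OppDec Cfsg.Agent.Nodes.LeviDec Cfsg.Agent.Nodes.NormX
  Cfsg.Agent.Nodes.Coroot Cfsg.Agent.Nodes.RGDChev Cfsg.Agent.KFacts.RgdPar Cfsg.Agent.KFacts.RgdTI
  Cfsg.Agent.KFacts.RgdCent Cfsg.Agent.KFacts.RgdChevCoord Cfsg.Agent.Nodes.ChevCls
  Cfsg.Agent.OddHalf.NI.ModelChev Cfsg.Agent.H225.PPow
open Cfsg.Lie Cfsg.Agent.ChevalleyStructure Cfsg.Agent.ChevalleyStructure.Elts
  Cfsg.Agent.ChevalleyStructure.RootVec Cfsg.Agent.ChevalleyStructure.NPerm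
  Cfsg.Agent.ChevalleyStructure.CoxeterGeomTypes
open Cfsg.Agent.FixBN.FieldRGD (uu vv dd ww)
open Cfsg.Agent.H701.F43.Cent (hF cF nroots VV MM J3 mem_RootsJ)

universe u

variable (K : Type u) [Field K]

/-- the subgroup generated by the conjugates of the root group of the node `2` -/
def NN : Subgroup ↥(chevF4.group K) :=
  Subgroup.closure {x | ∃ m ∈ MM K, ∃ y ∈ XX chevF4 4 K (sr 2), x = m * y * m⁻¹}

theorem tab1 : ∀ r < 48, (vec chevF4 4 r = sr 1 ∨ vec chevF4 4 r = -sr 1) →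
    (chevF4.cartan (2 : Fin 4) r = 1 ∨ chevF4.cartan (2 : Fin 4) r = -1) := by decide +kernel

theorem tab0 : ∀ r < 48, (vec chevF4 4 r = sr 0 ∨ vec chevF4 4 r = -sr 0) →
    (chevF4.cartan (1 : Fin 4) r = 1 ∨ chevF4.cartan (1 : Fin 4) r = -1) := by decide +kernel

variable {K}

theorem NN_conj {m x : ↥(chevF4.group K)} (hm : m ∈ MM K) (hx : x ∈ NN K) : m * x * m⁻¹ ∈ NN K := by
  have h1 : NN K ≤ (NN K).comap (MulAut.conj m).toMonoidHom := by
    unfold NN
    rw [Subgroup.closure_le]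
    rintro _ ⟨m', hm', y, hy, rfl⟩
    refine Subgroup.subset_closure ⟨m * m', mul_mem hm hm', y, hy, ?_⟩
    show m * (m' * y * m'⁻¹) * m⁻¹ = _
    group
  exact h1 hx

theorem sr_memJ {i : Fin 4} (hi : i ≠ 3) : sr i ∈ RootsJ cF hF.isCartan J3 := by
  rw [mem_RootsJ]
  exact ⟨isRoot_sr _ _ i, sr_ne (Ne.symm hi)⟩

theorem nsr_memJ {i : Fin 4} (hi : i ≠ 3) : -sr i ∈ RootsJ cF hF.isCartan J3 := RootsJ.neg (sr_memJ hi)

theorem X_le_MM {x : Fin 4 → ℤ} (hx : x ∈ RootsJ cF hF.isCartan J3) : XX chevF4 4 K x ≤ MM K := RGD.le_Sup hx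

theorem sl_mem_MM {i : Fin 4} (hi : i ≠ 3) (g : Matrix.SpecialLinearGroup (Fin 2) K) : sl hF (K := K) i g ∈ MM K := by
  have h1 : sl hF (K := K) i g ∈ XX chevF4 4 K (sr i) ⊔ XX chevF4 4 K (-sr i) := by
    rw [← range_sl hF i]
    exact ⟨g, rfl⟩
  exact (sup_le (X_le_MM (sr_memJ hi)) (X_le_MM (nsr_memJ hi))) h1

theorem nc_mem_MM {i : Fin 4} (hi : i ≠ 3) : nc hF K i ∈ MM K := by
  rw [← sl_ww hF i]
  exact sl_mem_MM hi _

theorem X2_le : XX chevF4 4 K (sr 2) ≤ NN K := fun y hy =>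
  Subgroup.subset_closure ⟨1, one_mem _, y, hy, by group⟩

theorem hc_mem_NN {i : Fin 4} (h1 : XX chevF4 4 K (sr i) ≤ NN K) (h2 : XX chevF4 4 K (-sr i) ≤ NN K) (u : Kˣ) :
    hc hF i (u : K) ∈ NN K := by
  have h3 : hc hF i (u : K) ∈ XX chevF4 4 K (sr i) ⊔ XX chevF4 4 K (-sr i) := by
    rw [← range_sl hF i, ← sl_dd hF i (u : K) u.ne_zero]
    exact ⟨_, rfl⟩
  exact (sup_le h1 h2) h3

variable [Finite K]

theorem conj_simple {i : Fin 4} (hi : i ≠ 3) {x : Fin 4 → ℤ} (hx : IsRoot cF hF.isCartan x)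
    (h : XX chevF4 4 K x ≤ NN K) : XX chevF4 4 K (rep cF hF.isCartan (cF.simple i) x) ≤ NN K := by
  obtain ⟨p, hpc⟩ := CharP.exists K
  have : Fact p.Prime := ⟨CharP.char_is_prime K p⟩
  have h1 := (rgd (K := K) hF cF p).conj i x hx
  intro z hz
  have h2 : z ∈ cj (nc hF K i) (XX chevF4 4 K x) := by
    rw [show cj (nc hF K i) (XX chevF4 4 K x) = XX chevF4 4 K (rep cF hF.isCartan (cF.simple i) x) from h1]
    exact hz
  obtain ⟨y, hy, rfl⟩ := h2
  exact NN_conj (nc_mem_MM hi) (h hy)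

/-- the torus of a node on a root group -/
theorem step (h3 : 3 ≤ Nat.card K) {j : Fin 4} (hj : ∀ u : Kˣ, hc hF j (u : K) ∈ NN K) {x : Fin 4 → ℤ}
    (hx : x ∈ RootsJ cF hF.isCartan J3)
    (hc' : ∀ r < 48, vec chevF4 4 r = x → (chevF4.cartan j r = 1 ∨ chevF4.cartan j r = -1)) :
    XX chevF4 4 K x ≤ NN K := by
  obtain ⟨p, hpc⟩ := CharP.exists K
  have : Fact p.Prime := ⟨CharP.char_is_prime K p⟩
  obtain ⟨r, hr, rfl⟩ := (isRoot_iff hF cF x).1 hx.1
  have hcr := hc' r (by rw [← nroots]; exact hr) rfl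
  have C := (coords (K := K) hF cF p).coord _ hx.1
  intro z hz
  obtain ⟨a, rfl⟩ := (C.mem z).1 hz
  obtain ⟨u, hu⟩ : ∃ u : Kˣ, u ≠ 1 := by
    have h1 : 1 < Nat.card Kˣ := by rw [Nat.card_units]; omega
    have : Nontrivial Kˣ := (Finite.one_lt_card_iff_nontrivial).1 h1
    exact exists_ne 1
  obtain ⟨c, hc1, hcu⟩ : ∃ c : K, c ≠ 1 ∧ ∀ b, hc hF j (u : K) * xc hF (vec chevF4 4 r) b * (hc hF j (u : K))⁻¹ =
      xc hF (vec chevF4 4 r) (c * b) := by
    refine ⟨(u : K) ^ chevF4.cartan j r, ?_, fun b => ?_⟩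
    · have hu' : (u : K) ≠ 1 := fun h => hu (Units.ext h)
      rcases hcr with h | h
      · rwa [h, zpow_one]
      · rw [h, zpow_neg_one]
        exact fun h => hu' (inv_eq_one.1 h)
    · have h2 := (act hF hr (hc_mem hF j u.ne_zero)).2 b
      rw [ch_hc hF j u.ne_zero hr] at h2
      exact h2
  have hb : ∀ b, xc hF (vec chevF4 4 r) b ∈ MM K := fun b => X_le_MM hx ((C.mem _).2 ⟨b, rfl⟩)
  have h1 : a = c * (a / (c - 1)) + -(a / (c - 1)) := by
    have : c - 1 ≠ 0 := sub_ne_zero.2 hc1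
    field_simp
    ring
  have hneg : xc hF (vec chevF4 4 r) (-(a / (c - 1))) = (xc hF (vec chevF4 4 r) (a / (c - 1)))⁻¹ := by
    rw [eq_inv_iff_mul_eq_one, ← C.add, neg_add_cancel, C.zero]
  rw [h1, C.add, ← hcu, hneg]
  have h4 : hc hF j (u : K) * xc hF (vec chevF4 4 r) (a / (c - 1)) * (hc hF j (u : K))⁻¹ *
      (xc hF (vec chevF4 4 r) (a / (c - 1)))⁻¹ = hc hF j (u : K) * (xc hF (vec chevF4 4 r) (a / (c - 1)) *
        (hc hF j (u : K))⁻¹ * (xc hF (vec chevF4 4 r) (a / (c - 1)))⁻¹) := by group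
  rw [h4]
  exact mul_mem (hj u) (NN_conj (hb _) (inv_mem (hj u)))

theorem XJ_le (h3 : 3 ≤ Nat.card K) {i : Fin 4} (hi : i ≠ 3) : XX chevF4 4 K (sr i) ≤ NN K := by
  have hn2 : XX chevF4 4 K (-sr 2) ≤ NN K := by
    have h1 := conj_simple (K := K) (i := 2) (by decide) (isRoot_sr cF hF.isCartan 2) X2_le
    rwa [rep_simple_sr] at h1
  have h2 := hc_mem_NN X2_le hn2
  have h1 : XX chevF4 4 K (sr 1) ≤ NN K :=
    step h3 h2 (sr_memJ (by decide)) (fun r hr h => tab1 r hr (Or.inl h))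
  have hn1 : XX chevF4 4 K (-sr 1) ≤ NN K :=
    step h3 h2 (nsr_memJ (by decide)) (fun r hr h => tab1 r hr (Or.inr h))
  have h0 : XX chevF4 4 K (sr 0) ≤ NN K :=
    step h3 (hc_mem_NN h1 hn1) (sr_memJ (by decide)) (fun r hr h => tab0 r hr (Or.inl h))
  fin_cases i
  · exact h0
  · exact h1
  · exact X2_le
  · exact absurd rfl hi

/-- **`M` is generated by the conjugates of one long root group.** -/
theorem MM_gen (h3 : 3 ≤ Nat.card K) :
    MM K ≤ Subgroup.closure {x | ∃ m ∈ MM K, ∃ y ∈ XX chevF4 4 K (sr 2), x = m * y * m⁻¹} := by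
  have hW := finite_W hF cF
  refine RGD.Sup_le fun x hx => ?_
  obtain ⟨w, hw, j, hj, rfl⟩ := exists_of_mem_RootsJ hx
  have key : ∀ w ∈ WJ cF J3, ∀ x, IsRoot cF hF.isCartan x →
      (XX chevF4 4 K x ≤ NN K ↔ XX chevF4 4 K (rep cF hF.isCartan w x) ≤ NN K) := by
    intro w hw
    induction hw using Subgroup.closure_induction with
    | mem w hw =>
      obtain ⟨i, hi, rfl⟩ := hw
      intro x hx
      refine ⟨conj_simple hi hx, fun h => ?_⟩
      have h1 := conj_simple hi (hx.act _) h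
      rwa [← rep_mul_apply, cF.simple_mul_simple_self, map_one, Module.End.one_apply] at h1
    | one =>
      intro x _
      rw [map_one, Module.End.one_apply]
    | mul a b _ _ ha hb =>
      intro x hx
      rw [rep_mul_apply, hb x hx, ha _ (hx.act _)]
    | inv a _ ha =>
      intro x hx
      rw [ha _ (hx.act _), rep_apply_inv]
  exact (key w hw _ (isRoot_sr cF hF.isCartan j)).1 (XJ_le h3 hj)

/-- an element of `M` which is not central in `M` does not centralise some conjugate -/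
theorem exists_x (h3 : 3 ≤ Nat.card K) {l : ↥(chevF4.group K)} (hne : ∃ m ∈ MM K, m * l ≠ l * m) :
    ∃ m ∈ MM K, ∃ y ∈ XX chevF4 4 K (sr 2), l * (m * y * m⁻¹) ≠ (m * y * m⁻¹) * l := by
  by_contra hcon
  push Not at hcon
  obtain ⟨m, hm, hml⟩ := hne
  apply hml
  have h1 : Subgroup.closure {x | ∃ m ∈ MM K, ∃ y ∈ XX chevF4 4 K (sr 2), x = m * y * m⁻¹} ≤
      Subgroup.centralizer ({l} : Set ↥(chevF4.group K)) := by
    rw [Subgroup.closure_le]
    rintro _ ⟨m, hm, y, hy, rfl⟩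
    exact Subgroup.mem_centralizer_singleton_iff.2 (hcon m hm y hy).symm
  exact Subgroup.mem_centralizer_singleton_iff.1 (h1 (MM_gen h3 hm))

end Cfsg.Agent.H744.FR
end

-- part: H395/FR/Fix_mg
section
prune_inst 0x50200000001000000005821100440400000400004000008800000004c026620000204004200112100200000031082812000020004000000400000000000000080000000100008000001001000040500008180002000000000080000000000000c010000
set_option linter.all false
open scoped Cfsg.Agent.FastGrp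

-- part: H395/FR/Fix
section
/-!
# Character bounds from normalised abelian subgroups (S2452, `F₄(q)`; helper395)

* `card_mul_cd` : `|B| dim V^B = ∑ χ(b)`;
* `cd_le` : if `‖χ b‖ ≤ r χ(1)` for `1 ≠ b ∈ B` then `dim V^B ≤ (r + 1 / |B|) χ(1)`;
* `norm_le_cd` : `Q` abelian, normalised by `g`, `B ≤ [Q, g]` : `‖χ g‖ ≤ dim V^B`;
* `bound_abelian` : moreover `A ≤ Q` with `‖χ a‖ ≤ r χ(1)` on `A - 1` : `‖χ g‖ ≤ (r + |C_Q(g)| / |A|) χ(1)`.
-/

set_option autoImplicit false

namespace Cfsg.Agent.H395.FR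

open Module Subgroup
open Cfsg.Agent.H572.FR (fx cd mem_fx)
open Cfsg.Agent.H980.RB (comSet fixM norm_trace_le_fix)

variable {G : Type*} [Group G] [Finite G] {V : Type*} [AddCommGroup V] [Module ℂ V] [FiniteDimensional ℂ V]
  (ρ : Representation ℂ G V)

theorem card_mul_cd (B : Subgroup G) [Fintype B] : (Nat.card B : ℂ) * cd ρ B = ∑ x : B, ρ.character (x : G) := by
  have hN : (Nat.card B : ℂ) ≠ 0 := by exact_mod_cast Nat.card_pos.ne'
  set e : V →ₗ[ℂ] V := (Nat.card B : ℂ)⁻¹ • ∑ x : B, ρ (x : G) with he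
  have h1 : ∀ v, e v ∈ fx ρ B := by
    intro v a ha
    rw [he, LinearMap.smul_apply, map_smul, LinearMap.sum_apply, map_sum]
    congr 1
    rw [← Equiv.sum_comp (Equiv.mulLeft (⟨a, ha⟩ : B)) (fun x : B => ρ (x : G) v)]
    refine Finset.sum_congr rfl fun x _ => ?_
    rw [Equiv.coe_mulLeft, Subgroup.coe_mul, map_mul]
    rfl
  have h2 : ∀ w ∈ fx ρ B, e w = w := by
    intro w hw
    rw [he, LinearMap.smul_apply, LinearMap.sum_apply]
    have h3 : ∀ x : B, ρ (x : G) w = w := fun x => hw x x.2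
    rw [Finset.sum_congr rfl fun x _ => h3 x, Finset.sum_const, Finset.card_univ, ← Nat.card_eq_fintype_card,
      ← Nat.cast_smul_eq_nsmul ℂ, smul_smul, inv_mul_cancel₀ hN, one_smul]
  have h3 : LinearMap.IsProj (fx ρ B) e := ⟨h1, h2⟩
  have h4 := LinearMap.IsProj.trace h3
  rw [he, map_smul, map_sum, smul_eq_mul] at h4
  have h5 : (cd ρ B : ℂ) = (Nat.card B : ℂ)⁻¹ * ∑ x : B, ρ.character (x : G) := h4.symm
  rw [h5, ← mul_assoc, mul_inv_cancel₀ hN, one_mul]

variable {ρ} in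
theorem cd_le {B : Subgroup G} {r : ℝ}
    (h : ∀ b ∈ B, b ≠ 1 → ‖ρ.character b‖ ≤ r * finrank ℂ V) (hr : 0 ≤ r) :
    (cd ρ B : ℝ) ≤ (r + (Nat.card B : ℝ)⁻¹) * finrank ℂ V := by
  classical
  have := Fintype.ofFinite B
  have hN : (0 : ℝ) < Nat.card B := by exact_mod_cast Nat.card_pos
  have h1 := congrArg norm (card_mul_cd ρ B)
  rw [norm_mul, Complex.norm_natCast, Complex.norm_natCast, ← Finset.add_sum_erase _ _ (Finset.mem_univ (1 : B))] at h1
  have h2 : ‖ρ.character ((1 : B) : G)‖ = finrank ℂ V := by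
    rw [Subgroup.coe_one, Representation.char_one, Complex.norm_natCast]
  have h3 : ‖∑ x ∈ Finset.univ.erase (1 : B), ρ.character (x : G)‖ ≤ (Nat.card B : ℝ) * (r * finrank ℂ V) := by
    refine (norm_sum_le _ _).trans ?_
    have h6 : ∀ x ∈ Finset.univ.erase (1 : B), ‖ρ.character ((x : B) : G)‖ ≤ r * finrank ℂ V := fun x hx =>
      h x x.2 fun hx1 => Finset.ne_of_mem_erase hx (Subtype.ext hx1)
    refine (Finset.sum_le_card_nsmul _ _ _ h6).trans ?_
    rw [nsmul_eq_mul]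
    have h4 : ((Finset.univ.erase (1 : B)).card : ℝ) ≤ Nat.card B := by
      rw [Nat.card_eq_fintype_card, ← Finset.card_univ]
      exact_mod_cast Finset.card_le_card (Finset.erase_subset _ _)
    have h5 : 0 ≤ r * (finrank ℂ V : ℝ) := by positivity
    exact mul_le_mul_of_nonneg_right h4 h5
  have h4 : (Nat.card B : ℝ) * cd ρ B ≤ finrank ℂ V + (Nat.card B : ℝ) * (r * finrank ℂ V) := by
    rw [h1]
    exact (norm_add_le _ _).trans (add_le_add h2.le h3)
  have h5 : (Nat.card B : ℝ) * ((r + (Nat.card B : ℝ)⁻¹) * finrank ℂ V) =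
      finrank ℂ V + (Nat.card B : ℝ) * (r * finrank ℂ V) := by
    field_simp
    ring
  rw [← h5] at h4
  exact le_of_mul_le_mul_left h4 hN

theorem norm_le_cd {Q : Subgroup G} (hQ : ∀ a ∈ Q, ∀ b ∈ Q, a * b = b * a) {g : G}
    (hg : g ∈ normalizer (Q : Set G)) {B : Subgroup G} (hB : ∀ b ∈ B, ∃ q ∈ Q, b = q * g * q⁻¹ * g⁻¹) :
    ‖ρ.character g‖ ≤ cd ρ B := by
  refine (norm_trace_le_fix ρ Q (fun a ha b hb => by rw [← map_mul, hQ a ha b hb, map_mul]) g
    (fun q => mem_normalizer_iff.1 hg q)).trans ?_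
  have h1 : fixM ρ (comSet Q g) ≤ fx ρ B := by
    intro v hv b hb
    obtain ⟨q, hq, rfl⟩ := hB b hb
    exact hv _ ⟨q, hq, rfl⟩
  exact_mod_cast Submodule.finrank_mono h1

/-- the commutators form a subgroup of order `|Q| / |C_Q(g)|` -/
theorem exists_comm {Q : Subgroup G} (hQ : ∀ a ∈ Q, ∀ b ∈ Q, a * b = b * a) {g : G}
    (hg : g ∈ normalizer (Q : Set G)) : ∃ B : Subgroup G, B ≤ Q ∧ (∀ b ∈ B, ∃ q ∈ Q, b = q * g * q⁻¹ * g⁻¹) ∧
      Nat.card Q = Nat.card B * Nat.card ↥(Q ⊓ centralizer {g}) := by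
  have hmem : ∀ q ∈ Q, q * g * q⁻¹ * g⁻¹ ∈ Q := by
    intro q hq
    have h1 := (mem_normalizer_iff.1 hg _).1 (Q.inv_mem hq)
    have h2 : q * g * q⁻¹ * g⁻¹ = q * (g * q⁻¹ * g⁻¹) := by group
    rw [h2]
    exact Q.mul_mem hq h1
  let f : Q →* Q := MonoidHom.mk' (fun q => ⟨(q : G) * g * (q : G)⁻¹ * g⁻¹, hmem q q.2⟩) (by
    intro a b
    apply Subtype.ext
    show ((a * b : Q) : G) * g * ((a * b : Q) : G)⁻¹ * g⁻¹ = ((a : G) * g * (a : G)⁻¹ * g⁻¹) * ((b : G) * g * (b : G)⁻¹ * g⁻¹)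
    have h1 := hQ _ (hmem b b.2) (g * (a : G)⁻¹ * g⁻¹) ((mem_normalizer_iff.1 hg _).1 (Q.inv_mem a.2))
    have h2 : ((a * b : Q) : G) * g * ((a * b : Q) : G)⁻¹ * g⁻¹ =
        (a : G) * (((b : G) * g * (b : G)⁻¹ * g⁻¹) * (g * (a : G)⁻¹ * g⁻¹)) := by
      rw [Subgroup.coe_mul]; group
    rw [h2, h1]
    group)
  refine ⟨f.range.map Q.subtype, map_subtype_le _, ?_, ?_⟩
  · rintro _ ⟨_, ⟨q, rfl⟩, rfl⟩
    exact ⟨q, q.2, rfl⟩
  · rw [card_map_of_injective Q.subtype_injective]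
    have h1 : Nat.card Q = Nat.card f.range * Nat.card f.ker := by
      rw [mul_comm, ← Subgroup.card_mul_index f.ker, Subgroup.index_ker]
    have h2 : f.ker.map Q.subtype = Q ⊓ centralizer {g} := by
      ext x
      constructor
      · rintro ⟨q, hq, rfl⟩
        refine ⟨q.2, ?_⟩
        show (q : G) ∈ centralizer {g}
        rw [mem_centralizer_singleton_iff]
        have h3 : (q : G) * g * (q : G)⁻¹ * g⁻¹ = 1 := congrArg Subtype.val ((MonoidHom.mem_ker).1 hq)
        have h4 : (q : G) * g = g * (q : G) := by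
          calc (q : G) * g = ((q : G) * g * (q : G)⁻¹ * g⁻¹) * g * (q : G) := by group
            _ = g * (q : G) := by rw [h3, one_mul]
        first
          | exact h4
          | exact h4.symm
      · rintro ⟨hx, hxc⟩
        refine ⟨⟨x, hx⟩, ?_, rfl⟩
        rw [SetLike.mem_coe, MonoidHom.mem_ker]
        apply Subtype.ext
        show x * g * x⁻¹ * g⁻¹ = 1
        have h3 := mem_centralizer_singleton_iff.1 hxc
        have h4 : x * g = g * x := by
          first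
            | exact h3
            | exact h3.symm
        rw [h4]
        group
    rw [h1, ← h2, card_map_of_injective Q.subtype_injective]

/-- **The bound.** -/
theorem bound_abelian {Q A : Subgroup G} (hQ : ∀ a ∈ Q, ∀ b ∈ Q, a * b = b * a) (hA : A ≤ Q) {g : G}
    (hg : g ∈ normalizer (Q : Set G)) {r : ℝ} (hr : 0 ≤ r)
    (h : ∀ a ∈ A, a ≠ 1 → ‖ρ.character a‖ ≤ r * finrank ℂ V) :
    ‖ρ.character g‖ ≤ (r + (Nat.card ↥(Q ⊓ centralizer {g}) : ℝ) / Nat.card A) * finrank ℂ V := by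
  obtain ⟨B, hBQ, hB, hc⟩ := exists_comm hQ hg
  have h1 := norm_le_cd ρ hQ hg (B := B ⊓ A) fun b hb => hB b hb.1
  have h2 := cd_le (ρ := ρ) (B := B ⊓ A) (r := r) (fun b hb hb1 => h b hb.2 hb1) hr
  refine h1.trans (h2.trans ?_)
  -- `|A| ≤ |B ⊓ A| |C|`
  have hQpos : 0 < Nat.card Q := Nat.card_pos
  have hBpos : 0 < Nat.card B := Nat.card_pos
  have hApos : 0 < Nat.card A := Nat.card_pos
  have hBApos : 0 < Nat.card ↥(B ⊓ A) := Nat.card_pos
  have h3 : Nat.card B * Nat.card A ≤ Nat.card ↥(B ⊓ A) * Nat.card Q := by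
    have h4 : B.relIndex A ≤ B.relIndex Q := Subgroup.relIndex_le_of_le_right hA (by
      have : (B.subgroupOf Q).index ≠ 0 := Subgroup.index_ne_zero_of_finite
      exact this)
    have h5 : Nat.card ↥(B ⊓ A) * B.relIndex A = Nat.card A := by
      have := Subgroup.card_mul_index (B.subgroupOf A)
      rw [← this]
      congr 1
      have h6 : (B.subgroupOf A).map A.subtype = B ⊓ A := Subgroup.subgroupOf_map_subtype B A
      rw [← h6, card_map_of_injective A.subtype_injective]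
    have h6 : Nat.card B * B.relIndex Q = Nat.card Q := by
      have := Subgroup.card_mul_index (B.subgroupOf Q)
      rw [← this]
      congr 1
      have h7 : (B.subgroupOf Q).map Q.subtype = B := by
        rw [Subgroup.subgroupOf_map_subtype, inf_eq_left.2 hBQ]
      conv_lhs => rw [← h7]
      exact card_map_of_injective Q.subtype_injective
    calc Nat.card B * Nat.card A = Nat.card B * (Nat.card ↥(B ⊓ A) * B.relIndex A) := by rw [h5]
      _ = Nat.card ↥(B ⊓ A) * (Nat.card B * B.relIndex A) := by ring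
      _ ≤ Nat.card ↥(B ⊓ A) * (Nat.card B * B.relIndex Q) := by gcongr
      _ = Nat.card ↥(B ⊓ A) * Nat.card Q := by rw [h6]
  rw [hc] at h3
  have h4 : Nat.card A ≤ Nat.card ↥(B ⊓ A) * Nat.card ↥(Q ⊓ centralizer {g}) := by
    have h5 : Nat.card B * Nat.card A ≤ Nat.card B * (Nat.card ↥(B ⊓ A) * Nat.card ↥(Q ⊓ centralizer {g})) := by
      calc Nat.card B * Nat.card A ≤ _ := h3
        _ = _ := by ring
    exact Nat.le_of_mul_le_mul_left h5 hBpos
  have h5 : (Nat.card ↥(B ⊓ A) : ℝ)⁻¹ ≤ (Nat.card ↥(Q ⊓ centralizer {g}) : ℝ) / Nat.card A := by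
    rw [inv_eq_one_div, div_le_div_iff₀ (by exact_mod_cast hBApos) (by exact_mod_cast hApos), one_mul]
    rw [mul_comm]
    exact_mod_cast h4
  gcongr

end Cfsg.Agent.H395.FR
end

-- part: H31/FR/Root
section
/-!
# `F4(q)`, `q` odd: seven root elements as Siegel elements (helper31)

`Ph_rr` : the image of `x_r(t)`, `r = rr k`, in `O₉(q)` is the Siegel element of `± t e_k`;
`exists_er` : the embedding `e` of `FR.Lift` with `e (t e_k) = x_{rr k}(± t)`.
-/

set_option autoImplicit false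
set_option linter.unusedSectionVars false
set_option linter.unusedSimpArgs false

namespace Cfsg.Agent.H31.FR

open Cfsg Cfsg.Lie Module Matrix
open Cfsg.Agent.ChevalleyStructure Cfsg.Agent.ChevalleyStructure.Elts
open Cfsg.Agent.ChevalleyStructure.E6Min.Tables Cfsg.Agent.ChevalleyStructure.E6Min.Basic
open Cfsg.Agent.H952.F4 Cfsg.Agent.H952.F4.Jord
open Cfsg.Agent.LieClassical Cfsg.Agent.LieClassical.OrthForms Cfsg.Agent.LieClassical.OrthCore
open Cfsg.Agent.H557.InvF4 Cfsg.Agent.OddHalf.NI.ModelChev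
open Cfsg.Agent.Tits.Roots Cfsg.Agent.Nodes.BNOf Cfsg.Agent.Nodes.RGDChev Cfsg.Agent.KFacts.RgdChevCoord
open Cfsg.Agent.H885.Pw.JB

universe u

/-- the root indices -/
def rr : Unit ⊕ (Fin 3 ⊕ Fin 3) → ℕ := Sum.elim (fun _ => 20) (Sum.elim ![2, 16, 17] ![43, 26, 25])

/-- the signs -/
def ssZ : Unit ⊕ (Fin 3 ⊕ Fin 3) → ℤ := Sum.elim (fun _ => 1) (Sum.elim ![1, -1, 1] ![1, 1, -1])

theorem rr_lt : ∀ k, rr k < 48 := by decide

section

variable {K : Type u} [Field K]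

/-- the signs in the field -/
def ss (K : Type u) [Field K] (k : Unit ⊕ (Fin 3 ⊕ Fin 3)) : K := (ssZ k : K)

theorem ssZ_sq : ∀ k, ssZ k * ssZ k = 1 := by decide

theorem ss_sq (k : Unit ⊕ (Fin 3 ⊕ Fin 3)) : ss K k * ss K k = 1 := by
  unfold ss
  rw [← Int.cast_mul, ssZ_sq, Int.cast_one]

/-- `zM e c` commutes with the involution -/
def Pl (e : ℕ) : Prop := ∀ i : I27, Cfsg.Agent.ChevalleyStructure.E6Min.Basic.sg e i = 0 ∨ pl (_root_.Cfsg.Agent.ChevalleyStructure.E6Min.Basic.sr e i) = pl i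

instance (e : ℕ) : Decidable (Pl e) := by unfold Pl; infer_instance

theorem zM_sgn {e : ℕ} (h : Pl e) (c : K) (x : I27 → K) :
    (zM e c *ᵥ (fun i => if pl i = true then x i else -x i)) =
      fun i => if pl i = true then (zM e c *ᵥ x) i else -(zM e c *ᵥ x) i := by
  funext i
  rw [zM_mulVec, zM_mulVec]
  rcases h i with h | h
  · rw [h]
    simp
  · rw [h]
    split_ifs <;> ring

variable {ρ : ↥(chevF4.group K) →* GL I27 K}

theorem JK_xc (hρ : IsJ ρ) {r : ℕ} (hr : r < 48) (t : K) (x : I27 → K) :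
    JK ρ (xc Cfsg.Agent.Nodes.KindF.isType (_root_.Cfsg.Agent.Nodes.RGDChev.vec chevF4 4 r) t) x = yM r t *ᵥ x := by
  have h1 : (((xc Cfsg.Agent.Nodes.KindF.isType (_root_.Cfsg.Agent.Nodes.RGDChev.vec chevF4 4 r) t : ↥(chevF4.group K)) : GL chevF4.Idx K) :
      Matrix chevF4.Idx chevF4.Idx K) = chevF4.xMat K ⟨r, hr⟩ t := by
    rw [coe_xc Cfsg.Agent.Nodes.KindF.isType hr, coe_xG, x_of_lt hr]
  rw [Inv.JK_apply, hρ ⟨r, hr⟩ t _ h1]

theorem mem_of_sgn {t : ↥(chevF4.group K)} (hi : Function.Injective ρ) (ht : IsT ρ t) {g : ↥(chevF4.group K)}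
    (h : ∀ x : I27 → K, JK ρ g (fun i => if pl i = true then x i else -x i) =
      fun i => if pl i = true then JK ρ g x i else -JK ρ g x i) :
    g ∈ Subgroup.centralizer ({t} : Set ↥(chevF4.group K)) := by
  rw [Subgroup.mem_centralizer_singleton_iff]
  have e1 : ∀ y, JK ρ t y = fun i => if pl i = true then y i else -y i := fun y => funext (ht y)
  apply JK_inj hi
  intro x
  rw [map_mul, map_mul, Module.End.mul_apply, Module.End.mul_apply, e1, e1, h]

theorem yM_long {r e : ℕ} {s : ℤ} (hd : dat.getD r [] = [(e, s)]) (t : K) : yM r t = zM e ((s : K) * t) := by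
  rw [yM, hd]; simp

theorem mem_long (hρ : IsJ ρ) (hi : Function.Injective ρ) {r e : ℕ} {s : ℤ} (hr : r < 48)
    (hd : dat.getD r [] = [(e, s)]) (hp : Pl e) (t : K) :
    xc Cfsg.Agent.Nodes.KindF.isType (_root_.Cfsg.Agent.Nodes.RGDChev.vec chevF4 4 r) t ∈ Subgroup.centralizer ({t1 K} : Set ↥(chevF4.group K)) := by
  apply mem_of_sgn hi (isT_t1 hρ)
  intro x
  rw [JK_xc hρ hr, JK_xc hρ hr, yM_long hd, zM_sgn hp]

/-- the shape of a long root element on the fixed vectors of the involution -/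
theorem key_long (hρ : IsJ ρ) {r e : ℕ} {s α β : ℤ} {a b a' b' : I27} (hr : r < 48)
    (hd : dat.getD r [] = [(e, s)])
    (tab : ∀ i : I27, pl i = true → Cfsg.Agent.ChevalleyStructure.E6Min.Basic.sg e i =
      if i = a then α else if i = b then β else 0) (ha : _root_.Cfsg.Agent.ChevalleyStructure.E6Min.Basic.sr e a = a') (hb : _root_.Cfsg.Agent.ChevalleyStructure.E6Min.Basic.sr e b = b') (t : K) (x : I27 → K) (i : I27)
    (hi : pl i = true) : JK ρ (xc Cfsg.Agent.Nodes.KindF.isType (_root_.Cfsg.Agent.Nodes.RGDChev.vec chevF4 4 r) t) x i =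
      x i + (s * t) * (if i = a then α * x a' else if i = b then β * x b' else 0) := by
  rw [JK_xc hρ hr, yM_long hd, zM_mulVec, tab i hi]
  by_cases h1 : i = a
  · subst h1
    rw [if_pos rfl, if_pos rfl, ha]
  · rw [if_neg h1, if_neg h1]
    by_cases h3 : i = b
    · subst h3
      rw [if_pos rfl, if_pos rfl, hb]
    · rw [if_neg h3, if_neg h3]
      simp

theorem sgl_apply (w : W7 K) (y : VV K) : sgl w y = y + y (.inr (.inl 0)) • jj w -
    QuadraticMap.polar (oddForm 4 K) (jj w) y • u0 K - ((oddForm 3 K) w * y (.inr (.inl 0))) • u0 K := by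
  rw [sgl, siegel_apply, polar_u0, Q_jj]

/-- comparison on the fixed vectors -/
theorem Ph_eq (hρ : IsJ ρ) (h2 : (2 : K) ≠ 0) {g : ↥(chevF4.group K)}
    (hg : g ∈ Subgroup.centralizer ({t1 K} : Set ↥(chevF4.group K))) {w : W7 K}
    (h : ∀ (y : VV K) (i : I27), pl i = true → JK ρ g (io y) i = io (sgl w y) i) :
    Ph hρ h2 (isT_t1 hρ) ⟨g, hg⟩ = sgl w := by
  apply LinearEquiv.ext
  intro y
  apply io_inj
  rw [io_Ph]
  funext i
  by_cases hp : pl i = true
  · exact h y i hp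
  · have hp' : pl i = false := by simpa using hp
    rw [inJ_io _ i hp']
    exact (isT_t1 hρ).inJ h2 (comm_of_mem hg) (inJ_io y) i hp'

theorem b1 (hρ : IsJ ρ) (t : K) (y : VV K) (i : I27) (hp : pl i = true) :
    JK ρ (xc Cfsg.Agent.Nodes.KindF.isType (_root_.Cfsg.Agent.Nodes.RGDChev.vec chevF4 4 2) t) (io y) i =
      io (sgl (Pi.single (.inr (.inl 0)) (1 * t)) y) i := by
  rw [key_long hρ (e := 53) (s := -1) (α := 1) (β := -1) (a := (0, 1, 0)) (b := (1, 2, 0)) (a' := (2, 0, 2))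
    (b' := (0, 0, 1)) (by decide) (by decide) (by decide +kernel) (by decide +kernel) (by decide +kernel) t _ i hp,
    sgl_apply, jj_single, polar_oddForm, coe_oddForm, quadFormOdd_apply]
  obtain ⟨k, i, j⟩ := i
  revert hp
  fin_cases k <;> fin_cases i <;> fin_cases j <;> intro hp <;>
    [((simp only [io, ofM, sh7, u0, Fin.sum_univ_four, Fin.sum_univ_three, Pi.single_apply, _root_.Fin.isValue, _root_.Fin.zero_eta, _root_.LinearMap.coe_mk, _root_.AddHom.coe_mk, ↓ _root_.reduceIte, _root_.Matrix.of_apply, _root_.Matrix.cons_val', _root_.Matrix.cons_val_zero, _root_.Matrix.cons_val_fin_one, _root_.Int.reduceNeg, _root_.Int.cast_neg, _root_.Int.cast_one, _root_.neg_mul, _root_.one_mul, _root_.Prod.mk.injEq, _root_.zero_ne_one, _root_.and_true, _root_.and_false, _root_.Fin.reduceEq, _root_.and_self, _root_.MulZeroClass.mul_zero, _root_.add_zero, _root_.Sum.map_inr, _root_.Sum.map_inl, _root_.Fin.succ_zero_eq_one, _root_.ne_eq, _root_.reduceCtorEq,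 _root_.not_false_eq_true, _root_.Pi.single_eq_of_ne, _root_.MulZeroClass.zero_mul, _root_.Sum.inr.injEq, _root_.Sum.inl.injEq, _root_.ite_mul, _root_.Finset.sum_ite_eq', _root_.Finset.mem_univ, _root_.zero_add, _root_.OfNat.ofNat_ne_zero, _root_.zero_pow, _root_.Finset.sum_const_zero, _root_.zero_smul, _root_.sub_zero, _root_.Pi.sub_apply, _root_.Pi.add_apply, _root_.Pi.smul_apply, _root_.smul_eq_mul, _root_.Pi.single_eq_same, _root_.mul_one, _root_.Fin.mk_one, _root_.Matrix.cons_val_one, _root_.one_ne_zero, _root_.Matrix.cons_val, _root_.Fin.reduceFinMk, _root_.mul_neg, _root_.neg_neg, _root_.add_right_inj]; done));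
     ((simp only [io, ofM, sh7, u0, Fin.sum_univ_four, Fin.sum_univ_three, Pi.single_apply, _root_.Fin.isValue, _root_.Fin.zero_eta, _root_.LinearMap.coe_mk, _root_.AddHom.coe_mk, ↓ _root_.reduceIte, _root_.Matrix.of_apply, _root_.Matrix.cons_val', _root_.Matrix.cons_val_zero, _root_.Matrix.cons_val_fin_one, _root_.Int.reduceNeg, _root_.Int.cast_neg, _root_.Int.cast_one, _root_.neg_mul, _root_.one_mul, _root_.Prod.mk.injEq, _root_.zero_ne_one, _root_.and_true, _root_.and_false, _root_.Fin.reduceEq, _root_.and_self, _root_.MulZeroClass.mul_zero, _root_.add_zero, _root_.Sum.map_inr, _root_.Sum.map_inl, _root_.Fin.succ_zero_eq_one, _root_.ne_eq, _root_.reduceCtorEq, _root_.not_false_eq_true, _root_.Pi.single_eq_of_ne, _root_.MulZeroClass.zero_mul, _root_.Sum.inr.injEq, _root_.Sum.inl.injEq, _root_.ite_mul, _root_.Finset.sum_ite_eq', _root_.Finset.mem_univ, _root_.zero_add, _root_.OfNat.ofNat_ne_zero, _root_.zero_pow, _root_.Finset.sum_const_zero,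 _root_.zero_smul, _root_.sub_zero, _root_.Pi.sub_apply, _root_.Pi.add_apply, _root_.Pi.smul_apply, _root_.smul_eq_mul, _root_.Pi.single_eq_same, _root_.mul_one, _root_.Fin.mk_one, _root_.Matrix.cons_val_one, _root_.one_ne_zero, _root_.Matrix.cons_val, _root_.Fin.reduceFinMk, _root_.mul_neg, _root_.neg_neg, _root_.add_right_inj]; done));
     ((exact absurd hp (by decide)));
     ((simp only [io, ofM, sh7, u0, Fin.sum_univ_four, Fin.sum_univ_three, Pi.single_apply, _root_.Fin.isValue, _root_.Fin.zero_eta, _root_.Fin.mk_one, _root_.LinearMap.coe_mk, _root_.AddHom.coe_mk, ↓ _root_.reduceIte, _root_.Matrix.of_apply, _root_.Matrix.cons_val', _root_.Matrix.cons_val_zero, _root_.Matrix.cons_val_fin_one, _root_.Matrix.cons_val_one, _root_.Int.reduceNeg, _root_.Int.cast_neg, _root_.Int.cast_one, _root_.neg_mul, _root_.one_mul, _root_.Fin.reduceEq, _root_.Matrix.cons_val, _root_.Sum.map_inr, _root_.Sum.map_inl, _root_.Fin.succ_zero_eq_one,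 _root_.ne_eq, _root_.reduceCtorEq, _root_.not_false_eq_true, _root_.Pi.single_eq_of_ne, _root_.MulZeroClass.mul_zero, _root_.MulZeroClass.zero_mul, _root_.Sum.inr.injEq, _root_.Sum.inl.injEq, _root_.ite_mul, _root_.add_zero, _root_.Finset.sum_ite_eq', _root_.Finset.mem_univ, _root_.zero_add, _root_.OfNat.ofNat_ne_zero, _root_.zero_pow, _root_.Finset.sum_const_zero, _root_.zero_smul, _root_.sub_zero, _root_.Pi.sub_apply, _root_.Pi.add_apply, _root_.Pi.smul_apply, _root_.smul_eq_mul, _root_.zero_ne_one, _root_.Pi.single_eq_same, _root_.mul_one, _root_.Fin.reduceFinMk, _root_.one_ne_zero, _root_.Prod.mk.injEq, _root_.and_true, _root_.and_self, _root_.mul_neg, _root_.neg_neg, _root_.add_right_inj]; ring));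
     ((simp only [io, ofM, sh7, u0, Fin.sum_univ_four, Fin.sum_univ_three, Pi.single_apply, _root_.Fin.isValue, _root_.Fin.zero_eta, _root_.LinearMap.coe_mk, _root_.AddHom.coe_mk, ↓ _root_.reduceIte, _root_.Matrix.of_apply, _root_.Matrix.cons_val', _root_.Matrix.cons_val_zero, _root_.Matrix.cons_val_fin_one, _root_.Int.reduceNeg, _root_.Int.cast_neg, _root_.Int.cast_one, _root_.neg_mul, _root_.one_mul, _root_.Prod.mk.injEq, _root_.zero_ne_one, _root_.and_true, _root_.and_false, _root_.Fin.reduceEq, _root_.and_self, _root_.MulZeroClass.mul_zero, _root_.add_zero, _root_.Sum.map_inr, _root_.Sum.map_inl, _root_.Fin.succ_zero_eq_one, _root_.ne_eq, _root_.reduceCtorEq, _root_.not_false_eq_true, _root_.Pi.single_eq_of_ne, _root_.MulZeroClass.zero_mul, _root_.Sum.inr.injEq, _root_.Sum.inl.injEq, _root_.ite_mul, _root_.Finset.sum_ite_eq', _root_.Finset.mem_univ, _root_.zero_add, _root_.OfNat.ofNat_ne_zero, _root_.zero_pow, _root_.Finset.sum_const_zero,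 _root_.zero_smul, _root_.sub_zero, _root_.Pi.sub_apply, _root_.Pi.add_apply, _root_.Pi.smul_apply, _root_.smul_eq_mul, _root_.Pi.single_eq_same, _root_.mul_one, _root_.Fin.mk_one, _root_.Matrix.cons_val_one, _root_.one_ne_zero, _root_.Matrix.cons_val, _root_.Fin.reduceFinMk, _root_.mul_neg, _root_.neg_neg, _root_.add_right_inj]; done));
     ((exact absurd hp (by decide))); ((exact absurd hp (by decide))); ((exact absurd hp (by decide)));
     ((simp only [io, ofM, sh7, u0, Fin.sum_univ_four, Fin.sum_univ_three, Pi.single_apply, _root_.Fin.isValue, _root_.Fin.zero_eta, _root_.LinearMap.coe_mk, _root_.AddHom.coe_mk, ↓ _root_.reduceIte, _root_.Matrix.of_apply, _root_.Matrix.cons_val', _root_.Matrix.cons_val_zero, _root_.Matrix.cons_val_fin_one, _root_.Int.reduceNeg, _root_.Int.cast_neg, _root_.Int.cast_one, _root_.neg_mul, _root_.one_mul, _root_.Prod.mk.injEq, _root_.zero_ne_one, _root_.and_true, _root_.and_false, _root_.Fin.reduceEq,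 _root_.and_self, _root_.MulZeroClass.mul_zero, _root_.add_zero, _root_.Sum.map_inr, _root_.Sum.map_inl, _root_.Fin.succ_zero_eq_one, _root_.ne_eq, _root_.reduceCtorEq, _root_.not_false_eq_true, _root_.Pi.single_eq_of_ne, _root_.MulZeroClass.zero_mul, _root_.Sum.inr.injEq, _root_.Sum.inl.injEq, _root_.ite_mul, _root_.Finset.sum_ite_eq', _root_.Finset.mem_univ, _root_.zero_add, _root_.OfNat.ofNat_ne_zero, _root_.zero_pow, _root_.Finset.sum_const_zero, _root_.zero_smul, _root_.sub_zero, _root_.Pi.sub_apply, _root_.Pi.add_apply, _root_.Pi.smul_apply, _root_.smul_eq_mul, _root_.Pi.single_eq_same, _root_.mul_one, _root_.Fin.mk_one, _root_.Matrix.cons_val_one, _root_.one_ne_zero, _root_.Matrix.cons_val, _root_.Fin.reduceFinMk, _root_.mul_neg, _root_.neg_neg, _root_.add_right_inj]; done));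
     ((exact absurd hp (by decide))); ((exact absurd hp (by decide))); ((exact absurd hp (by decide))); ((exact absurd hp (by decide)));
     ((exact absurd hp (by decide))); ((exact absurd hp (by decide)));
     ((simp only [io, ofM, sh7, u0, Fin.sum_univ_four, Fin.sum_univ_three, Pi.single_apply, _root_.Fin.isValue, _root_.Fin.zero_eta, _root_.Fin.mk_one, _root_.LinearMap.coe_mk, _root_.AddHom.coe_mk, ↓ _root_.reduceIte, _root_.Matrix.of_apply, _root_.Matrix.cons_val', _root_.Matrix.cons_val_zero, _root_.Matrix.cons_val_fin_one, _root_.Matrix.cons_val_one, _root_.Int.reduceNeg, _root_.Int.cast_neg, _root_.Int.cast_one, _root_.neg_mul, _root_.one_mul, _root_.Fin.reduceEq, _root_.Matrix.cons_val, _root_.Sum.map_inr, _root_.Sum.map_inl, _root_.Fin.succ_zero_eq_one, _root_.ne_eq, _root_.reduceCtorEq, _root_.not_false_eq_true, _root_.Pi.single_eq_of_ne, _root_.MulZeroClass.mul_zero, _root_.MulZeroClass.zero_mul, _root_.Sum.inr.injEq,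 _root_.Sum.inl.injEq, _root_.ite_mul, _root_.add_zero, _root_.Finset.sum_ite_eq', _root_.Finset.mem_univ, _root_.zero_add, _root_.OfNat.ofNat_ne_zero, _root_.zero_pow, _root_.Finset.sum_const_zero, _root_.zero_smul, _root_.sub_zero, _root_.Pi.sub_apply, _root_.Pi.add_apply, _root_.Pi.smul_apply, _root_.smul_eq_mul, _root_.zero_ne_one, _root_.Pi.single_eq_same, _root_.mul_one, _root_.Fin.reduceFinMk, _root_.one_ne_zero, _root_.Prod.mk.injEq, _root_.and_true, _root_.and_self, _root_.mul_neg, _root_.neg_neg, _root_.add_right_inj]; ring));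
     ((simp only [io, ofM, sh7, u0, Fin.sum_univ_four, Fin.sum_univ_three, Pi.single_apply, _root_.Fin.isValue, _root_.Fin.zero_eta, _root_.LinearMap.coe_mk, _root_.AddHom.coe_mk, ↓ _root_.reduceIte, _root_.Matrix.of_apply, _root_.Matrix.cons_val', _root_.Matrix.cons_val_zero, _root_.Matrix.cons_val_fin_one, _root_.Int.reduceNeg, _root_.Int.cast_neg, _root_.Int.cast_one, _root_.neg_mul, _root_.one_mul, _root_.Prod.mk.injEq, _root_.zero_ne_one, _root_.and_true, _root_.and_false, _root_.Fin.reduceEq, _root_.and_self, _root_.MulZeroClass.mul_zero, _root_.add_zero, _root_.Sum.map_inr, _root_.Sum.map_inl, _root_.Fin.succ_zero_eq_one, _root_.ne_eq, _root_.reduceCtorEq, _root_.not_false_eq_true, _root_.Pi.single_eq_of_ne, _root_.MulZeroClass.zero_mul, _root_.Sum.inr.injEq, _root_.Sum.inl.injEq, _root_.ite_mul, _root_.Finset.sum_ite_eq', _root_.Finset.mem_univ, _root_.zero_add, _root_.OfNat.ofNat_ne_zero, _root_.zero_pow, _root_.Finset.sum_const_zero,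 _root_.zero_smul, _root_.sub_zero, _root_.Pi.sub_apply, _root_.Pi.add_apply, _root_.Pi.smul_apply, _root_.smul_eq_mul, _root_.Pi.single_eq_same, _root_.mul_one, _root_.Fin.mk_one, _root_.Matrix.cons_val_one, _root_.one_ne_zero, _root_.Matrix.cons_val, _root_.Fin.reduceFinMk, _root_.mul_neg, _root_.neg_neg, _root_.add_right_inj]; done));
     ((simp only [io, ofM, sh7, u0, Fin.sum_univ_four, Fin.sum_univ_three, Pi.single_apply, _root_.Fin.isValue, _root_.Fin.zero_eta, _root_.LinearMap.coe_mk, _root_.AddHom.coe_mk, ↓ _root_.reduceIte, _root_.Matrix.of_apply, _root_.Matrix.cons_val', _root_.Matrix.cons_val_zero, _root_.Matrix.cons_val_fin_one, _root_.Int.reduceNeg, _root_.Int.cast_neg, _root_.Int.cast_one, _root_.neg_mul, _root_.one_mul, _root_.Prod.mk.injEq, _root_.zero_ne_one, _root_.and_true, _root_.and_false, _root_.Fin.reduceEq, _root_.and_self, _root_.MulZeroClass.mul_zero, _root_.add_zero, _root_.Sum.map_inr, _root_.Sum.map_inl,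 _root_.Fin.succ_zero_eq_one, _root_.ne_eq, _root_.reduceCtorEq, _root_.not_false_eq_true, _root_.Pi.single_eq_of_ne, _root_.MulZeroClass.zero_mul, _root_.Sum.inr.injEq, _root_.Sum.inl.injEq, _root_.ite_mul, _root_.Finset.sum_ite_eq', _root_.Finset.mem_univ, _root_.zero_add, _root_.OfNat.ofNat_ne_zero, _root_.zero_pow, _root_.Finset.sum_const_zero, _root_.zero_smul, _root_.sub_zero, _root_.Pi.sub_apply, _root_.Pi.add_apply, _root_.Pi.smul_apply, _root_.smul_eq_mul, _root_.Pi.single_eq_same, _root_.mul_one, _root_.Fin.mk_one, _root_.Matrix.cons_val_one, _root_.one_ne_zero, _root_.Matrix.cons_val, _root_.Fin.reduceFinMk, _root_.mul_neg, _root_.neg_neg, _root_.add_right_inj]; done));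
     ((exact absurd hp (by decide))); ((exact absurd hp (by decide)));
     ((simp only [io, ofM, sh7, u0, Fin.sum_univ_four, Fin.sum_univ_three, Pi.single_apply, _root_.Fin.isValue, _root_.Fin.zero_eta, _root_.LinearMap.coe_mk, _root_.AddHom.coe_mk, ↓ _root_.reduceIte, _root_.Matrix.of_apply, _root_.Matrix.cons_val', _root_.Matrix.cons_val_zero, _root_.Matrix.cons_val_fin_one, _root_.Int.reduceNeg, _root_.Int.cast_neg, _root_.Int.cast_one, _root_.neg_mul, _root_.one_mul, _root_.Prod.mk.injEq, _root_.zero_ne_one, _root_.and_true, _root_.and_false, _root_.Fin.reduceEq, _root_.and_self, _root_.MulZeroClass.mul_zero, _root_.add_zero, _root_.Sum.map_inr, _root_.Sum.map_inl, _root_.Fin.succ_zero_eq_one, _root_.ne_eq, _root_.reduceCtorEq, _root_.not_false_eq_true, _root_.Pi.single_eq_of_ne, _root_.MulZeroClass.zero_mul, _root_.Sum.inr.injEq, _root_.Sum.inl.injEq, _root_.ite_mul, _root_.Finset.sum_ite_eq', _root_.Finset.mem_univ, _root_.zero_add,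 _root_.OfNat.ofNat_ne_zero, _root_.zero_pow, _root_.Finset.sum_const_zero, _root_.zero_smul, _root_.sub_zero, _root_.Pi.sub_apply, _root_.Pi.add_apply, _root_.Pi.smul_apply, _root_.smul_eq_mul, _root_.Pi.single_eq_same, _root_.mul_one, _root_.Fin.mk_one, _root_.Matrix.cons_val_one, _root_.one_ne_zero, _root_.Matrix.cons_val, _root_.Fin.reduceFinMk, _root_.mul_neg, _root_.neg_neg, _root_.add_right_inj]; done));
     ((exact absurd hp (by decide))); ((exact absurd hp (by decide)));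
     ((simp only [io, ofM, sh7, u0, Fin.sum_univ_four, Fin.sum_univ_three, Pi.single_apply, _root_.Fin.isValue, _root_.Fin.zero_eta, _root_.LinearMap.coe_mk, _root_.AddHom.coe_mk, ↓ _root_.reduceIte, _root_.Matrix.of_apply, _root_.Matrix.cons_val', _root_.Matrix.cons_val_zero, _root_.Matrix.cons_val_fin_one, _root_.Int.reduceNeg, _root_.Int.cast_neg, _root_.Int.cast_one, _root_.neg_mul, _root_.one_mul, _root_.Prod.mk.injEq, _root_.zero_ne_one, _root_.and_true, _root_.and_false, _root_.Fin.reduceEq, _root_.and_self, _root_.MulZeroClass.mul_zero, _root_.add_zero, _root_.Sum.map_inr, _root_.Sum.map_inl, _root_.Fin.succ_zero_eq_one, _root_.ne_eq, _root_.reduceCtorEq, _root_.not_false_eq_true, _root_.Pi.single_eq_of_ne, _root_.MulZeroClass.zero_mul, _root_.Sum.inr.injEq, _root_.Sum.inl.injEq, _root_.ite_mul, _root_.Finset.sum_ite_eq', _root_.Finset.mem_univ, _root_.zero_add, _root_.OfNat.ofNat_ne_zero, _root_.zero_pow, _root_.Finset.sum_const_zero,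 _root_.zero_smul, _root_.sub_zero, _root_.Pi.sub_apply, _root_.Pi.add_apply, _root_.Pi.smul_apply, _root_.smul_eq_mul, _root_.Pi.single_eq_same, _root_.mul_one, _root_.Fin.mk_one, _root_.Matrix.cons_val_one, _root_.one_ne_zero, _root_.Matrix.cons_val, _root_.Fin.reduceFinMk, _root_.mul_neg, _root_.neg_neg, _root_.add_right_inj]; done));
     ((exact absurd hp (by decide))); ((exact absurd hp (by decide)));
     ((simp only [io, ofM, sh7, u0, Fin.sum_univ_four, Fin.sum_univ_three, Pi.single_apply, _root_.Fin.isValue, _root_.Fin.zero_eta, _root_.LinearMap.coe_mk, _root_.AddHom.coe_mk, ↓ _root_.reduceIte, _root_.Matrix.of_apply, _root_.Matrix.cons_val', _root_.Matrix.cons_val_zero, _root_.Matrix.cons_val_fin_one, _root_.Int.reduceNeg, _root_.Int.cast_neg, _root_.Int.cast_one, _root_.neg_mul, _root_.one_mul, _root_.Prod.mk.injEq, _root_.zero_ne_one, _root_.and_true, _root_.and_false, _root_.Fin.reduceEq, _root_.and_self, _root_.MulZeroClass.mul_zero,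 _root_.add_zero, _root_.Sum.map_inr, _root_.Sum.map_inl, _root_.Fin.succ_zero_eq_one, _root_.ne_eq, _root_.reduceCtorEq, _root_.not_false_eq_true, _root_.Pi.single_eq_of_ne, _root_.MulZeroClass.zero_mul, _root_.Sum.inr.injEq, _root_.Sum.inl.injEq, _root_.ite_mul, _root_.Finset.sum_ite_eq', _root_.Finset.mem_univ, _root_.zero_add, _root_.OfNat.ofNat_ne_zero, _root_.zero_pow, _root_.Finset.sum_const_zero, _root_.zero_smul, _root_.sub_zero, _root_.Pi.sub_apply, _root_.Pi.add_apply, _root_.Pi.smul_apply, _root_.smul_eq_mul, _root_.Pi.single_eq_same, _root_.mul_one, _root_.Fin.mk_one, _root_.Matrix.cons_val_one, _root_.one_ne_zero, _root_.Matrix.cons_val, _root_.Fin.reduceFinMk, _root_.mul_neg, _root_.neg_neg, _root_.add_right_inj]; done))]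

theorem b2 (hρ : IsJ ρ) (t : K) (y : VV K) (i : I27) (hp : pl i = true) :
    JK ρ (xc Cfsg.Agent.Nodes.KindF.isType (_root_.Cfsg.Agent.Nodes.RGDChev.vec chevF4 4 16) t) (io y) i =
      io (sgl (Pi.single (.inr (.inl 1)) ((-1) * t)) y) i := by
  rw [key_long hρ (e := 8) (s := -1) (α := -1) (β := 1) (a := (0, 1, 0)) (b := (1, 2, 1)) (a' := (2, 1, 2))
    (b' := (0, 0, 1)) (by decide) (by decide) (by decide +kernel) (by decide +kernel) (by decide +kernel) t _ i hp,
    sgl_apply, jj_single, polar_oddForm, coe_oddForm, quadFormOdd_apply]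
  obtain ⟨k, i, j⟩ := i
  revert hp
  fin_cases k <;> fin_cases i <;> fin_cases j <;> intro hp <;>
    [((simp [io, ofM, sh7, u0, Fin.sum_univ_four, Fin.sum_univ_three, Pi.single_apply]; done));
     ((simp [io, ofM, sh7, u0, Fin.sum_univ_four, Fin.sum_univ_three, Pi.single_apply]; done)); ((exact absurd hp (by decide)));
     ((simp [io, ofM, sh7, u0, Fin.sum_univ_four, Fin.sum_univ_three, Pi.single_apply]; done));
     ((simp [io, ofM, sh7, u0, Fin.sum_univ_four, Fin.sum_univ_three, Pi.single_apply]; done)); ((exact absurd hp (by decide)));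
     ((exact absurd hp (by decide))); ((exact absurd hp (by decide)));
     ((simp [io, ofM, sh7, u0, Fin.sum_univ_four, Fin.sum_univ_three, Pi.single_apply]; done)); ((exact absurd hp (by decide)));
     ((exact absurd hp (by decide))); ((exact absurd hp (by decide))); ((exact absurd hp (by decide))); ((exact absurd hp (by decide)));
     ((exact absurd hp (by decide))); ((simp [io, ofM, sh7, u0, Fin.sum_univ_four, Fin.sum_univ_three, Pi.single_apply]; done));
     ((simp [io, ofM, sh7, u0, Fin.sum_univ_four, Fin.sum_univ_three, Pi.single_apply]; ring));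
     ((simp [io, ofM, sh7, u0, Fin.sum_univ_four, Fin.sum_univ_three, Pi.single_apply]; done)); ((exact absurd hp (by decide)));
     ((exact absurd hp (by decide))); ((simp [io, ofM, sh7, u0, Fin.sum_univ_four, Fin.sum_univ_three, Pi.single_apply]; done));
     ((exact absurd hp (by decide))); ((exact absurd hp (by decide)));
     ((simp [io, ofM, sh7, u0, Fin.sum_univ_four, Fin.sum_univ_three, Pi.single_apply]; done)); ((exact absurd hp (by decide)));
     ((exact absurd hp (by decide))); ((simp [io, ofM, sh7, u0, Fin.sum_univ_four, Fin.sum_univ_three, Pi.single_apply]; done))]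

theorem b3 (hρ : IsJ ρ) (t : K) (y : VV K) (i : I27) (hp : pl i = true) :
    JK ρ (xc Cfsg.Agent.Nodes.KindF.isType (_root_.Cfsg.Agent.Nodes.RGDChev.vec chevF4 4 17) t) (io y) i =
      io (sgl (Pi.single (.inr (.inl 2)) (1 * t)) y) i := by
  rw [key_long hρ (e := 11) (s := -1) (α := 1) (β := -1) (a := (0, 1, 0)) (b := (1, 2, 2)) (a' := (2, 2, 2))
    (b' := (0, 0, 1)) (by decide) (by decide) (by decide +kernel) (by decide +kernel) (by decide +kernel) t _ i hp,
    sgl_apply, jj_single, polar_oddForm, coe_oddForm, quadFormOdd_apply]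
  obtain ⟨k, i, j⟩ := i
  revert hp
  fin_cases k <;> fin_cases i <;> fin_cases j <;> intro hp <;>
    [((simp only [io, ofM, sh7, u0, Fin.sum_univ_four, Fin.sum_univ_three, Pi.single_apply, _root_.Fin.isValue, _root_.Fin.zero_eta, _root_.LinearMap.coe_mk, _root_.AddHom.coe_mk, ↓ _root_.reduceIte, _root_.Matrix.of_apply, _root_.Matrix.cons_val', _root_.Matrix.cons_val_zero, _root_.Matrix.cons_val_fin_one, _root_.Int.reduceNeg, _root_.Int.cast_neg, _root_.Int.cast_one, _root_.neg_mul, _root_.one_mul, _root_.Prod.mk.injEq, _root_.zero_ne_one, _root_.and_true, _root_.and_false, _root_.Fin.reduceEq, _root_.and_self, _root_.MulZeroClass.mul_zero, _root_.add_zero, _root_.Sum.map_inr, _root_.Sum.map_inl, _root_.Fin.reduceSucc, _root_.ne_eq, _root_.reduceCtorEq, _root_.not_false_eq_true, _root_.Pi.single_eq_of_ne, _root_.MulZeroClass.zero_mul, _root_.Sum.inr.injEq, _root_.Sum.inl.injEq, _root_.ite_mul, _root_.Finset.sum_ite_eq', _root_.Finset.mem_univ,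 _root_.zero_add, _root_.OfNat.ofNat_ne_zero, _root_.zero_pow, _root_.Finset.sum_const_zero, _root_.zero_smul, _root_.sub_zero, _root_.Pi.sub_apply, _root_.Pi.add_apply, _root_.Pi.smul_apply, _root_.smul_eq_mul, _root_.Pi.single_eq_same, _root_.mul_one, _root_.Fin.mk_one, _root_.Matrix.cons_val_one, _root_.one_ne_zero, _root_.Matrix.cons_val, _root_.Fin.reduceFinMk, _root_.mul_neg, _root_.neg_neg, _root_.add_right_inj]; done));
     ((simp only [io, ofM, sh7, u0, Fin.sum_univ_four, Fin.sum_univ_three, Pi.single_apply, _root_.Fin.isValue, _root_.Fin.zero_eta, _root_.LinearMap.coe_mk, _root_.AddHom.coe_mk, ↓ _root_.reduceIte, _root_.Matrix.of_apply, _root_.Matrix.cons_val', _root_.Matrix.cons_val_zero, _root_.Matrix.cons_val_fin_one, _root_.Int.reduceNeg, _root_.Int.cast_neg, _root_.Int.cast_one, _root_.neg_mul, _root_.one_mul, _root_.Prod.mk.injEq, _root_.zero_ne_one, _root_.and_true, _root_.and_false, _root_.Fin.reduceEq, _root_.and_self,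 _root_.MulZeroClass.mul_zero, _root_.add_zero, _root_.Sum.map_inr, _root_.Sum.map_inl, _root_.Fin.reduceSucc, _root_.ne_eq, _root_.reduceCtorEq, _root_.not_false_eq_true, _root_.Pi.single_eq_of_ne, _root_.MulZeroClass.zero_mul, _root_.Sum.inr.injEq, _root_.Sum.inl.injEq, _root_.ite_mul, _root_.Finset.sum_ite_eq', _root_.Finset.mem_univ, _root_.zero_add, _root_.OfNat.ofNat_ne_zero, _root_.zero_pow, _root_.Finset.sum_const_zero, _root_.zero_smul, _root_.sub_zero, _root_.Pi.sub_apply, _root_.Pi.add_apply, _root_.Pi.smul_apply, _root_.smul_eq_mul, _root_.Pi.single_eq_same, _root_.mul_one, _root_.Fin.mk_one, _root_.Matrix.cons_val_one, _root_.one_ne_zero, _root_.Matrix.cons_val, _root_.Fin.reduceFinMk, _root_.mul_neg, _root_.neg_neg, _root_.add_right_inj]; done));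
     ((exact absurd hp (by decide)));
     ((simp only [io, ofM, sh7, u0, Fin.sum_univ_four, Fin.sum_univ_three, Pi.single_apply, _root_.Fin.isValue, _root_.Fin.zero_eta, _root_.Fin.mk_one, _root_.LinearMap.coe_mk, _root_.AddHom.coe_mk, ↓ _root_.reduceIte, _root_.Matrix.of_apply, _root_.Matrix.cons_val', _root_.Matrix.cons_val_zero, _root_.Matrix.cons_val_fin_one, _root_.Matrix.cons_val_one, _root_.Int.reduceNeg, _root_.Int.cast_neg, _root_.Int.cast_one, _root_.neg_mul, _root_.one_mul, _root_.Fin.reduceEq, _root_.Matrix.cons_val, _root_.Sum.map_inr, _root_.Sum.map_inl, _root_.Fin.reduceSucc, _root_.ne_eq, _root_.reduceCtorEq, _root_.not_false_eq_true, _root_.Pi.single_eq_of_ne, _root_.MulZeroClass.mul_zero, _root_.MulZeroClass.zero_mul, _root_.Sum.inr.injEq, _root_.Sum.inl.injEq, _root_.ite_mul, _root_.add_zero, _root_.Finset.sum_ite_eq', _root_.Finset.mem_univ, _root_.zero_add, _root_.OfNat.ofNat_ne_zero, _root_.zero_pow, _root_.Finset.sum_const_zero,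 _root_.zero_smul, _root_.sub_zero, _root_.Pi.sub_apply, _root_.Pi.add_apply, _root_.Pi.smul_apply, _root_.smul_eq_mul, _root_.Pi.single_eq_same, _root_.mul_one, _root_.Fin.reduceFinMk, _root_.one_ne_zero, _root_.Prod.mk.injEq, _root_.and_self, _root_.mul_neg, _root_.neg_neg, _root_.add_right_inj]; ring));
     ((simp only [io, ofM, sh7, u0, Fin.sum_univ_four, Fin.sum_univ_three, Pi.single_apply, _root_.Fin.isValue, _root_.Fin.zero_eta, _root_.LinearMap.coe_mk, _root_.AddHom.coe_mk, ↓ _root_.reduceIte, _root_.Matrix.of_apply, _root_.Matrix.cons_val', _root_.Matrix.cons_val_zero, _root_.Matrix.cons_val_fin_one, _root_.Int.reduceNeg, _root_.Int.cast_neg, _root_.Int.cast_one, _root_.neg_mul, _root_.one_mul, _root_.Prod.mk.injEq, _root_.zero_ne_one, _root_.and_true, _root_.and_false, _root_.Fin.reduceEq, _root_.and_self, _root_.MulZeroClass.mul_zero, _root_.add_zero, _root_.Sum.map_inr, _root_.Sum.map_inl, _root_.Fin.reduceSucc, _root_.ne_eq,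 _root_.reduceCtorEq, _root_.not_false_eq_true, _root_.Pi.single_eq_of_ne, _root_.MulZeroClass.zero_mul, _root_.Sum.inr.injEq, _root_.Sum.inl.injEq, _root_.ite_mul, _root_.Finset.sum_ite_eq', _root_.Finset.mem_univ, _root_.zero_add, _root_.OfNat.ofNat_ne_zero, _root_.zero_pow, _root_.Finset.sum_const_zero, _root_.zero_smul, _root_.sub_zero, _root_.Pi.sub_apply, _root_.Pi.add_apply, _root_.Pi.smul_apply, _root_.smul_eq_mul, _root_.Pi.single_eq_same, _root_.mul_one, _root_.Fin.mk_one, _root_.Matrix.cons_val_one, _root_.one_ne_zero, _root_.Matrix.cons_val, _root_.Fin.reduceFinMk, _root_.mul_neg, _root_.neg_neg, _root_.add_right_inj]; done));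
     ((exact absurd hp (by decide))); ((exact absurd hp (by decide))); ((exact absurd hp (by decide)));
     ((simp only [io, ofM, sh7, u0, Fin.sum_univ_four, Fin.sum_univ_three, Pi.single_apply, _root_.Fin.isValue, _root_.Fin.zero_eta, _root_.LinearMap.coe_mk, _root_.AddHom.coe_mk, ↓ _root_.reduceIte, _root_.Matrix.of_apply, _root_.Matrix.cons_val', _root_.Matrix.cons_val_zero, _root_.Matrix.cons_val_fin_one, _root_.Int.reduceNeg, _root_.Int.cast_neg, _root_.Int.cast_one, _root_.neg_mul, _root_.one_mul, _root_.Prod.mk.injEq, _root_.zero_ne_one, _root_.and_true, _root_.and_false, _root_.Fin.reduceEq, _root_.and_self, _root_.MulZeroClass.mul_zero, _root_.add_zero, _root_.Sum.map_inr, _root_.Sum.map_inl, _root_.Fin.reduceSucc, _root_.ne_eq, _root_.reduceCtorEq, _root_.not_false_eq_true, _root_.Pi.single_eq_of_ne, _root_.MulZeroClass.zero_mul, _root_.Sum.inr.injEq, _root_.Sum.inl.injEq, _root_.ite_mul, _root_.Finset.sum_ite_eq', _root_.Finset.mem_univ,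 _root_.zero_add, _root_.OfNat.ofNat_ne_zero, _root_.zero_pow, _root_.Finset.sum_const_zero, _root_.zero_smul, _root_.sub_zero, _root_.Pi.sub_apply, _root_.Pi.add_apply, _root_.Pi.smul_apply, _root_.smul_eq_mul, _root_.Pi.single_eq_same, _root_.mul_one, _root_.Fin.mk_one, _root_.Matrix.cons_val_one, _root_.one_ne_zero, _root_.Matrix.cons_val, _root_.Fin.reduceFinMk, _root_.mul_neg, _root_.neg_neg, _root_.add_right_inj]; done));
     ((exact absurd hp (by decide))); ((exact absurd hp (by decide))); ((exact absurd hp (by decide))); ((exact absurd hp (by decide)));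
     ((exact absurd hp (by decide))); ((exact absurd hp (by decide)));
     ((simp only [io, ofM, sh7, u0, Fin.sum_univ_four, Fin.sum_univ_three, Pi.single_apply, _root_.Fin.isValue, _root_.Fin.zero_eta, _root_.LinearMap.coe_mk, _root_.AddHom.coe_mk, ↓ _root_.reduceIte, _root_.Matrix.of_apply, _root_.Matrix.cons_val', _root_.Matrix.cons_val_zero, _root_.Matrix.cons_val_fin_one, _root_.Int.reduceNeg, _root_.Int.cast_neg, _root_.Int.cast_one, _root_.neg_mul, _root_.one_mul, _root_.Prod.mk.injEq, _root_.zero_ne_one, _root_.and_true, _root_.and_false, _root_.Fin.reduceEq, _root_.and_self, _root_.MulZeroClass.mul_zero, _root_.add_zero, _root_.Sum.map_inr, _root_.Sum.map_inl, _root_.Fin.reduceSucc, _root_.ne_eq, _root_.reduceCtorEq, _root_.not_false_eq_true, _root_.Pi.single_eq_of_ne, _root_.MulZeroClass.zero_mul, _root_.Sum.inr.injEq, _root_.Sum.inl.injEq, _root_.ite_mul, _root_.Finset.sum_ite_eq', _root_.Finset.mem_univ, _root_.zero_add,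 _root_.OfNat.ofNat_ne_zero, _root_.zero_pow, _root_.Finset.sum_const_zero, _root_.zero_smul, _root_.sub_zero, _root_.Pi.sub_apply, _root_.Pi.add_apply, _root_.Pi.smul_apply, _root_.smul_eq_mul, _root_.Pi.single_eq_same, _root_.mul_one, _root_.Fin.mk_one, _root_.Matrix.cons_val_one, _root_.one_ne_zero, _root_.Matrix.cons_val, _root_.Fin.reduceFinMk, _root_.mul_neg, _root_.neg_neg, _root_.add_right_inj]; done));
     ((simp only [io, ofM, sh7, u0, Fin.sum_univ_four, Fin.sum_univ_three, Pi.single_apply, _root_.Fin.isValue, _root_.Fin.zero_eta, _root_.LinearMap.coe_mk, _root_.AddHom.coe_mk, ↓ _root_.reduceIte, _root_.Matrix.of_apply, _root_.Matrix.cons_val', _root_.Matrix.cons_val_zero, _root_.Matrix.cons_val_fin_one, _root_.Int.reduceNeg, _root_.Int.cast_neg, _root_.Int.cast_one, _root_.neg_mul, _root_.one_mul, _root_.Prod.mk.injEq, _root_.zero_ne_one, _root_.and_true, _root_.and_false, _root_.Fin.reduceEq, _root_.and_self, _root_.MulZeroClass.mul_zero,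 _root_.add_zero, _root_.Sum.map_inr, _root_.Sum.map_inl, _root_.Fin.reduceSucc, _root_.ne_eq, _root_.reduceCtorEq, _root_.not_false_eq_true, _root_.Pi.single_eq_of_ne, _root_.MulZeroClass.zero_mul, _root_.Sum.inr.injEq, _root_.Sum.inl.injEq, _root_.ite_mul, _root_.Finset.sum_ite_eq', _root_.Finset.mem_univ, _root_.zero_add, _root_.OfNat.ofNat_ne_zero, _root_.zero_pow, _root_.Finset.sum_const_zero, _root_.zero_smul, _root_.sub_zero, _root_.Pi.sub_apply, _root_.Pi.add_apply, _root_.Pi.smul_apply, _root_.smul_eq_mul, _root_.Pi.single_eq_same, _root_.mul_one, _root_.Fin.mk_one, _root_.Matrix.cons_val_one, _root_.one_ne_zero, _root_.Matrix.cons_val, _root_.Fin.reduceFinMk, _root_.mul_neg, _root_.neg_neg, _root_.add_right_inj]; done));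
     ((simp only [io, ofM, sh7, u0, Fin.sum_univ_four, Fin.sum_univ_three, Pi.single_apply, _root_.Fin.isValue, _root_.Fin.zero_eta, _root_.Fin.mk_one, _root_.LinearMap.coe_mk, _root_.AddHom.coe_mk, ↓ _root_.reduceIte, _root_.Matrix.of_apply, _root_.Matrix.cons_val', _root_.Matrix.cons_val_zero, _root_.Matrix.cons_val_fin_one, _root_.Matrix.cons_val_one, _root_.Int.reduceNeg, _root_.Int.cast_neg, _root_.Int.cast_one, _root_.neg_mul, _root_.one_mul, _root_.Fin.reduceEq, _root_.Matrix.cons_val, _root_.Sum.map_inr, _root_.Sum.map_inl, _root_.Fin.reduceSucc, _root_.ne_eq, _root_.reduceCtorEq, _root_.not_false_eq_true, _root_.Pi.single_eq_of_ne, _root_.MulZeroClass.mul_zero, _root_.MulZeroClass.zero_mul, _root_.Sum.inr.injEq, _root_.Sum.inl.injEq, _root_.ite_mul, _root_.add_zero, _root_.Finset.sum_ite_eq', _root_.Finset.mem_univ, _root_.zero_add, _root_.OfNat.ofNat_ne_zero, _root_.zero_pow, _root_.Finset.sum_const_zero, _root_.zero_smul,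 _root_.sub_zero, _root_.Pi.sub_apply, _root_.Pi.add_apply, _root_.Pi.smul_apply, _root_.smul_eq_mul, _root_.Pi.single_eq_same, _root_.mul_one, _root_.Fin.reduceFinMk, _root_.one_ne_zero, _root_.Prod.mk.injEq, _root_.and_self, _root_.mul_neg, _root_.neg_neg, _root_.add_right_inj]; ring));
     ((exact absurd hp (by decide))); ((exact absurd hp (by decide)));
     ((simp only [io, ofM, sh7, u0, Fin.sum_univ_four, Fin.sum_univ_three, Pi.single_apply, _root_.Fin.isValue, _root_.Fin.zero_eta, _root_.LinearMap.coe_mk, _root_.AddHom.coe_mk, ↓ _root_.reduceIte, _root_.Matrix.of_apply, _root_.Matrix.cons_val', _root_.Matrix.cons_val_zero, _root_.Matrix.cons_val_fin_one, _root_.Int.reduceNeg, _root_.Int.cast_neg, _root_.Int.cast_one, _root_.neg_mul, _root_.one_mul, _root_.Prod.mk.injEq, _root_.zero_ne_one, _root_.and_true, _root_.and_false, _root_.Fin.reduceEq, _root_.and_self, _root_.MulZeroClass.mul_zero, _root_.add_zero, _root_.Sum.map_inr,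 _root_.Sum.map_inl, _root_.Fin.reduceSucc, _root_.ne_eq, _root_.reduceCtorEq, _root_.not_false_eq_true, _root_.Pi.single_eq_of_ne, _root_.MulZeroClass.zero_mul, _root_.Sum.inr.injEq, _root_.Sum.inl.injEq, _root_.ite_mul, _root_.Finset.sum_ite_eq', _root_.Finset.mem_univ, _root_.zero_add, _root_.OfNat.ofNat_ne_zero, _root_.zero_pow, _root_.Finset.sum_const_zero, _root_.zero_smul, _root_.sub_zero, _root_.Pi.sub_apply, _root_.Pi.add_apply, _root_.Pi.smul_apply, _root_.smul_eq_mul, _root_.Pi.single_eq_same, _root_.mul_one, _root_.Fin.mk_one, _root_.Matrix.cons_val_one, _root_.one_ne_zero, _root_.Matrix.cons_val, _root_.Fin.reduceFinMk, _root_.mul_neg, _root_.neg_neg, _root_.add_right_inj]; done));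
     ((exact absurd hp (by decide))); ((exact absurd hp (by decide)));
     ((simp only [io, ofM, sh7, u0, Fin.sum_univ_four, Fin.sum_univ_three, Pi.single_apply, _root_.Fin.isValue, _root_.Fin.zero_eta, _root_.LinearMap.coe_mk, _root_.AddHom.coe_mk, ↓ _root_.reduceIte, _root_.Matrix.of_apply, _root_.Matrix.cons_val', _root_.Matrix.cons_val_zero, _root_.Matrix.cons_val_fin_one, _root_.Int.reduceNeg, _root_.Int.cast_neg, _root_.Int.cast_one, _root_.neg_mul, _root_.one_mul, _root_.Prod.mk.injEq, _root_.zero_ne_one, _root_.and_true, _root_.and_false, _root_.Fin.reduceEq, _root_.and_self, _root_.MulZeroClass.mul_zero, _root_.add_zero, _root_.Sum.map_inr, _root_.Sum.map_inl, _root_.Fin.reduceSucc, _root_.ne_eq, _root_.reduceCtorEq, _root_.not_false_eq_true, _root_.Pi.single_eq_of_ne, _root_.MulZeroClass.zero_mul, _root_.Sum.inr.injEq, _root_.Sum.inl.injEq, _root_.ite_mul, _root_.Finset.sum_ite_eq', _root_.Finset.mem_univ, _root_.zero_add,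 _root_.OfNat.ofNat_ne_zero, _root_.zero_pow, _root_.Finset.sum_const_zero, _root_.zero_smul, _root_.sub_zero, _root_.Pi.sub_apply, _root_.Pi.add_apply, _root_.Pi.smul_apply, _root_.smul_eq_mul, _root_.Pi.single_eq_same, _root_.mul_one, _root_.Fin.mk_one, _root_.Matrix.cons_val_one, _root_.one_ne_zero, _root_.Matrix.cons_val, _root_.Fin.reduceFinMk, _root_.mul_neg, _root_.neg_neg, _root_.add_right_inj]; done));
     ((exact absurd hp (by decide))); ((exact absurd hp (by decide)));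
     ((simp only [io, ofM, sh7, u0, Fin.sum_univ_four, Fin.sum_univ_three, Pi.single_apply, _root_.Fin.isValue, _root_.Fin.zero_eta, _root_.LinearMap.coe_mk, _root_.AddHom.coe_mk, ↓ _root_.reduceIte, _root_.Matrix.of_apply, _root_.Matrix.cons_val', _root_.Matrix.cons_val_zero, _root_.Matrix.cons_val_fin_one, _root_.Int.reduceNeg, _root_.Int.cast_neg, _root_.Int.cast_one, _root_.neg_mul, _root_.one_mul, _root_.Prod.mk.injEq, _root_.zero_ne_one, _root_.and_true, _root_.and_false, _root_.Fin.reduceEq, _root_.and_self, _root_.MulZeroClass.mul_zero, _root_.add_zero, _root_.Sum.map_inr, _root_.Sum.map_inl, _root_.Fin.reduceSucc, _root_.ne_eq, _root_.reduceCtorEq, _root_.not_false_eq_true, _root_.Pi.single_eq_of_ne, _root_.MulZeroClass.zero_mul, _root_.Sum.inr.injEq, _root_.Sum.inl.injEq, _root_.ite_mul, _root_.Finset.sum_ite_eq', _root_.Finset.mem_univ, _root_.zero_add, _root_.OfNat.ofNat_ne_zero, _root_.zero_pow, _root_.Finset.sum_const_zero,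 _root_.zero_smul, _root_.sub_zero, _root_.Pi.sub_apply, _root_.Pi.add_apply, _root_.Pi.smul_apply, _root_.smul_eq_mul, _root_.Pi.single_eq_same, _root_.mul_one, _root_.Fin.mk_one, _root_.Matrix.cons_val_one, _root_.one_ne_zero, _root_.Matrix.cons_val, _root_.Fin.reduceFinMk, _root_.mul_neg, _root_.neg_neg, _root_.add_right_inj]; done))]

theorem b4 (hρ : IsJ ρ) (t : K) (y : VV K) (i : I27) (hp : pl i = true) :
    JK ρ (xc Cfsg.Agent.Nodes.KindF.isType (_root_.Cfsg.Agent.Nodes.RGDChev.vec chevF4 4 43) t) (io y) i =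
      io (sgl (Pi.single (.inr (.inr 0)) (1 * t)) y) i := by
  rw [key_long hρ (e := 6) (s := -1) (α := 1) (β := -1) (a := (0, 1, 0)) (b := (2, 0, 2)) (a' := (1, 2, 0))
    (b' := (0, 0, 1)) (by decide) (by decide) (by decide +kernel) (by decide +kernel) (by decide +kernel) t _ i hp,
    sgl_apply, jj_single, polar_oddForm, coe_oddForm, quadFormOdd_apply]
  obtain ⟨k, i, j⟩ := i
  revert hp
  fin_cases k <;> fin_cases i <;> fin_cases j <;> intro hp <;>
    [((simp only [io, ofM, sh7, u0, Fin.sum_univ_four, Fin.sum_univ_three, Pi.single_apply, _root_.Fin.isValue, _root_.Fin.zero_eta, _root_.LinearMap.coe_mk, _root_.AddHom.coe_mk, ↓ _root_.reduceIte, _root_.Matrix.of_apply, _root_.Matrix.cons_val', _root_.Matrix.cons_val_zero, _root_.Matrix.cons_val_fin_one, _root_.Int.reduceNeg, _root_.Int.cast_neg, _root_.Int.cast_one, _root_.neg_mul, _root_.one_mul, _root_.Prod.mk.injEq, _root_.zero_ne_one, _root_.and_true, _root_.and_false, _root_.Fin.reduceEq,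 _root_.and_self, _root_.MulZeroClass.mul_zero, _root_.add_zero, _root_.Sum.map_inr, _root_.Fin.succ_zero_eq_one, _root_.ne_eq, _root_.reduceCtorEq, _root_.not_false_eq_true, _root_.Pi.single_eq_of_ne, _root_.MulZeroClass.zero_mul, _root_.Sum.inr.injEq, _root_.mul_ite, _root_.zero_add, _root_.Finset.sum_ite_eq', _root_.Finset.mem_univ, _root_.OfNat.ofNat_ne_zero, _root_.zero_pow, _root_.ite_self, _root_.Finset.sum_const_zero, _root_.zero_smul, _root_.sub_zero, _root_.Pi.sub_apply, _root_.Pi.add_apply, _root_.Pi.smul_apply, _root_.smul_eq_mul, _root_.Pi.single_eq_same, _root_.mul_one, _root_.Fin.mk_one, _root_.Matrix.cons_val_one, _root_.one_ne_zero, _root_.Matrix.cons_val, _root_.Fin.reduceFinMk, _root_.mul_neg, _root_.neg_neg, _root_.add_right_inj]; done));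
     ((simp only [io, ofM, sh7, u0, Fin.sum_univ_four, Fin.sum_univ_three, Pi.single_apply, _root_.Fin.isValue, _root_.Fin.zero_eta, _root_.LinearMap.coe_mk, _root_.AddHom.coe_mk, ↓ _root_.reduceIte, _root_.Matrix.of_apply, _root_.Matrix.cons_val', _root_.Matrix.cons_val_zero, _root_.Matrix.cons_val_fin_one, _root_.Int.reduceNeg, _root_.Int.cast_neg, _root_.Int.cast_one, _root_.neg_mul, _root_.one_mul, _root_.Prod.mk.injEq, _root_.zero_ne_one, _root_.and_true, _root_.and_false, _root_.Fin.reduceEq, _root_.and_self, _root_.MulZeroClass.mul_zero, _root_.add_zero, _root_.Sum.map_inr, _root_.Fin.succ_zero_eq_one, _root_.ne_eq, _root_.reduceCtorEq, _root_.not_false_eq_true, _root_.Pi.single_eq_of_ne, _root_.MulZeroClass.zero_mul, _root_.Sum.inr.injEq, _root_.mul_ite, _root_.zero_add, _root_.Finset.sum_ite_eq', _root_.Finset.mem_univ, _root_.OfNat.ofNat_ne_zero, _root_.zero_pow, _root_.ite_self, _root_.Finset.sum_const_zero, _root_.zero_smul,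 _root_.sub_zero, _root_.Pi.sub_apply, _root_.Pi.add_apply, _root_.Pi.smul_apply, _root_.smul_eq_mul, _root_.Pi.single_eq_same, _root_.mul_one, _root_.Fin.mk_one, _root_.Matrix.cons_val_one, _root_.one_ne_zero, _root_.Matrix.cons_val, _root_.Fin.reduceFinMk, _root_.mul_neg, _root_.neg_neg, _root_.add_right_inj]; done));
     ((exact absurd hp (by decide)));
     ((simp only [io, ofM, sh7, u0, Fin.sum_univ_four, Fin.sum_univ_three, Pi.single_apply, _root_.Fin.isValue, _root_.Fin.zero_eta, _root_.Fin.mk_one, _root_.LinearMap.coe_mk, _root_.AddHom.coe_mk, ↓ _root_.reduceIte, _root_.Matrix.of_apply, _root_.Matrix.cons_val', _root_.Matrix.cons_val_zero, _root_.Matrix.cons_val_fin_one, _root_.Matrix.cons_val_one, _root_.Int.reduceNeg, _root_.Int.cast_neg, _root_.Int.cast_one, _root_.neg_mul, _root_.one_mul, _root_.one_ne_zero, _root_.Matrix.cons_val, _root_.Sum.map_inr, _root_.Fin.succ_zero_eq_one, _root_.ne_eq, _root_.reduceCtorEq, _root_.not_false_eq_true,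 _root_.Pi.single_eq_of_ne, _root_.MulZeroClass.mul_zero, _root_.MulZeroClass.zero_mul, _root_.Sum.inr.injEq, _root_.mul_ite, _root_.zero_add, _root_.Finset.sum_ite_eq', _root_.Finset.mem_univ, _root_.OfNat.ofNat_ne_zero, _root_.zero_pow, _root_.ite_self, _root_.Finset.sum_const_zero, _root_.add_zero, _root_.zero_smul, _root_.sub_zero, _root_.Pi.sub_apply, _root_.Pi.add_apply, _root_.Pi.smul_apply, _root_.smul_eq_mul, _root_.zero_ne_one, _root_.Pi.single_eq_same, _root_.mul_one, _root_.Fin.reduceFinMk, _root_.Fin.reduceEq, _root_.Prod.mk.injEq, _root_.and_self, _root_.mul_neg, _root_.neg_neg, _root_.add_right_inj]; ring));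
     ((simp only [io, ofM, sh7, u0, Fin.sum_univ_four, Fin.sum_univ_three, Pi.single_apply, _root_.Fin.isValue, _root_.Fin.zero_eta, _root_.LinearMap.coe_mk, _root_.AddHom.coe_mk, ↓ _root_.reduceIte, _root_.Matrix.of_apply, _root_.Matrix.cons_val', _root_.Matrix.cons_val_zero, _root_.Matrix.cons_val_fin_one, _root_.Int.reduceNeg, _root_.Int.cast_neg, _root_.Int.cast_one, _root_.neg_mul, _root_.one_mul, _root_.Prod.mk.injEq, _root_.zero_ne_one, _root_.and_true, _root_.and_false, _root_.Fin.reduceEq, _root_.and_self, _root_.MulZeroClass.mul_zero, _root_.add_zero, _root_.Sum.map_inr, _root_.Fin.succ_zero_eq_one, _root_.ne_eq, _root_.reduceCtorEq, _root_.not_false_eq_true, _root_.Pi.single_eq_of_ne, _root_.MulZeroClass.zero_mul, _root_.Sum.inr.injEq, _root_.mul_ite, _root_.zero_add, _root_.Finset.sum_ite_eq', _root_.Finset.mem_univ, _root_.OfNat.ofNat_ne_zero, _root_.zero_pow, _root_.ite_self, _root_.Finset.sum_const_zero, _root_.zero_smul,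 _root_.sub_zero, _root_.Pi.sub_apply, _root_.Pi.add_apply, _root_.Pi.smul_apply, _root_.smul_eq_mul, _root_.Pi.single_eq_same, _root_.mul_one, _root_.Fin.mk_one, _root_.Matrix.cons_val_one, _root_.one_ne_zero, _root_.Matrix.cons_val, _root_.Fin.reduceFinMk, _root_.mul_neg, _root_.neg_neg, _root_.add_right_inj]; done));
     ((exact absurd hp (by decide))); ((exact absurd hp (by decide))); ((exact absurd hp (by decide)));
     ((simp only [io, ofM, sh7, u0, Fin.sum_univ_four, Fin.sum_univ_three, Pi.single_apply, _root_.Fin.isValue, _root_.Fin.zero_eta, _root_.LinearMap.coe_mk, _root_.AddHom.coe_mk, ↓ _root_.reduceIte, _root_.Matrix.of_apply, _root_.Matrix.cons_val', _root_.Matrix.cons_val_zero, _root_.Matrix.cons_val_fin_one, _root_.Int.reduceNeg, _root_.Int.cast_neg, _root_.Int.cast_one, _root_.neg_mul, _root_.one_mul, _root_.Prod.mk.injEq, _root_.zero_ne_one, _root_.and_true, _root_.and_false, _root_.Fin.reduceEq, _root_.and_self,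 _root_.MulZeroClass.mul_zero, _root_.add_zero, _root_.Sum.map_inr, _root_.Fin.succ_zero_eq_one, _root_.ne_eq, _root_.reduceCtorEq, _root_.not_false_eq_true, _root_.Pi.single_eq_of_ne, _root_.MulZeroClass.zero_mul, _root_.Sum.inr.injEq, _root_.mul_ite, _root_.zero_add, _root_.Finset.sum_ite_eq', _root_.Finset.mem_univ, _root_.OfNat.ofNat_ne_zero, _root_.zero_pow, _root_.ite_self, _root_.Finset.sum_const_zero, _root_.zero_smul, _root_.sub_zero, _root_.Pi.sub_apply, _root_.Pi.add_apply, _root_.Pi.smul_apply, _root_.smul_eq_mul, _root_.Pi.single_eq_same, _root_.mul_one, _root_.Fin.mk_one, _root_.Matrix.cons_val_one, _root_.one_ne_zero, _root_.Matrix.cons_val, _root_.Fin.reduceFinMk, _root_.mul_neg, _root_.neg_neg, _root_.add_right_inj]; done));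
     ((exact absurd hp (by decide))); ((exact absurd hp (by decide))); ((exact absurd hp (by decide))); ((exact absurd hp (by decide)));
     ((exact absurd hp (by decide))); ((exact absurd hp (by decide)));
     ((simp only [io, ofM, sh7, u0, Fin.sum_univ_four, Fin.sum_univ_three, Pi.single_apply, _root_.Fin.isValue, _root_.Fin.zero_eta, _root_.LinearMap.coe_mk, _root_.AddHom.coe_mk, ↓ _root_.reduceIte, _root_.Matrix.of_apply, _root_.Matrix.cons_val', _root_.Matrix.cons_val_zero, _root_.Matrix.cons_val_fin_one, _root_.Int.reduceNeg, _root_.Int.cast_neg, _root_.Int.cast_one, _root_.neg_mul, _root_.one_mul, _root_.Prod.mk.injEq, _root_.zero_ne_one, _root_.and_true, _root_.and_false, _root_.Fin.reduceEq, _root_.and_self, _root_.MulZeroClass.mul_zero, _root_.add_zero, _root_.Sum.map_inr, _root_.Fin.succ_zero_eq_one, _root_.ne_eq, _root_.reduceCtorEq, _root_.not_false_eq_true, _root_.Pi.single_eq_of_ne, _root_.MulZeroClass.zero_mul,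 _root_.Sum.inr.injEq, _root_.mul_ite, _root_.zero_add, _root_.Finset.sum_ite_eq', _root_.Finset.mem_univ, _root_.OfNat.ofNat_ne_zero, _root_.zero_pow, _root_.ite_self, _root_.Finset.sum_const_zero, _root_.zero_smul, _root_.sub_zero, _root_.Pi.sub_apply, _root_.Pi.add_apply, _root_.Pi.smul_apply, _root_.smul_eq_mul, _root_.Pi.single_eq_same, _root_.mul_one, _root_.Fin.mk_one, _root_.Matrix.cons_val_one, _root_.one_ne_zero, _root_.Matrix.cons_val, _root_.Fin.reduceFinMk, _root_.mul_neg, _root_.neg_neg, _root_.add_right_inj]; done));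
     ((simp only [io, ofM, sh7, u0, Fin.sum_univ_four, Fin.sum_univ_three, Pi.single_apply, _root_.Fin.isValue, _root_.Fin.zero_eta, _root_.LinearMap.coe_mk, _root_.AddHom.coe_mk, ↓ _root_.reduceIte, _root_.Matrix.of_apply, _root_.Matrix.cons_val', _root_.Matrix.cons_val_zero, _root_.Matrix.cons_val_fin_one, _root_.Int.reduceNeg, _root_.Int.cast_neg, _root_.Int.cast_one, _root_.neg_mul, _root_.one_mul, _root_.Prod.mk.injEq, _root_.zero_ne_one, _root_.and_true, _root_.and_false, _root_.Fin.reduceEq, _root_.and_self, _root_.MulZeroClass.mul_zero, _root_.add_zero, _root_.Sum.map_inr, _root_.Fin.succ_zero_eq_one, _root_.ne_eq, _root_.reduceCtorEq, _root_.not_false_eq_true, _root_.Pi.single_eq_of_ne, _root_.MulZeroClass.zero_mul, _root_.Sum.inr.injEq, _root_.mul_ite, _root_.zero_add, _root_.Finset.sum_ite_eq', _root_.Finset.mem_univ, _root_.OfNat.ofNat_ne_zero, _root_.zero_pow, _root_.ite_self, _root_.Finset.sum_const_zero, _root_.zero_smul,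 _root_.sub_zero, _root_.Pi.sub_apply, _root_.Pi.add_apply, _root_.Pi.smul_apply, _root_.smul_eq_mul, _root_.Pi.single_eq_same, _root_.mul_one, _root_.Fin.mk_one, _root_.Matrix.cons_val_one, _root_.one_ne_zero, _root_.Matrix.cons_val, _root_.Fin.reduceFinMk, _root_.mul_neg, _root_.neg_neg, _root_.add_right_inj]; done));
     ((simp only [io, ofM, sh7, u0, Fin.sum_univ_four, Fin.sum_univ_three, Pi.single_apply, _root_.Fin.isValue, _root_.Fin.zero_eta, _root_.LinearMap.coe_mk, _root_.AddHom.coe_mk, ↓ _root_.reduceIte, _root_.Matrix.of_apply, _root_.Matrix.cons_val', _root_.Matrix.cons_val_zero, _root_.Matrix.cons_val_fin_one, _root_.Int.reduceNeg, _root_.Int.cast_neg, _root_.Int.cast_one, _root_.neg_mul, _root_.one_mul, _root_.Prod.mk.injEq, _root_.zero_ne_one, _root_.and_true, _root_.and_false, _root_.Fin.reduceEq, _root_.and_self, _root_.MulZeroClass.mul_zero, _root_.add_zero, _root_.Sum.map_inr, _root_.Fin.succ_zero_eq_one, _root_.ne_eq,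 _root_.reduceCtorEq, _root_.not_false_eq_true, _root_.Pi.single_eq_of_ne, _root_.MulZeroClass.zero_mul, _root_.Sum.inr.injEq, _root_.mul_ite, _root_.zero_add, _root_.Finset.sum_ite_eq', _root_.Finset.mem_univ, _root_.OfNat.ofNat_ne_zero, _root_.zero_pow, _root_.ite_self, _root_.Finset.sum_const_zero, _root_.zero_smul, _root_.sub_zero, _root_.Pi.sub_apply, _root_.Pi.add_apply, _root_.Pi.smul_apply, _root_.smul_eq_mul, _root_.Pi.single_eq_same, _root_.mul_one, _root_.Fin.mk_one, _root_.Matrix.cons_val_one, _root_.one_ne_zero, _root_.Matrix.cons_val, _root_.Fin.reduceFinMk, _root_.mul_neg, _root_.neg_neg, _root_.add_right_inj]; done));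
     ((exact absurd hp (by decide))); ((exact absurd hp (by decide)));
     ((simp only [io, ofM, sh7, u0, Fin.sum_univ_four, Fin.sum_univ_three, Pi.single_apply, _root_.Fin.isValue, _root_.Fin.zero_eta, _root_.Fin.mk_one, _root_.LinearMap.coe_mk, _root_.AddHom.coe_mk, ↓ _root_.reduceIte, _root_.Matrix.of_apply, _root_.Matrix.cons_val', _root_.Matrix.cons_val_zero, _root_.Matrix.cons_val_fin_one, _root_.Matrix.cons_val_one, _root_.Int.reduceNeg, _root_.Int.cast_neg, _root_.Int.cast_one, _root_.neg_mul, _root_.one_mul, _root_.one_ne_zero, _root_.Matrix.cons_val, _root_.Sum.map_inr, _root_.Fin.succ_zero_eq_one, _root_.ne_eq, _root_.reduceCtorEq, _root_.not_false_eq_true, _root_.Pi.single_eq_of_ne, _root_.MulZeroClass.mul_zero, _root_.MulZeroClass.zero_mul, _root_.Sum.inr.injEq, _root_.mul_ite, _root_.zero_add, _root_.Finset.sum_ite_eq', _root_.Finset.mem_univ, _root_.OfNat.ofNat_ne_zero, _root_.zero_pow, _root_.ite_self, _root_.Finset.sum_const_zero,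 _root_.add_zero, _root_.zero_smul, _root_.sub_zero, _root_.Pi.sub_apply, _root_.Pi.add_apply, _root_.Pi.smul_apply, _root_.smul_eq_mul, _root_.zero_ne_one, _root_.Pi.single_eq_same, _root_.mul_one, _root_.Fin.reduceFinMk, _root_.Fin.reduceEq, _root_.Prod.mk.injEq, _root_.and_self, _root_.mul_neg, _root_.neg_neg, _root_.add_right_inj]; ring));
     ((exact absurd hp (by decide))); ((exact absurd hp (by decide)));
     ((simp only [io, ofM, sh7, u0, Fin.sum_univ_four, Fin.sum_univ_three, Pi.single_apply, _root_.Fin.isValue, _root_.Fin.zero_eta, _root_.LinearMap.coe_mk, _root_.AddHom.coe_mk, ↓ _root_.reduceIte, _root_.Matrix.of_apply, _root_.Matrix.cons_val', _root_.Matrix.cons_val_zero, _root_.Matrix.cons_val_fin_one, _root_.Int.reduceNeg, _root_.Int.cast_neg, _root_.Int.cast_one, _root_.neg_mul, _root_.one_mul, _root_.Prod.mk.injEq, _root_.zero_ne_one, _root_.and_true, _root_.and_false, _root_.Fin.reduceEq, _root_.and_self, _root_.MulZeroClass.mul_zero,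 _root_.add_zero, _root_.Sum.map_inr, _root_.Fin.succ_zero_eq_one, _root_.ne_eq, _root_.reduceCtorEq, _root_.not_false_eq_true, _root_.Pi.single_eq_of_ne, _root_.MulZeroClass.zero_mul, _root_.Sum.inr.injEq, _root_.mul_ite, _root_.zero_add, _root_.Finset.sum_ite_eq', _root_.Finset.mem_univ, _root_.OfNat.ofNat_ne_zero, _root_.zero_pow, _root_.ite_self, _root_.Finset.sum_const_zero, _root_.zero_smul, _root_.sub_zero, _root_.Pi.sub_apply, _root_.Pi.add_apply, _root_.Pi.smul_apply, _root_.smul_eq_mul, _root_.Pi.single_eq_same, _root_.mul_one, _root_.Fin.mk_one, _root_.Matrix.cons_val_one, _root_.one_ne_zero, _root_.Matrix.cons_val, _root_.Fin.reduceFinMk, _root_.mul_neg, _root_.neg_neg, _root_.add_right_inj]; done));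
     ((exact absurd hp (by decide))); ((exact absurd hp (by decide)));
     ((simp only [io, ofM, sh7, u0, Fin.sum_univ_four, Fin.sum_univ_three, Pi.single_apply, _root_.Fin.isValue, _root_.Fin.zero_eta, _root_.LinearMap.coe_mk, _root_.AddHom.coe_mk, ↓ _root_.reduceIte, _root_.Matrix.of_apply, _root_.Matrix.cons_val', _root_.Matrix.cons_val_zero, _root_.Matrix.cons_val_fin_one, _root_.Int.reduceNeg, _root_.Int.cast_neg, _root_.Int.cast_one, _root_.neg_mul, _root_.one_mul, _root_.Prod.mk.injEq, _root_.zero_ne_one, _root_.and_true, _root_.and_false, _root_.Fin.reduceEq, _root_.and_self, _root_.MulZeroClass.mul_zero, _root_.add_zero, _root_.Sum.map_inr, _root_.Fin.succ_zero_eq_one, _root_.ne_eq, _root_.reduceCtorEq, _root_.not_false_eq_true, _root_.Pi.single_eq_of_ne, _root_.MulZeroClass.zero_mul, _root_.Sum.inr.injEq, _root_.mul_ite, _root_.zero_add, _root_.Finset.sum_ite_eq', _root_.Finset.mem_univ, _root_.OfNat.ofNat_ne_zero, _root_.zero_pow,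 _root_.ite_self, _root_.Finset.sum_const_zero, _root_.zero_smul, _root_.sub_zero, _root_.Pi.sub_apply, _root_.Pi.add_apply, _root_.Pi.smul_apply, _root_.smul_eq_mul, _root_.Pi.single_eq_same, _root_.mul_one, _root_.Fin.mk_one, _root_.Matrix.cons_val_one, _root_.one_ne_zero, _root_.Matrix.cons_val, _root_.Fin.reduceFinMk, _root_.mul_neg, _root_.neg_neg, _root_.add_right_inj]; done))]

theorem b5 (hρ : IsJ ρ) (t : K) (y : VV K) (i : I27) (hp : pl i = true) :
    JK ρ (xc Cfsg.Agent.Nodes.KindF.isType (_root_.Cfsg.Agent.Nodes.RGDChev.vec chevF4 4 26) t) (io y) i =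
      io (sgl (Pi.single (.inr (.inr 1)) (1 * t)) y) i := by
  rw [key_long hρ (e := 51) (s := 1) (α := -1) (β := 1) (a := (0, 1, 0)) (b := (2, 1, 2)) (a' := (1, 2, 1))
    (b' := (0, 0, 1)) (by decide) (by decide) (by decide +kernel) (by decide +kernel) (by decide +kernel) t _ i hp,
    sgl_apply, jj_single, polar_oddForm, coe_oddForm, quadFormOdd_apply]
  obtain ⟨k, i, j⟩ := i
  revert hp
  fin_cases k <;> fin_cases i <;> fin_cases j <;> intro hp <;>
    [((simp only [io, ofM, sh7, u0, Fin.sum_univ_four, Fin.sum_univ_three, Pi.single_apply, _root_.Fin.isValue, _root_.Fin.zero_eta, _root_.LinearMap.coe_mk, _root_.AddHom.coe_mk, ↓ _root_.reduceIte, _root_.Matrix.of_apply, _root_.Matrix.cons_val', _root_.Matrix.cons_val_zero, _root_.Matrix.cons_val_fin_one, _root_.Int.cast_one, _root_.one_mul, _root_.Prod.mk.injEq, _root_.zero_ne_one, _root_.and_true, _root_.and_false, _root_.Fin.reduceEq, _root_.and_self, _root_.MulZeroClass.mul_zero,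 _root_.add_zero, _root_.Sum.map_inr, _root_.Fin.succ_one_eq_two, _root_.ne_eq, _root_.reduceCtorEq, _root_.not_false_eq_true, _root_.Pi.single_eq_of_ne, _root_.MulZeroClass.zero_mul, _root_.Sum.inr.injEq, _root_.mul_ite, _root_.zero_add, _root_.Finset.sum_ite_eq', _root_.Finset.mem_univ, _root_.OfNat.ofNat_ne_zero, _root_.zero_pow, _root_.ite_self, _root_.Finset.sum_const_zero, _root_.zero_smul, _root_.sub_zero, _root_.Pi.sub_apply, _root_.Pi.add_apply, _root_.Pi.smul_apply, _root_.smul_eq_mul, _root_.Pi.single_eq_same, _root_.mul_one, _root_.Fin.mk_one, _root_.Matrix.cons_val_one, _root_.one_ne_zero, _root_.Int.reduceNeg, _root_.Int.cast_neg, _root_.Matrix.cons_val, _root_.neg_mul, _root_.mul_neg, _root_.Fin.reduceFinMk, _root_.add_right_inj]; done));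
     ((simp only [io, ofM, sh7, u0, Fin.sum_univ_four, Fin.sum_univ_three, Pi.single_apply, _root_.Fin.isValue, _root_.Fin.zero_eta, _root_.LinearMap.coe_mk, _root_.AddHom.coe_mk, ↓ _root_.reduceIte, _root_.Matrix.of_apply, _root_.Matrix.cons_val', _root_.Matrix.cons_val_zero, _root_.Matrix.cons_val_fin_one, _root_.Int.cast_one, _root_.one_mul, _root_.Prod.mk.injEq, _root_.zero_ne_one, _root_.and_true, _root_.and_false, _root_.Fin.reduceEq, _root_.and_self, _root_.MulZeroClass.mul_zero, _root_.add_zero, _root_.Sum.map_inr, _root_.Fin.succ_one_eq_two, _root_.ne_eq, _root_.reduceCtorEq, _root_.not_false_eq_true, _root_.Pi.single_eq_of_ne, _root_.MulZeroClass.zero_mul, _root_.Sum.inr.injEq, _root_.mul_ite, _root_.zero_add, _root_.Finset.sum_ite_eq', _root_.Finset.mem_univ, _root_.OfNat.ofNat_ne_zero, _root_.zero_pow, _root_.ite_self, _root_.Finset.sum_const_zero, _root_.zero_smul, _root_.sub_zero, _root_.Pi.sub_apply, _root_.Pi.add_apply,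 _root_.Pi.smul_apply, _root_.smul_eq_mul, _root_.Pi.single_eq_same, _root_.mul_one, _root_.Fin.mk_one, _root_.Matrix.cons_val_one, _root_.one_ne_zero, _root_.Int.reduceNeg, _root_.Int.cast_neg, _root_.Matrix.cons_val, _root_.neg_mul, _root_.mul_neg, _root_.Fin.reduceFinMk, _root_.add_right_inj]; done));
     ((exact absurd hp (by decide)));
     ((simp only [io, ofM, sh7, u0, Fin.sum_univ_four, Fin.sum_univ_three, Pi.single_apply, _root_.Fin.isValue, _root_.Fin.zero_eta, _root_.Fin.mk_one, _root_.LinearMap.coe_mk, _root_.AddHom.coe_mk, ↓ _root_.reduceIte, _root_.Matrix.of_apply, _root_.Matrix.cons_val', _root_.Matrix.cons_val_zero, _root_.Matrix.cons_val_fin_one, _root_.Matrix.cons_val_one, _root_.Int.cast_one, _root_.one_mul, _root_.Int.reduceNeg, _root_.Int.cast_neg, _root_.one_ne_zero, _root_.Matrix.cons_val, _root_.neg_mul, _root_.mul_neg, _root_.Sum.map_inr, _root_.Fin.succ_one_eq_two, _root_.ne_eq, _root_.reduceCtorEq, _root_.not_false_eq_true,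 _root_.Pi.single_eq_of_ne, _root_.MulZeroClass.mul_zero, _root_.MulZeroClass.zero_mul, _root_.Sum.inr.injEq, _root_.mul_ite, _root_.zero_add, _root_.Finset.sum_ite_eq', _root_.Finset.mem_univ, _root_.OfNat.ofNat_ne_zero, _root_.zero_pow, _root_.ite_self, _root_.Finset.sum_const_zero, _root_.add_zero, _root_.zero_smul, _root_.sub_zero, _root_.Pi.sub_apply, _root_.Pi.add_apply, _root_.Pi.smul_apply, _root_.smul_eq_mul, _root_.Fin.reduceEq, _root_.Pi.single_eq_same, _root_.mul_one, _root_.Fin.reduceFinMk, _root_.Prod.mk.injEq, _root_.and_false, _root_.and_self, _root_.add_right_inj]; ring));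
     ((simp only [io, ofM, sh7, u0, Fin.sum_univ_four, Fin.sum_univ_three, Pi.single_apply, _root_.Fin.isValue, _root_.Fin.zero_eta, _root_.LinearMap.coe_mk, _root_.AddHom.coe_mk, ↓ _root_.reduceIte, _root_.Matrix.of_apply, _root_.Matrix.cons_val', _root_.Matrix.cons_val_zero, _root_.Matrix.cons_val_fin_one, _root_.Int.cast_one, _root_.one_mul, _root_.Prod.mk.injEq, _root_.zero_ne_one, _root_.and_true, _root_.and_false, _root_.Fin.reduceEq, _root_.and_self, _root_.MulZeroClass.mul_zero, _root_.add_zero, _root_.Sum.map_inr, _root_.Fin.succ_one_eq_two, _root_.ne_eq, _root_.reduceCtorEq, _root_.not_false_eq_true, _root_.Pi.single_eq_of_ne, _root_.MulZeroClass.zero_mul, _root_.Sum.inr.injEq, _root_.mul_ite, _root_.zero_add, _root_.Finset.sum_ite_eq', _root_.Finset.mem_univ, _root_.OfNat.ofNat_ne_zero, _root_.zero_pow, _root_.ite_self, _root_.Finset.sum_const_zero, _root_.zero_smul, _root_.sub_zero, _root_.Pi.sub_apply, _root_.Pi.add_apply,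 _root_.Pi.smul_apply, _root_.smul_eq_mul, _root_.Pi.single_eq_same, _root_.mul_one, _root_.Fin.mk_one, _root_.Matrix.cons_val_one, _root_.one_ne_zero, _root_.Int.reduceNeg, _root_.Int.cast_neg, _root_.Matrix.cons_val, _root_.neg_mul, _root_.mul_neg, _root_.Fin.reduceFinMk, _root_.add_right_inj]; done));
     ((exact absurd hp (by decide))); ((exact absurd hp (by decide))); ((exact absurd hp (by decide)));
     ((simp only [io, ofM, sh7, u0, Fin.sum_univ_four, Fin.sum_univ_three, Pi.single_apply, _root_.Fin.isValue, _root_.Fin.zero_eta, _root_.LinearMap.coe_mk, _root_.AddHom.coe_mk, ↓ _root_.reduceIte, _root_.Matrix.of_apply, _root_.Matrix.cons_val', _root_.Matrix.cons_val_zero, _root_.Matrix.cons_val_fin_one, _root_.Int.cast_one, _root_.one_mul, _root_.Prod.mk.injEq, _root_.zero_ne_one, _root_.and_true, _root_.and_false, _root_.Fin.reduceEq, _root_.and_self, _root_.MulZeroClass.mul_zero, _root_.add_zero, _root_.Sum.map_inr, _root_.Fin.succ_one_eq_two,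 _root_.ne_eq, _root_.reduceCtorEq, _root_.not_false_eq_true, _root_.Pi.single_eq_of_ne, _root_.MulZeroClass.zero_mul, _root_.Sum.inr.injEq, _root_.mul_ite, _root_.zero_add, _root_.Finset.sum_ite_eq', _root_.Finset.mem_univ, _root_.OfNat.ofNat_ne_zero, _root_.zero_pow, _root_.ite_self, _root_.Finset.sum_const_zero, _root_.zero_smul, _root_.sub_zero, _root_.Pi.sub_apply, _root_.Pi.add_apply, _root_.Pi.smul_apply, _root_.smul_eq_mul, _root_.Pi.single_eq_same, _root_.mul_one, _root_.Fin.mk_one, _root_.Matrix.cons_val_one, _root_.one_ne_zero, _root_.Int.reduceNeg, _root_.Int.cast_neg, _root_.Matrix.cons_val, _root_.neg_mul, _root_.mul_neg, _root_.Fin.reduceFinMk, _root_.add_right_inj]; done));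
     ((exact absurd hp (by decide))); ((exact absurd hp (by decide))); ((exact absurd hp (by decide))); ((exact absurd hp (by decide)));
     ((exact absurd hp (by decide))); ((exact absurd hp (by decide)));
     ((simp only [io, ofM, sh7, u0, Fin.sum_univ_four, Fin.sum_univ_three, Pi.single_apply, _root_.Fin.isValue, _root_.Fin.zero_eta, _root_.LinearMap.coe_mk, _root_.AddHom.coe_mk, ↓ _root_.reduceIte, _root_.Matrix.of_apply, _root_.Matrix.cons_val', _root_.Matrix.cons_val_zero, _root_.Matrix.cons_val_fin_one, _root_.Int.cast_one, _root_.one_mul, _root_.Prod.mk.injEq, _root_.zero_ne_one, _root_.and_true, _root_.and_false, _root_.Fin.reduceEq, _root_.and_self, _root_.MulZeroClass.mul_zero, _root_.add_zero, _root_.Sum.map_inr, _root_.Fin.succ_one_eq_two, _root_.ne_eq, _root_.reduceCtorEq, _root_.not_false_eq_true, _root_.Pi.single_eq_of_ne, _root_.MulZeroClass.zero_mul, _root_.Sum.inr.injEq, _root_.mul_ite, _root_.zero_add, _root_.Finset.sum_ite_eq',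 _root_.Finset.mem_univ, _root_.OfNat.ofNat_ne_zero, _root_.zero_pow, _root_.ite_self, _root_.Finset.sum_const_zero, _root_.zero_smul, _root_.sub_zero, _root_.Pi.sub_apply, _root_.Pi.add_apply, _root_.Pi.smul_apply, _root_.smul_eq_mul, _root_.Pi.single_eq_same, _root_.mul_one, _root_.Fin.mk_one, _root_.Matrix.cons_val_one, _root_.one_ne_zero, _root_.Int.reduceNeg, _root_.Int.cast_neg, _root_.Matrix.cons_val, _root_.neg_mul, _root_.mul_neg, _root_.Fin.reduceFinMk, _root_.add_right_inj]; done));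
     ((simp only [io, ofM, sh7, u0, Fin.sum_univ_four, Fin.sum_univ_three, Pi.single_apply, _root_.Fin.isValue, _root_.Fin.zero_eta, _root_.LinearMap.coe_mk, _root_.AddHom.coe_mk, ↓ _root_.reduceIte, _root_.Matrix.of_apply, _root_.Matrix.cons_val', _root_.Matrix.cons_val_zero, _root_.Matrix.cons_val_fin_one, _root_.Int.cast_one, _root_.one_mul, _root_.Prod.mk.injEq, _root_.zero_ne_one, _root_.and_true, _root_.and_false, _root_.Fin.reduceEq, _root_.and_self, _root_.MulZeroClass.mul_zero, _root_.add_zero, _root_.Sum.map_inr, _root_.Fin.succ_one_eq_two, _root_.ne_eq, _root_.reduceCtorEq, _root_.not_false_eq_true, _root_.Pi.single_eq_of_ne, _root_.MulZeroClass.zero_mul, _root_.Sum.inr.injEq, _root_.mul_ite, _root_.zero_add, _root_.Finset.sum_ite_eq', _root_.Finset.mem_univ, _root_.OfNat.ofNat_ne_zero, _root_.zero_pow, _root_.ite_self, _root_.Finset.sum_const_zero, _root_.zero_smul, _root_.sub_zero, _root_.Pi.sub_apply, _root_.Pi.add_apply,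 _root_.Pi.smul_apply, _root_.smul_eq_mul, _root_.Pi.single_eq_same, _root_.mul_one, _root_.Fin.mk_one, _root_.Matrix.cons_val_one, _root_.one_ne_zero, _root_.Int.reduceNeg, _root_.Int.cast_neg, _root_.Matrix.cons_val, _root_.neg_mul, _root_.mul_neg, _root_.Fin.reduceFinMk, _root_.add_right_inj]; done));
     ((simp only [io, ofM, sh7, u0, Fin.sum_univ_four, Fin.sum_univ_three, Pi.single_apply, _root_.Fin.isValue, _root_.Fin.zero_eta, _root_.LinearMap.coe_mk, _root_.AddHom.coe_mk, ↓ _root_.reduceIte, _root_.Matrix.of_apply, _root_.Matrix.cons_val', _root_.Matrix.cons_val_zero, _root_.Matrix.cons_val_fin_one, _root_.Int.cast_one, _root_.one_mul, _root_.Prod.mk.injEq, _root_.zero_ne_one, _root_.and_true, _root_.and_false, _root_.Fin.reduceEq, _root_.and_self, _root_.MulZeroClass.mul_zero, _root_.add_zero, _root_.Sum.map_inr, _root_.Fin.succ_one_eq_two, _root_.ne_eq, _root_.reduceCtorEq, _root_.not_false_eq_true, _root_.Pi.single_eq_of_ne,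 _root_.MulZeroClass.zero_mul, _root_.Sum.inr.injEq, _root_.mul_ite, _root_.zero_add, _root_.Finset.sum_ite_eq', _root_.Finset.mem_univ, _root_.OfNat.ofNat_ne_zero, _root_.zero_pow, _root_.ite_self, _root_.Finset.sum_const_zero, _root_.zero_smul, _root_.sub_zero, _root_.Pi.sub_apply, _root_.Pi.add_apply, _root_.Pi.smul_apply, _root_.smul_eq_mul, _root_.Pi.single_eq_same, _root_.mul_one, _root_.Fin.mk_one, _root_.Matrix.cons_val_one, _root_.one_ne_zero, _root_.Int.reduceNeg, _root_.Int.cast_neg, _root_.Matrix.cons_val, _root_.neg_mul, _root_.mul_neg, _root_.Fin.reduceFinMk, _root_.add_right_inj]; done));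
     ((exact absurd hp (by decide))); ((exact absurd hp (by decide)));
     ((simp only [io, ofM, sh7, u0, Fin.sum_univ_four, Fin.sum_univ_three, Pi.single_apply, _root_.Fin.isValue, _root_.Fin.zero_eta, _root_.LinearMap.coe_mk, _root_.AddHom.coe_mk, ↓ _root_.reduceIte, _root_.Matrix.of_apply, _root_.Matrix.cons_val', _root_.Matrix.cons_val_zero, _root_.Matrix.cons_val_fin_one, _root_.Int.cast_one, _root_.one_mul, _root_.Prod.mk.injEq, _root_.zero_ne_one, _root_.and_true, _root_.and_false, _root_.Fin.reduceEq, _root_.and_self, _root_.MulZeroClass.mul_zero, _root_.add_zero, _root_.Sum.map_inr, _root_.Fin.succ_one_eq_two, _root_.ne_eq, _root_.reduceCtorEq, _root_.not_false_eq_true, _root_.Pi.single_eq_of_ne, _root_.MulZeroClass.zero_mul, _root_.Sum.inr.injEq, _root_.mul_ite, _root_.zero_add, _root_.Finset.sum_ite_eq', _root_.Finset.mem_univ, _root_.OfNat.ofNat_ne_zero, _root_.zero_pow, _root_.ite_self, _root_.Finset.sum_const_zero,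 _root_.zero_smul, _root_.sub_zero, _root_.Pi.sub_apply, _root_.Pi.add_apply, _root_.Pi.smul_apply, _root_.smul_eq_mul, _root_.Pi.single_eq_same, _root_.mul_one, _root_.Fin.mk_one, _root_.Matrix.cons_val_one, _root_.one_ne_zero, _root_.Int.reduceNeg, _root_.Int.cast_neg, _root_.Matrix.cons_val, _root_.neg_mul, _root_.mul_neg, _root_.Fin.reduceFinMk, _root_.add_right_inj]; done));
     ((exact absurd hp (by decide))); ((exact absurd hp (by decide)));
     ((simp only [io, ofM, sh7, u0, Fin.sum_univ_four, Fin.sum_univ_three, Pi.single_apply, _root_.Fin.isValue, _root_.Fin.zero_eta, _root_.Fin.mk_one, _root_.LinearMap.coe_mk, _root_.AddHom.coe_mk, ↓ _root_.reduceIte, _root_.Matrix.of_apply, _root_.Matrix.cons_val', _root_.Matrix.cons_val_zero, _root_.Matrix.cons_val_fin_one, _root_.Matrix.cons_val_one, _root_.Int.cast_one, _root_.one_mul, _root_.Int.reduceNeg, _root_.Int.cast_neg, _root_.one_ne_zero, _root_.Matrix.cons_val, _root_.neg_mul,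 _root_.mul_neg, _root_.Sum.map_inr, _root_.Fin.succ_one_eq_two, _root_.ne_eq, _root_.reduceCtorEq, _root_.not_false_eq_true, _root_.Pi.single_eq_of_ne, _root_.MulZeroClass.mul_zero, _root_.MulZeroClass.zero_mul, _root_.Sum.inr.injEq, _root_.mul_ite, _root_.zero_add, _root_.Finset.sum_ite_eq', _root_.Finset.mem_univ, _root_.OfNat.ofNat_ne_zero, _root_.zero_pow, _root_.ite_self, _root_.Finset.sum_const_zero, _root_.add_zero, _root_.zero_smul, _root_.sub_zero, _root_.Pi.sub_apply, _root_.Pi.add_apply, _root_.Pi.smul_apply, _root_.smul_eq_mul, _root_.Fin.reduceEq, _root_.Pi.single_eq_same, _root_.mul_one, _root_.Fin.reduceFinMk, _root_.Prod.mk.injEq, _root_.and_false, _root_.and_self, _root_.add_right_inj]; ring));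
     ((exact absurd hp (by decide))); ((exact absurd hp (by decide)));
     ((simp only [io, ofM, sh7, u0, Fin.sum_univ_four, Fin.sum_univ_three, Pi.single_apply, _root_.Fin.isValue, _root_.Fin.zero_eta, _root_.LinearMap.coe_mk, _root_.AddHom.coe_mk, ↓ _root_.reduceIte, _root_.Matrix.of_apply, _root_.Matrix.cons_val', _root_.Matrix.cons_val_zero, _root_.Matrix.cons_val_fin_one, _root_.Int.cast_one, _root_.one_mul, _root_.Prod.mk.injEq, _root_.zero_ne_one, _root_.and_true, _root_.and_false, _root_.Fin.reduceEq, _root_.and_self, _root_.MulZeroClass.mul_zero, _root_.add_zero, _root_.Sum.map_inr, _root_.Fin.succ_one_eq_two, _root_.ne_eq, _root_.reduceCtorEq, _root_.not_false_eq_true, _root_.Pi.single_eq_of_ne, _root_.MulZeroClass.zero_mul, _root_.Sum.inr.injEq, _root_.mul_ite, _root_.zero_add, _root_.Finset.sum_ite_eq', _root_.Finset.mem_univ, _root_.OfNat.ofNat_ne_zero, _root_.zero_pow, _root_.ite_self, _root_.Finset.sum_const_zero,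 _root_.zero_smul, _root_.sub_zero, _root_.Pi.sub_apply, _root_.Pi.add_apply, _root_.Pi.smul_apply, _root_.smul_eq_mul, _root_.Pi.single_eq_same, _root_.mul_one, _root_.Fin.mk_one, _root_.Matrix.cons_val_one, _root_.one_ne_zero, _root_.Int.reduceNeg, _root_.Int.cast_neg, _root_.Matrix.cons_val, _root_.neg_mul, _root_.mul_neg, _root_.Fin.reduceFinMk, _root_.add_right_inj]; done))]

theorem b6 (hρ : IsJ ρ) (t : K) (y : VV K) (i : I27) (hp : pl i = true) :
    JK ρ (xc Cfsg.Agent.Nodes.KindF.isType (_root_.Cfsg.Agent.Nodes.RGDChev.vec chevF4 4 25) t) (io y) i =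
      io (sgl (Pi.single (.inr (.inr 2)) ((-1) * t)) y) i := by
  rw [key_long hρ (e := 44) (s := 1) (α := 1) (β := -1) (a := (0, 1, 0)) (b := (2, 2, 2)) (a' := (1, 2, 2))
    (b' := (0, 0, 1)) (by decide) (by decide) (by decide +kernel) (by decide +kernel) (by decide +kernel) t _ i hp,
    sgl_apply, jj_single, polar_oddForm, coe_oddForm, quadFormOdd_apply]
  obtain ⟨k, i, j⟩ := i
  revert hp
  fin_cases k <;> fin_cases i <;> fin_cases j <;> intro hp <;>
    [((simp [io, ofM, sh7, u0, Fin.sum_univ_four, Fin.sum_univ_three, Pi.single_apply]; done));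
     ((simp [io, ofM, sh7, u0, Fin.sum_univ_four, Fin.sum_univ_three, Pi.single_apply]; done)); ((exact absurd hp (by decide)));
     ((simp [io, ofM, sh7, u0, Fin.sum_univ_four, Fin.sum_univ_three, Pi.single_apply]; ring));
     ((simp [io, ofM, sh7, u0, Fin.sum_univ_four, Fin.sum_univ_three, Pi.single_apply]; done)); ((exact absurd hp (by decide)));
     ((exact absurd hp (by decide))); ((exact absurd hp (by decide)));
     ((simp [io, ofM, sh7, u0, Fin.sum_univ_four, Fin.sum_univ_three, Pi.single_apply]; done)); ((exact absurd hp (by decide)));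
     ((exact absurd hp (by decide))); ((exact absurd hp (by decide))); ((exact absurd hp (by decide))); ((exact absurd hp (by decide)));
     ((exact absurd hp (by decide))); ((simp [io, ofM, sh7, u0, Fin.sum_univ_four, Fin.sum_univ_three, Pi.single_apply]; done));
     ((simp [io, ofM, sh7, u0, Fin.sum_univ_four, Fin.sum_univ_three, Pi.single_apply]; done));
     ((simp [io, ofM, sh7, u0, Fin.sum_univ_four, Fin.sum_univ_three, Pi.single_apply]; done)); ((exact absurd hp (by decide)));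
     ((exact absurd hp (by decide))); ((simp [io, ofM, sh7, u0, Fin.sum_univ_four, Fin.sum_univ_three, Pi.single_apply]; done));
     ((exact absurd hp (by decide))); ((exact absurd hp (by decide)));
     ((simp [io, ofM, sh7, u0, Fin.sum_univ_four, Fin.sum_univ_three, Pi.single_apply]; done)); ((exact absurd hp (by decide)));
     ((exact absurd hp (by decide))); ((simp [io, ofM, sh7, u0, Fin.sum_univ_four, Fin.sum_univ_three, Pi.single_apply]; ring))]

theorem zt {e : ℕ} {α β : ℤ} {a b a' b' : I27}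
    (tab : ∀ i : I27, pl i = true → Cfsg.Agent.ChevalleyStructure.E6Min.Basic.sg e i =
      if i = a then α else if i = b then β else 0) (ha : _root_.Cfsg.Agent.ChevalleyStructure.E6Min.Basic.sr e a = a') (hb : _root_.Cfsg.Agent.ChevalleyStructure.E6Min.Basic.sr e b = b') (c : K) (x : I27 → K) (i : I27)
    (hi : pl i = true) : (zM e c *ᵥ x) i = x i + c * (if i = a then α * x a' else if i = b then β * x b' else 0) := by
  rw [zM_mulVec, tab i hi]
  by_cases h1 : i = a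
  · subst h1
    rw [if_pos rfl, if_pos rfl, ha]
  · rw [if_neg h1, if_neg h1]
    by_cases h3 : i = b
    · subst h3
      rw [if_pos rfl, if_pos rfl, hb]
    · rw [if_neg h3, if_neg h3]
      simp

theorem yM_short (t : K) : yM 20 t = zM 15 (-t) * zM 35 t := by
  rw [yM, show dat.getD 20 [] = [(15, (-1 : ℤ)), (35, 1)] from rfl]; simp

theorem mem_short (hρ : IsJ ρ) (hi : Function.Injective ρ) (t : K) :
    xc Cfsg.Agent.Nodes.KindF.isType (_root_.Cfsg.Agent.Nodes.RGDChev.vec chevF4 4 20) t ∈ Subgroup.centralizer ({t1 K} : Set ↥(chevF4.group K)) := by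
  apply mem_of_sgn hi (isT_t1 hρ)
  intro x
  rw [JK_xc hρ (by decide), JK_xc hρ (by decide), yM_short, ← Matrix.mulVec_mulVec, ← Matrix.mulVec_mulVec,
    zM_sgn (e := 35) (by decide +kernel), zM_sgn (e := 15) (by decide +kernel)]

theorem b0 (hρ : IsJ ρ) (t : K) (y : VV K) (i : I27) (hp : pl i = true) :
    JK ρ (xc Cfsg.Agent.Nodes.KindF.isType (_root_.Cfsg.Agent.Nodes.RGDChev.vec chevF4 4 20) t) (io y) i =
      io (sgl (Pi.single (.inl ()) (1 * t)) y) i := by
  have h15 : ∀ (c : K) (x : I27 → K) (i : I27), pl i = true → (zM 15 c *ᵥ x) i = x i + c *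
      (if i = (0, 1, 0) then (1 : ℤ) * x (0, 0, 0) else if i = (0, 1, 1) then (1 : ℤ) * x (0, 0, 1) else 0) := by
    intro c x i hi
    exact zt (by decide +kernel) (by decide +kernel) (by decide +kernel) c x i hi
  have h35 : ∀ (c : K) (x : I27 → K) (i : I27), pl i = true → (zM 35 c *ᵥ x) i = x i + c *
      (if i = (0, 0, 0) then (1 : ℤ) * x (0, 0, 1) else if i = (0, 1, 0) then (1 : ℤ) * x (0, 1, 1) else 0) := by
    intro c x i hi
    exact zt (by decide +kernel) (by decide +kernel) (by decide +kernel) c x i hi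
  rw [JK_xc hρ (by decide), yM_short, ← Matrix.mulVec_mulVec, h15 _ _ _ hp, h35 _ _ _ hp, h35 _ _ (0, 0, 0) (by decide),
    h35 _ _ (0, 0, 1) (by decide), sgl_apply, jj_single, polar_oddForm, coe_oddForm, quadFormOdd_apply]
  obtain ⟨k, i, j⟩ := i
  revert hp
  fin_cases k <;> fin_cases i <;> fin_cases j <;> intro hp <;>
    [((simp only [io, ofM, sh7, u0, Fin.sum_univ_four, Fin.sum_univ_three, Pi.single_apply, _root_.Fin.isValue, _root_.Fin.zero_eta, _root_.LinearMap.coe_mk, _root_.AddHom.coe_mk, ↓ _root_.reduceIte, _root_.Matrix.of_apply, _root_.Matrix.cons_val', _root_.Matrix.cons_val_zero, _root_.Matrix.cons_val_fin_one, _root_.Int.cast_one, _root_.Matrix.cons_val_one, _root_.one_mul, _root_.Prod.mk.injEq, _root_.zero_ne_one, _root_.and_true, _root_.and_false, _root_.and_self, _root_.MulZeroClass.mul_zero, _root_.add_zero, _root_.Sum.map_inl, _root_.id_eq, _root_.Pi.single_eq_same, _root_.ne_eq, _root_.reduceCtorEq, _root_.not_false_eq_true,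 _root_.Pi.single_eq_of_ne, _root_.MulZeroClass.zero_mul, _root_.Finset.sum_const_zero, _root_.Pi.sub_apply, _root_.Pi.add_apply, _root_.Pi.smul_apply, _root_.smul_eq_mul, _root_.sub_zero, _root_.Sum.inr.injEq, _root_.mul_one, _root_.neg_add_rev, _root_.add_right_inj, _root_.Fin.mk_one, _root_.one_ne_zero, _root_.mul_neg, _root_.neg_mul]; ring));
     ((simp only [io, ofM, sh7, u0, Fin.sum_univ_four, Fin.sum_univ_three, Pi.single_apply, _root_.Fin.isValue, _root_.Fin.zero_eta, _root_.LinearMap.coe_mk, _root_.AddHom.coe_mk, ↓ _root_.reduceIte, _root_.Matrix.of_apply, _root_.Matrix.cons_val', _root_.Matrix.cons_val_zero, _root_.Matrix.cons_val_fin_one, _root_.Int.cast_one, _root_.Matrix.cons_val_one, _root_.one_mul, _root_.Prod.mk.injEq, _root_.zero_ne_one, _root_.and_true, _root_.and_false, _root_.and_self, _root_.MulZeroClass.mul_zero, _root_.add_zero, _root_.Sum.map_inl, _root_.id_eq, _root_.Pi.single_eq_same, _root_.ne_eq, _root_.reduceCtorEq,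 _root_.not_false_eq_true, _root_.Pi.single_eq_of_ne, _root_.MulZeroClass.zero_mul, _root_.Finset.sum_const_zero, _root_.Pi.sub_apply, _root_.Pi.add_apply, _root_.Pi.smul_apply, _root_.smul_eq_mul, _root_.sub_zero, _root_.Sum.inr.injEq, _root_.mul_one, _root_.neg_add_rev, _root_.add_right_inj, _root_.Fin.mk_one, _root_.one_ne_zero, _root_.mul_neg, _root_.neg_mul, _root_.Fin.reduceFinMk, _root_.Matrix.cons_val, _root_.Fin.reduceEq]; done));
     ((exact absurd hp (by decide)));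
     ((simp only [io, ofM, sh7, u0, Fin.sum_univ_four, Fin.sum_univ_three, Pi.single_apply, _root_.Fin.isValue, _root_.Fin.zero_eta, _root_.LinearMap.coe_mk, _root_.AddHom.coe_mk, ↓ _root_.reduceIte, _root_.Matrix.of_apply, _root_.Matrix.cons_val', _root_.Matrix.cons_val_zero, _root_.Matrix.cons_val_fin_one, _root_.Int.cast_one, _root_.Matrix.cons_val_one, _root_.one_mul, _root_.Prod.mk.injEq, _root_.zero_ne_one, _root_.and_true, _root_.and_false, _root_.and_self, _root_.MulZeroClass.mul_zero, _root_.add_zero, _root_.Sum.map_inl, _root_.id_eq, _root_.Pi.single_eq_same, _root_.ne_eq, _root_.reduceCtorEq, _root_.not_false_eq_true, _root_.Pi.single_eq_of_ne, _root_.MulZeroClass.zero_mul, _root_.Finset.sum_const_zero, _root_.Pi.sub_apply, _root_.Pi.add_apply, _root_.Pi.smul_apply, _root_.smul_eq_mul, _root_.sub_zero, _root_.Sum.inr.injEq, _root_.mul_one, _root_.neg_add_rev, _root_.add_right_inj, _root_.Fin.mk_one, _root_.one_ne_zero,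 _root_.mul_neg, _root_.neg_mul]; ring));
     ((simp only [io, ofM, sh7, u0, Fin.sum_univ_four, Fin.sum_univ_three, Pi.single_apply, _root_.Fin.isValue, _root_.Fin.zero_eta, _root_.LinearMap.coe_mk, _root_.AddHom.coe_mk, ↓ _root_.reduceIte, _root_.Matrix.of_apply, _root_.Matrix.cons_val', _root_.Matrix.cons_val_zero, _root_.Matrix.cons_val_fin_one, _root_.Int.cast_one, _root_.Matrix.cons_val_one, _root_.one_mul, _root_.Prod.mk.injEq, _root_.zero_ne_one, _root_.and_true, _root_.and_false, _root_.and_self, _root_.MulZeroClass.mul_zero, _root_.add_zero, _root_.Sum.map_inl, _root_.id_eq, _root_.Pi.single_eq_same, _root_.ne_eq, _root_.reduceCtorEq, _root_.not_false_eq_true, _root_.Pi.single_eq_of_ne, _root_.MulZeroClass.zero_mul, _root_.Finset.sum_const_zero, _root_.Pi.sub_apply, _root_.Pi.add_apply, _root_.Pi.smul_apply, _root_.smul_eq_mul, _root_.sub_zero, _root_.Sum.inr.injEq, _root_.mul_one, _root_.neg_add_rev, _root_.add_right_inj,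 _root_.Fin.mk_one, _root_.one_ne_zero, _root_.mul_neg, _root_.neg_mul]; ring));
     ((exact absurd hp (by decide))); ((exact absurd hp (by decide))); ((exact absurd hp (by decide)));
     ((simp only [io, ofM, sh7, u0, Fin.sum_univ_four, Fin.sum_univ_three, Pi.single_apply, _root_.Fin.isValue, _root_.Fin.zero_eta, _root_.LinearMap.coe_mk, _root_.AddHom.coe_mk, ↓ _root_.reduceIte, _root_.Matrix.of_apply, _root_.Matrix.cons_val', _root_.Matrix.cons_val_zero, _root_.Matrix.cons_val_fin_one, _root_.Int.cast_one, _root_.Matrix.cons_val_one, _root_.one_mul, _root_.Prod.mk.injEq, _root_.zero_ne_one, _root_.and_true, _root_.and_false, _root_.and_self, _root_.MulZeroClass.mul_zero, _root_.add_zero, _root_.Sum.map_inl, _root_.id_eq, _root_.Pi.single_eq_same, _root_.ne_eq, _root_.reduceCtorEq, _root_.not_false_eq_true, _root_.Pi.single_eq_of_ne, _root_.MulZeroClass.zero_mul, _root_.Finset.sum_const_zero, _root_.Pi.sub_apply, _root_.Pi.add_apply,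 _root_.Pi.smul_apply, _root_.smul_eq_mul, _root_.sub_zero, _root_.Sum.inr.injEq, _root_.mul_one, _root_.neg_add_rev, _root_.add_right_inj, _root_.Fin.mk_one, _root_.one_ne_zero, _root_.mul_neg, _root_.neg_mul, _root_.Fin.reduceFinMk, _root_.Matrix.cons_val, _root_.Fin.reduceEq]; done));
     ((exact absurd hp (by decide))); ((exact absurd hp (by decide))); ((exact absurd hp (by decide))); ((exact absurd hp (by decide)));
     ((exact absurd hp (by decide))); ((exact absurd hp (by decide)));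
     ((simp only [io, ofM, sh7, u0, Fin.sum_univ_four, Fin.sum_univ_three, Pi.single_apply, _root_.Fin.isValue, _root_.Fin.zero_eta, _root_.LinearMap.coe_mk, _root_.AddHom.coe_mk, ↓ _root_.reduceIte, _root_.Matrix.of_apply, _root_.Matrix.cons_val', _root_.Matrix.cons_val_zero, _root_.Matrix.cons_val_fin_one, _root_.Int.cast_one, _root_.Matrix.cons_val_one, _root_.one_mul, _root_.Prod.mk.injEq, _root_.zero_ne_one, _root_.and_true, _root_.and_false, _root_.and_self, _root_.MulZeroClass.mul_zero, _root_.add_zero, _root_.Sum.map_inl, _root_.id_eq, _root_.Pi.single_eq_same, _root_.ne_eq, _root_.reduceCtorEq, _root_.not_false_eq_true, _root_.Pi.single_eq_of_ne, _root_.MulZeroClass.zero_mul, _root_.Finset.sum_const_zero, _root_.Pi.sub_apply, _root_.Pi.add_apply, _root_.Pi.smul_apply, _root_.smul_eq_mul, _root_.sub_zero, _root_.Sum.inr.injEq, _root_.mul_one, _root_.neg_add_rev, _root_.add_right_inj, _root_.Fin.mk_one, _root_.one_ne_zero,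 _root_.mul_neg, _root_.neg_mul, _root_.Fin.reduceFinMk, _root_.Matrix.cons_val, _root_.Fin.reduceEq]; done));
     ((simp only [io, ofM, sh7, u0, Fin.sum_univ_four, Fin.sum_univ_three, Pi.single_apply, _root_.Fin.isValue, _root_.Fin.zero_eta, _root_.LinearMap.coe_mk, _root_.AddHom.coe_mk, ↓ _root_.reduceIte, _root_.Matrix.of_apply, _root_.Matrix.cons_val', _root_.Matrix.cons_val_zero, _root_.Matrix.cons_val_fin_one, _root_.Int.cast_one, _root_.Matrix.cons_val_one, _root_.one_mul, _root_.Prod.mk.injEq, _root_.zero_ne_one, _root_.and_true, _root_.and_false, _root_.and_self, _root_.MulZeroClass.mul_zero, _root_.add_zero, _root_.Sum.map_inl, _root_.id_eq, _root_.Pi.single_eq_same, _root_.ne_eq, _root_.reduceCtorEq, _root_.not_false_eq_true, _root_.Pi.single_eq_of_ne, _root_.MulZeroClass.zero_mul, _root_.Finset.sum_const_zero, _root_.Pi.sub_apply, _root_.Pi.add_apply, _root_.Pi.smul_apply, _root_.smul_eq_mul, _root_.sub_zero, _root_.Sum.inr.injEq,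 _root_.mul_one, _root_.neg_add_rev, _root_.add_right_inj, _root_.Fin.mk_one, _root_.one_ne_zero, _root_.mul_neg, _root_.neg_mul, _root_.Fin.reduceFinMk, _root_.Matrix.cons_val, _root_.Fin.reduceEq]; done));
     ((simp only [io, ofM, sh7, u0, Fin.sum_univ_four, Fin.sum_univ_three, Pi.single_apply, _root_.Fin.isValue, _root_.Fin.zero_eta, _root_.LinearMap.coe_mk, _root_.AddHom.coe_mk, ↓ _root_.reduceIte, _root_.Matrix.of_apply, _root_.Matrix.cons_val', _root_.Matrix.cons_val_zero, _root_.Matrix.cons_val_fin_one, _root_.Int.cast_one, _root_.Matrix.cons_val_one, _root_.one_mul, _root_.Prod.mk.injEq, _root_.zero_ne_one, _root_.and_true, _root_.and_false, _root_.and_self, _root_.MulZeroClass.mul_zero, _root_.add_zero, _root_.Sum.map_inl, _root_.id_eq, _root_.Pi.single_eq_same, _root_.ne_eq, _root_.reduceCtorEq, _root_.not_false_eq_true, _root_.Pi.single_eq_of_ne, _root_.MulZeroClass.zero_mul, _root_.Finset.sum_const_zero, _root_.Pi.sub_apply,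 _root_.Pi.add_apply, _root_.Pi.smul_apply, _root_.smul_eq_mul, _root_.sub_zero, _root_.Sum.inr.injEq, _root_.mul_one, _root_.neg_add_rev, _root_.add_right_inj, _root_.Fin.mk_one, _root_.one_ne_zero, _root_.mul_neg, _root_.neg_mul, _root_.Fin.reduceFinMk, _root_.Matrix.cons_val, _root_.Fin.reduceEq]; done));
     ((exact absurd hp (by decide))); ((exact absurd hp (by decide)));
     ((simp only [io, ofM, sh7, u0, Fin.sum_univ_four, Fin.sum_univ_three, Pi.single_apply, _root_.Fin.isValue, _root_.Fin.zero_eta, _root_.LinearMap.coe_mk, _root_.AddHom.coe_mk, ↓ _root_.reduceIte, _root_.Matrix.of_apply, _root_.Matrix.cons_val', _root_.Matrix.cons_val_zero, _root_.Matrix.cons_val_fin_one, _root_.Int.cast_one, _root_.Matrix.cons_val_one, _root_.one_mul, _root_.Prod.mk.injEq, _root_.zero_ne_one, _root_.and_true, _root_.and_false, _root_.and_self, _root_.MulZeroClass.mul_zero, _root_.add_zero, _root_.Sum.map_inl, _root_.id_eq, _root_.Pi.single_eq_same,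 _root_.ne_eq, _root_.reduceCtorEq, _root_.not_false_eq_true, _root_.Pi.single_eq_of_ne, _root_.MulZeroClass.zero_mul, _root_.Finset.sum_const_zero, _root_.Pi.sub_apply, _root_.Pi.add_apply, _root_.Pi.smul_apply, _root_.smul_eq_mul, _root_.sub_zero, _root_.Sum.inr.injEq, _root_.mul_one, _root_.neg_add_rev, _root_.add_right_inj, _root_.Fin.mk_one, _root_.one_ne_zero, _root_.mul_neg, _root_.neg_mul, _root_.Fin.reduceFinMk, _root_.Matrix.cons_val, _root_.Fin.reduceEq]; done));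
     ((exact absurd hp (by decide))); ((exact absurd hp (by decide)));
     ((simp only [io, ofM, sh7, u0, Fin.sum_univ_four, Fin.sum_univ_three, Pi.single_apply, _root_.Fin.isValue, _root_.Fin.zero_eta, _root_.LinearMap.coe_mk, _root_.AddHom.coe_mk, ↓ _root_.reduceIte, _root_.Matrix.of_apply, _root_.Matrix.cons_val', _root_.Matrix.cons_val_zero, _root_.Matrix.cons_val_fin_one, _root_.Int.cast_one, _root_.Matrix.cons_val_one, _root_.one_mul, _root_.Prod.mk.injEq, _root_.zero_ne_one, _root_.and_true, _root_.and_false, _root_.and_self, _root_.MulZeroClass.mul_zero, _root_.add_zero, _root_.Sum.map_inl, _root_.id_eq, _root_.Pi.single_eq_same, _root_.ne_eq, _root_.reduceCtorEq, _root_.not_false_eq_true, _root_.Pi.single_eq_of_ne, _root_.MulZeroClass.zero_mul, _root_.Finset.sum_const_zero, _root_.Pi.sub_apply, _root_.Pi.add_apply, _root_.Pi.smul_apply, _root_.smul_eq_mul, _root_.sub_zero, _root_.Sum.inr.injEq, _root_.mul_one, _root_.neg_add_rev,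 _root_.add_right_inj, _root_.Fin.mk_one, _root_.one_ne_zero, _root_.mul_neg, _root_.neg_mul, _root_.Fin.reduceFinMk, _root_.Matrix.cons_val, _root_.Fin.reduceEq]; done));
     ((exact absurd hp (by decide))); ((exact absurd hp (by decide)));
     ((simp only [io, ofM, sh7, u0, Fin.sum_univ_four, Fin.sum_univ_three, Pi.single_apply, _root_.Fin.isValue, _root_.Fin.zero_eta, _root_.LinearMap.coe_mk, _root_.AddHom.coe_mk, ↓ _root_.reduceIte, _root_.Matrix.of_apply, _root_.Matrix.cons_val', _root_.Matrix.cons_val_zero, _root_.Matrix.cons_val_fin_one, _root_.Int.cast_one, _root_.Matrix.cons_val_one, _root_.one_mul, _root_.Prod.mk.injEq, _root_.zero_ne_one, _root_.and_true, _root_.and_false, _root_.and_self, _root_.MulZeroClass.mul_zero, _root_.add_zero, _root_.Sum.map_inl, _root_.id_eq, _root_.Pi.single_eq_same, _root_.ne_eq, _root_.reduceCtorEq, _root_.not_false_eq_true, _root_.Pi.single_eq_of_ne, _root_.MulZeroClass.zero_mul, _root_.Finset.sum_const_zero,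 _root_.Pi.sub_apply, _root_.Pi.add_apply, _root_.Pi.smul_apply, _root_.smul_eq_mul, _root_.sub_zero, _root_.Sum.inr.injEq, _root_.mul_one, _root_.neg_add_rev, _root_.add_right_inj, _root_.Fin.mk_one, _root_.one_ne_zero, _root_.mul_neg, _root_.neg_mul, _root_.Fin.reduceFinMk, _root_.Matrix.cons_val, _root_.Fin.reduceEq]; done))]

/-- **R2b** -/
theorem Ph_rr (hρ : IsJ ρ) (h2 : (2 : K) ≠ 0) (hi : Function.Injective ρ) (k : Unit ⊕ (Fin 3 ⊕ Fin 3)) (t : K) :
    ∃ hm : xc Cfsg.Agent.Nodes.KindF.isType (_root_.Cfsg.Agent.Nodes.RGDChev.vec chevF4 4 (rr k)) t ∈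
        Subgroup.centralizer ({t1 K} : Set ↥(chevF4.group K)),
      Ph hρ h2 (isT_t1 hρ) ⟨_, hm⟩ = sgl (Pi.single k (ss K k * t)) := by
  rcases k with _ | k | k
  · refine ⟨mem_short hρ hi t, Ph_eq hρ h2 _ fun y i hp => ?_⟩
    have := b0 hρ t y i hp
    simpa [ss, ssZ, rr] using this
  · fin_cases k
    · refine ⟨mem_long hρ hi (e := 53) (s := -1) (by decide) (by decide) (by decide +kernel) t,
        Ph_eq hρ h2 _ fun y i hp => ?_⟩
      have := b1 hρ t y i hp
      simpa [ss, ssZ, rr] using this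
    · refine ⟨mem_long hρ hi (e := 8) (s := -1) (by decide) (by decide) (by decide +kernel) t,
        Ph_eq hρ h2 _ fun y i hp => ?_⟩
      have := b2 hρ t y i hp
      simpa [ss, ssZ, rr] using this
    · refine ⟨mem_long hρ hi (e := 11) (s := -1) (by decide) (by decide) (by decide +kernel) t,
        Ph_eq hρ h2 _ fun y i hp => ?_⟩
      have := b3 hρ t y i hp
      simpa only [ss, ssZ, rr, _root_.Fin.reduceFinMk, _root_.Fin.isValue, _root_.Sum.elim_inr, _root_.Sum.elim_inl, _root_.Matrix.cons_val, _root_.Int.reduceNeg, _root_.Int.cast_one, _root_.one_mul] using this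
  · fin_cases k
    · refine ⟨mem_long hρ hi (e := 6) (s := -1) (by decide) (by decide) (by decide +kernel) t,
        Ph_eq hρ h2 _ fun y i hp => ?_⟩
      have := b4 hρ t y i hp
      simpa [ss, ssZ, rr] using this
    · refine ⟨mem_long hρ hi (e := 51) (s := 1) (by decide) (by decide) (by decide +kernel) t,
        Ph_eq hρ h2 _ fun y i hp => ?_⟩
      have := b5 hρ t y i hp
      simpa [ss, ssZ, rr] using this
    · refine ⟨mem_long hρ hi (e := 44) (s := 1) (by decide) (by decide) (by decide +kernel) t,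
        Ph_eq hρ h2 _ fun y i hp => ?_⟩
      have := b6 hρ t y i hp
      simpa only [ss, ssZ, rr, _root_.Fin.reduceFinMk, _root_.Fin.isValue, _root_.Sum.elim_inr, _root_.Matrix.cons_val, _root_.Int.reduceNeg, _root_.Int.cast_neg, _root_.Int.cast_one, _root_.neg_mul, _root_.one_mul] using this

/-- **R2**: the embedding `e : q^7 → F4(q)`, equivariant for `Ω₇(q)`, with its root elements -/
theorem exists_er [Finite K] (h2 : (2 : K) ≠ 0) :
    ∃ e : Multiplicative (Unit ⊕ (Fin 3 ⊕ Fin 3) → K) →* ↥(chevF4.group K), Function.Injective e ∧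
      (∀ h ∈ Cfsg.Agent.LieClassical.OrthCore.E (oddForm 3 K), ∃ g, ∀ w, g * e (.ofAdd w) * g⁻¹ = e (.ofAdd (h w))) ∧
      ∀ k t, e (.ofAdd (Pi.single k t)) =
        xc Cfsg.Agent.Nodes.KindF.isType (_root_.Cfsg.Agent.Nodes.RGDChev.vec chevF4 4 (rr k)) (ss K k * t) := by
  obtain ⟨ρ, hρ, hi⟩ := exists_J K
  obtain ⟨e, he1, he2, he3⟩ := exists_e h2 hρ hi
  obtain ⟨p, hpc⟩ := CharP.exists K
  refine ⟨e, he1, he2, fun k t => ?_⟩
  obtain ⟨hm, h⟩ := Ph_rr hρ h2 hi k (ss K k * t)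
  rw [← mul_assoc, ss_sq, one_mul] at h
  symm
  exact he3 _ p ⟨_, hm⟩ h (Subtype.ext (xc_pow (p := p) (show rr k < chevF4.nroots from rr_lt k) _))

end

end Cfsg.Agent.H31.FR
end

-- part: H31/FR/Ratio
section
/-!
# The ratio bound for `F4(q)`, `q` odd, `q ≥ 5` (helper31, from R1 = helper572, R3 = helper224)

`ratio` : there is an embedding `e` of the orthogonal space `W` of dimension 7 in `F4(q)`, equivariant for `Ω₇(q)`, with root
elements as the images of the coordinate vectors, such that `|χ(e w)| ≤ 2/25 χ(1)` for every irreducible `χ ≠ 1`, `w ≠ 0`.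
-/

set_option autoImplicit false
set_option linter.unusedSectionVars false

namespace Cfsg.Agent.H31.FR

open Cfsg Cfsg.Lie Module
open Cfsg.Agent.ChevalleyStructure
open Cfsg.Agent.LieClassical Cfsg.Agent.LieClassical.OrthForms Cfsg.Agent.LieClassical.OrthCore
open Cfsg.Agent.Nodes.RGDChev Cfsg.Agent.KFacts.RgdChevCoord
open Cfsg.Agent.H224.FR (X EE L0 L1 L2 L3 mem_X X_le_EE EE_le rthree)
open Cfsg.Agent.H572.FR (FF mem_FF ratio_bound)

universe u

variable {K : Type u} [Field K]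

theorem mem_of_single {G : Type*} [Group G] {ι : Type*} [Fintype ι] [DecidableEq ι] (e : Multiplicative (ι → K) →* G)
    (H : Subgroup G) (w : ι → K) (h : ∀ k, e (.ofAdd (Pi.single k (w k))) ∈ H) : e (.ofAdd w) ∈ H := by
  have h1 : w = ∑ k, Pi.single k (w k) := (Finset.univ_sum_single w).symm
  rw [h1]
  refine Finset.sum_induction _ (fun v : ι → K => e (.ofAdd v) ∈ H) ?_ ?_ fun k _ => h k
  · intro a b ha hb
    rw [ofAdd_add, map_mul]
    exact H.mul_mem ha hb
  · rw [ofAdd_zero, map_one]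
    exact H.one_mem

theorem rr_mem : ∀ k, rr k ∈ L0 := by decide

theorem mem_rr : ∀ r ∈ L0, ∃ k, rr k = r := by decide

end Cfsg.Agent.H31.FR
end

-- part: H224/FR/Conj
section
/-!
# The ratio bound on the radical of order `q^7` (box R′ of helper395)

`AA = [41, .., 47]` : the positive roots with coefficient 2 at the node `0`; `EE K AA` is conjugate to the group of the ratio
bound of helper572, helper31, helper296.
-/

set_option autoImplicit false
set_option linter.unusedSectionVars false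

namespace Cfsg.Agent.H224.FR

open CoxeterSystem Cfsg.Agent.ChevalleyStructure.CoxeterGeom Cfsg.Agent.Tits.Roots Cfsg.Agent.Nodes.Reps
  Cfsg.Agent.Nodes.BNOf Cfsg.Agent.Nodes.RGDChev Cfsg.Agent.KFacts.RgdChevCoord Cfsg.Agent.OddHalf.NI.ModelChev
open Cfsg.Lie Cfsg.Agent.ChevalleyStructure Cfsg.Agent.ChevalleyStructure.RootVec Cfsg.Agent.ChevalleyStructure.NPerm
open Cfsg.Agent.H701.F43.Cent (hF cF nroots)
open Cfsg.Agent.ChevalleyStructure.CoxeterGeomTypes Cfsg.Agent.Nodes.StabComb Cfsg.Agent.Nodes.Bruhat Cfsg.Agent.Nodes.OppDec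
  Cfsg.Agent.Nodes.LeviDec Cfsg.Agent.Nodes.NormX Cfsg.Agent.Nodes.Coroot Cfsg.Agent.KFacts.RgdPar Cfsg.Agent.KFacts.RgdTI
  Cfsg.Agent.KFacts.RgdCent Cfsg.Agent.Nodes.ChevCls Cfsg.Agent.H225.PPow Cfsg.Agent.ChevalleyStructure.Elts
open Cfsg.Agent.H31.FR (exists_er rr ss rr_lt rr_mem mem_rr ss_sq mem_of_single)
open Cfsg.Agent.H572.FR (FF mem_FF ratio_bound_gen)
open Cfsg.Agent.LieClassical Cfsg.Agent.LieClassical.OrthForms Cfsg.Agent.LieClassical.OrthCore

universe u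

variable {K : Type u} [Field K]

/-- the ratio bound in the general form, on the group `EE K L0` -/
theorem ratio0 [Finite K] (h2 : (2 : K) ≠ 0) (h3 : 3 ≤ Nat.card K) {d : ℕ}
    (ρ : Representation ℂ ↥(chevF4.group K) (Fin d → ℂ)) (hirr : ρ.IsIrreducible) (hρ : ρ.character ≠ (fun _ => 1))
    {a : ↥(chevF4.group K)} (ha : a ∈ EE K L0) (ha1 : a ≠ 1) :
    ‖ρ.character a‖ * ((Nat.card K : ℝ) ^ 6 - ((Nat.card K : ℝ) - 7) * (Nat.card K : ℝ) ^ 3 - 1) ≤
      (((Nat.card K : ℝ) + 5) * (Nat.card K : ℝ) ^ 3 + 1) * d := by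
  classical
  obtain ⟨e, he1, he2, he3⟩ := exists_er h2
  have hX : ∀ k t, e (.ofAdd (Pi.single k t)) ∈ X K (rr k) := fun k t => by
    rw [mem_X (rr_lt k)]
    exact ⟨_, he3 k t⟩
  have hrange : e.range = EE K L0 := by
    apply le_antisymm
    · rintro _ ⟨w, rfl⟩
      exact mem_of_single e (EE K L0) w.toAdd fun k => X_le_EE (rr_mem k) (hX k _)
    · apply EE_le
      intro r hr y hy
      obtain ⟨k, rfl⟩ := mem_rr r hr
      rw [mem_X (rr_lt k)] at hy
      obtain ⟨a, rfl⟩ := hy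
      refine ⟨.ofAdd (Pi.single k (ss K k * a)), ?_⟩
      rw [he3, ← mul_assoc, ss_sq, one_mul]
  obtain ⟨s1, n, s3, c, h1, h3', h4, h6, h7, h8⟩ := rthree (K := K)
  have hF' : ∀ (H : Subgroup ↥(chevF4.group K)), (∀ r ∈ [2, 16, 17], X K r ≤ H) → ∀ w ∈ FF K, e (.ofAdd w) ∈ H := by
    intro H hH w hw
    rw [mem_FF] at hw
    refine mem_of_single e H w fun k => ?_
    rcases k with k | k | k
    · rw [show w (Sum.inl k) = 0 from hw.1, Pi.single_zero, ofAdd_zero, map_one]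
      exact H.one_mem
    · refine hH (rr (.inr (.inl k))) ?_ (hX _ _)
      revert k
      decide
    · rw [hw.2, Pi.single_zero, ofAdd_zero, map_one]
      exact H.one_mem
  have hc : ∀ w ∈ FF K, c * e (.ofAdd w) * c⁻¹ ∈ X K 0 ⊔ X K 1 ⊔ X K 15 := by
    intro w hw
    have h9 := hF' ((X K 0 ⊔ X K 1 ⊔ X K 15).comap (MulAut.conj c).toMonoidHom)
      (fun r hr => Subgroup.map_le_iff_le_comap.1 (h7 r hr)) w hw
    exact h9
  rw [← hrange] at ha
  obtain ⟨w, rfl⟩ := ha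
  have hw : w.toAdd ≠ 0 := by
    intro h
    apply ha1
    have : w = 1 := by rw [← ofAdd_toAdd w, h, ofAdd_zero]
    rw [this, map_one]
  have key := ratio_bound_gen h2 h3 (e := e) he2 (E1 := EE K L1) (E2 := EE K L2) (E3 := EE K L3) (s1 := s1) (n := n)
    (s3 := s3) (c := c) (by rw [hrange]; exact h1) (by rw [hrange]; exact h3') h4 h6
    (hF' _ fun r hr => X_le_EE (by revert r; decide))
    (fun w hw => sup_le (sup_le (X_le_EE (by decide)) (X_le_EE (by decide))) (X_le_EE (by decide)) (hc w hw))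
    (fun w hw => sup_le (sup_le (X_le_EE (by decide)) (X_le_EE (by decide))) (X_le_EE (by decide)) (hc w hw))
    (by rw [hrange]; exact h8) ρ hirr hρ hw
  exact key.1

/-- the roots with coefficient 2 at the node `0` -/
def AA : List ℕ := [41, 42, 43, 44, 45, 46, 47]

def WA : List (Fin 4) := [0, 1, 2, 3, 1, 2, 0, 1]

theorem tA : L0.map (wact chevF4 WA) = [44, 41, 42, 43, 47, 46, 45] := by decide +kernel

/-- `EE K AA` is conjugate to `EE K L0`. -/
theorem exists_conj [Finite K] : ∃ g : ↥(chevF4.group K), EE K AA = (EE K L0).map (MulAut.conj g).toMonoidHom := by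
  obtain ⟨p, hpc⟩ := CharP.exists K
  have : Fact p.Prime := ⟨CharP.char_is_prime K p⟩
  obtain ⟨g, h1⟩ := exists_rp cF (rgd (K := K) hF cF p).nsys (cF.wordProd WA)
  refine ⟨g, ?_⟩
  refine Eq.trans ?_ (cj_EE p h1 (L := L0) (by decide)).symm
  rw [tA]
  exact EE_congr (mem_iff_of_sub (by decide) (by decide))

/-- **the ratio bound on `A`, all odd `q`** -/
theorem ratioA [Finite K] (h2 : (2 : K) ≠ 0) (h3 : 3 ≤ Nat.card K) {d : ℕ}
    (ρ : Representation ℂ ↥(chevF4.group K) (Fin d → ℂ)) (hirr : ρ.IsIrreducible) (hρ : ρ.character ≠ (fun _ => 1))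
    {a : ↥(chevF4.group K)} (ha : a ∈ EE K AA) (ha1 : a ≠ 1) :
    ‖ρ.character a‖ * ((Nat.card K : ℝ) ^ 6 - ((Nat.card K : ℝ) - 7) * (Nat.card K : ℝ) ^ 3 - 1) ≤
      (((Nat.card K : ℝ) + 5) * (Nat.card K : ℝ) ^ 3 + 1) * d := by
  obtain ⟨g, hg⟩ := exists_conj (K := K)
  rw [hg] at ha
  obtain ⟨b, hb, rfl⟩ := ha
  have hb1 : b ≠ 1 := by
    rintro rfl
    exact ha1 (map_one _)
  have e : ρ.character ((MulAut.conj g).toMonoidHom b) = ρ.character b := by
    show ρ.character (g * b * g⁻¹) = _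
    rw [Representation.char_conj]
  rw [e]
  exact ratio0 h2 h3 ρ hirr hρ hb hb1

theorem nine_aux {q x d : ℝ} (hq : 9 ≤ q) (hd : 0 ≤ d)
    (h : x * (q ^ 6 - (q - 7) * q ^ 3 - 1) ≤ ((q + 5) * q ^ 3 + 1) * d) : x ≤ 1 / 50 * d := by
  have h6 : (729 : ℝ) ≤ q ^ 3 := by
    calc (729 : ℝ) = 9 ^ 3 := by norm_num
      _ ≤ q ^ 3 := pow_le_pow_left₀ (by norm_num) hq 3
  have h8 : 1 ≤ q ^ 3 - 51 * q - 243 := by
    nlinarith only [hq, h6, sq_nonneg q]
  have h9 : 50 * ((q + 5) * q ^ 3 + 1) ≤ q ^ 6 - (q - 7) * q ^ 3 - 1 := by nlinarith only [h6, h8]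
  have h10 : 0 < q ^ 6 - (q - 7) * q ^ 3 - 1 := by nlinarith
  have h11 := mul_le_mul_of_nonneg_right h9 hd
  have h12 : x * (q ^ 6 - (q - 7) * q ^ 3 - 1) ≤ (1 / 50 * d) * (q ^ 6 - (q - 7) * q ^ 3 - 1) := by linarith
  exact le_of_mul_le_mul_right h12 h10

/-- `q ≥ 9` : `|χ(a)| ≤ χ(1)/50` -/
theorem ratioA_nine [Finite K] (h2 : (2 : K) ≠ 0) (h9 : 9 ≤ Nat.card K) {d : ℕ}
    (ρ : Representation ℂ ↥(chevF4.group K) (Fin d → ℂ)) (hirr : ρ.IsIrreducible) (hρ : ρ.character ≠ (fun _ => 1))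
    {a : ↥(chevF4.group K)} (ha : a ∈ EE K AA) (ha1 : a ≠ 1) : ‖ρ.character a‖ ≤ 1 / 50 * d :=
  nine_aux (by exact_mod_cast h9) (Nat.cast_nonneg _) (ratioA h2 (by omega) ρ hirr hρ ha ha1)

end Cfsg.Agent.H224.FR
end

-- part: H351/FR/Abs
section
/-!
# Box (X) of `F₄(q)` (S2452): abstract part (helper351)

* `index_pow` : `Kˣ`-invariant subgroups of a quotient of `K ^ n` have index a power of `|K|`;
* `relIndex_pow` : the same in `Q / Z`;
* `CW Q Z m` : `{w ∈ Q | [w, m] ∈ Z}`, `CW_mul`, `CW_conj`, `relIndex_CW_le`.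
-/

set_option autoImplicit false

namespace Cfsg.Agent.H351.FR

open Subgroup

section Comm

variable {A : Type*} [CommGroup A] {K : Type*} [Field K] [Finite K] {ι : Type*} [Fintype ι] [DecidableEq ι]

theorem index_pow (φ : ι → Multiplicative K →* A) (hφ : (⊤ : Subgroup A) ≤ ⨆ i, (φ i).range) (ψ : Kˣ → A →* A)
    (hψ : ∀ (μ : Kˣ) i a, ψ μ (φ i (Multiplicative.ofAdd a)) = φ i (Multiplicative.ofAdd ((μ : K) * a)))
    {D : Subgroup A} (hD : ∀ (μ : Kˣ), ∀ w ∈ D, ψ μ w ∈ D) : ∃ k, D.index = Nat.card K ^ k := by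
  classical
  let f : (ι → Multiplicative K) →* A := ∏ i, (φ i).comp (Pi.evalMonoidHom (fun _ => Multiplicative K) i)
  have hf : ∀ c, f c = ∏ i, φ i (c i) := by
    intro c
    simp only [f, MonoidHom.finsetProd_apply, MonoidHom.comp_apply, Pi.evalMonoidHom_apply]
  have hs : Function.Surjective f := by
    rw [← MonoidHom.range_eq_top, eq_top_iff]
    refine le_trans hφ (iSup_le fun i => ?_)
    rintro _ ⟨a, rfl⟩
    refine ⟨Pi.mulSingle i a, ?_⟩
    rw [hf, Finset.prod_eq_single i]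
    · rw [Pi.mulSingle_eq_same]
    · intro j _ hj
      rw [Pi.mulSingle_eq_of_ne hj, map_one]
    · intro h
      exact absurd (Finset.mem_univ i) h
  have hsc : ∀ (μ : Kˣ) (c : ι → K), f (fun i => Multiplicative.ofAdd ((μ : K) * c i)) =
      ψ μ (f fun i => Multiplicative.ofAdd (c i)) := by
    intro μ c
    rw [hf, hf, map_prod]
    exact Finset.prod_congr rfl fun i _ => (hψ μ i (c i)).symm
  let SM : Submodule K (ι → K) :=
    { carrier := {c | f (fun i => Multiplicative.ofAdd (c i)) ∈ D}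
      add_mem' := by
        intro a b ha hb
        have h1 : (fun i => Multiplicative.ofAdd ((a + b) i)) =
            (fun i => Multiplicative.ofAdd (a i)) * fun i => Multiplicative.ofAdd (b i) := rfl
        show f _ ∈ D
        rw [h1, map_mul]
        exact D.mul_mem ha hb
      zero_mem' := by
        have h1 : (fun i => Multiplicative.ofAdd ((0 : ι → K) i)) = (1 : ι → Multiplicative K) := rfl
        show f _ ∈ D
        rw [h1, map_one]
        exact D.one_mem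
      smul_mem' := by
        intro c v hv
        by_cases hc : c = 0
        · have h1 : (fun i => Multiplicative.ofAdd ((c • v) i)) = (1 : ι → Multiplicative K) := by
            funext i
            rw [hc, zero_smul]
            rfl
          show f _ ∈ D
          rw [h1, map_one]
          exact D.one_mem
        · have h2 := hsc (Units.mk0 c hc) v
          rw [Units.val_mk0] at h2
          show f _ ∈ D
          have h1 : (fun i => Multiplicative.ofAdd ((c • v) i)) = fun i => Multiplicative.ofAdd (c * v i) := rfl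
          rw [h1, h2]
          exact hD _ _ hv }
  have h1 : (D.comap f).index = D.index := D.index_comap_of_surjective hs
  have h2 : Nat.card ↥(D.comap f) = Nat.card K ^ Module.finrank K SM := by
    have := Fintype.ofFinite K
    rw [← Module.natCard_eq_pow_finrank (K := K) (V := SM)]
    rfl
  have h3 := (D.comap f).index_mul_card
  rw [h1, h2] at h3
  have h4 : Nat.card (ι → Multiplicative K) = Nat.card K ^ Fintype.card ι := by
    rw [Nat.card_pi, Finset.prod_const, Finset.card_univ]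
    rfl
  rw [h4] at h3
  have h5 : Module.finrank K SM ≤ Fintype.card ι := by
    have := Submodule.finrank_le SM
    rwa [Module.finrank_fintype_fun_eq_card] at this
  refine ⟨Fintype.card ι - Module.finrank K SM, ?_⟩
  have h6 : 0 < Nat.card K ^ Module.finrank K SM := pow_pos Nat.card_pos _
  refine Nat.eq_of_mul_eq_mul_right h6 ?_
  rw [h3, ← pow_add, Nat.sub_add_cancel h5]

end Comm

variable {G : Type*} [Group G]

theorem relIndex_pow {K : Type*} [Field K] [Finite K] {ι : Type*} [Fintype ι] [DecidableEq ι] {Q Z C : Subgroup G}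
    (hZQ : Z ≤ Q) (hQQ : ∀ a ∈ Q, ∀ b ∈ Q, a * b * a⁻¹ * b⁻¹ ∈ Z) (hZ : ∀ w ∈ Q, ∀ z ∈ Z, w * z = z * w)
    (x : ι → K → G) (hx : ∀ i a, x i a ∈ Q) (hadd : ∀ i a b, x i (a + b) = x i a * x i b)
    (hgen : Q ≤ Z ⊔ ⨆ i, _root_.Subgroup.closure (Set.range (x i)))
    (t : Kˣ → G) (ht : ∀ (μ : Kˣ) i a, t μ * x i a * (t μ)⁻¹ = x i ((μ : K) * a))
    (htQ : ∀ μ, ∀ z ∈ Q, t μ * z * (t μ)⁻¹ ∈ Q) (htZ : ∀ μ, ∀ z ∈ Z, t μ * z * (t μ)⁻¹ ∈ Z)
    (hZC : Z ≤ C) (htC : ∀ μ, ∀ w ∈ C, t μ * w * (t μ)⁻¹ ∈ C) : ∃ k, C.relIndex Q = Nat.card K ^ k := by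
  classical
  have hn : (Z.subgroupOf Q).Normal := ⟨fun z hz w => by
    rw [mem_subgroupOf] at hz ⊢
    rw [coe_mul, coe_mul, coe_inv, hZ _ w.2 _ hz, mul_inv_cancel_right]
    exact hz⟩
  let _ : CommGroup (↥Q ⧸ Z.subgroupOf Q) :=
    { (inferInstance : Group (↥Q ⧸ Z.subgroupOf Q)) with
      mul_comm := by
        intro a b
        obtain ⟨a, rfl⟩ := QuotientGroup.mk_surjective a
        obtain ⟨b, rfl⟩ := QuotientGroup.mk_surjective b
        rw [← QuotientGroup.mk_mul, ← QuotientGroup.mk_mul, QuotientGroup.eq, mem_subgroupOf]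
        have h1 := hQQ _ (inv_mem b.2) _ (inv_mem a.2)
        have h2 : ((a * b)⁻¹ * (b * a) : ↥Q) = b⁻¹ * a⁻¹ * (b⁻¹)⁻¹ * (a⁻¹)⁻¹ := by group
        rw [h2]
        exact h1 }
  let π : ↥Q →* ↥Q ⧸ Z.subgroupOf Q := QuotientGroup.mk' (Z.subgroupOf Q)
  let e : ι → Multiplicative K →* ↥Q := fun i => MonoidHom.mk' (fun a => ⟨x i (Multiplicative.toAdd a), hx i _⟩)
    (fun a b => Subtype.ext (hadd i _ _))
  let cj : Kˣ → ↥Q →* ↥Q := fun μ => MonoidHom.mk' (fun w => ⟨t μ * (w : G) * (t μ)⁻¹, htQ μ w w.2⟩) (by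
    intro a b
    apply Subtype.ext
    show t μ * ((a * b : ↥Q) : G) * (t μ)⁻¹ = t μ * (a : G) * (t μ)⁻¹ * (t μ * (b : G) * (t μ)⁻¹)
    rw [coe_mul]
    group)
  have hcjZ : ∀ μ, Z.subgroupOf Q ≤ (Z.subgroupOf Q).comap (cj μ) := by
    intro μ z hz
    rw [mem_comap, mem_subgroupOf]
    exact htZ μ _ (mem_subgroupOf.1 hz)
  let ψ : Kˣ → (↥Q ⧸ Z.subgroupOf Q) →* (↥Q ⧸ Z.subgroupOf Q) := fun μ =>
    QuotientGroup.map (Z.subgroupOf Q) (Z.subgroupOf Q) (cj μ) (hcjZ μ)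
  have hψ : ∀ μ w, ψ μ (π w) = π (cj μ w) := fun μ w => rfl
  have hker : π.ker = Z.subgroupOf Q := QuotientGroup.ker_mk' _
  have hsurj : Function.Surjective π := QuotientGroup.mk'_surjective _
  have key := index_pow (K := K) (fun i => π.comp (e i)) ?_ ψ ?_ (D := (C.subgroupOf Q).map π) ?_
  · obtain ⟨k, hk⟩ := key
    refine ⟨k, ?_⟩
    rw [← hk]
    have h1 : ((C.subgroupOf Q).map π).index = (C.subgroupOf Q).index := by
      refine index_map_eq _ hsurj ?_
      rw [hker]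
      exact fun z hz => mem_subgroupOf.2 (hZC (mem_subgroupOf.1 hz))
    rw [h1]
    rfl
  · -- generation
    have h1 : Q ≤ ((⨆ i, (π.comp (e i)).range).comap π).map Q.subtype := by
      refine le_trans hgen (sup_le (fun z hz => ?_) (iSup_le fun i => ?_))
      · refine ⟨⟨z, hZQ hz⟩, SetLike.mem_coe.2 (mem_comap.2 ?_), rfl⟩
        have h2 : π ⟨z, hZQ hz⟩ = 1 := by
          rw [← MonoidHom.mem_ker, hker, mem_subgroupOf]
          exact hz
        rw [h2]
        exact one_mem _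
      · rw [closure_le]
        rintro _ ⟨a, rfl⟩
        refine ⟨⟨x i a, hx i a⟩, SetLike.mem_coe.2 (mem_comap.2 ?_), rfl⟩
        exact (le_iSup (fun i => (π.comp (e i)).range) i) ⟨Multiplicative.ofAdd a, rfl⟩
    intro w _
    obtain ⟨w, rfl⟩ := hsurj w
    obtain ⟨w', h2, h3⟩ := h1 w.2
    have h4 : w' = w := Subtype.ext h3
    rw [← h4]
    exact h2
  · intro μ i a
    rw [MonoidHom.comp_apply, hψ, MonoidHom.comp_apply]
    congr 1
    exact Subtype.ext (ht μ i a)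
  · rintro μ _ ⟨w, hw, rfl⟩
    rw [hψ]
    exact ⟨cj μ w, mem_subgroupOf.2 (htC μ _ (mem_subgroupOf.1 hw)), rfl⟩

/-! ### `CW` -/

/-- `{w ∈ Q | [w, m] ∈ Z}` -/
def CW {Q Z : Subgroup G} (hZ : ∀ w ∈ Q, ∀ z ∈ Z, w * z = z * w) (m : G) : Subgroup G where
  carrier := {w | w ∈ Q ∧ w * m * w⁻¹ * m⁻¹ ∈ Z}
  mul_mem' := by
    rintro a b ⟨ha, ha'⟩ ⟨hb, hb'⟩
    refine ⟨mul_mem ha hb, ?_⟩
    have h1 : a * b * m * (a * b)⁻¹ * m⁻¹ = (a * (b * m * b⁻¹ * m⁻¹)) * (m * a⁻¹ * m⁻¹) := by group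
    have h2 : b * m * b⁻¹ * m⁻¹ * a * (m * a⁻¹ * m⁻¹) = (b * m * b⁻¹ * m⁻¹) * (a * m * a⁻¹ * m⁻¹) := by group
    rw [h1, hZ a ha _ hb', h2]
    exact mul_mem hb' ha'
  one_mem' := ⟨one_mem _, by
    have : (1 : G) * m * 1⁻¹ * m⁻¹ = 1 := by group
    rw [this]; exact one_mem _⟩
  inv_mem' := by
    rintro a ⟨ha, ha'⟩
    refine ⟨inv_mem ha, ?_⟩
    have h1 : a⁻¹ * m * a⁻¹⁻¹ * m⁻¹ = a⁻¹ * (a * m * a⁻¹ * m⁻¹)⁻¹ * a := by group
    have h2 := hZ a⁻¹ (inv_mem ha) _ (inv_mem ha')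
    rw [h1, h2, inv_mul_cancel_right]
    exact inv_mem ha'

variable {Q Z : Subgroup G} (hZ : ∀ w ∈ Q, ∀ z ∈ Z, w * z = z * w)

theorem CW_le (m : G) : CW hZ m ≤ Q := fun _ hw => hw.1

theorem card_CW (m : G) : Nat.card {x : ↥Q // (x : G) * m * (x : G)⁻¹ * m⁻¹ ∈ Z} = Nat.card ↥(CW hZ m) :=
  Nat.card_congr ⟨fun x => ⟨x.1, x.1.2, x.2⟩, fun x => ⟨⟨x.1, x.2.1⟩, x.2.2⟩, fun _ => rfl, fun _ => rfl⟩

theorem CW_mul {m m' : G} (hm : ∀ z ∈ Z, m * z = z * m) : CW hZ m ⊓ CW hZ m' ≤ CW hZ (m * m') := by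
  rintro w ⟨⟨hw, h1⟩, -, h2⟩
  refine ⟨hw, ?_⟩
  have h3 : w * (m * m') * w⁻¹ * (m * m')⁻¹ = (w * m * w⁻¹ * m⁻¹) * (m * (w * m' * w⁻¹ * m'⁻¹) * m⁻¹) := by group
  rw [h3, hm _ h2, mul_inv_cancel_right]
  exact mul_mem h1 h2

theorem CW_inv_le {m : G} (hm : ∀ z ∈ Z, m * z = z * m) : CW hZ m ≤ CW hZ m⁻¹ := by
  rintro w ⟨hw, h1⟩
  refine ⟨hw, ?_⟩
  have h3 : w * m⁻¹ * w⁻¹ * m⁻¹⁻¹ = m⁻¹ * ((w * m * w⁻¹ * m⁻¹)⁻¹ * m) := by group
  rw [h3, ← hm _ (inv_mem h1), inv_mul_cancel_left]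
  exact inv_mem h1

theorem CW_conj_le {m x : G} (hx : ∀ z ∈ Z, x * z = z * x) (hxQ : ∀ w ∈ Q, x * w * x⁻¹ ∈ Q) :
    (CW hZ m).map (MulAut.conj x).toMonoidHom ≤ CW hZ (x * m * x⁻¹) := by
  rintro _ ⟨w, ⟨hw, h1⟩, rfl⟩
  refine ⟨hxQ w hw, ?_⟩
  show (x * w * x⁻¹) * (x * m * x⁻¹) * (x * w * x⁻¹)⁻¹ * (x * m * x⁻¹)⁻¹ ∈ Z
  have h2 : (x * w * x⁻¹) * (x * m * x⁻¹) * (x * w * x⁻¹)⁻¹ * (x * m * x⁻¹)⁻¹ = x * (w * m * w⁻¹ * m⁻¹) * x⁻¹ := by
    group
  rw [h2, hx _ h1, mul_inv_cancel_right]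
  exact h1

theorem card_CW_conj [Finite G] {m x : G} (hx : ∀ z ∈ Z, x * z = z * x) (hxQ : ∀ w ∈ Q, x * w * x⁻¹ ∈ Q) :
    Nat.card ↥(CW hZ m) ≤ Nat.card ↥(CW hZ (x * m * x⁻¹)) := by
  rw [← card_map_of_injective (f := (MulAut.conj x).toMonoidHom) (MulAut.conj x).injective]
  exact Nat.card_le_card_of_injective _ (inclusion_injective (CW_conj_le hZ hx hxQ))

/-- **`|Q : C(l x l⁻¹ x⁻¹)| ≤ |Q : C(l)|²`** -/
theorem relIndex_CW_le [Finite G] {l x : G} (hl : ∀ z ∈ Z, l * z = z * l) (hx : ∀ z ∈ Z, x * z = z * x)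
    (hxQ : ∀ w ∈ Q, x * w * x⁻¹ ∈ Q) :
    (CW hZ (l * x * l⁻¹ * x⁻¹)).relIndex Q ≤ (CW hZ l).relIndex Q * (CW hZ l).relIndex Q := by
  have hli : ∀ z ∈ Z, l⁻¹ * z = z * l⁻¹ := by
    intro z hz
    have := hl z hz
    calc l⁻¹ * z = l⁻¹ * (z * l) * l⁻¹ := by group
      _ = z * l⁻¹ := by rw [← this]; group
  have h1 : l * x * l⁻¹ * x⁻¹ = l * (x * l⁻¹ * x⁻¹) := by group
  rw [h1]
  have h2 := relIndex_le_of_le_left (L := Q) (CW_mul hZ (m := l) (m' := x * l⁻¹ * x⁻¹) hl)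
    (index_ne_zero_of_finite (H := (CW hZ l ⊓ CW hZ (x * l⁻¹ * x⁻¹)).subgroupOf Q))
  refine h2.trans ((relIndex_inf_le).trans (Nat.mul_le_mul_left _ ?_))
  -- compare by cardinalities
  have h3 : Nat.card ↥(CW hZ l) ≤ Nat.card ↥(CW hZ (x * l⁻¹ * x⁻¹)) :=
    (Nat.card_le_card_of_injective _ (inclusion_injective (CW_inv_le hZ hl))).trans (card_CW_conj hZ hx hxQ)
  have h4 : ∀ m, (CW hZ m).relIndex Q * Nat.card ↥(CW hZ m) = Nat.card Q := by
    intro m
    have := index_mul_card ((CW hZ m).subgroupOf Q)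
    rw [← this]
    congr 1
    exact (Nat.card_congr (subgroupOfEquivOfLe (CW_le hZ m)).toEquiv).symm
  have h5 : (CW hZ (x * l⁻¹ * x⁻¹)).relIndex Q * Nat.card ↥(CW hZ l) ≤ (CW hZ l).relIndex Q * Nat.card ↥(CW hZ l) :=
    calc _ ≤ (CW hZ (x * l⁻¹ * x⁻¹)).relIndex Q * Nat.card ↥(CW hZ (x * l⁻¹ * x⁻¹)) := Nat.mul_le_mul_left _ h3
      _ = _ := by rw [h4, h4]
  exact Nat.le_of_mul_le_mul_right h5 Nat.card_pos

theorem relIndex_mul_card [Finite G] (m : G) : (CW hZ m).relIndex Q * Nat.card ↥(CW hZ m) = Nat.card Q := by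
  have := index_mul_card ((CW hZ m).subgroupOf Q)
  rw [← this]
  congr 1
  exact (Nat.card_congr (subgroupOfEquivOfLe (CW_le hZ m)).toEquiv).symm

end Cfsg.Agent.H351.FR
end

-- part: H351/FR/X
section
/-!
# Box (X) of `F₄(q)` (S2452): the scalars of the torus, the reduction to products of two long root elements (helper351)

* `tw μ` : the torus element `h_θ(μ)`: trivial on `MM K`, scalar `μ` on the 14 roots of level one;
* `relIndex_q` : `|Q : CW(l)|` is a power of `q`, `l ∈ MM K`;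
* `le_of` : `l ∈ MM K`, `q ^ 5 |CW(m)| ≤ q ^ 15` for all `m = a y a⁻¹ b y' b⁻¹ ≠ 1`, `l` not central in `MM K`:
  `|CW(l)| ≤ q ^ 12`.
-/

set_option autoImplicit false
set_option linter.unusedSectionVars false

namespace Cfsg.Agent.H351.FR.X

open CoxeterSystem Cfsg.Agent.ChevalleyStructure.CoxeterGeom Cfsg.Agent.Tits.Roots Cfsg.Agent.Tits.Core
  Cfsg.Agent.Tits.Exchange Cfsg.Agent.Nodes.Reps Cfsg.Agent.Nodes.BNOf Cfsg.Agent.Nodes.StabComb
  Cfsg.Agent.Nodes.Bruhat Cfsg.Agent.Nodes.OppDec Cfsg.Agent.Nodes.LeviDec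
  Cfsg.Agent.Nodes.RGDChev Cfsg.Agent.KFacts.RgdPar Cfsg.Agent.KFacts.RgdChevCoord
  Cfsg.Agent.H225.PPow Cfsg.Agent.H701.F43.Cent Cfsg.Agent.H797.FQ Cfsg.Agent.OddHalf.NI.ModelChev
open Cfsg.Lie Cfsg.Agent.ChevalleyStructure Cfsg.Agent.ChevalleyStructure.CoxeterGeomTypes
open Cfsg.Agent.H520.FC (PK VK XT)
open Cfsg.Agent.H351.FR

universe u

variable {K : Type u} [Field K]

/-- the coefficients of `θ^∨` -/
def cth : Fin 4 → ℤ := ![1, 2, 3, 2]

theorem tab_cth : ∀ r < chevF4.nroots, ∑ i : Fin 4, cth i * chevF4.cartan (i : ℕ) r = vec chevF4 4 r 3 := by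
  decide +kernel

theorem tab_lev : ∀ r ∈ L14, r < chevF4.nroots ∧ vec chevF4 4 r 3 = 1 := by decide +kernel

/-- `h_θ(μ)` -/
noncomputable def tw (μ : Kˣ) : ↥(chevF4.group K) := th hF fun i => μ ^ cth i

theorem tw_mem (μ : Kˣ) : tw μ ∈ TT chevF4 K := (thT hF fun i => μ ^ cth i).2

theorem prod_zpow' {ι : Type*} (s : Finset ι) (a : Kˣ) (c : ι → ℤ) : ∏ i ∈ s, a ^ c i = a ^ ∑ i ∈ s, c i := by
  classical
  induction s using Finset.induction_on with
  | empty => simp
  | insert i s hi ih => rw [Finset.prod_insert hi, Finset.sum_insert hi, ih, zpow_add]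

theorem ch_tw (μ : Kˣ) {r : ℕ} (hr : r < chevF4.nroots) :
    ch hF (vec chevF4 4 r) (tw μ) = ((μ ^ vec chevF4 4 r 3 : Kˣ) : K) := by
  have h1 : chH hF hr (thT hF fun i => μ ^ cth i) = ch hF (vec chevF4 4 r) (tw μ) := rfl
  rw [← h1, chH_thT, ← tab_cth r hr]
  have h2 : ∀ i : Fin 4, ((μ ^ cth i : Kˣ) : K) ^ chevF4.cartan (i : ℕ) r =
      ((μ ^ (cth i * chevF4.cartan (i : ℕ) r) : Kˣ) : K) := by
    intro i
    rw [zpow_mul, ← Units.val_zpow_eq_zpow_val]
  rw [Finset.prod_congr rfl fun i _ => h2 i, ← Units.coe_prod, prod_zpow']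

theorem conj_xc (μ : Kˣ) {r : ℕ} (hr : r < chevF4.nroots) (a : K) :
    tw μ * xc hF (vec chevF4 4 r) a * (tw μ)⁻¹ = xc hF (vec chevF4 4 r) (((μ ^ vec chevF4 4 r 3 : Kˣ) : K) * a) := by
  rw [(act hF hr (tw_mem μ)).2 a, ch_tw μ hr]

theorem xc_e {r : ℕ} (hr : r < chevF4.nroots) (a : K) : xc hF (vec chevF4 4 r) a = e r a := Subtype.ext (coe_xc hF hr a)

theorem conj_e (μ : Kˣ) {r : ℕ} (hr : r ∈ L14) (a : K) : tw μ * e r a * (tw μ)⁻¹ = e r ((μ : K) * a) := by
  have h1 := conj_xc μ (tab_lev r hr).1 a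
  rwa [xc_e (tab_lev r hr).1, xc_e (tab_lev r hr).1, (tab_lev r hr).2, zpow_one] at h1

theorem tw_comm (μ : Kˣ) : ∀ m ∈ MM K, tw μ * m = m * tw μ := by
  have h1 : MM K ≤ Subgroup.centralizer ({tw μ} : Set ↥(chevF4.group K)) := by
    refine RGD.Sup_le fun x hx => ?_
    obtain ⟨r, hr, rfl⟩ := mem_RootsJ_iff.1 hx
    intro y hy
    obtain ⟨a, rfl⟩ := (mem_XX_vec hF (lt_idxM r hr)).1 hy
    rw [Subgroup.mem_centralizer_singleton_iff]
    have h2 := conj_xc μ (lt_idxM r hr) a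
    rw [xc_e (lt_idxM r hr), (_root_.Cfsg.Agent.H701.F43.Cent.tabM r (lt_idxM r hr)).2 hr, zpow_zero, Units.val_one, one_mul,
      xc_e (lt_idxM r hr), mul_inv_eq_iff_eq_mul] at h2
    first
      | fail
      | exact h2.symm
  intro m hm
  have h2 := Subgroup.mem_centralizer_singleton_iff.1 (h1 hm)
  first
    | fail
    | exact h2.symm

variable [Finite K]

theorem hZ : ∀ w ∈ VV K, ∀ z ∈ XT K, w * z = z * w := fun _ hw _ hz => comm_theta (Subgroup.mem_sup_left hw) hz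

theorem hZM : ∀ w ∈ MM K, ∀ z ∈ XT K, w * z = z * w := fun _ hw _ hz => comm_theta (Subgroup.mem_sup_right hw) hz

theorem XT_le : XT K ≤ VV K := fun _ hz => by
  obtain ⟨t, rfl⟩ := (mem_XX_vec hF (by rw [nroots]; norm_num)).1 hz
  exact e_mem_VV (by decide) t

theorem conj_VV {m x : ↥(chevF4.group K)} (hm : m ∈ MM K) (hx : x ∈ VV K) : m * x * m⁻¹ ∈ VV K := by
  obtain ⟨p, hpc⟩ := CharP.exists K
  have : Fact p.Prime := ⟨CharP.char_is_prime K p⟩
  exact (Subgroup.mem_normalizer_iff.1 (MM_le_normalizer (K := K) (p := p) hm) x).1 hx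

theorem tw_VV (μ : Kˣ) {x : ↥(chevF4.group K)} (hx : x ∈ VV K) : tw μ * x * (tw μ)⁻¹ ∈ VV K := by
  obtain ⟨p, hpc⟩ := CharP.exists K
  have : Fact p.Prime := ⟨CharP.char_is_prime K p⟩
  exact (Subgroup.mem_normalizer_iff.1 (TT_le_normalizer (K := K) (p := p) (tw_mem μ)) x).1 hx

theorem tw_XT (μ : Kˣ) {z : ↥(chevF4.group K)} (hz : z ∈ XT K) : tw μ * z * (tw μ)⁻¹ ∈ XT K := by
  have h47 : 47 < chevF4.nroots := by rw [nroots]; norm_num
  obtain ⟨t, rfl⟩ := (mem_XX_vec hF h47).1 hz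
  have h1 := conj_xc μ h47 t
  rw [xc_e h47, xc_e h47] at h1
  exact (mem_XX_vec hF h47).2 ⟨_, h1.symm⟩

theorem gen : VV K ≤ XT K ⊔ ⨆ i : ↥L14.toFinset, Subgroup.closure (Set.range (e (K := K) (i : ℕ))) := by
  intro u hu
  obtain ⟨c, b, rfl⟩ := exists_R hu
  refine mul_mem ?_ (Subgroup.mem_sup_left ((mem_XX_vec hF (by rw [nroots]; norm_num)).2 ⟨b, rfl⟩))
  refine Subgroup.mem_sup_right (list_prod_mem ?_)
  intro x hx
  obtain ⟨s, hs, rfl⟩ := List.mem_map.1 hx
  exact (le_iSup (fun i : ↥L14.toFinset => Subgroup.closure (Set.range (e (K := K) (i : ℕ)))) ⟨s, List.mem_toFinset.2 hs⟩)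
    (Subgroup.subset_closure ⟨_, rfl⟩)

theorem relIndex_q {l : ↥(chevF4.group K)} (hl : l ∈ MM K) : ∃ k, (CW (hZ (K := K)) l).relIndex (VV K) = Nat.card K ^ k := by
  classical
  refine relIndex_pow (K := K) (ι := ↥L14.toFinset) (Z := XT K) XT_le
    (fun a ha b hb => Cfsg.Agent.H374.FR.Comm.com' a ha b hb) hZ (fun i a => e (i : ℕ) a)
    (fun i a => e_mem_VV (L14_sub _ (List.mem_toFinset.1 i.2)) a) (fun i a b => ex_add hF _ a b) gen tw
    (fun μ i a => conj_e μ (List.mem_toFinset.1 i.2) a) (fun μ z hz => tw_VV μ hz) (fun μ z hz => tw_XT μ hz) ?_ ?_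
  · intro z hz
    refine ⟨XT_le hz, ?_⟩
    have h1 : z * l * z⁻¹ * l⁻¹ = 1 := by
      rw [← hZM l hl z hz]
      group
    rw [h1]
    exact one_mem _
  · rintro μ w ⟨hw, h1⟩
    refine ⟨tw_VV μ hw, ?_⟩
    have h2 : tw μ * w * (tw μ)⁻¹ * l * (tw μ * w * (tw μ)⁻¹)⁻¹ * l⁻¹ = tw μ * (w * l * w⁻¹ * l⁻¹) * (tw μ)⁻¹ := by
      have h3 := tw_comm μ l hl
      have h4 : (tw μ)⁻¹ * l = l * (tw μ)⁻¹ := by
        calc (tw μ)⁻¹ * l = (tw μ)⁻¹ * (l * tw μ) * (tw μ)⁻¹ := by group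
          _ = l * (tw μ)⁻¹ := by rw [← h3]; group
      have h5 : (tw μ)⁻¹ * l⁻¹ = l⁻¹ * (tw μ)⁻¹ := by
        calc (tw μ)⁻¹ * l⁻¹ = (l * tw μ)⁻¹ := by group
          _ = l⁻¹ * (tw μ)⁻¹ := by rw [← h3]; group
      calc tw μ * w * (tw μ)⁻¹ * l * (tw μ * w * (tw μ)⁻¹)⁻¹ * l⁻¹
          = tw μ * w * ((tw μ)⁻¹ * l) * tw μ * w⁻¹ * ((tw μ)⁻¹ * l⁻¹) := by group
        _ = tw μ * (w * l * w⁻¹ * l⁻¹) * (tw μ)⁻¹ := by rw [h4, h5]; group
    rw [h2]
    exact tw_XT μ h1

/-- the statement of helper296, helper7 -/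
def CardTwo (K : Type u) [Field K] : Prop :=
  ∀ a ∈ MM K, ∀ b ∈ MM K, ∀ y ∈ XX chevF4 4 K (sr 2), ∀ y' ∈ XX chevF4 4 K (sr 2),
    (a * y * a⁻¹) * (b * y' * b⁻¹) ≠ 1 →
    Nat.card K ^ 5 * Nat.card {x : ↥(VV K) // (x : ↥(chevF4.group K)) * ((a * y * a⁻¹) * (b * y' * b⁻¹)) *
      (x : ↥(chevF4.group K))⁻¹ * ((a * y * a⁻¹) * (b * y' * b⁻¹))⁻¹ ∈ XT K} ≤ Nat.card K ^ 15

theorem le_of (H : CardTwo K) (h3 : 3 ≤ Nat.card K) {l : ↥(chevF4.group K)} (hl : l ∈ MM K)
    (hne : ∃ m ∈ MM K, m * l ≠ l * m) : Nat.card ↥(CW (hZ (K := K)) l) ≤ Nat.card K ^ 12 := by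
  obtain ⟨m, hm, y, hy, hxy⟩ := Cfsg.Agent.H744.FR.exists_x h3 hne
  have hyM : y ∈ MM K := by
    refine RGD.le_Sup ?_ hy
    rw [mem_RootsJ]
    exact ⟨isRoot_sr _ _ 2, sr_ne (by decide)⟩
  set x := m * y * m⁻¹ with hx
  have hxM : x ∈ MM K := mul_mem (mul_mem hm hyM) (inv_mem hm)
  have h1 : l * x * l⁻¹ * x⁻¹ = ((l * m) * y * (l * m)⁻¹) * (m * y⁻¹ * m⁻¹) := by
    rw [hx]
    group
  have h2 : l * x * l⁻¹ * x⁻¹ ≠ 1 := by
    intro h4
    apply hxy
    calc l * x = (l * x * l⁻¹ * x⁻¹) * (x * l) := by group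
      _ = x * l := by rw [h4, one_mul]
  have h4 := H (l * m) (mul_mem hl hm) m hm y hy y⁻¹ (inv_mem hy) (by rw [← h1]; exact h2)
  rw [← h1, card_CW (hZ (K := K))] at h4
  have h5 := relIndex_CW_le (hZ (K := K)) (l := l) (x := x) (hZM l hl) (hZM x hxM) fun w hw => conj_VV hxM hw
  have h6 := relIndex_mul_card (hZ (K := K)) (l * x * l⁻¹ * x⁻¹)
  have h7 := relIndex_mul_card (hZ (K := K)) l
  rw [card_VV] at h6 h7
  obtain ⟨k, hk⟩ := relIndex_q hl
  rw [hk] at h5 h7
  have hq : 1 < Nat.card K := by omega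
  have hc : 0 < Nat.card ↥(CW (hZ (K := K)) (l * x * l⁻¹ * x⁻¹)) := Nat.card_pos
  have h8 : Nat.card K ^ 5 ≤ Nat.card K ^ (k + k) := by
    rw [pow_add]
    refine le_trans ?_ h5
    refine Nat.le_of_mul_le_mul_right ?_ hc
    rw [h6]
    exact h4
  have h9 : 5 ≤ k + k := (Nat.pow_le_pow_iff_right hq).1 h8
  have h10 : k ≤ 15 := by
    refine (Nat.pow_le_pow_iff_right hq).1 ?_
    rw [← h7]
    exact Nat.le_mul_of_pos_right _ Nat.card_pos
  have h11 : Nat.card ↥(CW (hZ (K := K)) l) = Nat.card K ^ (15 - k) := by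
    refine Nat.eq_of_mul_eq_mul_left (pow_pos (by omega : 0 < Nat.card K) k) ?_
    rw [h7, ← pow_add]
    congr 1
    omega
  rw [h11]
  exact Nat.pow_le_pow_right (by omega) (by omega)

/-- the statement of helper744 -/
def Central (K : Type u) [Field K] : Prop :=
  ∀ l ∈ MM K, l ≠ 1 → (∀ m ∈ MM K, m * l = l * m) →
    Nat.card {x : ↥(VV K) // (x : ↥(chevF4.group K)) * l * (x : ↥(chevF4.group K))⁻¹ * l⁻¹ ∈ XT K} ≤ Nat.card K ^ 12

/-- **Box (X).** -/
theorem x_box_of (H : CardTwo K) (H' : Central K) (h3 : 3 ≤ Nat.card K) {g : ↥(chevF4.group K)}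
    (hg : g ∈ VV K ⊔ MM K) (hgQ : g ∉ VV K) :
    Nat.card {x : ↥(VV K) // (x : ↥(chevF4.group K)) * g * (x : ↥(chevF4.group K))⁻¹ * g⁻¹ ∈ XT K} ≤
      Nat.card K ^ 12 := by
  obtain ⟨p, hpc⟩ := CharP.exists K
  have : Fact p.Prime := ⟨CharP.char_is_prime K p⟩
  have hg3 : g ∈ ((VV K ⊔ MM K : Subgroup ↥(chevF4.group K)) : Set ↥(chevF4.group K)) := hg
  rw [Subgroup.coe_mul_of_right_le_normalizer_left _ _ (MM_le_normalizer p), Set.mem_mul] at hg3
  obtain ⟨v, hv, l, hl, rfl⟩ := hg3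
  have hv' : v ∈ VV K := hv
  have hl' : l ∈ MM K := hl
  have hl1 : l ≠ 1 := by
    rintro rfl
    exact hgQ (by rwa [mul_one])
  have hl2 : Nat.card ↥(CW (hZ (K := K)) l) ≤ Nat.card K ^ 12 := by
    by_cases h : ∀ m ∈ MM K, m * l = l * m
    · have := H' l hl' hl1 h
      rwa [card_CW (hZ (K := K))] at this
    · push Not at h
      exact le_of H h3 hl' h
  rw [card_CW (hZ (K := K))]
  refine le_trans (Nat.card_le_card_of_injective _ (Subgroup.inclusion_injective ?_)) hl2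
  rintro w ⟨hw, h1⟩
  refine ⟨hw, ?_⟩
  have h4 := Cfsg.Agent.H374.FR.Comm.com' w hw v hv'
  have h2 : w * (v * l) * w⁻¹ * (v * l)⁻¹ = (w * v * w⁻¹ * v⁻¹) * (v * (w * l * w⁻¹ * l⁻¹) * v⁻¹) := by group
  rw [h2] at h1
  have h5 := mul_mem (inv_mem h4) h1
  rw [inv_mul_cancel_left] at h5
  have h6 : w * l * w⁻¹ * l⁻¹ = v⁻¹ * (v * (w * l * w⁻¹ * l⁻¹) * v⁻¹) * v := by group
  rw [h6, hZ v⁻¹ (inv_mem hv') _ h5, inv_mul_cancel_right]
  exact h5

end Cfsg.Agent.H351.FR.X
end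

-- part: H7/FR/Red
section
/-!
# S2452, `F₄(q)`, `q` odd: pairs of long root groups of the Levi subgroup `C₃` (helper7)

`red` : for `k ∈ MM K` there is `p ∈ MM K` with `p X₄₁ p⁻¹ ≤ X₄₁` and `p (k X₄₁ k⁻¹) p⁻¹ ≤ X_s`, `s = 41, 30` or `6`
(`41 = - 6` is the highest root of `C₃`, `30` is orthogonal to it).
-/

set_option autoImplicit false
set_option linter.unusedSectionVars false

namespace Cfsg.Agent.H7.FR

open CoxeterSystem Cfsg.Agent.ChevalleyStructure.CoxeterGeom Cfsg.Agent.Tits.Roots Cfsg.Agent.Tits.Core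
  Cfsg.Agent.Tits.Exchange Cfsg.Agent.Nodes.Reps Cfsg.Agent.Nodes.BNOf Cfsg.Agent.Nodes.StabComb
  Cfsg.Agent.Nodes.Bruhat Cfsg.Agent.Nodes.OppDec Cfsg.Agent.Nodes.LeviDec Cfsg.Agent.Nodes.NormX
  Cfsg.Agent.Nodes.Coroot Cfsg.Agent.Nodes.RGDChev Cfsg.Agent.KFacts.RgdPar Cfsg.Agent.KFacts.RgdTI
  Cfsg.Agent.KFacts.RgdCent Cfsg.Agent.KFacts.RgdChevCoord Cfsg.Agent.Nodes.ChevCls
  Cfsg.Agent.OddHalf.NI.ModelChev Cfsg.Agent.H225.PPow
open Cfsg.Lie Cfsg.Agent.ChevalleyStructure Cfsg.Agent.ChevalleyStructure.Elts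
  Cfsg.Agent.ChevalleyStructure.RootVec Cfsg.Agent.ChevalleyStructure.NPerm
  Cfsg.Agent.ChevalleyStructure.CoxeterGeomTypes
open Cfsg.Agent.H701.F43.Cent (hF cF finW nroots J3 MM)
open Cfsg.Agent.FixBN.FieldRGD (uu vv dd ww)
open Cfsg.Agent.H7.FC

universe u

/-- the long roots of `C₃` -/
def L6 : List ℕ := [41, 6, 30, 25, 22, 17]

theorem tabL : ∀ i : Fin 4, i ≠ 3 → ∀ r ∈ L6, chevF4.reflectRoot i r ∈ L6 := by decide +kernel

theorem ltL : ∀ r ∈ L6, r < chevF4.nroots := by decide +kernel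

theorem pos_M_tab : ∀ r < chevF4.nroots, (∀ i : Fin 4, 0 ≤ vec chevF4 4 r i) → vec chevF4 4 r 3 = 0 →
    r = 41 ∨ (41 ≠ r ∧ 41 ≠ chevF4.neg r ∧ chevF4.commTerms r 41 = []) := by decide +kernel

theorem word_mem (ω : List (Fin 4)) (hω : ∀ i ∈ ω, i ≠ 3) : wact chevF4 ω 41 ∈ L6 := by
  induction ω with
  | nil => decide
  | cons i ω ih => exact tabL i (hω i (by simp)) _ (ih fun j hj => hω j (by simp [hj]))

/-- the image of the root `41` under `W_J` -/
theorem rep_mem {w : CoxeterMatrix.F₄.Group} (hw : w ∈ WJ cF J3) :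
    ∃ r ∈ L6, rep cF hF.isCartan w (vec chevF4 4 41) = vec chevF4 4 r := by
  obtain ⟨ω, hω, rfl⟩ := exists_word_of_mem_WJ cF hw
  exact ⟨_, word_mem ω hω, rep_word hF cF ω (by rw [nroots]; norm_num)⟩

variable {K : Type u} [Field K] [Finite K]

section

variable (p : ℕ) [Fact p.Prime] [CharP K p]

include p in
/-- `U ∩ M` centralises `X₄₁` -/
theorem cen41 {u v : ↥(chevF4.group K)} (hu : u ∈ UJ cF hF.isCartan (XX chevF4 4 K) J3)
    (hv : v ∈ XX chevF4 4 K (vec chevF4 4 41)) : u * v = v * u := by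
  have h41 : 41 < chevF4.nroots := by rw [nroots]; norm_num
  have h1 : UJ cF hF.isCartan (XX chevF4 4 K) J3 ≤ Subgroup.centralizer {v} := by
    refine RGD.Sup_le fun x hx => ?_
    obtain ⟨hx1, hx2, hx3⟩ := hx
    obtain ⟨r, hr, rfl⟩ := (isRoot_iff hF cF x).1 hx1
    intro y hy
    rw [Subgroup.mem_centralizer_singleton_iff]
    obtain ⟨c, hc⟩ := (_root_.Cfsg.Agent.H7.FC.mem_XX p hr).1 hy
    obtain ⟨d, hd⟩ := (_root_.Cfsg.Agent.H7.FC.mem_XX p h41).1 hv
    apply Subtype.ext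
    rw [Subgroup.coe_mul, Subgroup.coe_mul, hc, hd]
    rcases pos_M_tab r hr hx2 (hx3 3 fun h => h rfl) with h | ⟨h3, h4, h5⟩
    · subst h
      rw [XG_add, XG_add, add_comm]
    · exact (comm_XG hr h41 h3 h4 h5 c d).symm.eq
  exact Subgroup.mem_centralizer_singleton_iff.1 (h1 hu)

include p in
theorem mem_BJ {b : ↥(chevF4.group K)} (hb : b ∈ BJ cF hF.isCartan (TT chevF4 K) (XX chevF4 4 K) J3) :
    ∃ u ∈ UJ cF hF.isCartan (XX chevF4 4 K) J3, ∃ t ∈ TT chevF4 K, b = u * t := by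
  have hT : TT chevF4 K ≤ Subgroup.normalizer (UJ cF hF.isCartan (XX chevF4 4 K) J3 : Set ↥(chevF4.group K)) :=
    (rgd (K := K) hF cF p).T_le_normalizer fun _ hx => hx.1
  have h1 : b ∈ ((BJ cF hF.isCartan (TT chevF4 K) (XX chevF4 4 K) J3 : Subgroup _) : Set ↥(chevF4.group K)) := hb
  unfold BJ at h1
  rw [Subgroup.coe_mul_of_left_le_normalizer_right _ _ hT, Set.mem_mul] at h1
  obtain ⟨t, ht, u, hu, rfl⟩ := h1
  exact ⟨t * u * t⁻¹, (Subgroup.mem_normalizer_iff.1 (hT ht) u).1 hu, t, ht, by group⟩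

include p in
theorem tor_XX {t : ↥(chevF4.group K)} (ht : t ∈ TT chevF4 K) {r : ℕ} (hr : r < chevF4.nroots)
    {v : ↥(chevF4.group K)} (hv : v ∈ XX chevF4 4 K (vec chevF4 4 r)) :
    t * v * t⁻¹ ∈ XX chevF4 4 K (vec chevF4 4 r) := by
  have h1 : cj t (XX chevF4 4 K (vec chevF4 4 r)) = XX chevF4 4 K (vec chevF4 4 r) :=
    (rgd (K := K) hF cF p).tor _ ((isRoot_iff hF cF _).2 ⟨r, hr, rfl⟩) t ht
  exact h1.le ⟨v, hv, rfl⟩

/-- `n_i ∈ M` -/
theorem nc_mem (i : Fin 4) (hi : i ≠ 3) : nc hF K i ∈ MM K := by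
  have h1 : nc hF K i ∈ XX chevF4 4 K (sr i) ⊔ XX chevF4 4 K (-sr i) := by
    rw [← range_sl hF i, ← sl_ww hF i]
    exact ⟨_, rfl⟩
  have h5 : sr i ∈ RootsJ cF hF.isCartan J3 := by
    rw [Cfsg.Agent.H701.F43.Cent.mem_RootsJ]
    exact ⟨isRoot_sr _ _ i, sr_ne (Ne.symm hi)⟩
  have h6 : -sr i ∈ RootsJ cF hF.isCartan J3 := by
    rw [Cfsg.Agent.H701.F43.Cent.mem_RootsJ] at h5 ⊢
    exact ⟨h5.1.neg, by rw [Pi.neg_apply, h5.2, neg_zero]⟩
  exact (sup_le (RGD.le_Sup h5) (RGD.le_Sup h6)) h1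

include p in
/-- representatives of words in `M` -/
theorem exists_rp (ω : List (Fin 4)) (hω : ∀ i ∈ ω, i ≠ 3) : ∃ m ∈ MM K, ∀ r < chevF4.nroots,
    ∀ v ∈ XX chevF4 4 K (vec chevF4 4 r), m * v * m⁻¹ ∈ XX chevF4 4 K (vec chevF4 4 (wact chevF4 ω r)) := by
  have R := rgd (K := K) hF cF p
  have key : ∃ m ∈ MM K, Rp cF R.nsys (cF.wordProd ω) m := by
    induction ω with
    | nil => exact ⟨1, one_mem _, by rw [wordProd_nil]; exact rp_one⟩
    | cons i ω ih =>
      obtain ⟨m, hm, hrp⟩ := ih fun j hj => hω j (by simp [hj])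
      exact ⟨nc hF K i * m, mul_mem (nc_mem i (hω i (by simp))) hm, by
        rw [wordProd_cons]; exact (rp_simple cF R.nsys i).mul hrp⟩
  obtain ⟨m, hm, hrp⟩ := key
  refine ⟨m, hm, fun r hr v hv => ?_⟩
  have h1 : cj m (XX chevF4 4 K (vec chevF4 4 r)) =
      XX chevF4 4 K (rep cF hF.isCartan (cF.wordProd ω) (vec chevF4 4 r)) :=
    R.conj_rp hrp ((isRoot_iff hF cF _).2 ⟨r, hr, rfl⟩)
  have h2 : m * v * m⁻¹ ∈ XX chevF4 4 K (rep cF hF.isCartan (cF.wordProd ω) (vec chevF4 4 r)) :=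
    h1.le ⟨v, hv, rfl⟩
  rw [rep_word hF cF ω hr] at h2
  exact h2

end

/-- a word for each long root -/
def wd (r : ℕ) : List (Fin 4) := if r = 25 then [1] else if r = 22 then [1, 2] else if r = 17 then [1, 2, 1] else []

theorem wd_tab : ∀ r ∈ L6, (∀ i ∈ wd r, i ≠ 3) ∧ wact chevF4 (wd r) 41 = 41 ∧ wact chevF4 (wd r) r ∈ [41, 30, 6] := by
  decide +kernel

/-- **Pairs of long root groups of `C₃`.** -/
theorem red {k : ↥(chevF4.group K)} (hk : k ∈ MM K) : ∃ q ∈ MM K, ∃ s ∈ [41, 30, 6],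
    (∀ v ∈ XX chevF4 4 K (vec chevF4 4 41), q * v * q⁻¹ ∈ XX chevF4 4 K (vec chevF4 4 41)) ∧
    ∀ v ∈ XX chevF4 4 K (vec chevF4 4 41), q * (k * v * k⁻¹) * q⁻¹ ∈ XX chevF4 4 K (vec chevF4 4 s) := by
  obtain ⟨p, hpc⟩ := CharP.exists K
  have : Fact p.Prime := ⟨CharP.char_is_prime K p⟩
  have R := rgd (K := K) hF cF p
  have h41 : 41 < chevF4.nroots := by rw [nroots]; norm_num
  have hkL : k ∈ LJ cF hF.isCartan (TT chevF4 K) (XX chevF4 4 K) J3 :=
    (le_sup_right : MM K ≤ LJ cF hF.isCartan (TT chevF4 K) (XX chevF4 4 K) J3) hk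
  obtain ⟨w, hw, b₁, hb₁, n, hn, b₂, hb₂, rfl⟩ := exists_cellJ R hkL
  obtain ⟨u₁, hu₁, t₁, ht₁, rfl⟩ := mem_BJ p hb₁
  obtain ⟨u₂, hu₂, t₂, ht₂, rfl⟩ := mem_BJ p hb₂
  obtain ⟨r, hr, hwr⟩ := rep_mem hw
  obtain ⟨m, hm, hmX⟩ := exists_rp (K := K) p (wd r) (wd_tab r hr).1
  have hUM : UJ cF hF.isCartan (XX chevF4 4 K) J3 ≤ MM K := RGD.Sup_mono (PosJ_subset _)
  refine ⟨m * u₁⁻¹, mul_mem hm (inv_mem (hUM hu₁)), _, (wd_tab r hr).2.2, fun v hv => ?_, fun v hv => ?_⟩
  · have h1 := hmX 41 h41 v hv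
    rw [(wd_tab r hr).2.1] at h1
    have h2 : m * u₁⁻¹ * v * (m * u₁⁻¹)⁻¹ = m * v * m⁻¹ := by
      have h3 := cen41 p (inv_mem hu₁) hv
      calc m * u₁⁻¹ * v * (m * u₁⁻¹)⁻¹ = m * (u₁⁻¹ * v) * u₁ * m⁻¹ := by group
        _ = _ := by rw [h3]; group
    rw [h2]
    exact h1
  · have h1 : u₂ * t₂ * v * (u₂ * t₂)⁻¹ ∈ XX chevF4 4 K (vec chevF4 4 41) := by
      have h2 := tor_XX p ht₂ h41 hv
      have h3 := cen41 p hu₂ h2
      have h4 : u₂ * t₂ * v * (u₂ * t₂)⁻¹ = t₂ * v * t₂⁻¹ := by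
        calc u₂ * t₂ * v * (u₂ * t₂)⁻¹ = u₂ * (t₂ * v * t₂⁻¹) * u₂⁻¹ := by group
          _ = _ := by rw [h3]; group
      rw [h4]
      exact h2
    have h5 : n * (u₂ * t₂ * v * (u₂ * t₂)⁻¹) * n⁻¹ ∈ XX chevF4 4 K (vec chevF4 4 r) := by
      have h5a : cj n (XX chevF4 4 K (vec chevF4 4 41)) = XX chevF4 4 K (rep cF hF.isCartan w (vec chevF4 4 41)) :=
        R.conj_rp hn ((isRoot_iff hF cF _).2 ⟨41, h41, rfl⟩)
      have h5b : n * (u₂ * t₂ * v * (u₂ * t₂)⁻¹) * n⁻¹ ∈ XX chevF4 4 K (rep cF hF.isCartan w (vec chevF4 4 41)) :=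
        h5a.le ⟨_, h1, rfl⟩
      rw [hwr] at h5b
      exact h5b
    have h6 := tor_XX p ht₁ (ltL r hr) h5
    have h7 := hmX r (ltL r hr) _ h6
    have h8 : m * u₁⁻¹ * (u₁ * t₁ * n * (u₂ * t₂) * v * (u₁ * t₁ * n * (u₂ * t₂))⁻¹) * (m * u₁⁻¹)⁻¹ =
        m * (t₁ * (n * (u₂ * t₂ * v * (u₂ * t₂)⁻¹) * n⁻¹) * t₁⁻¹) * m⁻¹ := by group
    rw [h8]
    exact h7

/-- the same with coordinates -/
theorem red_xc {k : ↥(chevF4.group K)} (hk : k ∈ MM K) (a b : K) : ∃ q ∈ MM K, ∃ s ∈ [41, 30, 6], ∃ a' b' : K,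
    q * xc hF (vec chevF4 4 41) a * q⁻¹ = xc hF (vec chevF4 4 41) a' ∧
    q * (k * xc hF (vec chevF4 4 41) b * k⁻¹) * q⁻¹ = xc hF (vec chevF4 4 s) b' := by
  obtain ⟨p, hpc⟩ := CharP.exists K
  have : Fact p.Prime := ⟨CharP.char_is_prime K p⟩
  have h41 : 41 < chevF4.nroots := by rw [nroots]; norm_num
  have hlt : ∀ s ∈ [41, 30, 6], s < chevF4.nroots := by decide +kernel
  obtain ⟨q, hq, s, hs, h1, h2⟩ := red hk
  obtain ⟨a', ha'⟩ := (_root_.Cfsg.Agent.H7.FC.mem_XX p h41).1 (h1 _ ((_root_.Cfsg.Agent.H7.FC.mem_XX p h41).2 ⟨a, coe_xc hF h41 a⟩))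
  obtain ⟨b', hb'⟩ := (_root_.Cfsg.Agent.H7.FC.mem_XX p (hlt s hs)).1 (h2 _ ((_root_.Cfsg.Agent.H7.FC.mem_XX p h41).2 ⟨b, coe_xc hF h41 b⟩))
  refine ⟨q, hq, s, hs, a', b', Subtype.ext ?_, Subtype.ext ?_⟩
  · rw [ha', coe_xc hF h41]
  · rw [hb', coe_xc hF (hlt s hs)]

end Cfsg.Agent.H7.FR
end

-- part: H296/FR/XTwo
section
/-!
# Products of two long root elements of `C₃` on the extraspecial radical of `F₄(q)` (S2452, box (X); helper296)

* `cw m x` : `[x, m] ∈ X_θ`;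
* `card_pair` : `m = x₄₁(a) x_s(b) ≠ 1`, `s ∈ {41, 30, 6}`: `q⁵ |{x ∈ V : cw m x}| ≤ q¹⁵`;
* `card_conj` : conjugation by an element of `M`.
-/

set_option autoImplicit false
set_option linter.unusedSectionVars false

namespace Cfsg.Agent.H296.FR.X

open CoxeterSystem Cfsg.Agent.ChevalleyStructure.CoxeterGeom Cfsg.Agent.Tits.Roots Cfsg.Agent.Tits.Core
  Cfsg.Agent.Tits.Exchange Cfsg.Agent.Nodes.Reps Cfsg.Agent.Nodes.BNOf Cfsg.Agent.Nodes.StabComb
  Cfsg.Agent.Nodes.Bruhat Cfsg.Agent.Nodes.OppDec Cfsg.Agent.Nodes.LeviDec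
  Cfsg.Agent.Nodes.RGDChev Cfsg.Agent.KFacts.RgdPar Cfsg.Agent.KFacts.RgdChevCoord
  Cfsg.Agent.H225.PPow Cfsg.Agent.H701.F43.Cent Cfsg.Agent.H797.FQ
open Cfsg.Lie Cfsg.Agent.ChevalleyStructure Cfsg.Agent.ChevalleyStructure.CoxeterGeomTypes

universe u

variable {K : Type u} [Field K]

/-- the root group of the highest root -/
abbrev X47 (K : Type u) [Field K] : Subgroup ↥(chevF4.group K) := XX chevF4 4 K (vec chevF4 4 47)

theorem R_mem_iff [Finite K] {u : ↥(chevF4.group K)} {c : ℕ → K} (hu : R u c) :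
    u ∈ X47 K ↔ ∀ s ∈ L14, c s = 0 := by
  obtain ⟨b, hb⟩ := hu
  constructor
  · intro h s hs
    obtain ⟨t, ht⟩ := (mem_XX_vec hF (by rw [nroots]; norm_num)).1 h
    have h1 : E L14 c * e 47 b = E L14 0 * e 47 t := by
      rw [← hb, E_zero, one_mul]
      exact ht.symm
    exact (unique h1).1 s hs
  · intro h
    have h1 : u = e 47 b := by
      rw [hb, E_congr (d := 0) h, E_zero, one_mul]
    rw [h1]
    exact (mem_XX_vec hF (by rw [nroots]; norm_num)).2 ⟨b, rfl⟩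

/-- `[x, m] ∈ X_θ` -/
def cw (m x : ↥(chevF4.group K)) : Prop := x * m * x⁻¹ * m⁻¹ ∈ X47 K

theorem cw_iff [Finite K] {m x : ↥(chevF4.group K)} {c c' : ℕ → K} (hx : R x c) (hy : R (m * x * m⁻¹) c') :
    cw m x ↔ ∀ s ∈ L14, c s = c' s := by
  have h1 := hx.mul hy.inv
  have h2 : x * (m * x * m⁻¹)⁻¹ = x * m * x⁻¹ * m⁻¹ := by group
  rw [h2] at h1
  unfold cw
  rw [R_mem_iff h1]
  constructor
  · intro h s hs
    have h3 := h s hs
    rw [Pi.add_apply, Pi.neg_apply] at h3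
    linear_combination h3
  · intro h s hs
    rw [Pi.add_apply, Pi.neg_apply, h s hs]
    ring

theorem conj_VV {m x : ↥(chevF4.group K)} [Finite K] (hm : m ∈ MM K) (hx : x ∈ VV K) : m * x * m⁻¹ ∈ VV K := by
  obtain ⟨p, hpc⟩ := CharP.exists K
  have : Fact p.Prime := ⟨CharP.char_is_prime K p⟩
  have h := MM_le_normalizer (K := K) (p := p) hm
  exact (Subgroup.mem_normalizer_iff.1 h x).1 hx

theorem cw_mul [Finite K] {m x x' : ↥(chevF4.group K)} (hm : m ∈ MM K) (hx : x ∈ VV K) (hx' : x' ∈ VV K)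
    (h : cw m x) (h' : cw m x') : cw m (x'⁻¹ * x) := by
  obtain ⟨c, hc⟩ := exists_R hx
  obtain ⟨d, hd⟩ := exists_R hx'
  obtain ⟨c', hc'⟩ := exists_R (conj_VV hm hx)
  obtain ⟨d', hd'⟩ := exists_R (conj_VV hm hx')
  have h1 := (cw_iff hc hc').1 h
  have h2 := (cw_iff hd hd').1 h'
  have h3 : R (m * (x'⁻¹ * x) * m⁻¹) (-d' + c') := by
    have e1 : m * (x'⁻¹ * x) * m⁻¹ = (m * x' * m⁻¹)⁻¹ * (m * x * m⁻¹) := by group
    rw [e1]
    exact hd'.inv.mul hc'
  rw [cw_iff (hd.inv.mul hc) h3]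
  intro s hs
  rw [Pi.add_apply, Pi.add_apply, Pi.neg_apply, Pi.neg_apply, h1 s hs, h2 s hs]

/-- extension by zero -/
noncomputable def xs (S : List ℕ) (f : ↥S.toFinset → K) (n : ℕ) : K := if h : n ∈ S.toFinset then f ⟨n, h⟩ else 0

theorem R_E (c : ℕ → K) : R (E L14 c) c := ⟨0, by rw [show e 47 (0 : K) = 1 from ex_zero hF 47, mul_one]⟩

/-- **the count** -/
theorem count [Finite K] {m : ↥(chevF4.group K)} (hm : m ∈ MM K) (S : List ℕ) (hn : S.Nodup) (h5 : S.length = 5)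
    (hSL : ∀ s ∈ S, s ∈ L14)
    (hinj : ∀ x (c : ℕ → K), x ∈ VV K → R x c → (∀ s ∈ L14, s ∉ S → c s = 0) → cw m x → ∀ s ∈ L14, c s = 0) :
    Nat.card K ^ 5 * Nat.card {x : ↥(VV K) // cw m (x : ↥(chevF4.group K))} ≤ Nat.card K ^ 15 := by
  classical
  have hVV : ∀ c : ℕ → K, E L14 c ∈ VV K := fun c => E_mem_VV L14_sub c
  let Φ : (↥S.toFinset → K) × {x : ↥(VV K) // cw m (x : ↥(chevF4.group K))} → ↥(VV K) := fun z =>
    z.2.1 * ⟨E L14 (xs S z.1), hVV _⟩
  have hΦ : Function.Injective Φ := by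
    rintro ⟨f, ⟨x, hx⟩⟩ ⟨f', ⟨x', hx'⟩⟩ h
    have h1 : (x : ↥(chevF4.group K)) * E L14 (xs S f) = (x' : ↥(chevF4.group K)) * E L14 (xs S f') :=
      congrArg Subtype.val h
    have h2 : (x' : ↥(chevF4.group K))⁻¹ * (x : ↥(chevF4.group K)) = E L14 (xs S f') * (E L14 (xs S f))⁻¹ := by
      rw [inv_mul_eq_iff_eq_mul, ← mul_assoc, eq_mul_inv_iff_mul_eq]
      exact h1
    have h3 : R ((x' : ↥(chevF4.group K))⁻¹ * (x : ↥(chevF4.group K))) (xs S f' + -xs S f) := by
      rw [h2]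
      exact (R_E _).mul (R_E _).inv
    have h4 := hinj _ _ (mul_mem (inv_mem x'.2) x.2) h3 (by
      intro s _ hsS
      have h5 : s ∉ S.toFinset := fun h => hsS (List.mem_toFinset.1 h)
      rw [Pi.add_apply, Pi.neg_apply, xs, xs, dif_neg h5, dif_neg h5]
      ring) (cw_mul hm x.2 x'.2 hx hx')
    have hff : f = f' := by
      funext s
      have h5 := h4 s.1 (hSL _ (List.mem_toFinset.1 s.2))
      rw [Pi.add_apply, Pi.neg_apply, xs, xs, dif_pos s.2, dif_pos s.2] at h5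
      linear_combination -h5
    subst hff
    have h6 : x = x' := Subtype.ext (mul_right_cancel h1)
    subst h6
    rfl
  have h6 := Nat.card_le_card_of_injective Φ hΦ
  have h7 : Nat.card ↥S.toFinset = 5 := by
    rw [Nat.card_eq_fintype_card, Fintype.card_coe, List.toFinset_card_of_nodup hn, h5]
  rw [Nat.card_prod, Nat.card_fun, h7, card_VV] at h6
  exact h6

theorem theta_comm {g z : ↥(chevF4.group K)} [Finite K] (hg : g ∈ MM K) (hz : z ∈ X47 K) : g * z = z * g :=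
  comm_theta (Subgroup.mem_sup_right hg) hz

/-- **the core** -/
theorem core [Finite K] {γ : ℕ} (hγ : γ ∈ idxM) {a : K} (ha : a ≠ 0) {y : ↥(chevF4.group K)} (hy : y ∈ MM K)
    {S : List ℕ}
    (hyS : ∀ x (c : ℕ → K), x ∈ VV K → R x c → (∀ s ∈ L14, s ∉ S → c s = 0) →
      ∃ c', R (y * x * y⁻¹) c' ∧ ∀ s ∈ L14, s ∉ S → c' s = 0)
    (htab : ∀ s ∈ S, ∃ t ∈ L14, t ∉ S ∧ ∃ N : ℤ, (N = 1 ∨ N = -1) ∧ ctr γ t = [(s, N, 1, 1)])
    (x : ↥(chevF4.group K)) (c : ℕ → K) (hx : x ∈ VV K) (hc : R x c) (hS : ∀ s ∈ L14, s ∉ S → c s = 0)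
    (hcw : cw (e γ a * y) x) : ∀ s ∈ L14, c s = 0 := by
  obtain ⟨c', hc', hS'⟩ := hyS x c hx hc hS
  have h1 := hc'.conj hγ a
  have h2 : e γ a * (y * x * y⁻¹) * (e γ a)⁻¹ = (e γ a * y) * x * (e γ a * y)⁻¹ := by group
  rw [h2] at h1
  have h3 := (cw_iff hc h1).1 hcw
  have h4 : ∀ s ∈ L14, c' s = 0 := by
    intro s hs
    by_cases hsS : s ∈ S
    · obtain ⟨t, ht, htS, N, hN, hctr⟩ := htab s hsS
      have h5 := h3 t ht
      rw [MM'_apply γ a c' ht, hctr, hS t ht htS, hS' t ht htS, List.map_cons, List.map_nil, List.sum_cons,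
        List.sum_nil] at h5
      simp only [pow_one, zero_add, add_zero] at h5
      have h6 : (N : K) ≠ 0 := by
        rcases hN with rfl | rfl
        · simp
        · simp
      rcases mul_eq_zero.1 h5.symm with h7 | h7
      · exact absurd h7 (mul_ne_zero h6 ha)
      · exact h7
    · exact hS' s hs hsS
  have h5 : y * x * y⁻¹ ∈ X47 K := (R_mem_iff hc').2 h4
  have h6 : x = y * x * y⁻¹ := by
    have h7 := theta_comm (inv_mem hy) h5
    calc x = y⁻¹ * (y * x * y⁻¹) * y := by group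
      _ = y * x * y⁻¹ := by rw [h7]; group
  exact (R_mem_iff hc).1 (h6 ▸ h5)

theorem e_mem_MM {r : ℕ} (hr : r ∈ idxM) (t : K) : e r t ∈ MM K :=
  RGD.le_Sup (mem_RootsJ_iff.2 ⟨r, hr, rfl⟩) ((mem_XX_vec hF (lt_idxM r hr)).2 ⟨t, rfl⟩)

/-- the sources -/
def Sr (γ : ℕ) : List ℕ := if γ = 41 then [24, 26, 29, 31, 32] else if γ = 30 then [24, 26, 36, 42, 43] else [42, 43, 44, 45, 46]

theorem tabS : ∀ γ ∈ ([41, 30, 6] : List ℕ), (Sr γ).Nodup ∧ (Sr γ).length = 5 ∧ (∀ s ∈ Sr γ, s ∈ L14) ∧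
    ∀ s ∈ Sr γ, ∃ t ∈ L14, t ∉ Sr γ ∧ (ctr γ t = [(s, 1, 1, 1)] ∨ ctr γ t = [(s, -1, 1, 1)]) := by
  decide +kernel

theorem tabSS : ∀ γ ∈ ([30, 6] : List ℕ), ∀ t ∈ L14, t ∉ Sr 41 → ∀ q ∈ ctr γ t, q.1 ∈ L14 ∧ q.1 ∉ Sr 41 ∧ q.2.2.2 ≠ 0 := by
  decide +kernel

theorem card_one [Finite K] {γ : ℕ} (hγ : γ ∈ ([41, 30, 6] : List ℕ)) {a : K} (ha : a ≠ 0) {y : ↥(chevF4.group K)}
    (hy : y ∈ MM K) (hyS : ∀ x (c : ℕ → K), x ∈ VV K → R x c → (∀ s ∈ L14, s ∉ Sr γ → c s = 0) →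
      ∃ c', R (y * x * y⁻¹) c' ∧ ∀ s ∈ L14, s ∉ Sr γ → c' s = 0) :
    Nat.card K ^ 5 * Nat.card {x : ↥(VV K) // cw (e γ a * y) (x : ↥(chevF4.group K))} ≤ Nat.card K ^ 15 := by
  have hγM : γ ∈ idxM := by
    have h : ∀ γ ∈ ([41, 30, 6] : List ℕ), γ ∈ idxM := by decide
    exact h γ hγ
  obtain ⟨h1, h2, h3, h4⟩ := tabS γ hγ
  refine count (mul_mem (e_mem_MM hγM a) hy) (Sr γ) h1 h2 h3 (core hγM ha hy hyS ?_)
  intro s hs
  obtain ⟨t, ht, htS, hN | hN⟩ := h4 s hs
  · exact ⟨t, ht, htS, 1, Or.inl rfl, hN⟩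
  · exact ⟨t, ht, htS, -1, Or.inr rfl, hN⟩

/-- **the pairs** -/
theorem card_pair [Finite K] {s : ℕ} (hs : s ∈ ([41, 30, 6] : List ℕ)) {a b : K} (hne : e 41 a * e s b ≠ 1) :
    Nat.card K ^ 5 * Nat.card {x : ↥(VV K) // cw (e 41 a * e s b) (x : ↥(chevF4.group K))} ≤ Nat.card K ^ 15 := by
  have key1 : ∀ {γ : ℕ}, γ ∈ ([41, 30, 6] : List ℕ) → ∀ {a : K}, a ≠ 0 →
      Nat.card K ^ 5 * Nat.card {x : ↥(VV K) // cw (e γ a) (x : ↥(chevF4.group K))} ≤ Nat.card K ^ 15 := by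
    intro γ hγ a ha
    have h := card_one hγ ha (one_mem (MM K)) (fun x c _ hc hS => ⟨c, by
      rw [one_mul, inv_one, mul_one]
      exact hc, hS⟩)
    rwa [mul_one] at h
  have h0 : ∀ γ : ℕ, e γ (0 : K) = 1 := fun γ => ex_zero hF γ
  by_cases h41 : s = 41
  · subst h41
    have h1 : e 41 a * e 41 b = e 41 (a + b) := (ex_add hF 41 a b).symm
    rw [h1] at hne ⊢
    refine key1 (by decide) ?_
    intro h
    rw [h] at hne
    exact hne (h0 41)
  · have hs' : s ∈ ([30, 6] : List ℕ) := by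
      simp only [List.mem_cons, List.not_mem_nil, or_false] at hs ⊢
      (clear * - s h41 hs; tauto)
    by_cases ha : a = 0
    · subst ha
      rw [h0 41, one_mul] at hne ⊢
      refine key1 hs ?_
      rintro rfl
      exact hne (h0 s)
    · have hsM : s ∈ idxM := by
        have h : ∀ γ ∈ ([30, 6] : List ℕ), γ ∈ idxM := by decide
        exact h s hs'
      refine card_one (by decide) ha (e_mem_MM hsM b) fun x c _ hc hS => ⟨_, hc.conj hsM b, fun t ht htS => ?_⟩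
      rw [MM'_apply s b c ht, hS t ht htS, zero_add]
      apply List.sum_eq_zero
      intro z hz
      rw [List.mem_map] at hz
      obtain ⟨q, hq, rfl⟩ := hz
      obtain ⟨h1, h2, h3⟩ := tabSS s hs' t ht htS q hq
      rw [hS _ h1 h2, zero_pow h3, mul_zero]

/-- conjugation -/
theorem card_conj [Finite K] {p m : ↥(chevF4.group K)} (hp : p ∈ MM K) :
    Nat.card {x : ↥(VV K) // cw (p * m * p⁻¹) (x : ↥(chevF4.group K))} =
      Nat.card {x : ↥(VV K) // cw m (x : ↥(chevF4.group K))} := by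
  have key : ∀ {p m x : ↥(chevF4.group K)}, p ∈ MM K → cw m x → cw (p * m * p⁻¹) (p * x * p⁻¹) := by
    intro p m x hp h
    unfold cw at h ⊢
    have e1 : p * x * p⁻¹ * (p * m * p⁻¹) * (p * x * p⁻¹)⁻¹ * (p * m * p⁻¹)⁻¹ =
      p * (x * m * x⁻¹ * m⁻¹) * p⁻¹ := by group
    rw [e1, theta_comm hp h, mul_assoc, mul_inv_cancel, mul_one]
    exact h
  symm
  refine Nat.card_congr
    { toFun := fun x => ⟨⟨p * x.1 * p⁻¹, conj_VV hp x.1.2⟩, key hp x.2⟩
      invFun := fun x => ⟨⟨p⁻¹ * x.1 * p, by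
        have h := conj_VV (inv_mem hp) x.1.2
        rwa [inv_inv] at h⟩, by
        have h := key (inv_mem hp) x.2
        have e1 : p⁻¹ * (p * m * p⁻¹) * p⁻¹⁻¹ = m := by group
        rw [e1, inv_inv] at h
        exact h⟩
      left_inv := fun x => by
        apply Subtype.ext
        apply Subtype.ext
        show p⁻¹ * (p * x.1 * p⁻¹) * p = x.1
        group
      right_inv := fun x => by
        apply Subtype.ext
        apply Subtype.ext
        show p * (p⁻¹ * x.1 * p) * p⁻¹ = x.1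
        group }

end Cfsg.Agent.H296.FR.X
end

-- part: H7/FR/XTwo
section
/-!
# Products of two conjugates of long root elements of `C₃` on the extraspecial radical of `F₄(q)` (S2452, helper7)

`card_two` : `m = x₁ x₂ ≠ 1`, `x₁, x₂` in `M`-conjugates of the root group of the simple root `2`:
`q⁵ |{x ∈ V : [x, m] ∈ X_θ}| ≤ q¹⁵`.
-/

set_option autoImplicit false
set_option linter.unusedSectionVars false

namespace Cfsg.Agent.H7.FR

open CoxeterSystem Cfsg.Agent.ChevalleyStructure.CoxeterGeom Cfsg.Agent.Tits.Roots Cfsg.Agent.Tits.Core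
  Cfsg.Agent.Tits.Exchange Cfsg.Agent.Nodes.Reps Cfsg.Agent.Nodes.BNOf Cfsg.Agent.Nodes.StabComb
  Cfsg.Agent.Nodes.Bruhat Cfsg.Agent.Nodes.OppDec Cfsg.Agent.Nodes.LeviDec Cfsg.Agent.Nodes.NormX
  Cfsg.Agent.Nodes.Coroot Cfsg.Agent.Nodes.RGDChev Cfsg.Agent.KFacts.RgdPar Cfsg.Agent.KFacts.RgdTI
  Cfsg.Agent.KFacts.RgdCent Cfsg.Agent.KFacts.RgdChevCoord Cfsg.Agent.Nodes.ChevCls
  Cfsg.Agent.OddHalf.NI.ModelChev Cfsg.Agent.H225.PPow
open Cfsg.Lie Cfsg.Agent.ChevalleyStructure Cfsg.Agent.ChevalleyStructure.Elts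
  Cfsg.Agent.ChevalleyStructure.RootVec Cfsg.Agent.ChevalleyStructure.NPerm
  Cfsg.Agent.ChevalleyStructure.CoxeterGeomTypes
open Cfsg.Agent.H701.F43.Cent (hF cF finW nroots J3 MM VV)
open Cfsg.Agent.H296.FR.X (cw card_pair card_conj)
open Cfsg.Agent.H797.FQ (e)

universe u

theorem simple2 : chevF4.simple (2 : Fin 4) < chevF4.nroots := by decide +kernel

theorem word41 : wact chevF4 ([0, 1] : List (Fin 4)) (chevF4.simple (2 : Fin 4)) = 41 := by decide +kernel

theorem word_ne : ∀ i ∈ ([0, 1] : List (Fin 4)), i ≠ 3 := by decide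

variable {K : Type u} [Field K] [Finite K]

/-- from the simple root `2` to the root `41` -/
theorem exists_c41 : ∃ m ∈ MM K, ∀ v ∈ XX chevF4 4 K (sr 2), m * v * m⁻¹ ∈ XX chevF4 4 K (vec chevF4 4 41) := by
  obtain ⟨p, hpc⟩ := CharP.exists K
  have : Fact p.Prime := ⟨CharP.char_is_prime K p⟩
  obtain ⟨m, hm, h⟩ := exists_rp (K := K) p [0, 1] word_ne
  refine ⟨m, hm, fun v hv => ?_⟩
  have h1 := h (chevF4.simple (2 : Fin 4)) simple2 v (by
    rw [show vec chevF4 4 (chevF4.simple (2 : Fin 4)) = sr 2 from vec_simple hF 2]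
    exact hv)
  rw [word41] at h1
  exact h1

theorem e_eq_xc {r : ℕ} (hr : r < chevF4.nroots) (t : K) : e r t = xc hF (vec chevF4 4 r) t := by
  apply Subtype.ext
  rw [coe_xc hF hr]
  rfl

/-- **the pairs** -/
theorem card_two {a b y₁ y₂ : ↥(chevF4.group K)} (ha : a ∈ MM K) (hb : b ∈ MM K)
    (hy₁ : y₁ ∈ XX chevF4 4 K (sr 2)) (hy₂ : y₂ ∈ XX chevF4 4 K (sr 2))
    (hne : a * y₁ * a⁻¹ * (b * y₂ * b⁻¹) ≠ 1) :
    Nat.card K ^ 5 * Nat.card {x : ↥(VV K) // (x : ↥(chevF4.group K)) * (a * y₁ * a⁻¹ * (b * y₂ * b⁻¹)) *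
      (x : ↥(chevF4.group K))⁻¹ * (a * y₁ * a⁻¹ * (b * y₂ * b⁻¹))⁻¹ ∈ XX chevF4 4 K (vec chevF4 4 47)} ≤
      Nat.card K ^ 15 := by
  obtain ⟨p, hpc⟩ := CharP.exists K
  have : Fact p.Prime := ⟨CharP.char_is_prime K p⟩
  have h41 : 41 < chevF4.nroots := by rw [nroots]; norm_num
  have hlt : ∀ s ∈ [41, 30, 6], s < chevF4.nroots := by decide +kernel
  obtain ⟨n, hn, hnX⟩ := exists_c41 (K := K)
  obtain ⟨c₁, hc₁⟩ := (mem_XX_vec hF h41).1 (hnX _ hy₁)
  obtain ⟨c₂, hc₂⟩ := (mem_XX_vec hF h41).1 (hnX _ hy₂)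
  have hk : n * a⁻¹ * b * n⁻¹ ∈ MM K := mul_mem (mul_mem (mul_mem hn (inv_mem ha)) hb) (inv_mem hn)
  obtain ⟨q, hq, s, hs, a', b', h1, h2⟩ := red_xc hk c₁ c₂
  have hP : q * (n * a⁻¹) ∈ MM K := mul_mem hq (mul_mem hn (inv_mem ha))
  have e1 : xc hF (vec chevF4 4 41) c₁ = n * y₁ * n⁻¹ := by
    rw [← e_eq_xc h41]
    exact hc₁
  have e2 : xc hF (vec chevF4 4 41) c₂ = n * y₂ * n⁻¹ := by
    rw [← e_eq_xc h41]
    exact hc₂
  have h3 : q * (n * a⁻¹) * (a * y₁ * a⁻¹ * (b * y₂ * b⁻¹)) * (q * (n * a⁻¹))⁻¹ = e 41 a' * e s b' := by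
    rw [e_eq_xc h41, e_eq_xc (hlt s hs), ← h1, ← h2, e1, e2]
    group
  have h4 : e 41 a' * e s b' ≠ 1 := by
    intro h
    rw [← h3] at h
    apply hne
    have h5 := mul_inv_eq_one.1 h
    exact mul_eq_left.1 h5
  have h5 := card_pair hs h4
  rw [← h3, card_conj hP] at h5
  exact h5

end Cfsg.Agent.H7.FR
end

-- part: H744/FR/Ctr
section
/-!
# `F₄(q)`, `q` odd: the central element of `M = MM K` (type `C₃`) acts as `-1` on `V / Z` (S2452, box (X), part (c))

* `mem_TT` : an element of `M` which is central in `M` is in the torus;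
* `neg_one` : if it is `≠ 1` then it acts as `-1` on the root groups `X_r`, `r 3 = 1`;
* `central` : `{x ∈ V : [x, l] ∈ Z}` has at most `q ^ 12` elements.
-/

set_option autoImplicit false
set_option linter.unusedSectionVars false

namespace Cfsg.Agent.H744.FR

open CoxeterSystem Cfsg.Agent.ChevalleyStructure.CoxeterGeom Cfsg.Agent.Tits.Roots Cfsg.Agent.Tits.Core
  Cfsg.Agent.Tits.Exchange Cfsg.Agent.Nodes.Reps Cfsg.Agent.Nodes.BNOf Cfsg.Agent.Nodes.StabComb
  Cfsg.Agent.Nodes.Bruhat Cfsg.Agent.Nodes.OppDec Cfsg.Agent.Nodes.LeviDec Cfsg.Agent.Nodes.NormX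
  Cfsg.Agent.Nodes.Coroot Cfsg.Agent.Nodes.RGDChev Cfsg.Agent.KFacts.RgdPar Cfsg.Agent.KFacts.RgdTI
  Cfsg.Agent.KFacts.RgdCent Cfsg.Agent.KFacts.RgdChevCoord Cfsg.Agent.Nodes.ChevCls
  Cfsg.Agent.OddHalf.NI.ModelChev Cfsg.Agent.H225.PPow
open Cfsg.Lie Cfsg.Agent.ChevalleyStructure Cfsg.Agent.ChevalleyStructure.Elts
  Cfsg.Agent.ChevalleyStructure.RootVec Cfsg.Agent.ChevalleyStructure.NPerm
  Cfsg.Agent.ChevalleyStructure.CoxeterGeomTypes
open Cfsg.Agent.H701.F43.Cent (hF cF nroots VV MM J3 mem_RootsJ mem_NotJ comm_theta isRoot_theta)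
open Cfsg.Agent.H520.FC (PK VK XT)

universe u

variable {K : Type u} [Field K]

theorem tabP : ∀ r < 48, vec chevF4 4 r 3 = 1 → (chevF4.cartan (0 : ℕ) r + chevF4.cartan (2 : ℕ) r) % 2 = 1 := by
  decide +kernel

theorem tabV2 : ∀ r < 48, 0 < vec chevF4 4 r 3 → vec chevF4 4 r 3 = 1 ∨ r = 47 := by decide +kernel

theorem tabC : chevF4.rank = 4 ∧
    chevF4.cartan 0 (chevF4.simple 0) = 2 ∧ chevF4.cartan 1 (chevF4.simple 0) = -1 ∧
    chevF4.cartan 2 (chevF4.simple 0) = 0 ∧ chevF4.cartan 3 (chevF4.simple 0) = 0 ∧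
    chevF4.cartan 0 (chevF4.simple 1) = -1 ∧ chevF4.cartan 1 (chevF4.simple 1) = 2 ∧
    chevF4.cartan 2 (chevF4.simple 1) = -1 ∧ chevF4.cartan 3 (chevF4.simple 1) = 0 ∧
    chevF4.cartan 0 (chevF4.simple 2) = 0 ∧ chevF4.cartan 1 (chevF4.simple 2) = -2 ∧
    chevF4.cartan 2 (chevF4.simple 2) = 2 ∧ chevF4.cartan 3 (chevF4.simple 2) = -1 ∧
    chevF4.cartan 0 47 = 0 ∧ chevF4.cartan 1 47 = 0 ∧ chevF4.cartan 2 47 = 0 ∧ chevF4.cartan 3 47 = 1 := by
  decide +kernel

variable [Finite K]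

theorem norm_of {l : ↥(chevF4.group K)} (hl : l ∈ MM K) (hc : ∀ m ∈ MM K, m * l = l * m)
    {S : Set (Fin 4 → ℤ)} {V : Subgroup ↥(chevF4.group K)} (hV : V ≤ RGD.Sup (XX chevF4 4 K) S)
    (hLV : MM K ≤ Subgroup.normalizer (V : Set ↥(chevF4.group K)))
    (hS : ∀ x ∈ S, x ∈ RootsJ cF hF.isCartan J3 ∨ XX chevF4 4 K x ≤ V) :
    l ∈ Subgroup.normalizer (RGD.Sup (XX chevF4 4 K) S : Set ↥(chevF4.group K)) := by
  have key : ∀ l : ↥(chevF4.group K), l ∈ MM K → (∀ m ∈ MM K, m * l = l * m) →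
      ∀ y ∈ RGD.Sup (XX chevF4 4 K) S, l * y * l⁻¹ ∈ RGD.Sup (XX chevF4 4 K) S := by
    intro l hl hc
    have h1 : RGD.Sup (XX chevF4 4 K) S ≤ (RGD.Sup (XX chevF4 4 K) S).comap (MulAut.conj l).toMonoidHom := by
      refine RGD.Sup_le fun x hx y hy => ?_
      show l * y * l⁻¹ ∈ RGD.Sup (XX chevF4 4 K) S
      rcases hS x hx with h | h
      · rw [← hc y (X_le_MM h hy), mul_inv_cancel_right]
        exact RGD.le_Sup (X := XX chevF4 4 K) hx hy
      · exact hV ((Subgroup.mem_normalizer_iff.1 (hLV hl) y).1 (h hy))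
    exact fun y hy => h1 hy
  rw [Subgroup.mem_normalizer_iff]
  refine fun y => ⟨fun hy => key l hl hc y hy, fun hy => ?_⟩
  have h2 := key l⁻¹ (inv_mem hl) (fun m hm => by
    have h3 := hc m hm
    rw [mul_inv_eq_iff_eq_mul, mul_assoc, h3]
    group) _ hy
  rwa [show l⁻¹ * (l * y * l⁻¹) * l⁻¹⁻¹ = y by group] at h2

theorem GG_top : GG cF hF.isCartan (TT chevF4 K) (XX chevF4 4 K) = ⊤ := by
  rw [eq_top_iff, ← G1_eq_top hF (K := K) cF]
  exact le_sup_right

/-- an element of `M` central in `M` is in the torus -/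
theorem mem_TT {l : ↥(chevF4.group K)} (hl : l ∈ MM K) (hc : ∀ m ∈ MM K, m * l = l * m) : l ∈ TT chevF4 K := by
  obtain ⟨p, hpc⟩ := CharP.exists K
  have : Fact p.Prime := ⟨CharP.char_is_prime K p⟩
  have hW := finite_W hF cF
  have R := rgd (K := K) hF cF p
  have hLJ : MM K ≤ LJ cF hF.isCartan (TT chevF4 K) (XX chevF4 4 K) J3 := le_sup_right
  have h1 : l ∈ Subgroup.normalizer (RGD.Sup (XX chevF4 4 K) (RGD.Pos cF hF.isCartan) : Set ↥(chevF4.group K)) := by
    refine norm_of hl hc (V := VJ cF hF.isCartan (XX chevF4 4 K) J3) (VJ_le_U J3)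
      (le_trans hLJ (LJ_le_normalizer_VJ R J3)) fun x hx => ?_
    rcases (hx.2 3).lt_or_eq with h | h
    · exact Or.inr (RGD.le_Sup (mem_NotJ.2 ⟨hx.1, h⟩))
    · exact Or.inl (mem_RootsJ.2 ⟨hx.1, h.symm⟩)
  have h2 : l ∈ Subgroup.normalizer (UN cF hF.isCartan (XX chevF4 4 K) : Set ↥(chevF4.group K)) := by
    refine norm_of hl hc (V := VNJ cF hF.isCartan (XX chevF4 4 K) J3)
      (RGD.Sup_mono fun _ hx => ⟨NotNJ.isRoot hx, neg_nonneg.1 hx.2.1⟩)
      (le_trans hLJ (LJ_le_normalizer_VNJ R J3)) fun x hx => ?_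
    rcases (hx.2 3).lt_or_eq with h | h
    · refine Or.inr (RGD.le_Sup ?_)
      show -x ∈ NotJ cF hF.isCartan J3
      rw [mem_NotJ]
      exact ⟨hx.1.neg, by rw [Pi.neg_apply]; exact neg_pos.2 h⟩
    · exact Or.inl (mem_RootsJ.2 ⟨hx.1, h⟩)
  have h3 : l ∈ GG cF hF.isCartan (TT chevF4 K) (XX chevF4 4 K) := by rw [GG_top]; trivial
  have h4 : l ∈ RGD.B cF hF.isCartan (TT chevF4 K) (XX chevF4 4 K) := by
    rw [← Cfsg.Agent.Nodes.NormalForm.normalizer_U R]
    exact ⟨h1, h3⟩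
  have h5 : l ∈ BN cF hF.isCartan (TT chevF4 K) (XX chevF4 4 K) :=
    Cfsg.Agent.Nodes.ClsPair.normalizer_UN R ⟨h2, h3⟩
  exact (B_inf_BN R).le ⟨h4, h5⟩

/-- it acts as `-1` -/
theorem neg_one {l : ↥(chevF4.group K)} (hl : l ∈ MM K) (hl1 : l ≠ 1) (hc : ∀ m ∈ MM K, m * l = l * m) {s : ℕ}
    (hs : s < 48) (hs1 : vec chevF4 4 s 3 = 1) (a : K) :
    l * xc hF (vec chevF4 4 s) a * l⁻¹ = xc hF (vec chevF4 4 s) (-a) := by
  obtain ⟨p, hpc⟩ := CharP.exists K
  have : Fact p.Prime := ⟨CharP.char_is_prime K p⟩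
  have hT := mem_TT hl hc
  obtain ⟨t0, t1, t2, t3, t4, t5, t6, t7, t8, t9, t10, t11, t12, t13, t14, t15, t16⟩ := tabC
  obtain ⟨c, hc0, hm, hact⟩ := Cfsg.Agent.H129.Tor.exists_c hF (F := K) (t := (l : GL chevF4.Idx K)) hT
  rw [t0] at hc0
  simp only [t0] at hm hact
  have hact' : ∀ r < 48, ∀ a : K, l * xc hF (vec chevF4 4 r) a * l⁻¹ =
      xc hF (vec chevF4 4 r) ((∏ i ∈ Finset.range 4, c i ^ chevF4.cartan i r) * a) := by
    intro r hr a
    have hr' : r < chevF4.nroots := by rw [nroots]; exact hr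
    apply Subtype.ext
    rw [Subgroup.coe_mul, Subgroup.coe_mul, Subgroup.coe_inv, coe_xc hF hr', coe_xc hF hr']
    exact hact r hr' a
  have key : ∀ r < 48, (∀ y ∈ XX chevF4 4 K (vec chevF4 4 r), y * l = l * y) →
      ∏ i ∈ Finset.range 4, c i ^ chevF4.cartan i r = 1 := by
    intro r hr h
    have hr' : r < chevF4.nroots := by rw [nroots]; exact hr
    have hb : IsRoot cF hF.isCartan (vec chevF4 4 r) := (isRoot_iff hF cF _).2 ⟨r, hr', rfl⟩
    have C := (coords (K := K) hF cF p).coord _ hb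
    have h1 := hact' r hr 1
    rw [← h _ ((C.mem _).2 ⟨1, rfl⟩), mul_inv_cancel_right, mul_one] at h1
    exact (C.inj h1).symm
  have hsJ : ∀ i : Fin 4, i ≠ 3 → ∏ k ∈ Finset.range 4, c k ^ chevF4.cartan k (chevF4.simple i) = 1 := by
    intro i hi
    refine key _ (by rw [← nroots]; exact RootVec.simple_lt hF.checked (lt_rank hF i)) fun y hy => ?_
    rw [vec_simple hF i] at hy
    exact hc y (X_le_MM (sr_memJ hi) hy)
  have e0 := hsJ 0 (by decide)
  have e1 := hsJ 1 (by decide)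
  have e2 := hsJ 2 (by decide)
  have e3 := key 47 (by norm_num) fun y hy => (comm_theta (le_sup_right (a := VV K) hl) hy).symm
  have c0 := hc0 0 (by norm_num)
  have c1 := hc0 1 (by norm_num)
  have c2 := hc0 2 (by norm_num)
  simp only [Finset.prod_range_succ, Finset.prod_range_zero, one_mul] at e0 e1 e2 e3
  have f3 : c 3 = 1 := by
    rw [t13, t14, t15, t16] at e3
    simpa using e3
  have f1 : c 1 = c 0 ^ 2 := by
    have h : c 0 ^ chevF4.cartan 0 (chevF4.simple 0) * c 1 ^ chevF4.cartan 1 (chevF4.simple 0) *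
      c 2 ^ chevF4.cartan 2 (chevF4.simple 0) * c 3 ^ chevF4.cartan 3 (chevF4.simple 0) = 1 := e0
    rw [t1, t2, t3, t4, zpow_zero, zpow_zero, mul_one, mul_one, zpow_neg_one, mul_inv_eq_one₀ c1] at h
    rw [← h]
    norm_cast
  have f2 : c 2 = c 0 ^ 3 := by
    have h : c 0 ^ chevF4.cartan 0 (chevF4.simple 1) * c 1 ^ chevF4.cartan 1 (chevF4.simple 1) *
      c 2 ^ chevF4.cartan 2 (chevF4.simple 1) * c 3 ^ chevF4.cartan 3 (chevF4.simple 1) = 1 := e1
    rw [t5, t6, t7, t8, zpow_zero, mul_one, zpow_neg_one, zpow_neg_one, mul_inv_eq_one₀ c2, f1] at h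
    rw [← h]
    field_simp
  have f0 : c 0 ^ 2 = 1 := by
    have h : c 0 ^ chevF4.cartan 0 (chevF4.simple 2) * c 1 ^ chevF4.cartan 1 (chevF4.simple 2) *
      c 2 ^ chevF4.cartan 2 (chevF4.simple 2) * c 3 ^ chevF4.cartan 3 (chevF4.simple 2) = 1 := e2
    rw [t9, t10, t11, t12, zpow_zero, one_mul, f3, one_zpow, mul_one, f1, f2] at h
    have h' : (c 0 ^ 2) ^ (-2 : ℤ) * (c 0 ^ 3) ^ (2 : ℤ) = c 0 ^ 2 := by
      rw [zpow_neg, inv_mul_eq_iff_eq_mul₀ (zpow_ne_zero _ (pow_ne_zero _ c0))]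
      norm_cast
      ring
    rw [← h', h]
  rw [f0] at f1
  have f2' : c 2 = c 0 := by rw [f2, pow_succ, f0, one_mul]
  have hval : ∀ r, ∏ i ∈ Finset.range 4, c i ^ chevF4.cartan i r = c 0 ^ (chevF4.cartan 0 r + chevF4.cartan 2 r) := by
    intro r
    simp only [Finset.prod_range_succ, Finset.prod_range_zero, one_mul]
    rw [f1, f3, one_zpow, one_zpow, mul_one, mul_one, f2', zpow_add₀ c0]
  have h01 : c 0 = 1 ∨ c 0 = -1 := by
    have h1 : (c 0 - 1) * (c 0 + 1) = 0 := by linear_combination f0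
    rcases mul_eq_zero.1 h1 with h | h
    · exact Or.inl (sub_eq_zero.1 h)
    · exact Or.inr (eq_neg_of_add_eq_zero_left h)
  rcases h01 with h | h
  · exfalso
    apply hl1
    apply Subtype.ext
    apply Units.ext
    rw [hm]
    show _ = (1 : Matrix chevF4.Idx chevF4.Idx K)
    rw [← Matrix.diagonal_one]
    congr 1
    funext x
    rcases x with x | x
    · rfl
    · show ∏ i ∈ Finset.range 4, c i ^ chevF4.cartan i x = 1
      rw [hval, h, one_zpow]
  · rw [hact' s hs, hval, h, Odd.neg_one_zpow (Int.odd_iff.2 (tabP s hs hs1)), neg_one_mul]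

/-- `[x, l] ∈ Z` for `x ∈ V` only if `x ∈ Z` -/
theorem conj_mul {l : ↥(chevF4.group K)} (hl : l ∈ MM K) (hl1 : l ≠ 1) (hc : ∀ m ∈ MM K, m * l = l * m)
    {x : ↥(chevF4.group K)} (hx : x ∈ VV K) : l * x * l⁻¹ * x ∈ XT K := by
  obtain ⟨p, hpc⟩ := CharP.exists K
  have : Fact p.Prime := ⟨CharP.char_is_prime K p⟩
  have hcen : ∀ v ∈ VV K, ∀ z ∈ XT K, v * z = z * v := fun v hv z hz => comm_theta (le_sup_left (b := MM K) hv) hz
  let S : Subgroup ↥(chevF4.group K) :=
    { carrier := {x | x ∈ VV K ∧ l * x * l⁻¹ * x ∈ XT K}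
      one_mem' := ⟨one_mem _, by
        rw [mul_one, mul_one, mul_inv_cancel]
        exact one_mem _⟩
      mul_mem' := by
        rintro x y ⟨hx, hx'⟩ ⟨hy, hy'⟩
        refine ⟨mul_mem hx hy, ?_⟩
        have h1 : l * (x * y) * l⁻¹ * (x * y) = (l * x * l⁻¹ * x) * (x⁻¹ * (l * y * l⁻¹ * y) * y⁻¹ * x * y) := by group
        have h2 : x⁻¹ * (l * y * l⁻¹ * y) = (l * y * l⁻¹ * y) * x⁻¹ := hcen _ (inv_mem hx) _ hy'
        rw [h1, h2]
        have h3 : l * y * l⁻¹ * y * x⁻¹ * y⁻¹ * x * y = (l * y * l⁻¹ * y) * (x⁻¹ * y⁻¹ * x⁻¹⁻¹ * y⁻¹⁻¹) := by group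
        rw [h3]
        exact mul_mem hx' (mul_mem hy' (Cfsg.Agent.H374.FR.Comm.com' _ (inv_mem hx) _ (inv_mem hy)))
      inv_mem' := by
        rintro x ⟨hx, hx'⟩
        refine ⟨inv_mem hx, ?_⟩
        have h1 : l * x⁻¹ * l⁻¹ * x⁻¹ = x * (l * x * l⁻¹ * x)⁻¹ * x⁻¹ := by group
        rw [h1, hcen _ hx _ (inv_mem hx'), mul_inv_cancel_right]
        exact inv_mem hx' }
  have hS : VV K ≤ S := by
    refine RGD.Sup_le fun r hr y hy => ?_
    rw [mem_NotJ] at hr
    obtain ⟨s, hs, rfl⟩ := (isRoot_iff hF cF r).1 hr.1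
    have hyV : y ∈ VV K := RGD.le_Sup (mem_NotJ.2 hr) hy
    refine ⟨hyV, ?_⟩
    rcases tabV2 s (by rw [← nroots]; exact hs) hr.2 with h | h
    · have C := (coords (K := K) hF cF p).coord _ hr.1
      obtain ⟨a, rfl⟩ := (C.mem y).1 hy
      rw [neg_one hl hl1 hc (by rw [← nroots]; exact hs) h, ← C.add, neg_add_cancel, C.zero]
      exact one_mem _
    · subst h
      rw [comm_theta (le_sup_right (a := VV K) hl) hy, mul_inv_cancel_right]
      exact mul_mem hy hy
  exact (hS hx).2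

theorem mem_of_comm (h2 : (2 : K) ≠ 0) {l : ↥(chevF4.group K)} (hl : l ∈ MM K) (hl1 : l ≠ 1)
    (hc : ∀ m ∈ MM K, m * l = l * m) {x : ↥(chevF4.group K)} (hx : x ∈ VV K) (h : x * l * x⁻¹ * l⁻¹ ∈ XT K) :
    x ∈ XT K := by
  obtain ⟨p, hpc⟩ := CharP.exists K
  have : Fact p.Prime := ⟨CharP.char_is_prime K p⟩
  have hW := finite_W hF cF
  have h1 := conj_mul hl hl1 hc hx
  have h3 : x * x = (x * l * x⁻¹ * l⁻¹) * (l * x * l⁻¹ * x) := by group
  have h4 : x * x ∈ XT K := by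
    rw [h3]
    exact mul_mem h h1
  have hpp : Odd p := by
    refine (Fact.out : p.Prime).odd_of_ne_two ?_
    rintro rfl
    exact h2 (by exact_mod_cast CharP.cast_eq_zero K 2)
  obtain ⟨k, hk⟩ := ((rgd (K := K) hF cF p).isPGroup_Upos) ⟨x, VJ_le_U J3 hx⟩
  have hk' : x ^ p ^ k = 1 := congrArg Subtype.val hk
  obtain ⟨t, ht⟩ : ∃ t, p ^ k + 1 = 2 * t := by
    obtain ⟨t, ht⟩ := hpp.pow (n := k)
    exact ⟨t + 1, by omega⟩
  have h5 : x = (x * x) ^ t := by
    rw [← pow_two, ← pow_mul, ← ht, pow_succ, hk', one_mul]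
  rw [h5]
  exact pow_mem h4 t

set_option linter.unusedVariables false in
/-- **box (X), part (c)** -/
theorem central (h2 : (2 : K) ≠ 0) (h3 : 3 ≤ Nat.card K) {l : ↥(chevF4.group K)} (hl : l ∈ MM K) (hl1 : l ≠ 1)
    (hc : ∀ m ∈ MM K, m * l = l * m) :
    Nat.card {x : ↥(VV K) // (x : ↥(chevF4.group K)) * l * (x : ↥(chevF4.group K))⁻¹ * l⁻¹ ∈ XT K} ≤
      Nat.card K ^ 12 := by
  have h4 : Nat.card {x : ↥(VV K) // (x : ↥(chevF4.group K)) * l * (x : ↥(chevF4.group K))⁻¹ * l⁻¹ ∈ XT K} ≤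
      Nat.card ↥(XT K) := by
    refine Nat.card_le_card_of_injective (fun x => (⟨x.1.1, mem_of_comm h2 hl hl1 hc x.1.2 x.2⟩ : ↥(XT K))) ?_
    intro x y hxy
    exact Subtype.ext (Subtype.ext (congrArg (fun z : ↥(XT K) => (z : ↥(chevF4.group K))) hxy))
  rw [Cfsg.Agent.H744.FC.card_X K isRoot_theta] at h4
  exact h4.trans (Nat.le_self_pow (by norm_num) _)

end Cfsg.Agent.H744.FR
end

-- part: H351/FR/XBox
section
/-!
# Box (X) of `F₄(q)` (S2452), final form (helper351, helper296, helper7, helper744)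
-/

set_option autoImplicit false
set_option linter.unusedSectionVars false

namespace Cfsg.Agent.H351.FR.X

open Cfsg.Agent.ChevalleyStructure.CoxeterGeom Cfsg.Agent.Nodes.RGDChev Cfsg.Agent.KFacts.RgdChevCoord
  Cfsg.Agent.H225.PPow Cfsg.Agent.H701.F43.Cent Cfsg.Agent.H797.FQ
open Cfsg.Lie
open Cfsg.Agent.H520.FC (PK VK XT)

universe u

variable {K : Type u} [Field K] [Finite K]

theorem cardTwo : CardTwo K := fun _ ha _ hb _ hy _ hy' hne => Cfsg.Agent.H7.FR.card_two ha hb hy hy' hne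

theorem three_le (h2 : (2 : K) ≠ 0) : 3 ≤ Nat.card K := by
  have := Fintype.ofFinite K
  rw [Nat.card_eq_fintype_card]
  by_contra h
  have h1 : 1 < Fintype.card K := Fintype.one_lt_card
  have h3 : Fintype.card K = 2 := by omega
  have h4 := Nat.cast_card_eq_zero K
  rw [h3] at h4
  exact h2 (by exact_mod_cast h4)

theorem central (h2 : (2 : K) ≠ 0) : Central K := fun _ hl hl1 hc =>
  Cfsg.Agent.H744.FR.central h2 (three_le h2) hl hl1 hc

/-- the same for `g ∈ VV K ⊔ MM K` -/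
theorem x_box_sup (h2 : (2 : K) ≠ 0) {g : ↥(chevF4.group K)} (hg : g ∈ VV K ⊔ MM K) (hgQ : g ∉ VV K) :
    Nat.card {x : ↥(VV K) // (x : ↥(chevF4.group K)) * g * (x : ↥(chevF4.group K))⁻¹ * g⁻¹ ∈ XT K} ≤
      Nat.card K ^ 12 :=
  x_box_of cardTwo (central h2) (three_le h2) hg hgQ

end Cfsg.Agent.H351.FR.X
end

private theorem dce_6626727f6dca : _root_.True := by
  try have : _root_.True := by simp only [_root_.Cfsg.Agent.H31.FR.ss.eq_1]
  try have : _root_.True := by simp only [_root_.Cfsg.Agent.H31.FR.rr.eq_1]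
  try have : _root_.True := by simp only [_root_.Cfsg.Agent.H31.FR.ssZ.eq_1]
  try have : _root_.True := by simp only [_root_.Cfsg.Agent.H296.FR.X.xs.eq_1]
  exact _root_.True.intro
end

-- part: H997/FE/OC
section
prune_inst 0xd5703b450562120000040582d1005c87bf00059000288001a82403400680ef228002a960bc00110a100a2204003d0868135400f00240000004840000011d0180180810048108009100001801008c41500038180000000000000080000000000401c010000
set_option linter.all false
open scoped Cfsg.Agent.FastGrp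

-- part: H997/FE/Defs
section
/-!
# S2452, `F₄(q)`, `q = 4, 8, 16, 64`: the interface of the bound for `|C(g)|`, `g` of even order (helper997)

* `Cen u` : `u` is conjugate into the centre of `U` (the `2`-central elements);
* `OC3e`, `OB3e` : the bounds for the classes in the parabolics of type `C₃`, `B₃`, characteristic 2;
* `CBe` : the bound for all `g` of even order which are not `2`-central.
-/

set_option autoImplicit false
set_option linter.unusedSectionVars false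

namespace Cfsg.Agent.H997.FE

open CoxeterSystem Cfsg.Agent.ChevalleyStructure.CoxeterGeom Cfsg.Agent.Tits.Roots Cfsg.Agent.Tits.Core
  Cfsg.Agent.Tits.Exchange Cfsg.Agent.Nodes.Reps Cfsg.Agent.Nodes.BNOf Cfsg.Agent.Nodes.StabComb
  Cfsg.Agent.Nodes.Bruhat Cfsg.Agent.Nodes.OppDec Cfsg.Agent.Nodes.LeviDec Cfsg.Agent.Nodes.NormX
  Cfsg.Agent.Nodes.Coroot Cfsg.Agent.Nodes.RGDChev Cfsg.Agent.KFacts.RgdPar Cfsg.Agent.KFacts.RgdTI
  Cfsg.Agent.KFacts.RgdCent Cfsg.Agent.KFacts.RgdChevCoord Cfsg.Agent.Nodes.ChevCls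
  Cfsg.Agent.OddHalf.NI.ModelChev Cfsg.Agent.H225.PPow
open Cfsg.Lie Cfsg.Agent.ChevalleyStructure Cfsg.Agent.ChevalleyStructure.Elts
  Cfsg.Agent.ChevalleyStructure.RootVec Cfsg.Agent.ChevalleyStructure.NPerm
  Cfsg.Agent.ChevalleyStructure.CoxeterGeomTypes
open Cfsg.Agent.H701.F43.Cent (hF cF)
open Cfsg.Agent.H520.FC (PK VK XT cls d2)

universe u

/-- the unipotent group `U` -/
abbrev UU (K : Type u) [Field K] : Subgroup ↥(chevF4.group K) := RGD.Sup (XX chevF4 4 K) (RGD.Pos cF hF.isCartan)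

/-- `u` is conjugate into the centre of `U` -/
def Cen {K : Type u} [Field K] (u : ↥(chevF4.group K)) : Prop :=
  ∃ g : ↥(chevF4.group K), g * u * g⁻¹ ∈ UU K ∧ ∀ v ∈ UU K, g * u * g⁻¹ * v = v * (g * u * g⁻¹)

/-- generated by the root groups with numbers in the list -/
def Z7 (K : Type u) [Field K] (L : List ℕ) : Subgroup ↥(chevF4.group K) :=
  RGD.Sup (XX chevF4 4 K) {x | ∃ r ∈ L, x = vec chevF4 4 r}

/-- the centre of `V_1`, characteristic 2 -/
def L1 : List ℕ := [29, 36, 38, 39, 40, 44, 47]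

/-- the centre of `V_4`, characteristic 2 -/
def L4 : List ℕ := [41, 42, 43, 44, 45, 46, 47]

/-- (U2) -/
def U2e (K : Type u) [Field K] : Prop :=
  ∀ u ∈ VK K {k | k ≠ 3}, u ∉ Z7 K L1 → (Nat.card K - 1) * Nat.card K ^ 6 ≤ Nat.card ↥(_root_.Cfsg.Agent.H520.FC.cls (PK K {k | k ≠ 3}) u)

/-- (U4), the group `V_1` -/
def Z1e (K : Type u) [Field K] : Prop := ∀ u ∈ Z7 K L1, Cen u

/-- (U4), the group `V_4` -/
def Z4e (K : Type u) [Field K] : Prop := ∀ u ∈ Z7 K L4, Cen u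

/-- the parabolic of type `C₃`, characteristic 2 -/
def OC3e (K : Type u) [Field K] : Prop :=
  ∀ u ∈ VK K {k | k ≠ 3}, ¬ Cen u → (Nat.card K - 1) * Nat.card K ^ 6 ≤ Nat.card ↥(_root_.Cfsg.Agent.H520.FC.cls (PK K {k | k ≠ 3}) u)

/-- the parabolic of type `B₃`, characteristic 2 -/
def OB3e (K : Type u) [Field K] : Prop :=
  ∀ u ∈ VK K {k | k ≠ 0}, ¬ Cen u → (Nat.card K - 1) * Nat.card K ^ 6 ≤ Nat.card ↥(_root_.Cfsg.Agent.H520.FC.cls (PK K {k | k ≠ 0}) u)

/-- elements of odd order -/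
def SSe (K : Type u) [Field K] : Prop :=
  ∀ s : ↥(chevF4.group K), s ≠ 1 → (orderOf s).Coprime 2 →
    Nat.card ↥(Subgroup.centralizer ({s} : Set ↥(chevF4.group K))) ≤
      1152 * (Nat.card K + 1) ^ 4 * Nat.card K ^ 18

/-- **The bound.** -/
def CBe (K : Type u) [Field K] : Prop :=
  ∀ g : ↥(chevF4.group K), 2 ∣ orderOf g → ¬ Cen g →
    2 * Nat.card ↥(Subgroup.centralizer ({g} : Set ↥(chevF4.group K))) < d2 (Nat.card K) ^ 2

end Cfsg.Agent.H997.FE
end

-- part: H997/FE/CB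
section
/-!
# S2452, `F₄(q)`, `q = 4, 8, 16, 64`: `2 |C(g)| < d2²` for `g` of even order, not `2`-central (helper997)

* `cb_unip` : `g` of order a power of `2`, from `OC3e`, `OB3e`;
* `cbe` : all `g`, from `SSe`.
-/

set_option autoImplicit false
set_option linter.unusedSectionVars false

namespace Cfsg.Agent.H997.FE

open Subgroup CoxeterSystem Cfsg.Agent.ChevalleyStructure.CoxeterGeom Cfsg.Agent.Tits.Core
  Cfsg.Agent.Tits.Exchange Cfsg.Agent.Nodes.Reps Cfsg.Agent.Nodes.BNOf Cfsg.Agent.Nodes.StabComb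
  Cfsg.Agent.Nodes.Bruhat Cfsg.Agent.Nodes.OppDec Cfsg.Agent.Nodes.LeviDec Cfsg.Agent.Nodes.NormX
  Cfsg.Agent.Nodes.Coroot Cfsg.Agent.Nodes.RGDChev Cfsg.Agent.KFacts.RgdPar Cfsg.Agent.KFacts.RgdTI
  Cfsg.Agent.KFacts.RgdCent Cfsg.Agent.KFacts.RgdChevCoord Cfsg.Agent.Nodes.ChevCls
  Cfsg.Agent.OddHalf.NI.ModelChev Cfsg.Agent.H225.PPow
open Cfsg.Agent.Tits.Roots hiding ht
open Cfsg.Agent.OddHalf.D4.LineRgd (ht)
open Cfsg.Lie Cfsg.Agent.ChevalleyStructure Cfsg.Agent.ChevalleyStructure.Elts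
  Cfsg.Agent.ChevalleyStructure.RootVec Cfsg.Agent.ChevalleyStructure.NPerm
  Cfsg.Agent.ChevalleyStructure.CoxeterGeomTypes
open Cfsg.Agent.H701.F43.Cent (hF cF nroots finW)
open Cfsg.Agent.KFacts.RgdBorelTits Cfsg.Agent.KFacts.RgdFilt
open Cfsg.Agent.H520.FC (PK VK XT cls d2 cls_mul_le card_cent_conj card_gen)

universe u

variable {K : Type u} [Field K]

theorem Cen.conj {u : ↥(chevF4.group K)} (g : ↥(chevF4.group K)) (h : Cen (g⁻¹ * u * g)) : Cen u := by
  obtain ⟨a, ha⟩ := h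
  refine ⟨a * g⁻¹, ?_⟩
  have e : a * g⁻¹ * u * (a * g⁻¹)⁻¹ = a * (g⁻¹ * u * g) * a⁻¹ := by group
  rw [e]
  exact ha

/-- the numbers -/
theorem num : ∀ q, q = 4 ∨ q = 8 ∨ q = 16 ∨ q = 64 → ∀ N : ℕ,
      ((q - 1) * 2 * N ≤ ((1 + q) * (1 + q + q ^ 2) * (1 + q)) * (q ^ 24 * (q - 1) ^ 4) ∨
        (q - 1) * 2 * N ≤ ((1 + q) * (1 + q) * (1 + q ^ 2)) * (q ^ 24 * (q - 1) ^ 4) ∨
        (q - 1) * q ^ 6 * N ≤ ((1 + q) * ((1 + q) * (1 + q ^ 2)) * ((1 + q + q ^ 2) * (1 + q ^ 3))) * (q ^ 24 * (q - 1) ^ 4) ∨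
        N ≤ 1152 * (q + 1) ^ 4 * q ^ 18) →
      2 * N < d2 q ^ 2 := by
  intro q hq' N hN
  rcases hq' with rfl | rfl | rfl | rfl
  · rw [d2]; norm_num only [] at hN ⊢; omega
  · rw [d2]; norm_num only [] at hN ⊢; omega
  · rw [d2]; norm_num only [] at hN ⊢; omega
  · rw [d2]; norm_num only [] at hN ⊢; omega

/-- **The unipotent elements.** -/
theorem cb_unip [Finite K] [CharP K 2] (hq : Nat.card K = 4 ∨ Nat.card K = 8 ∨ Nat.card K = 16 ∨ Nat.card K = 64)
    (h3 : OC3e K) (h0 : OB3e K)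
    {u : ↥(chevF4.group K)} (hu1 : u ≠ 1) {e : ℕ} (hue : u ^ 2 ^ e = 1) (hl : ¬ Cen u) :
    2 * Nat.card ↥(centralizer ({u} : Set ↥(chevF4.group K))) < d2 (Nat.card K) ^ 2 := by
  have : Fact (Nat.Prime 2) := ⟨Nat.prime_two⟩
  have hW := finite_W hF cF
  have hfin : Finite ↥(chevF4.group K) := inferInstance
  have hFil := KFacts.RgdFiltChev.filt (K := K) hF cF 2
  have hG := KFacts.RgdFilt.GG_eq_top (T := TT chevF4 K) (G1_eq_top hF (K := K) cF)
  have R := rgd (K := K) hF cF 2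
  have hK : IsPGroup 2 (zpowers u) := by
    rintro ⟨y, n, rfl⟩
    refine ⟨e, Subtype.ext ?_⟩
    show (u ^ n) ^ 2 ^ e = 1
    rw [← zpow_natCast, ← zpow_mul, mul_comm, zpow_mul, zpow_natCast, hue, one_zpow]
  obtain ⟨g, J, hJ, hle, hN⟩ := borel_tits hFil hG hK (by rw [Ne, zpowers_eq_bot]; exact hu1)
  obtain ⟨v, hv, hvu⟩ : ∃ v ∈ VK K J, g * v * g⁻¹ = u := by
    obtain ⟨v, hv, hvu⟩ := hle (mem_zpowers u)
    exact ⟨v, hv, hvu⟩
  have hvu' : v = g⁻¹ * u * g := by rw [← hvu]; group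
  have hlv : ¬ Cen v := fun hcon => hl (Cen.conj g (hvu' ▸ hcon))
  have hv1 : v ≠ 1 := by
    rintro rfl
    apply hu1
    rw [← hvu]
    group
  have hCv : centralizer {v} ≤ PK K J := by
    intro x hx
    have h1 : g * x * g⁻¹ ∈ cj g (PK K J) := by
      apply hN
      refine centralizer_le_normalizer _ ?_
      rw [mem_centralizer_iff]
      rintro y ⟨n, rfl⟩
      have h2 : Commute u (g * x * g⁻¹) := by
        have h3 := mem_centralizer_singleton_iff.1 hx
        show u * (g * x * g⁻¹) = g * x * g⁻¹ * u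
        rw [← hvu]
        calc g * v * g⁻¹ * (g * x * g⁻¹) = g * (v * x) * g⁻¹ := by group
          _ = g * (x * v) * g⁻¹ := by rw [h3]
          _ = g * x * g⁻¹ * (g * v * g⁻¹) := by group
      exact h2.zpow_left n
    obtain ⟨y, hy, hyx⟩ := h1
    have h2 : y = x := (MulAut.conj g).injective hyx
    exact h2 ▸ hy
  have hcard : Nat.card ↥(centralizer ({u} : Set ↥(chevF4.group K))) = Nat.card ↥(centralizer ({v} : Set ↥(chevF4.group K))) := by
    rw [hvu', card_cent_conj]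
  rw [hcard]
  have hvU : v ∈ RGD.Sup (XX chevF4 4 K) (RGD.Pos cF hF.isCartan) := VJ_le_U J hv
  have hgen : ∀ J' : Set (Fin 4), J ⊆ J' →
      (Nat.card K - 1) * 2 * Nat.card ↥(centralizer ({v} : Set ↥(chevF4.group K))) ≤ Nat.card ↥(PK K J') := by
    intro J' hJJ
    have hnc : ∃ w ∈ RGD.Sup (XX chevF4 4 K) (RGD.Pos cF hF.isCartan), w * v ≠ v * w := by
      by_contra hcon
      push Not at hcon
      refine hlv ⟨1, ?_⟩
      rw [one_mul, inv_one, mul_one]
      exact ⟨hvU, fun w hw => (hcon w hw).symm⟩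
    obtain ⟨w, hw, hwv⟩ := hnc
    have h1 := card_gen 2 hvU hv1 hw hwv hCv
    exact le_trans h1 (H744.FC.card_le_of_subset hJJ)
  have e3 : ({0, 1, 2} : Set (Fin 4)) = {k | k ≠ 3} := by
    ext j
    simp only [Set.mem_insert_iff, Set.mem_singleton_iff, Set.mem_ofPred_eq]
    revert j
    decide
  have e0 : ({1, 2, 3} : Set (Fin 4)) = {k | k ≠ 0} := by
    ext j
    simp only [Set.mem_insert_iff, Set.mem_singleton_iff, Set.mem_ofPred_eq]
    revert j
    decide
  have hd' := num _ hq (Nat.card ↥(centralizer ({v} : Set ↥(chevF4.group K))))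
  rcases H744.FC.sub_cases hJ with rfl | rfl | h1 | h1 | h1
  · rw [e3] at hv hCv
    apply hd'
    right; right; left
    rw [← H744.FC.card_ne3]
    refine le_trans ?_ (cls_mul_le hCv)
    exact Nat.mul_le_mul_right _ (h3 v hv hlv)
  · rw [e0] at hv hCv
    apply hd'
    right; right; left
    rw [← H744.FC.card_ne0]
    refine le_trans ?_ (cls_mul_le hCv)
    exact Nat.mul_le_mul_right _ (h0 v hv hlv)
  · apply hd'
    left
    rw [← H744.FC.card_013 (J := {0, 1, 3}) (by simp)]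
    exact hgen _ h1
  · apply hd'
    left
    rw [← H744.FC.card_023 (J := {0, 2, 3}) (by simp)]
    exact hgen _ h1
  · apply hd'
    right; left
    rw [← H744.FC.card_12 (J := {1, 2}) (by simp)]
    exact hgen _ h1

/-- **The bound**, from its parts. -/
theorem cbe [Finite K] [CharP K 2] (hq : Nat.card K = 4 ∨ Nat.card K = 8 ∨ Nat.card K = 16 ∨ Nat.card K = 64)
    (h3 : OC3e K) (h0 : OB3e K) (hS : SSe K) : CBe K := by
  intro g hg hl
  have : Fact (Nat.Prime 2) := ⟨Nat.prime_two⟩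
  have hfin : Finite ↥(chevF4.group K) := inferInstance
  obtain ⟨i, j, k, m, hij, hi, hj, hm⟩ := Cfsg.Agent.H548.CosetMod.exists_parts 2 g
  set u := g ^ i with hu
  set s := g ^ j with hs
  have hle : ∀ y : ↥(chevF4.group K), ∀ n : ℕ, y = g ^ n →
      Nat.card ↥(centralizer ({g} : Set ↥(chevF4.group K))) ≤ Nat.card ↥(centralizer ({y} : Set ↥(chevF4.group K))) := by
    rintro _ n rfl
    refine Nat.card_le_card_of_injective (Subgroup.inclusion ?_) (Subgroup.inclusion_injective _)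
    intro y hy
    rw [mem_centralizer_singleton_iff] at hy ⊢
    have h1 : Commute y g := hy
    exact h1.pow_right n
  by_cases hs1 : s = 1
  · rw [hs1, mul_one] at hij
    refine cb_unip (e := k) hq h3 h0 ?_ ?_ hl
    · rintro rfl
      rw [orderOf_one] at hg
      omega
    · rw [hij]; exact hi
  · apply num _ hq
    right; right; right
    refine le_trans (hle s j rfl) (hS s hs1 ?_)
    have h2 : orderOf s ∣ m := orderOf_dvd_of_pow_eq_one hj
    exact Nat.Coprime.coprime_dvd_left h2 hm.symm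

/-- `OC3e` from (U2) and (U4) -/
theorem oc3e_of (h2 : U2e K) (h1 : Z1e K) : OC3e K :=
  fun u hu hc => h2 u hu fun hcon => hc (h1 u hcon)

end Cfsg.Agent.H997.FE
end

-- part: H997/FE/OB
section
/-!
# S2452, `F₄(q)`, `q` even: `OB3e` from (U4) (helper997)
-/

set_option autoImplicit false
set_option linter.unusedSectionVars false

namespace Cfsg.Agent.H997.FE

open Subgroup CoxeterSystem Cfsg.Agent.ChevalleyStructure.CoxeterGeom Cfsg.Agent.Tits.Roots Cfsg.Agent.Tits.Core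
  Cfsg.Agent.Nodes.LeviDec Cfsg.Agent.Nodes.Coroot Cfsg.Agent.Nodes.RGDChev Cfsg.Agent.KFacts.RgdPar
open Cfsg.Lie Cfsg.Agent.ChevalleyStructure Cfsg.Agent.ChevalleyStructure.Elts
  Cfsg.Agent.ChevalleyStructure.RootVec Cfsg.Agent.ChevalleyStructure.NPerm
  Cfsg.Agent.ChevalleyStructure.CoxeterGeomTypes
open Cfsg.Agent.H701.F43.Cent (hF cF)
open Cfsg.Agent.H520.FC (PK VK XT cls d2)

universe u

variable {K : Type u} [Field K]

theorem ltL : ∀ r ∈ L4 ++ L1, r < chevF4.nroots := by decide +kernel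

theorem Z7_eq {L : List ℕ} (hL : ∀ r ∈ L, r < chevF4.nroots) : Z7 K L = H930.FC.Q K {r | r ∈ L} := by
  refine H930.FC.Sup_eq hL fun x => ?_
  constructor
  · rintro ⟨r, hr, rfl⟩
    exact ⟨r, hr, rfl⟩
  · rintro ⟨r, hr, rfl⟩
    exact ⟨r, hr, rfl⟩

/-- `OB3e` from (U4) -/
theorem ob3e_of [Finite K] (h4 : Z4e K) : OB3e K := by
  intro u hu hc
  refine H930.FC.spin hu fun hcon => hc (h4 u ?_)
  rw [Z7_eq fun r hr => ltL r (List.mem_append_left _ hr)]
  rw [H930.FC.V2_eq] at hcon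
  exact hcon

end Cfsg.Agent.H997.FE
end

-- part: H446/FE/UFour
section
/-!
# `F₄(q)`, `q` even: the centres of the radicals of the end parabolics (helper446, S2452 row `F₄(q)`, `q` even, box U4)

`K` a field of characteristic 2 with all square roots.

* `z_four`: every `u ∈ Z(V₄) = ⟨X_r : r = 41, …, 47⟩` is conjugate under `P_{B₃}` to `X 44 a * X 47 b`;
* `z_one`: every `u ∈ Z(V₁) = ⟨X_r : r = 29, 36, 38, 39, 40, 44, 47⟩` is conjugate under `P_{C₃}` to `X 44 a * X 47 b`.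
-/

set_option autoImplicit false
set_option linter.unusedSectionVars false
set_option linter.unusedSimpArgs false
set_option linter.unnecessarySeqFocus false
set_option linter.unreachableTactic false
set_option linter.unusedTactic false

namespace Cfsg.Agent.H446.FE

open CoxeterSystem Cfsg.Agent.ChevalleyStructure.CoxeterGeom Cfsg.Agent.Tits.Roots Cfsg.Agent.Tits.Core
  Cfsg.Agent.Tits.Exchange Cfsg.Agent.Nodes.Reps Cfsg.Agent.Nodes.BNOf Cfsg.Agent.Nodes.StabComb
  Cfsg.Agent.Nodes.Bruhat Cfsg.Agent.Nodes.OppDec Cfsg.Agent.Nodes.LeviDec Cfsg.Agent.Nodes.NormX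
  Cfsg.Agent.Nodes.Coroot Cfsg.Agent.Nodes.RGDChev Cfsg.Agent.KFacts.RgdPar Cfsg.Agent.KFacts.RgdTI
  Cfsg.Agent.KFacts.RgdCent Cfsg.Agent.KFacts.RgdChevCoord Cfsg.Agent.Nodes.ChevCls
  Cfsg.Agent.OddHalf.NI.ModelChev Cfsg.Agent.H225.PPow
open Cfsg.Lie Cfsg.Agent.ChevalleyStructure Cfsg.Agent.ChevalleyStructure.Elts
  Cfsg.Agent.ChevalleyStructure.RootVec Cfsg.Agent.ChevalleyStructure.NPerm
  Cfsg.Agent.ChevalleyStructure.CoxeterGeomTypes
open Cfsg.Agent.H701.F43.Cent (hF cF)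
open Cfsg.Agent.H520.FC Cfsg.Agent.H446.FC

universe u

variable {K : Type u} [Field K]

/-! ### the parabolic of type `B₃` -/

/-- the coordinates 41, …, 47 -/
theorem norm_E7 {a b c d e f g : K} (h : a ≠ 0 ∨ b ≠ 0 ∨ c ≠ 0 ∨ e ≠ 0 ∨ f ≠ 0 ∨ g ≠ 0) :
    ∃ a' b' c' d' e' f' g' : K, a' ≠ 0 ∧
      _root_.Cfsg.Agent.H520.FC.cls (PK K J0) (E7 a' b' c' d' e' f' g') = _root_.Cfsg.Agent.H520.FC.cls (PK K J0) (E7 a b c d e f g) := by
  by_cases ha : a = 0
  swap
  · exact ⟨a, b, c, d, e, f, g, ha, rfl⟩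
  subst ha
  by_cases hb : b = 0
  swap
  · obtain ⟨h1, -⟩ := _root_.Cfsg.Agent.H446.FC.step (by decide) (c23 1 0 b c d e f g)
    exact ⟨_, _, _, _, _, _, _, by simpa using hb, h1⟩
  by_cases hc : c = 0
  swap
  · obtain ⟨h1, -⟩ := _root_.Cfsg.Agent.H446.FC.step (by decide) (c21 1 0 b c d e f g)
    exact ⟨_, _, _, _, _, _, _, by simpa using hc, h1⟩
  by_cases he : e = 0
  swap
  · obtain ⟨h1, -⟩ := _root_.Cfsg.Agent.H446.FC.step (by decide) (c16 1 0 b c d e f g)
    exact ⟨_, _, _, _, _, _, _, by simpa using he, h1⟩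
  by_cases hf : f = 0
  swap
  · obtain ⟨h1, -⟩ := _root_.Cfsg.Agent.H446.FC.step (by decide) (c15 1 0 b c d e f g)
    exact ⟨_, _, _, _, _, _, _, by simpa using hf, h1⟩
  subst hb hc he hf
  have hg : g ≠ 0 := by simpa using h
  obtain ⟨h1, -⟩ := _root_.Cfsg.Agent.H446.FC.step (by decide) (c23 1 0 0 0 d 0 0 g)
  obtain ⟨h4, -⟩ := _root_.Cfsg.Agent.H446.FC.step (by decide) (c15 1 (0 - 1 * 0) 0 0 d 0 (0 - 1 * g) g)
  refine ⟨_, _, _, _, _, _, _, ?_, h4.trans h1⟩
  simpa using hg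

theorem E7_two (d g : K) : E7 0 0 0 d 0 0 g = X 44 d * X 47 g := by
  rw [← E_single (show 44 ∈ L7 by decide), ← E_single (show 47 ∈ L7 by decide), ← E_add, E7]
  refine E_congr fun r hr => ?_
  simp only [L7, List.mem_cons, List.not_mem_nil, or_false] at hr
  rcases hr with rfl | rfl | rfl | rfl | rfl | rfl | rfl <;> simp [v7, Pi.single_apply]

theorem mem_cls_self {Y : Type*} [Group Y] (P : Subgroup Y) (u : Y) : u ∈ _root_.Cfsg.Agent.H520.FC.cls P u := ⟨1, one_mem _, by group⟩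

/-- **`Z(V₄)`** -/
theorem z_four [Finite K] (h2 : (2 : K) = 0) {u : ↥(chevF4.group K)}
    (hu : u ∈ RGD.Sup (XX chevF4 4 K) {x | x ∈ NotJ cF hF.isCartan {k | k ≠ 0} ∧ 2 ≤ x 0}) :
    ∃ a b : K, X 44 a * X 47 b ∈ _root_.Cfsg.Agent.H520.FC.cls (PK K {k | k ≠ 0}) u := by
  obtain ⟨a, b, c, d, e, f, g, rfl⟩ := mem_layer hu
  by_cases h : a ≠ 0 ∨ b ≠ 0 ∨ c ≠ 0 ∨ e ≠ 0 ∨ f ≠ 0 ∨ g ≠ 0
  swap
  · push Not at h
    obtain ⟨rfl, rfl, rfl, rfl, rfl, rfl⟩ := h
    exact ⟨d, 0, by rw [← E7_two]; exact mem_cls_self _ _⟩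
  obtain ⟨a', b', c', d', e', f', g', ha, h3⟩ := norm_E7 (d := d) h
  obtain ⟨g'', h4, -⟩ := norm_two ha b' c' d' e' f' g'
  rw [← h3, ← h4]
  by_cases hg : g'' = 0
  · subst hg
    obtain ⟨h5, -⟩ := _root_.Cfsg.Agent.H446.FC.step (by decide) (c29 1 a' 0 0 0 0 0 0)
    obtain ⟨h6, -⟩ := _root_.Cfsg.Agent.H446.FC.step (by decide) (c18 (-1) a' 0 0 (0 - 1 * a') 0 0 (0 - 2 * 1 * 0 + 1 ^ 2 * a'))
    refine ⟨0, a', ?_⟩
    rw [← h5, ← h6]
    have e1 : a' - 2 * -1 * (0 - 1 * a') + (-1) ^ 2 * (0 - 2 * 1 * 0 + 1 ^ 2 * a') = 0 := by ring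
    have e2 : 0 - 1 * a' - -1 * (0 - 2 * 1 * 0 + 1 ^ 2 * a') = 0 := by ring
    have e3 : 0 - 2 * 1 * 0 + 1 ^ 2 * a' = a' := by ring
    rw [e1, e2, e3, ← E7_two]
    exact mem_cls_self _ _
  · -- `w² = a / g`
    have hch : CharP K 2 := CharTwo.of_one_ne_zero_of_two_eq_zero one_ne_zero h2
    obtain ⟨w, hw⟩ := FiniteField.isSquare_of_char_two (ringChar.eq K 2) (a' / g'')
    obtain ⟨h6, -⟩ := _root_.Cfsg.Agent.H446.FC.step (by decide) (c18 w a' 0 0 0 0 0 g'')
    refine ⟨0 - w * g'', g'', ?_⟩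
    have e1 : a' - 2 * w * 0 + w ^ 2 * g'' = 0 := by
      have : w ^ 2 * g'' = a' := by rw [pow_two, ← hw, div_mul_cancel₀ _ hg]
      rw [this]
      linear_combination a' * h2
    rw [← h6, e1, ← E7_two]
    exact mem_cls_self _ _

/-! ### the parabolic of type `C₃` -/

/-- the roots of `Z(V₁)` -/
def L1 : List ℕ := [29, 36, 38, 39, 40, 44, 47]

theorem lt_of_L1 {r : ℕ} (hr : r ∈ L1) : r < 48 := by
  simp only [L1, List.mem_cons, List.not_mem_nil, or_false] at hr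
  omega

/-- the roots of `C₃` used below -/
def S11 : List ℕ := [6, 10, 12, 13, 14, 33, 34, 35, 37, 41]

/-- the commutators without the even constants -/
def odd (s r : ℕ) : List (ℕ × ℤ × ℕ × ℕ) := (chevF4.commTerms s r).filter fun p => decide (p.2.1 % 2 ≠ 0)

theorem comm_tab1 : ∀ s ∈ L1, ∀ r ∈ L1, odd s r = [] ∧ r ≠ chevF4.neg s := by decide +kernel

theorem int_even (h2 : (2 : K) = 0) {n : ℤ} (hn : n % 2 = 0) : (n : K) = 0 := by
  obtain ⟨m, rfl⟩ := Int.dvd_of_emod_eq_zero hn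
  push_cast
  rw [h2, zero_mul]

/-- the commutator relation in characteristic 2 -/
theorem rel2 (h2 : (2 : K) = 0) {s r : ℕ} (hs : s < 48) (hr : r < 48) (h1 : r ≠ s) (h3 : r ≠ chevF4.neg s) (u t : K) :
    (X s u)⁻¹ * X r t * X s u = X r t * ((odd s r).map fun p => X p.1 (u ^ p.2.2.1 * t ^ p.2.2.2)).prod := by
  have hodd : ∀ n : ℤ, n % 2 ≠ 0 → (n : K) = 1 := by
    intro n hn
    have h4 : (n - 1) % 2 = 0 := by omega
    have h5 := int_even h2 h4
    push_cast at h5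
    exact sub_eq_zero.1 h5
  have hneg : -u = u := by linear_combination (-u) * h2
  rw [rel hs hr h1 h3, odd]
  congr 1
  rw [hneg]
  generalize chevF4.commTerms s r = l
  induction l with
  | nil => rfl
  | cons p l ih =>
    rw [List.map_cons, List.prod_cons, ih, List.filter_cons]
    by_cases hp : p.2.1 % 2 ≠ 0
    · rw [if_pos (by simpa only [_root_.ne_eq, _root_.EuclideanDomain.mod_eq_zero, _root_.Int.two_dvd_ne_zero, _root_.decide_eq_true_eq] using hp), List.map_cons, List.prod_cons, hodd _ hp, one_mul]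
    · rw [if_neg (by simpa only [_root_.ne_eq, _root_.EuclideanDomain.mod_eq_zero, _root_.Int.two_dvd_ne_zero, _root_.decide_eq_true_eq, _root_.Int.emod_two_ne_one] using hp), int_even h2 (by simpa using hp), zero_mul, zero_mul, X_zero, one_mul]

theorem X_comm1 (h2 : (2 : K) = 0) {r s : ℕ} (hr : r ∈ L1) (hs : s ∈ L1) (t u : K) : Commute (X r t) (X s u) := by
  by_cases h : r = s
  · subst h
    show X r t * X r u = X r u * X r t
    rw [← X_add, ← X_add, add_comm]
  · have h1 := rel2 h2 (lt_of_L1 hs) (lt_of_L1 hr) h (comm_tab1 s hs r hr).2 u t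
    rw [(comm_tab1 s hs r hr).1, List.map_nil, List.prod_nil, mul_one] at h1
    show X r t * X s u = X s u * X r t
    rw [mul_assoc, inv_mul_eq_iff_eq_mul] at h1
    exact h1

theorem EL_add1 (h2 : (2 : K) = 0) (l : List ℕ) (hl : ∀ r ∈ l, r ∈ L1) (t t' : ℕ → K) :
    EL l (t + t') = EL l t * EL l t' := by
  induction l with
  | nil => simp [EL]
  | cons r l ih =>
    have h1 := ih fun s hs => hl s (List.mem_cons_of_mem _ hs)
    have h3 : Commute (X r (t' r)) (EL l t) := by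
      refine Commute.list_prod_right _ _ fun x hx => ?_
      obtain ⟨s, hs, rfl⟩ := List.mem_map.1 hx
      exact X_comm1 h2 (hl r List.mem_cons_self) (hl s (List.mem_cons_of_mem _ hs)) _ _
    have e : ∀ f : ℕ → K, EL (r :: l) f = X r (f r) * EL l f := fun f => by simp [EL]
    rw [e, e, e, h1, Pi.add_apply, X_add]
    calc X r (t r) * X r (t' r) * (EL l t * EL l t') = X r (t r) * (X r (t' r) * EL l t) * EL l t' := by group
      _ = X r (t r) * (EL l t * X r (t' r)) * EL l t' := by rw [h3.eq]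
      _ = X r (t r) * EL l t * (X r (t' r) * EL l t') := by group

theorem EL1_add (h2 : (2 : K) = 0) (t t' : ℕ → K) : EL L1 (t + t') = EL L1 t * EL L1 t' :=
  EL_add1 h2 L1 (fun _ h => h) t t'

theorem EL1_congr {t t' : ℕ → K} (h : ∀ r ∈ L1, t r = t' r) : EL L1 t = EL L1 t' := by
  unfold EL
  congr 1
  exact List.map_congr_left fun r hr => by rw [h r hr]

theorem EL1_zero : EL L1 (0 : ℕ → K) = 1 := by simp [EL, L1, X_zero]

theorem EL1_single {r : ℕ} (hr : r ∈ L1) (a : K) : EL L1 (Pi.single r a) = X r a := by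
  simp only [L1, List.mem_cons, List.not_mem_nil, or_false] at hr
  rcases hr with rfl | rfl | rfl | rfl | rfl | rfl | rfl <;>
  simp [EL, L1, X_zero, Pi.single_apply]

/-- the image of `X r a` under `(X s u)⁻¹` -/
noncomputable def Mat1 (s : ℕ) (u : K) (r : ℕ) (a : K) : ℕ → K :=
  Pi.single r a + ((odd s r).map fun p => (Pi.single p.1 (u ^ p.2.2.1 * a ^ p.2.2.2) : ℕ → K)).sum

theorem S11_tab : ∀ s ∈ S11, ∀ r ∈ L1, s < 48 ∧ r ≠ s ∧ r ≠ chevF4.neg s ∧ ∀ p ∈ odd s r, p.1 ∈ L1 := by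
  decide +kernel

theorem EL1_sum (h2 : (2 : K) = 0) {α : Type*} (l : List α) (n : α → ℕ) (c : α → K) (hl : ∀ p ∈ l, n p ∈ L1) :
    EL L1 ((l.map fun p => (Pi.single (n p) (c p) : ℕ → K)).sum) = (l.map fun p => X (n p) (c p)).prod := by
  induction l with
  | nil => simp [EL1_zero]
  | cons p l ih =>
    rw [List.map_cons, List.map_cons, List.sum_cons, List.prod_cons, EL1_add h2, EL1_single (hl p List.mem_cons_self),
      ih fun q hq => hl q (List.mem_cons_of_mem _ hq)]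

theorem conj_X1 (h2 : (2 : K) = 0) {s r : ℕ} (hs : s ∈ S11) (hr : r ∈ L1) (u a : K) :
    (X s u)⁻¹ * X r a * X s u = EL L1 (Mat1 s u r a) := by
  obtain ⟨h0, h1, h3, h4⟩ := S11_tab s hs r hr
  rw [rel2 h2 h0 (lt_of_L1 hr) h1 h3, Mat1, EL1_add h2, EL1_single hr,
    EL1_sum h2 _ (fun p : ℕ × ℤ × ℕ × ℕ => p.1) (fun p => u ^ p.2.2.1 * a ^ p.2.2.2) h4]

theorem conj_EL1 (h2 : (2 : K) = 0) {s : ℕ} (hs : s ∈ S11) (u : K) (t : ℕ → K) (l : List ℕ) (hl : ∀ r ∈ l, r ∈ L1) :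
    (X s u)⁻¹ * EL l t * X s u = EL L1 ((l.map fun r => Mat1 s u r (t r)).sum) := by
  induction l with
  | nil =>
    show (X s u)⁻¹ * 1 * X s u = EL L1 0
    rw [EL1_zero]
    group
  | cons r l ih =>
    have e : EL (r :: l) t = X r (t r) * EL l t := by simp [EL]
    rw [e, List.map_cons, List.sum_cons, EL1_add h2, ← ih fun q hq => hl q (List.mem_cons_of_mem _ hq),
      ← conj_X1 h2 hs (hl r List.mem_cons_self)]
    group

/-- coordinates as a tuple -/
def w7 (a b c d e f g : K) : ℕ → K := fun j =>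
  if j = 29 then a else if j = 36 then b else if j = 38 then c else if j = 39 then d else if j = 40 then e else
  if j = 44 then f else if j = 47 then g else 0

/-- the element with the coordinates `a, …, g` -/
noncomputable def F7 (a b c d e f g : K) : ↥(chevF4.group K) := EL L1 (w7 a b c d e f g)

theorem EL1_eq (t : ℕ → K) : EL L1 t = F7 (t 29) (t 36) (t 38) (t 39) (t 40) (t 44) (t 47) := by
  refine EL1_congr fun r hr => ?_
  simp only [L1, List.mem_cons, List.not_mem_nil, or_false] at hr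
  rcases hr with rfl | rfl | rfl | rfl | rfl | rfl | rfl <;> simp [w7]

theorem conj_F7 (h2 : (2 : K) = 0) {s : ℕ} (hs : s ∈ S11) (u a b c d e f g a' b' c' d' e' f' g' : K)
    (h : ∀ j ∈ L1, Mat1 s u 29 a j + (Mat1 s u 36 b j + (Mat1 s u 38 c j + (Mat1 s u 39 d j + (Mat1 s u 40 e j +
      (Mat1 s u 44 f j + Mat1 s u 47 g j))))) = w7 a' b' c' d' e' f' g' j) :
    (X s u)⁻¹ * F7 a b c d e f g * X s u = F7 a' b' c' d' e' f' g' := by
  rw [F7, conj_EL1 h2 hs u _ L1 (fun _ h => h)]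
  refine EL1_congr fun r hr => ?_
  rw [← h r hr]
  simp [L1, w7]

theorem o6 : odd 6 29 = [] ∧
    odd 6 36 = [] ∧
    odd 6 38 = [] ∧
    odd 6 39 = [] ∧
    odd 6 40 = [] ∧
    odd 6 44 = [(29, -1, 1, 1), (47, -1, 1, 2)] ∧
    odd 6 47 = [] := by decide +kernel

theorem d6 (h2 : (2 : K) = 0) (u a b c d e f g : K) :
    (X 6 u)⁻¹ * F7 a b c d e f g * X 6 u = F7 (a + u * f) b c d e f (g + u * f ^ 2) :=
  conj_F7 h2 (by decide) u a b c d e f g _ _ _ _ _ _ _ (by
    obtain ⟨h1, h3, h4, h5, h6, h7, h8⟩ := o6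
    intro j hj
    simp only [Mat1, h1, h3, h4, h5, h6, h7, h8]
    simp only [L1, List.mem_cons, List.not_mem_nil, or_false] at hj
    rcases hj with rfl | rfl | rfl | rfl | rfl | rfl | rfl <;> simp only [w7, Pi.single_apply, _root_.List.map_nil, _root_.List.sum_nil, _root_.Pi.add_apply, _root_.Pi.single_eq_same, _root_.Pi.zero_apply, _root_.add_zero, _root_.ne_eq, _root_.Nat.reduceEqDiff, _root_.not_false_eq_true, _root_.Pi.single_eq_of_ne, _root_.Int.reduceNeg, _root_.List.map_cons, _root_.pow_one, _root_.List.sum_cons, _root_.zero_add, ↓ _root_.reduceIte, _root_.Nat.succ_ne_self] <;> ring)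

theorem o10 : odd 10 29 = [] ∧
    odd 10 36 = [] ∧
    odd 10 38 = [] ∧
    odd 10 39 = [] ∧
    odd 10 40 = [(29, -1, 1, 1)] ∧
    odd 10 44 = [(36, -1, 1, 1)] ∧
    odd 10 47 = [] := by decide +kernel

theorem d10 (h2 : (2 : K) = 0) (u a b c d e f g : K) :
    (X 10 u)⁻¹ * F7 a b c d e f g * X 10 u = F7 (a + u * e) (b + u * f) c d e f g :=
  conj_F7 h2 (by decide) u a b c d e f g _ _ _ _ _ _ _ (by
    obtain ⟨h1, h3, h4, h5, h6, h7, h8⟩ := o10
    intro j hj
    simp only [Mat1, h1, h3, h4, h5, h6, h7, h8]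
    simp only [L1, List.mem_cons, List.not_mem_nil, or_false] at hj
    rcases hj with rfl | rfl | rfl | rfl | rfl | rfl | rfl <;> simp only [w7, Pi.single_apply, _root_.List.map_nil, _root_.List.sum_nil, _root_.Pi.add_apply, _root_.Pi.single_eq_same, _root_.Pi.zero_apply, _root_.add_zero, _root_.ne_eq, _root_.Nat.reduceEqDiff, _root_.not_false_eq_true, _root_.Pi.single_eq_of_ne, _root_.Int.reduceNeg, _root_.List.map_cons, _root_.pow_one, _root_.List.sum_cons, _root_.zero_add, ↓ _root_.reduceIte, _root_.Nat.succ_ne_self] <;> ring)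

theorem o12 : odd 12 29 = [] ∧
    odd 12 36 = [] ∧
    odd 12 38 = [] ∧
    odd 12 39 = [(29, 1, 1, 1)] ∧
    odd 12 40 = [] ∧
    odd 12 44 = [(38, -1, 1, 1)] ∧
    odd 12 47 = [] := by decide +kernel

theorem d12 (h2 : (2 : K) = 0) (u a b c d e f g : K) :
    (X 12 u)⁻¹ * F7 a b c d e f g * X 12 u = F7 (a + u * d) b (c + u * f) d e f g :=
  conj_F7 h2 (by decide) u a b c d e f g _ _ _ _ _ _ _ (by
    obtain ⟨h1, h3, h4, h5, h6, h7, h8⟩ := o12
    intro j hj
    simp only [Mat1, h1, h3, h4, h5, h6, h7, h8]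
    simp only [L1, List.mem_cons, List.not_mem_nil, or_false] at hj
    rcases hj with rfl | rfl | rfl | rfl | rfl | rfl | rfl <;> simp only [w7, Pi.single_apply, _root_.List.map_nil, _root_.List.sum_nil, _root_.Pi.add_apply, _root_.Pi.single_eq_same, _root_.Pi.zero_apply, _root_.add_zero, _root_.ne_eq, _root_.Nat.reduceEqDiff, _root_.not_false_eq_true, _root_.Pi.single_eq_of_ne, _root_.List.map_cons, _root_.pow_one, _root_.List.sum_cons, _root_.zero_add, _root_.Int.reduceNeg, ↓ _root_.reduceIte, _root_.Nat.succ_ne_self] <;> ring)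

theorem o13 : odd 13 29 = [] ∧
    odd 13 36 = [] ∧
    odd 13 38 = [(29, 1, 1, 1)] ∧
    odd 13 39 = [] ∧
    odd 13 40 = [] ∧
    odd 13 44 = [(39, 1, 1, 1)] ∧
    odd 13 47 = [] := by decide +kernel

theorem d13 (h2 : (2 : K) = 0) (u a b c d e f g : K) :
    (X 13 u)⁻¹ * F7 a b c d e f g * X 13 u = F7 (a + u * c) b c (d + u * f) e f g :=
  conj_F7 h2 (by decide) u a b c d e f g _ _ _ _ _ _ _ (by
    obtain ⟨h1, h3, h4, h5, h6, h7, h8⟩ := o13
    intro j hj
    simp only [Mat1, h1, h3, h4, h5, h6, h7, h8]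
    simp only [L1, List.mem_cons, List.not_mem_nil, or_false] at hj
    rcases hj with rfl | rfl | rfl | rfl | rfl | rfl | rfl <;> simp only [w7, Pi.single_apply, _root_.List.map_nil, _root_.List.sum_nil, _root_.Pi.add_apply, _root_.Pi.single_eq_same, _root_.Pi.zero_apply, _root_.add_zero, _root_.ne_eq, _root_.Nat.reduceEqDiff, _root_.not_false_eq_true, _root_.Pi.single_eq_of_ne, _root_.List.map_cons, _root_.pow_one, _root_.List.sum_cons, _root_.zero_add, ↓ _root_.reduceIte, _root_.Nat.succ_ne_self] <;> ring)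

theorem o14 : odd 14 29 = [] ∧
    odd 14 36 = [(29, -1, 1, 1)] ∧
    odd 14 38 = [] ∧
    odd 14 39 = [] ∧
    odd 14 40 = [] ∧
    odd 14 44 = [(40, 1, 1, 1)] ∧
    odd 14 47 = [] := by decide +kernel

theorem d14 (h2 : (2 : K) = 0) (u a b c d e f g : K) :
    (X 14 u)⁻¹ * F7 a b c d e f g * X 14 u = F7 (a + u * b) b c d (e + u * f) f g :=
  conj_F7 h2 (by decide) u a b c d e f g _ _ _ _ _ _ _ (by
    obtain ⟨h1, h3, h4, h5, h6, h7, h8⟩ := o14
    intro j hj
    simp only [Mat1, h1, h3, h4, h5, h6, h7, h8]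
    simp only [L1, List.mem_cons, List.not_mem_nil, or_false] at hj
    rcases hj with rfl | rfl | rfl | rfl | rfl | rfl | rfl <;> simp only [w7, Pi.single_apply, _root_.List.map_nil, _root_.List.sum_nil, _root_.Pi.add_apply, _root_.Pi.single_eq_same, _root_.Pi.zero_apply, _root_.add_zero, _root_.Int.reduceNeg, _root_.List.map_cons, _root_.pow_one, _root_.List.sum_cons, _root_.ne_eq, _root_.Nat.reduceEqDiff, _root_.not_false_eq_true, _root_.Pi.single_eq_of_ne, _root_.zero_add, ↓ _root_.reduceIte, _root_.Nat.succ_ne_self] <;> ring)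

theorem o33 : odd 33 29 = [(36, -1, 1, 1)] ∧
    odd 33 36 = [] ∧
    odd 33 38 = [] ∧
    odd 33 39 = [] ∧
    odd 33 40 = [(44, 1, 1, 1)] ∧
    odd 33 44 = [] ∧
    odd 33 47 = [] := by decide +kernel

theorem d33 (h2 : (2 : K) = 0) (u a b c d e f g : K) :
    (X 33 u)⁻¹ * F7 a b c d e f g * X 33 u = F7 a (b + u * a) c d e (f + u * e) g :=
  conj_F7 h2 (by decide) u a b c d e f g _ _ _ _ _ _ _ (by
    obtain ⟨h1, h3, h4, h5, h6, h7, h8⟩ := o33
    intro j hj
    simp only [Mat1, h1, h3, h4, h5, h6, h7, h8]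
    simp only [L1, List.mem_cons, List.not_mem_nil, or_false] at hj
    rcases hj with rfl | rfl | rfl | rfl | rfl | rfl | rfl <;> simp only [w7, Pi.single_apply, _root_.Int.reduceNeg, _root_.List.map_cons, _root_.pow_one, _root_.List.map_nil, _root_.List.sum_cons, _root_.List.sum_nil, _root_.add_zero, _root_.Pi.add_apply, _root_.Pi.single_eq_same, _root_.ne_eq, _root_.Nat.reduceEqDiff, _root_.not_false_eq_true, _root_.Pi.single_eq_of_ne, _root_.Pi.zero_apply, ↓ _root_.reduceIte, _root_.zero_add, _root_.Nat.succ_ne_self] <;> ring)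

theorem o34 : odd 34 29 = [(38, 1, 1, 1)] ∧
    odd 34 36 = [] ∧
    odd 34 38 = [] ∧
    odd 34 39 = [(44, 1, 1, 1)] ∧
    odd 34 40 = [] ∧
    odd 34 44 = [] ∧
    odd 34 47 = [] := by decide +kernel

theorem d34 (h2 : (2 : K) = 0) (u a b c d e f g : K) :
    (X 34 u)⁻¹ * F7 a b c d e f g * X 34 u = F7 a b (c + u * a) d e (f + u * d) g :=
  conj_F7 h2 (by decide) u a b c d e f g _ _ _ _ _ _ _ (by
    obtain ⟨h1, h3, h4, h5, h6, h7, h8⟩ := o34
    intro j hj
    simp only [Mat1, h1, h3, h4, h5, h6, h7, h8]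
    simp only [L1, List.mem_cons, List.not_mem_nil, or_false] at hj
    rcases hj with rfl | rfl | rfl | rfl | rfl | rfl | rfl <;> simp only [w7, Pi.single_apply, _root_.List.map_cons, _root_.pow_one, _root_.List.map_nil, _root_.List.sum_cons, _root_.List.sum_nil, _root_.add_zero, _root_.Pi.add_apply, _root_.Pi.single_eq_same, _root_.ne_eq, _root_.Nat.reduceEqDiff, _root_.not_false_eq_true, _root_.Pi.single_eq_of_ne, _root_.Pi.zero_apply, ↓ _root_.reduceIte, _root_.zero_add, _root_.Nat.succ_ne_self] <;> ring)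

theorem o35 : odd 35 29 = [(39, 1, 1, 1)] ∧
    odd 35 36 = [] ∧
    odd 35 38 = [(44, -1, 1, 1)] ∧
    odd 35 39 = [] ∧
    odd 35 40 = [] ∧
    odd 35 44 = [] ∧
    odd 35 47 = [] := by decide +kernel

theorem d35 (h2 : (2 : K) = 0) (u a b c d e f g : K) :
    (X 35 u)⁻¹ * F7 a b c d e f g * X 35 u = F7 a b c (d + u * a) e (f + u * c) g :=
  conj_F7 h2 (by decide) u a b c d e f g _ _ _ _ _ _ _ (by
    obtain ⟨h1, h3, h4, h5, h6, h7, h8⟩ := o35
    intro j hj
    simp only [Mat1, h1, h3, h4, h5, h6, h7, h8]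
    simp only [L1, List.mem_cons, List.not_mem_nil, or_false] at hj
    rcases hj with rfl | rfl | rfl | rfl | rfl | rfl | rfl <;> simp only [w7, Pi.single_apply, _root_.List.map_cons, _root_.pow_one, _root_.List.map_nil, _root_.List.sum_cons, _root_.List.sum_nil, _root_.add_zero, _root_.Pi.add_apply, _root_.Pi.single_eq_same, _root_.ne_eq, _root_.Nat.reduceEqDiff, _root_.not_false_eq_true, _root_.Pi.single_eq_of_ne, _root_.Pi.zero_apply, _root_.Int.reduceNeg, ↓ _root_.reduceIte, _root_.zero_add, _root_.Nat.succ_ne_self] <;> ring)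

theorem o37 : odd 37 29 = [(40, -1, 1, 1)] ∧
    odd 37 36 = [(44, -1, 1, 1)] ∧
    odd 37 38 = [] ∧
    odd 37 39 = [] ∧
    odd 37 40 = [] ∧
    odd 37 44 = [] ∧
    odd 37 47 = [] := by decide +kernel

theorem d37 (h2 : (2 : K) = 0) (u a b c d e f g : K) :
    (X 37 u)⁻¹ * F7 a b c d e f g * X 37 u = F7 a b c d (e + u * a) (f + u * b) g :=
  conj_F7 h2 (by decide) u a b c d e f g _ _ _ _ _ _ _ (by
    obtain ⟨h1, h3, h4, h5, h6, h7, h8⟩ := o37
    intro j hj
    simp only [Mat1, h1, h3, h4, h5, h6, h7, h8]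
    simp only [L1, List.mem_cons, List.not_mem_nil, or_false] at hj
    rcases hj with rfl | rfl | rfl | rfl | rfl | rfl | rfl <;> simp only [w7, Pi.single_apply, _root_.Int.reduceNeg, _root_.List.map_cons, _root_.pow_one, _root_.List.map_nil, _root_.List.sum_cons, _root_.List.sum_nil, _root_.add_zero, _root_.Pi.add_apply, _root_.Pi.single_eq_same, _root_.ne_eq, _root_.Nat.reduceEqDiff, _root_.not_false_eq_true, _root_.Pi.single_eq_of_ne, _root_.Pi.zero_apply, ↓ _root_.reduceIte, _root_.zero_add, _root_.Nat.succ_ne_self] <;> ring)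

theorem o41 : odd 41 29 = [(44, -1, 1, 1), (47, 1, 1, 2)] ∧
    odd 41 36 = [] ∧
    odd 41 38 = [] ∧
    odd 41 39 = [] ∧
    odd 41 40 = [] ∧
    odd 41 44 = [] ∧
    odd 41 47 = [] := by decide +kernel

theorem d41 (h2 : (2 : K) = 0) (u a b c d e f g : K) :
    (X 41 u)⁻¹ * F7 a b c d e f g * X 41 u = F7 a b c d e (f + u * a) (g + u * a ^ 2) :=
  conj_F7 h2 (by decide) u a b c d e f g _ _ _ _ _ _ _ (by
    obtain ⟨h1, h3, h4, h5, h6, h7, h8⟩ := o41
    intro j hj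
    simp only [Mat1, h1, h3, h4, h5, h6, h7, h8]
    simp only [L1, List.mem_cons, List.not_mem_nil, or_false] at hj
    rcases hj with rfl | rfl | rfl | rfl | rfl | rfl | rfl <;> simp only [w7, Pi.single_apply, _root_.Int.reduceNeg, _root_.List.map_cons, _root_.pow_one, _root_.List.map_nil, _root_.List.sum_cons, _root_.List.sum_nil, _root_.add_zero, _root_.Pi.add_apply, _root_.Pi.single_eq_same, _root_.ne_eq, _root_.Nat.reduceEqDiff, _root_.not_false_eq_true, _root_.Pi.single_eq_of_ne, _root_.Pi.zero_apply, ↓ _root_.reduceIte, _root_.zero_add, _root_.Nat.succ_ne_self] <;> ring)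

/-! ### the classes -/

/-- the nodes of `C₃` -/
abbrev J3 : Set (Fin 4) := {k | k ≠ 3}

theorem S11_zero : ∀ s ∈ S11, s < chevF4.nroots ∧ vec chevF4 4 s 3 = 0 := by decide +kernel

theorem X_mem_PK3 {s : ℕ} (hs : s ∈ S11) (t : K) : X s t ∈ PK K J3 := by
  obtain ⟨h1, h2⟩ := S11_zero s hs
  refine LJ_le_PJ (X_le_LJ (x := vec chevF4 4 s) ⟨isRoot_vec hF cF h1, fun k hk => ?_⟩ (X_mem_XX h1 t))
  have : k = 3 := by simpa using hk
  rw [this, h2]

theorem step3 {u u' : ↥(chevF4.group K)} {s : ℕ} (hs : s ∈ S11) {c : K} (h : (X s c)⁻¹ * u * X s c = u') :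
    _root_.Cfsg.Agent.H520.FC.cls (PK K J3) u' = _root_.Cfsg.Agent.H520.FC.cls (PK K J3) u := by
  have e : u' = (X s c)⁻¹ * u * ((X s c)⁻¹)⁻¹ := by rw [inv_inv, h]
  rw [e]
  exact cls_conj _ ((PK K J3).inv_mem (X_mem_PK3 hs c)) u

theorem F7_two (f g : K) : F7 0 0 0 0 0 f g = X 44 f * X 47 g := by
  simp [F7, EL, L1, w7, X_zero]

theorem norm_F7 (h2 : (2 : K) = 0) {a b c d e f g : K} (h : a ≠ 0 ∨ b ≠ 0 ∨ c ≠ 0 ∨ d ≠ 0 ∨ e ≠ 0 ∨ f ≠ 0) :
    ∃ a' b' c' d' e' f' g' : K, a' ≠ 0 ∧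
      _root_.Cfsg.Agent.H520.FC.cls (PK K J3) (F7 a' b' c' d' e' f' g') = _root_.Cfsg.Agent.H520.FC.cls (PK K J3) (F7 a b c d e f g) := by
  by_cases ha : a = 0
  swap
  · exact ⟨a, b, c, d, e, f, g, ha, rfl⟩
  subst ha
  by_cases hb : b = 0
  swap
  · exact ⟨_, _, _, _, _, _, _, by simpa using hb, step3 (by decide) (d14 h2 1 0 b c d e f g)⟩
  by_cases hc : c = 0
  swap
  · exact ⟨_, _, _, _, _, _, _, by simpa using hc, step3 (by decide) (d13 h2 1 0 b c d e f g)⟩
  by_cases hd : d = 0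
  swap
  · exact ⟨_, _, _, _, _, _, _, by simpa using hd, step3 (by decide) (d12 h2 1 0 b c d e f g)⟩
  by_cases he : e = 0
  swap
  · exact ⟨_, _, _, _, _, _, _, by simpa using he, step3 (by decide) (d10 h2 1 0 b c d e f g)⟩
  have hf : f ≠ 0 := by simpa [hb, hc, hd, he] using h
  exact ⟨_, _, _, _, _, _, _, by simpa using hf, step3 (by decide) (d6 h2 1 0 b c d e f g)⟩

theorem norm_F7_two (h2 : (2 : K) = 0) {a : K} (ha : a ≠ 0) (b c d e f g : K) :
    ∃ g' : K, _root_.Cfsg.Agent.H520.FC.cls (PK K J3) (F7 a 0 0 0 0 0 g') = _root_.Cfsg.Agent.H520.FC.cls (PK K J3) (F7 a b c d e f g) := by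
  have hk : ∀ x : K, x + x / a * a = 0 := by
    intro x
    rw [div_mul_cancel₀ _ ha]
    linear_combination x * h2
  have h1 := step3 (by decide) (d33 h2 (b / a) a b c d e f g)
  rw [hk] at h1
  generalize f + b / a * e = f1 at h1
  have h3 := step3 (by decide) (d34 h2 (c / a) a 0 c d e f1 g)
  rw [hk] at h3
  generalize f1 + c / a * d = f2 at h3
  have h4 := step3 (by decide) (d35 h2 (d / a) a 0 0 d e f2 g)
  rw [hk] at h4
  generalize f2 + d / a * 0 = f3 at h4
  have h5 := step3 (by decide) (d37 h2 (e / a) a 0 0 0 e f3 g)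
  rw [hk] at h5
  generalize f3 + e / a * 0 = f4 at h5
  have h6 := step3 (by decide) (d41 h2 (f4 / a) a 0 0 0 0 f4 g)
  rw [hk] at h6
  exact ⟨_, h6.trans (h5.trans (h4.trans (h3.trans h1)))⟩

/-- the group `Z(V₁)` -/
theorem mem_zOne (h2 : (2 : K) = 0) {u : ↥(chevF4.group K)}
    (hu : u ∈ RGD.Sup (XX chevF4 4 K) {x | ∃ r ∈ L1, x = vec chevF4 4 r}) :
    ∃ a b c d e f g : K, u = F7 a b c d e f g := by
  let A : Subgroup ↥(chevF4.group K) :=
    { carrier := {u | ∃ t : ℕ → K, u = EL L1 t}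
      one_mem' := ⟨0, EL1_zero.symm⟩
      mul_mem' := by
        rintro _ _ ⟨t, rfl⟩ ⟨t', rfl⟩
        exact ⟨t + t', (EL1_add h2 t t').symm⟩
      inv_mem' := by
        rintro _ ⟨t, rfl⟩
        refine ⟨-t, ?_⟩
        rw [inv_eq_iff_mul_eq_one, ← EL1_add h2, add_neg_cancel, EL1_zero] }
  have hle : RGD.Sup (XX chevF4 4 K) {x | ∃ r ∈ L1, x = vec chevF4 4 r} ≤ A := by
    refine RGD.Sup_le ?_
    rintro x ⟨r, hr, rfl⟩ y hy
    have hr' : r < chevF4.nroots := lt_of_L1 hr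
    rw [Subgroup.mem_subgroupOf, XV_vec hF K hr'] at hy
    obtain ⟨t, ht⟩ := (mem_rootSubgroup_iff inF4 r _).1 hy
    refine ⟨Pi.single r t, ?_⟩
    rw [EL1_single hr]
    exact Subtype.ext ht
  obtain ⟨t, rfl⟩ := hle hu
  exact ⟨_, _, _, _, _, _, _, EL1_eq t⟩

/-- **`Z(V₁)`** -/
theorem z_one (h2 : (2 : K) = 0) {u : ↥(chevF4.group K)}
    (hu : u ∈ RGD.Sup (XX chevF4 4 K) {x | ∃ r ∈ L1, x = vec chevF4 4 r}) :
    ∃ a b : K, X 44 a * X 47 b ∈ _root_.Cfsg.Agent.H520.FC.cls (PK K {k | k ≠ 3}) u := by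
  obtain ⟨a, b, c, d, e, f, g, rfl⟩ := mem_zOne h2 hu
  by_cases h : a ≠ 0 ∨ b ≠ 0 ∨ c ≠ 0 ∨ d ≠ 0 ∨ e ≠ 0 ∨ f ≠ 0
  swap
  · push Not at h
    obtain ⟨rfl, rfl, rfl, rfl, rfl, rfl⟩ := h
    exact ⟨0, g, by rw [← F7_two]; exact mem_cls_self _ _⟩
  obtain ⟨a', b', c', d', e', f', g', ha, h3⟩ := norm_F7 h2 (g := g) h
  obtain ⟨g'', h4⟩ := norm_F7_two h2 ha b' c' d' e' f' g'
  rw [← h3, ← h4]
  have h5 := step3 (by decide) (d41 h2 1 a' 0 0 0 0 0 g'')
  have h6 := step3 (by decide) (d6 h2 1 a' 0 0 0 0 (0 + 1 * a') (g'' + 1 * a' ^ 2))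
  refine ⟨a', g'', ?_⟩
  rw [← h5, ← h6]
  have e1 : a' + 1 * (0 + 1 * a') = 0 := by linear_combination a' * h2
  have e2 : g'' + 1 * a' ^ 2 + 1 * (0 + 1 * a') ^ 2 = g'' := by linear_combination a' ^ 2 * h2
  have e3 : (0 : K) + 1 * a' = a' := by ring
  rw [e1, e2, e3, ← F7_two]
  exact mem_cls_self _ _

end Cfsg.Agent.H446.FE
end

-- part: H446/FE/ZFour
section
/-!
# `F₄(q)`, `q` even: the centres of the radicals consist of `2`-central elements (helper446, S2452, box U4)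

`cen_of`: `X 44 a * X 47 b` is central in `U`, characteristic 2; `z4e : Z4e K`, `z1e : Z1e K`.
-/

set_option autoImplicit false
set_option linter.unusedSectionVars false

namespace Cfsg.Agent.H446.FE

open CoxeterSystem Cfsg.Agent.ChevalleyStructure.CoxeterGeom Cfsg.Agent.Tits.Roots Cfsg.Agent.Tits.Core
  Cfsg.Agent.Tits.Exchange Cfsg.Agent.Nodes.Reps Cfsg.Agent.Nodes.BNOf Cfsg.Agent.Nodes.StabComb
  Cfsg.Agent.Nodes.Bruhat Cfsg.Agent.Nodes.OppDec Cfsg.Agent.Nodes.LeviDec Cfsg.Agent.Nodes.NormX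
  Cfsg.Agent.Nodes.Coroot Cfsg.Agent.Nodes.RGDChev Cfsg.Agent.KFacts.RgdPar Cfsg.Agent.KFacts.RgdTI
  Cfsg.Agent.KFacts.RgdCent Cfsg.Agent.KFacts.RgdChevCoord Cfsg.Agent.Nodes.ChevCls
  Cfsg.Agent.OddHalf.NI.ModelChev Cfsg.Agent.H225.PPow
open Cfsg.Lie Cfsg.Agent.ChevalleyStructure Cfsg.Agent.ChevalleyStructure.Elts
  Cfsg.Agent.ChevalleyStructure.RootVec Cfsg.Agent.ChevalleyStructure.NPerm
  Cfsg.Agent.ChevalleyStructure.CoxeterGeomTypes
open Cfsg.Agent.H701.F43.Cent (hF cF)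
open Cfsg.Agent.H520.FC Cfsg.Agent.H446.FC
open Cfsg.Agent.H997.FE (UU Cen Z7 Z1e Z4e)

universe u

variable {K : Type u} [Field K]

theorem pos_tab : ∀ s < chevF4.nroots, (∀ i : Fin 4, 0 ≤ vec chevF4 4 s i) → ∀ r ∈ [44, 47], r ≠ s →
    odd s r = [] ∧ r ≠ chevF4.neg s := by
  decide +kernel

theorem mem_UU_of_pos {r : ℕ} (hr : r < chevF4.nroots) (h0 : ∀ i : Fin 4, 0 ≤ vec chevF4 4 r i) (t : K) :
    X r t ∈ UU K :=
  RGD.le_Sup (X := XX chevF4 4 K) (S := RGD.Pos cF hF.isCartan) ⟨isRoot_vec hF cF hr, h0⟩ (X_mem_XX hr t)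

/-- `X 44 a * X 47 b` is central in `U` -/
theorem central (h2 : (2 : K) = 0) (a b : K) {v : ↥(chevF4.group K)} (hv : v ∈ UU K) :
    X 44 a * X 47 b * v = v * (X 44 a * X 47 b) := by
  have hle : UU K ≤ Subgroup.centralizer {X 44 a * X 47 b} := by
    refine RGD.Sup_le ?_
    rintro x ⟨hx, h0⟩ y hy
    obtain ⟨s, hs, rfl⟩ := (isRoot_iff hF cF x).1 hx
    rw [Subgroup.mem_subgroupOf, XV_vec hF K hs] at hy
    obtain ⟨t, ht⟩ := (mem_rootSubgroup_iff inF4 s _).1 hy
    have hyt : y = X s t := Subtype.ext ht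
    have hc : ∀ r ∈ [44, 47], ∀ c : K, Commute (X r c) (X s t) := by
      intro r hr c
      by_cases h : r = s
      · subst h
        show X r c * X r t = X r t * X r c
        rw [← X_add, ← X_add, add_comm]
      · have hr' : r < 48 := by
          simp only [List.mem_cons, List.not_mem_nil, or_false] at hr
          omega
        obtain ⟨h3, h4⟩ := pos_tab s hs h0 r hr h
        have h1 := rel2 h2 hs hr' h h4 t c
        rw [h3, List.map_nil, List.prod_nil, mul_one] at h1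
        show X r c * X s t = X s t * X r c
        rw [mul_assoc, inv_mul_eq_iff_eq_mul] at h1
        exact h1
    rw [Subgroup.mem_centralizer_singleton_iff, hyt]
    exact ((hc 44 (by decide) a).mul_left (hc 47 (by decide) b)).eq.symm
  have h := hle hv
  rw [Subgroup.mem_centralizer_singleton_iff] at h
  exact h.symm

theorem cen_of_cls (h2 : (2 : K) = 0) {P : Subgroup ↥(chevF4.group K)} {u : ↥(chevF4.group K)}
    (h : ∃ a b : K, X 44 a * X 47 b ∈ _root_.Cfsg.Agent.H520.FC.cls P u) : _root_.Cfsg.Agent.H997.FE.Cen u := by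
  obtain ⟨a, b, g, -, h⟩ := h
  refine ⟨g, ?_, ?_⟩
  · rw [h]
    exact mul_mem (mem_UU_of_pos (by decide +kernel) (by decide +kernel) a)
      (mem_UU_of_pos (by decide +kernel) (by decide +kernel) b)
  · intro v hv
    rw [h]
    exact central h2 a b hv

theorem layer_tab : ∀ r ∈ Cfsg.Agent.H997.FE.L4, r < chevF4.nroots ∧ (∀ i : Fin 4, 0 ≤ vec chevF4 4 r i) ∧
    2 ≤ vec chevF4 4 r 0 := by
  decide +kernel

/-- **`Z4e`** -/
theorem z4e [Finite K] [CharP K 2] : Z4e K := by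
  intro u hu
  have h2 : (2 : K) = 0 := by exact_mod_cast CharP.cast_eq_zero K 2
  refine cen_of_cls h2 (P := PK K {k | k ≠ 0}) (z_four h2 ?_)
  refine RGD.Sup_mono ?_ hu
  rintro x ⟨r, hr, rfl⟩
  obtain ⟨h1, h0, h3⟩ := layer_tab r hr
  exact ⟨⟨isRoot_vec hF cF h1, h0, 0, fun h => h rfl, by omega⟩, h3⟩

/-- **`Z1e`** -/
theorem z1e [CharP K 2] : Z1e K := by
  intro u hu
  have h2 : (2 : K) = 0 := by exact_mod_cast CharP.cast_eq_zero K 2
  exact cen_of_cls h2 (P := PK K {k | k ≠ 3}) (z_one h2 hu)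

end Cfsg.Agent.H446.FE
end

-- part: H930/FE/Tab3
section
/-!
# `F₄`: the tables of the parabolic of type `C₃`, characteristic 2 (S2452, `F₄(q)`, `q` even)

`IV` : the 15 roots with `0 < x 3`; `I1` : the 8 long roots with `x 3 = 1`; `I2` : the 6 short roots with `x 3 = 1` and
the highest root; `IM` : the 18 roots of `C₃`.
-/

set_option autoImplicit false
set_option linter.unusedSectionVars false

namespace Cfsg.Agent.H930.FE

open Cfsg.Lie Cfsg.Agent.ChevalleyStructure Cfsg.Agent.ChevalleyStructure.RootVec Cfsg.Agent.Nodes.RGDChev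

/-- the roots with `0 < x 3` -/
def IV : List ℕ := [24, 26, 29, 31, 32, 36, 38, 39, 40, 42, 43, 44, 45, 46, 47]

/-- the long roots with `x 3 = 1` -/
def I1 : List ℕ := [24, 26, 31, 32, 42, 43, 45, 46]

/-- the short roots with `x 3 = 1` and the highest root -/
def I2 : List ℕ := [29, 36, 38, 39, 40, 44, 47]

/-- the roots of `C₃` -/
def IM : List ℕ := [6, 10, 12, 13, 14, 17, 19, 20, 22, 25, 27, 28, 30, 33, 34, 35, 37, 41]

/-- the targets -/
def tg (n : ℕ) : ℕ := [24, 26, 31, 32, 42, 43, 45].getD n 0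

/-- the roots of `C₃` which move `24` to the targets -/
def gm (n : ℕ) : ℕ := [25, 30, 28, 41, 35, 37].getD n 0

/-- the exponents -/
def ex (n : ℕ) : ℕ := [1, 1, 2, 1, 2, 2].getD n 0

theorem tabV : ∀ r < chevF4.nroots, (0 < vec chevF4 4 r 3 ↔ r ∈ IV) := by decide +kernel

theorem tabM : ∀ r < chevF4.nroots, (vec chevF4 4 r 3 = 0 ↔ r ∈ IM) := by decide +kernel

theorem lt_IV : ∀ r ∈ IV, r < chevF4.nroots := by decide +kernel

theorem lt_IM : ∀ r ∈ IM, r < chevF4.nroots := by decide +kernel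

theorem I1_sub : ∀ r ∈ I1, r ∈ IV := by decide +kernel

theorem I2_sub : ∀ r ∈ I2, r ∈ IV := by decide +kernel

theorem I1_not : ∀ r ∈ I1, r ∉ I2 := by decide +kernel

theorem IV_cases : ∀ r ∈ IV, r ∈ I1 ∨ r ∈ I2 := by decide +kernel

theorem simple3 : chevF4.simple (3 : Fin 4) = 24 := by decide +kernel

/-- commutators inside `V` -/
theorem tabVV : ∀ r ∈ IV, ∀ s ∈ IV, ∀ c ∈ chevF4.commTerms r s, c.1 ∈ I2 := by decide +kernel

theorem neg_IV : ∀ r ∈ IV, ∀ s ∈ IV, s ≠ chevF4.neg r := by decide +kernel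

theorem neg_IM : ∀ r ∈ IV, ∀ s ∈ IM, s ≠ r ∧ s ≠ chevF4.neg r := by decide +kernel

/-- commutators with `C₃` -/
theorem tabMV : ∀ r ∈ IV, ∀ s ∈ IM, ∀ c ∈ chevF4.commTerms r s, c.1 ∈ IV := by decide +kernel

theorem gm_mem : ∀ n < 6, gm n ∈ IM := by decide +kernel

theorem tg_mem : ∀ n < 7, tg n ∈ I1 := by decide +kernel

/-- the coordinates of the targets, modulo 2 -/
theorem tabC : ∀ n < 6, ∀ r ∈ IV, ∀ m ≤ n + 1,
    (chevF4.commTerms r (gm n)).filter (fun c => c.1 = tg m ∧ c.2.1 % 2 ≠ 0) =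
      if m = n + 1 ∧ r = 24 then [(tg m, (if n = 2 then -1 else 1 : ℤ), 1, ex n)] else [] := by decide +kernel

/-- the reflections -/
theorem tabR : ∀ i : Fin 4, i ≠ 3 → ∀ r ∈ IV, chevF4.reflectRoot i r ∈ IV := by decide +kernel

theorem tabR1 : ∀ i : Fin 4, i ≠ 3 → ∀ r ∈ I1, chevF4.reflectRoot i r ∈ I1 := by decide +kernel

theorem tabR2 : ∀ i : Fin 4, i ≠ 3 → ∀ r ∈ IV, chevF4.reflectRoot i (chevF4.reflectRoot i r) = r := by decide +kernel

theorem reach1 : chevF4.reflectRoot (2 : Fin 4) 24 = 26 ∧ chevF4.reflectRoot (1 : Fin 4) 26 = 31 ∧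
    chevF4.reflectRoot (2 : Fin 4) 31 = 32 ∧ chevF4.reflectRoot (0 : Fin 4) 31 = 42 ∧
    chevF4.reflectRoot (0 : Fin 4) 32 = 43 ∧ chevF4.reflectRoot (1 : Fin 4) 43 = 45 ∧
    chevF4.reflectRoot (2 : Fin 4) 45 = 46 := by decide +kernel

theorem cart24 : chevF4.cartan (2 : Fin 4) 24 = -1 := by decide +kernel

end Cfsg.Agent.H930.FE
end

-- part: H930/FE/Crd3
section
/-!
# `F₄`: the coordinates of the unipotent radical of the parabolic of type `C₃` (S2452, `F₄(q)`, `q` even)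

`cf r u` : the coordinate of `u ∈ V` at the long root `r` with `x 3 = 1` (modulo the six short root groups and the
highest root group).
-/

set_option autoImplicit false
set_option linter.unusedSectionVars false

namespace Cfsg.Agent.H930.FE

open CoxeterSystem Cfsg.Agent.ChevalleyStructure.CoxeterGeom Cfsg.Agent.Tits.Roots Cfsg.Agent.Tits.Core
  Cfsg.Agent.Tits.Exchange Cfsg.Agent.Nodes.Reps Cfsg.Agent.Nodes.BNOf Cfsg.Agent.Nodes.StabComb
  Cfsg.Agent.Nodes.Bruhat Cfsg.Agent.Nodes.OppDec Cfsg.Agent.Nodes.LeviDec Cfsg.Agent.Nodes.NormX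
  Cfsg.Agent.Nodes.Coroot Cfsg.Agent.Nodes.RGDChev Cfsg.Agent.KFacts.RgdPar Cfsg.Agent.KFacts.RgdTI
  Cfsg.Agent.KFacts.RgdCent Cfsg.Agent.KFacts.RgdChevCoord Cfsg.Agent.Nodes.ChevCls
  Cfsg.Agent.OddHalf.NI.ModelChev Cfsg.Agent.H225.PPow
open Cfsg.Lie Cfsg.Agent.ChevalleyStructure Cfsg.Agent.ChevalleyStructure.Elts
  Cfsg.Agent.ChevalleyStructure.RootVec Cfsg.Agent.ChevalleyStructure.NPerm
  Cfsg.Agent.ChevalleyStructure.CoxeterGeomTypes
open Cfsg.Agent.H701.F43.Cent (hF cF)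
open Cfsg.Agent.H520.FC
open Cfsg.Agent.H930.FC (xr coe_xr xr_add xr_zero xr_neg xr_inj xr_mem mem_X wd wd_cons conj_xr Q mem_Q Q_le Q_mono
  conj_Q Sup_eq wd_mem nroots refl_xr)
open scoped commutatorElement

universe u

variable {K : Type u} [Field K]

/-- the nodes of `C₃` -/
abbrev J3 : Set (Fin 4) := {k | k ≠ 3}

theorem mem_NotJ3 {x : Fin 4 → ℤ} : x ∈ NotJ cF hF.isCartan J3 ↔ IsRoot cF hF.isCartan x ∧ 0 < x 3 := by
  constructor
  · rintro ⟨h1, -, k, hk, h2⟩
    have h3 : k = 3 := by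
      by_contra h
      exact hk h
    exact ⟨h1, h3 ▸ h2⟩
  · rintro ⟨h1, h2⟩
    exact ⟨h1, nonneg_of_pos_apply h1 h2, 3, fun h => h rfl, h2⟩

theorem mem_RootsJ3 {x : Fin 4 → ℤ} : x ∈ RootsJ cF hF.isCartan J3 ↔ IsRoot cF hF.isCartan x ∧ x 3 = 0 := by
  constructor
  · rintro ⟨h1, h2⟩
    exact ⟨h1, h2 3 fun h => h rfl⟩
  · rintro ⟨h1, h2⟩
    refine ⟨h1, fun k hk => ?_⟩
    have h3 : k = 3 := by
      by_contra h
      exact hk h
    rw [h3, h2]

theorem VK_eq : VK K J3 = Q K {r | r ∈ IV} := by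
  refine Sup_eq (fun r hr => lt_IV r hr) fun x => ?_
  rw [mem_NotJ3]
  constructor
  · rintro ⟨h1, h2⟩
    obtain ⟨r, hr, rfl⟩ := (isRoot_iff hF cF x).1 h1
    exact ⟨r, (tabV r hr).1 h2, rfl⟩
  · rintro ⟨r, hr, rfl⟩
    exact ⟨(isRoot_iff hF cF _).2 ⟨r, lt_IV r hr, rfl⟩, (tabV r (lt_IV r hr)).2 hr⟩

/-! ### conjugation -/

/-- the sets between `I2` and `IV` give normal subgroups -/
theorem nrm {S : Set ℕ} (h2 : ∀ r ∈ I2, r ∈ S) (hS : ∀ r ∈ S, r ∈ IV) {g v : ↥(chevF4.group K)}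
    (hg : g ∈ Q K {r | r ∈ IV}) (hv : v ∈ Q K S) : g * v * g⁻¹ ∈ Q K S := by
  have key : ∀ s ∈ IV, ∀ t : K, ∀ v ∈ Q K S, xr s t * v * (xr s t)⁻¹ ∈ Q K S := by
    intro s hs t v hv
    refine conj_Q (fun r hr a => ?_) hv
    by_cases h : s = r
    · subst h
      have e : (xr s t * xr s a * (xr s t)⁻¹ : ↥(chevF4.group K)) = xr s a := by
        rw [← xr_add (lt_IV s hs), add_comm, xr_add (lt_IV s hs)]; group
      rw [e]
      exact mem_Q hr a
    · rw [conj_xr (lt_IV r (hS r hr)) (lt_IV s hs) h (neg_IV r (hS r hr) s hs)]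
      exact mul_mem (wd_mem (fun c hc => h2 _ (tabVV r (hS r hr) s hs c hc)) _ _) (mem_Q hr a)
  have h1 : Q K {r | r ∈ IV} ≤ Subgroup.normalizer (Q K S : Set ↥(chevF4.group K)) := by
    refine Q_le fun s hs t => ?_
    rw [Subgroup.mem_normalizer_iff]
    intro v
    refine ⟨key s hs t v, fun hv => ?_⟩
    have h3 := key s hs (-t) _ hv
    rw [xr_neg (lt_IV s hs)] at h3
    have e : (xr s t)⁻¹ * (xr s t * v * (xr s t)⁻¹) * ((xr s t)⁻¹)⁻¹ = v := by group
    rwa [e] at h3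
  exact (Subgroup.mem_normalizer_iff.1 (h1 hg) v).1 hv

/-- the roots of `V` except `β` -/
abbrev Nb (β : ℕ) : Set ℕ := {r | r ∈ IV ∧ r ≠ β}

theorem Nb_two {β : ℕ} (hβ : β ∈ I1) : ∀ r ∈ I2, r ∈ Nb β :=
  fun r hr => ⟨I2_sub r hr, fun h => I1_not β hβ (h ▸ hr)⟩

/-- a decomposition -/
theorem dec {S : Set ℕ} {β : ℕ} (h2 : ∀ r ∈ I2, r ∈ S \ {β}) (hS : ∀ r ∈ S, r ∈ IV) (hβ : β ∈ S)
    {u : ↥(chevF4.group K)} (hu : u ∈ Q K S) : ∃ a : K, ∃ v ∈ Q K (S \ {β}), u = xr β a * v := by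
  have hβ' := hS β hβ
  unfold Q at hu
  induction hu using Subgroup.closure_induction with
  | mem x hx =>
    obtain ⟨r, hr, a, rfl⟩ := hx
    by_cases h : r = β
    · subst h
      exact ⟨a, 1, one_mem _, (mul_one _).symm⟩
    · exact ⟨0, xr r a, mem_Q (S := S \ {β}) ⟨hr, h⟩ a, by rw [xr_zero (lt_IV β hβ'), one_mul]⟩
  | one => exact ⟨0, 1, one_mem _, by rw [xr_zero (lt_IV β hβ'), one_mul]⟩
  | mul x y _ _ ihx ihy =>
    obtain ⟨a, v, hv, rfl⟩ := ihx
    obtain ⟨b, w, hw, rfl⟩ := ihy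
    refine ⟨a + b, xr β (-b) * v * (xr β (-b))⁻¹ * w, mul_mem (nrm h2 (fun r hr => hS r hr.1) (mem_Q hβ' _) hv) hw, ?_⟩
    rw [xr_add (lt_IV β hβ'), xr_neg (lt_IV β hβ')]
    group
  | inv x _ ih =>
    obtain ⟨a, v, hv, rfl⟩ := ih
    refine ⟨-a, xr β a * v⁻¹ * (xr β a)⁻¹, nrm h2 (fun r hr => hS r hr.1) (mem_Q hβ' _) (inv_mem hv), ?_⟩
    rw [xr_neg (lt_IV β hβ')]
    group

/-! ### the reflections -/

theorem refl_Q {i : Fin 4} {S S' : Set ℕ} (hS : ∀ r ∈ S, r ∈ IV) (h : ∀ r ∈ S, chevF4.reflectRoot i r ∈ S')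
    {v : ↥(chevF4.group K)} (hv : v ∈ Q K S) : nc hF K i * v * (nc hF K i)⁻¹ ∈ Q K S' := by
  refine conj_Q (fun r hr a => ?_) hv
  obtain ⟨c, -, hc⟩ := refl_xr (K := K) (i := i) (lt_IV r (hS r hr))
  rw [hc]
  exact mem_Q (h r hr) _

theorem refl_Nb {i : Fin 4} (hi : i ≠ 3) {β : ℕ} (_hβ : β ∈ IV) {v : ↥(chevF4.group K)} (hv : v ∈ Q K (Nb β)) :
    nc hF K i * v * (nc hF K i)⁻¹ ∈ Q K (Nb (chevF4.reflectRoot i β)) := by
  refine refl_Q (S := Nb β) (S' := Nb (chevF4.reflectRoot i β)) (fun r hr => hr.1)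
    (fun r hr => ⟨tabR i hi r hr.1, fun h => hr.2 ?_⟩) hv
  rw [← tabR2 i hi r hr.1, h, tabR2 i hi β _hβ]

variable [Finite K]

/-- disjointness -/
theorem disj24 {a : K} (h : (xr 24 a : ↥(chevF4.group K)) ∈ Q K (Nb 24)) : a = 0 := by
  obtain ⟨p, hpc⟩ := CharP.exists K
  have : Fact p.Prime := ⟨CharP.char_is_prime K p⟩
  have : Finite CoxeterMatrix.F₄.Group := finite_W hF cF
  have R := rgd (K := K) hF cF p
  have h24 : 24 < chevF4.nroots := by rw [nroots]; norm_num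
  have e24 : vec chevF4 4 24 = sr (3 : Fin 4) := by rw [← simple3]; exact vec_simple hF 3
  have h1 : (xr 24 a : ↥(chevF4.group K)) ∈ XX chevF4 4 K (sr (3 : Fin 4)) := by
    rw [← e24]
    exact xr_mem h24 a
  have h2 : Q K (Nb 24) ≤ RGD.Sup (XX chevF4 4 K) (RGD.PosNe cF hF.isCartan 3) := by
    refine Q_le fun r hr b => ?_
    refine RGD.le_Sup ?_ (xr_mem (lt_IV r hr.1) b)
    have h3 : vec chevF4 4 r ∈ NotJ cF hF.isCartan J3 :=
      mem_NotJ3.2 ⟨(isRoot_iff hF cF _).2 ⟨r, lt_IV r hr.1, rfl⟩, (tabV r (lt_IV r hr.1)).2 hr.1⟩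
    refine ⟨h3.1, h3.2.1, fun h4 => hr.2 ?_⟩
    rw [← e24] at h4
    exact vec_inj hF (lt_IV r hr.1) h24 h4
  have h3 := eq_one_of_mem_PosNe R h1 (h2 h)
  rw [← xr_zero h24] at h3
  exact xr_inj h24 h3

theorem disj_refl {i : Fin 4} (hi : i ≠ 3) {β : ℕ} (hβ : β ∈ IV)
    (h : ∀ a : K, (xr β a : ↥(chevF4.group K)) ∈ Q K (Nb β) → a = 0) {a : K}
    (ha : (xr (chevF4.reflectRoot i β) a : ↥(chevF4.group K)) ∈ Q K (Nb (chevF4.reflectRoot i β))) : a = 0 := by
  have h1 := refl_Nb hi (tabR i hi β hβ) ha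
  obtain ⟨c, hc0, hc⟩ := refl_xr (K := K) (i := i) (lt_IV _ (tabR i hi β hβ))
  rw [hc, tabR2 i hi β hβ] at h1
  exact (mul_eq_zero.1 (h _ h1)).resolve_left hc0

/-- everything on `I1` is reached from `24` -/
theorem reach {C : ℕ → Prop} (h0 : C 24) (hC : ∀ i : Fin 4, i ≠ 3 → ∀ r ∈ I1, C r → C (chevF4.reflectRoot i r)) :
    ∀ r ∈ I1, C r := by
  obtain ⟨e1, e2, e3, e4, e5, e6, e7⟩ := reach1
  have h1 : C 26 := e1 ▸ hC 2 (by decide) 24 (by decide) h0
  have h2 : C 31 := e2 ▸ hC 1 (by decide) 26 (by decide) h1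
  have h3 : C 32 := e3 ▸ hC 2 (by decide) 31 (by decide) h2
  have h4 : C 42 := e4 ▸ hC 0 (by decide) 31 (by decide) h2
  have h5 : C 43 := e5 ▸ hC 0 (by decide) 32 (by decide) h3
  have h6 : C 45 := e6 ▸ hC 1 (by decide) 43 (by decide) h5
  have h7 : C 46 := e7 ▸ hC 2 (by decide) 45 (by decide) h6
  intro r hr
  simp only [I1, List.mem_cons, List.not_mem_nil, or_false] at hr
  rcases hr with rfl | rfl | rfl | rfl | rfl | rfl | rfl | rfl <;> assumption

theorem disj : ∀ β ∈ I1, ∀ a : K, (xr β a : ↥(chevF4.group K)) ∈ Q K (Nb β) → a = 0 := by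
  refine reach (fun a => disj24) fun i hi r hr h a ha => ?_
  exact disj_refl hi (I1_sub r hr) h ha

/-! ### the coordinates -/

open Classical in
/-- the coordinate at `β` -/
noncomputable def cf (β : ℕ) (u : ↥(chevF4.group K)) : K :=
  if h : ∃ a : K, ∃ v ∈ Q K (Nb β), u = xr β a * v then h.choose else 0

theorem cf_eq {β : ℕ} (hβ : β ∈ I1) (a : K) {v : ↥(chevF4.group K)} (hv : v ∈ Q K (Nb β)) : cf β (xr β a * v) = a := by
  have h : ∃ b : K, ∃ w ∈ Q K (Nb β), xr β a * v = xr β b * w := ⟨a, v, hv, rfl⟩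
  have h1 : cf β (xr β a * v) = h.choose := dif_pos h
  obtain ⟨w, hw, e⟩ := h.choose_spec
  rw [h1]
  have hlt := lt_IV β (I1_sub β hβ)
  generalize h.choose = b at e ⊢
  have h2 : (xr β (-b + a) : ↥(chevF4.group K)) = w * v⁻¹ := by
    rw [xr_add hlt, xr_neg hlt, eq_mul_inv_iff_mul_eq, mul_assoc, e, inv_mul_cancel_left]
  have h3 := disj β hβ (-b + a) (by rw [h2]; exact mul_mem hw (inv_mem hv))
  exact (neg_add_eq_zero.1 h3)

theorem cf_spec {β : ℕ} (hβ : β ∈ I1) {u : ↥(chevF4.group K)} (hu : u ∈ Q K {r | r ∈ IV}) :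
    ∃ v ∈ Q K (Nb β), u = xr β (cf β u) * v := by
  obtain ⟨a, v, hv, rfl⟩ := dec (β := β) (S := {r | r ∈ IV}) (fun r hr => Nb_two hβ r hr) (fun _ h => h) (I1_sub β hβ) hu
  exact ⟨v, hv, by rw [cf_eq hβ a hv]⟩

theorem cf_mul {β : ℕ} (hβ : β ∈ I1) {u v : ↥(chevF4.group K)} (hu : u ∈ Q K {r | r ∈ IV})
    (hv : v ∈ Q K {r | r ∈ IV}) : cf β (u * v) = cf β u + cf β v := by
  have hlt := lt_IV β (I1_sub β hβ)
  obtain ⟨m, hm, e1⟩ := cf_spec hβ hu
  obtain ⟨m', hm', e2⟩ := cf_spec hβ hv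
  have e : u * v = xr β (cf β u + cf β v) * (xr β (-cf β v) * m * (xr β (-cf β v))⁻¹ * m') := by
    rw [xr_add hlt, xr_neg hlt]
    nth_rw 1 [e1, e2]
    group
  rw [e]
  exact cf_eq hβ _ (mul_mem (nrm (Nb_two hβ) (fun r hr => hr.1) (mem_Q (I1_sub β hβ) _) hm) hm')

theorem cf_of_mem {β : ℕ} (hβ : β ∈ I1) {u : ↥(chevF4.group K)} (hu : u ∈ Q K (Nb β)) : cf β u = 0 := by
  have h1 := cf_eq hβ (0 : K) hu
  rwa [xr_zero (lt_IV β (I1_sub β hβ)), one_mul] at h1

theorem cf_one {β : ℕ} (hβ : β ∈ I1) : cf β (1 : ↥(chevF4.group K)) = 0 := cf_of_mem hβ (one_mem _)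

theorem cf_inv {β : ℕ} (hβ : β ∈ I1) {u : ↥(chevF4.group K)} (hu : u ∈ Q K {r | r ∈ IV}) :
    cf β u⁻¹ = -cf β u := by
  have h1 := cf_mul hβ (inv_mem hu) hu
  rw [inv_mul_cancel, cf_one hβ] at h1
  exact (neg_eq_of_add_eq_zero_left h1.symm).symm

theorem cf_self {β : ℕ} (hβ : β ∈ I1) (a : K) : cf β (xr β a : ↥(chevF4.group K)) = a := by
  have h1 := cf_eq hβ a (one_mem (Q K (Nb β)))
  rwa [mul_one] at h1

theorem cf_ne {β r : ℕ} (hβ : β ∈ I1) (hr : r ∈ IV) (h : r ≠ β) (a : K) : cf β (xr r a : ↥(chevF4.group K)) = 0 :=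
  cf_of_mem hβ (mem_Q (S := Nb β) ⟨hr, h⟩ a)

/-- an element all of whose coordinates vanish -/
theorem mem_two {u : ↥(chevF4.group K)} (hu : u ∈ Q K {r | r ∈ IV}) (h : ∀ β ∈ I1, cf β u = 0) :
    u ∈ Q K {r | r ∈ I2} := by
  have key : ∀ l : List ℕ, (∀ β ∈ l, β ∈ I1) → u ∈ Q K {r | r ∈ IV ∧ r ∉ l} := by
    intro l
    induction l with
    | nil =>
      intro _
      exact Q_mono (S := {r | r ∈ IV}) (S' := {r | r ∈ IV ∧ r ∉ []}) (fun r hr => ⟨hr, List.not_mem_nil⟩) hu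
    | cons β l ih =>
      intro hl
      have hβ : β ∈ I1 := hl β List.mem_cons_self
      have h1 := ih fun γ hγ => hl γ (List.mem_cons_of_mem _ hγ)
      by_cases hm : β ∈ l
      · refine Q_mono (S := {r | r ∈ IV ∧ r ∉ l}) (S' := {r | r ∈ IV ∧ r ∉ β :: l}) (fun r hr => ⟨hr.1, fun h2 => ?_⟩) h1
        rcases List.mem_cons.1 h2 with h3 | h3
        · exact hr.2 (h3 ▸ hm)
        · exact hr.2 h3
      · obtain ⟨a, v, hv, e⟩ := dec (β := β) (S := {r | r ∈ IV ∧ r ∉ l})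
          (fun r hr => ⟨⟨I2_sub r hr, fun h2 => I1_not r (hl r (List.mem_cons_of_mem _ h2)) hr⟩,
            fun h2 => I1_not β hβ (h2 ▸ hr)⟩) (fun _ h => h.1) ⟨I1_sub β hβ, hm⟩ h1
        have h3 : v ∈ Q K (Nb β) :=
          Q_mono (S := {r | r ∈ IV ∧ r ∉ l} \ {β}) (S' := Nb β) (fun r hr => ⟨hr.1.1, hr.2⟩) hv
        have h4 : cf β u = a := by rw [e]; exact cf_eq hβ a h3
        have h5 : a = 0 := by rw [← h4]; exact h β hβ
        rw [e, h5, xr_zero (lt_IV β (I1_sub β hβ)), one_mul]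
        refine Q_mono (S := {r | r ∈ IV ∧ r ∉ l} \ {β}) (S' := {r | r ∈ IV ∧ r ∉ β :: l})
          (fun r hr => ⟨hr.1.1, fun h6 => ?_⟩) hv
        rcases List.mem_cons.1 h6 with h7 | h7
        · exact hr.2 h7
        · exact hr.1.2 h7
  refine Q_mono (fun r hr => ?_) (key I1 fun _ h => h)
  exact (IV_cases r hr.1).resolve_left hr.2

end Cfsg.Agent.H930.FE
end

-- part: H930/FE/Spin3
section
/-!
# `F₄(q)`, `q` even: the classes of the elements of `V` outside of the center, `V` of the parabolic of type `C₃` (S2452)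

`spin3` : the class under `P` of `u ∈ V`, not in the group generated by the six short root groups and the highest root
group, has at least `(q - 1) q⁶` elements.
-/

set_option autoImplicit false
set_option linter.unusedSectionVars false

namespace Cfsg.Agent.H930.FE

open CoxeterSystem Cfsg.Agent.ChevalleyStructure.CoxeterGeom Cfsg.Agent.Tits.Roots Cfsg.Agent.Tits.Core
  Cfsg.Agent.Tits.Exchange Cfsg.Agent.Nodes.Reps Cfsg.Agent.Nodes.BNOf Cfsg.Agent.Nodes.StabComb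
  Cfsg.Agent.Nodes.Bruhat Cfsg.Agent.Nodes.OppDec Cfsg.Agent.Nodes.LeviDec Cfsg.Agent.Nodes.NormX
  Cfsg.Agent.Nodes.Coroot Cfsg.Agent.Nodes.RGDChev Cfsg.Agent.KFacts.RgdPar Cfsg.Agent.KFacts.RgdTI
  Cfsg.Agent.KFacts.RgdCent Cfsg.Agent.KFacts.RgdChevCoord Cfsg.Agent.Nodes.ChevCls
  Cfsg.Agent.OddHalf.NI.ModelChev Cfsg.Agent.H225.PPow
open Cfsg.Lie Cfsg.Agent.ChevalleyStructure Cfsg.Agent.ChevalleyStructure.Elts
  Cfsg.Agent.ChevalleyStructure.RootVec Cfsg.Agent.ChevalleyStructure.NPerm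
  Cfsg.Agent.ChevalleyStructure.CoxeterGeomTypes
open Cfsg.Agent.H701.F43.Cent (hF cF)
open Cfsg.Agent.H520.FC
open Cfsg.Agent.H930.FC (xr coe_xr xr_add xr_zero xr_neg xr_inj xr_mem mem_X wd wd_cons conj_xr Q mem_Q Q_le Q_mono
  conj_Q Sup_eq wd_mem nroots refl_xr card_ne_zero cls_finite)

universe u

variable {K : Type u} [Field K]

/-- `V` -/
abbrev Vq (K : Type u) [Field K] : Subgroup ↥(chevF4.group K) := Q K {r | r ∈ IV}

/-! ### elements of `P` -/

theorem xr_mem_PK {r : ℕ} (hr : r ∈ IM) (a : K) : (xr r a : ↥(chevF4.group K)) ∈ PK K J3 := by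
  refine LJ_le_PJ (X_le_LJ ?_ (xr_mem (lt_IM r hr) a))
  exact mem_RootsJ3.2 ⟨(isRoot_iff hF cF _).2 ⟨r, lt_IM r hr, rfl⟩, (tabM r (lt_IM r hr)).2 hr⟩

variable [Finite K]

theorem nc_mem_PK {i : Fin 4} (hi : i ≠ 3) : nc hF K i ∈ PK K J3 := by
  obtain ⟨p, hpc⟩ := CharP.exists K
  have : Fact p.Prime := ⟨CharP.char_is_prime K p⟩
  exact LJ_le_PJ (n_mem_LJ (rgd (K := K) hF cF p) (J := J3) hi)

theorem T_le_PK : TT chevF4 K ≤ PK K J3 := le_trans T_le_LJ LJ_le_PJ

theorem conj_V {g v : ↥(chevF4.group K)} (hg : g ∈ PK K J3) (hv : v ∈ Vq K) : g * v * g⁻¹ ∈ Vq K := by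
  obtain ⟨p, hpc⟩ := CharP.exists K
  have : Fact p.Prime := ⟨CharP.char_is_prime K p⟩
  have h1 := PJ_le_normalizer_VJ (rgd (K := K) hF cF p) J3 hg
  have h2 := (Subgroup.mem_normalizer_iff.1 h1 v).1
  have e : (VJ cF hF.isCartan (XX chevF4 4 K) J3 : Subgroup ↥(chevF4.group K)) = Vq K := VK_eq
  have h3 : ∀ w : ↥(chevF4.group K), w ∈ VJ cF hF.isCartan (XX chevF4 4 K) J3 ↔ w ∈ Vq K := fun w => by rw [e]
  exact (h3 _).1 (h2 ((h3 _).2 hv))

/-! ### the coordinates after conjugation -/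

theorem cf_refl {i : Fin 4} (hi : i ≠ 3) {β : ℕ} (hβ : β ∈ I1) {u : ↥(chevF4.group K)} (hu : u ∈ Vq K)
    (h : cf β u ≠ 0) : cf (chevF4.reflectRoot i β) (nc hF K i * u * (nc hF K i)⁻¹) ≠ 0 := by
  obtain ⟨v, hv, e⟩ := cf_spec hβ hu
  obtain ⟨c, hc0, hc⟩ := refl_xr (K := K) (i := i) (lt_IV _ (I1_sub β hβ))
  have e2 : nc hF K i * u * (nc hF K i)⁻¹ =
      xr (chevF4.reflectRoot i β) (c * cf β u) * (nc hF K i * v * (nc hF K i)⁻¹) := by
    rw [← hc]
    nth_rw 1 [e]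
    group
  rw [e2, cf_eq (tabR1 i hi β hβ) _ (refl_Nb hi (I1_sub β hβ) hv)]
  exact mul_ne_zero hc0 h

/-- a nonzero coordinate can be moved to `24` -/
theorem move : ∀ β ∈ I1, ∀ u ∈ Vq K, cf β u ≠ 0 → ∃ g ∈ PK K J3, cf 24 (g * u * g⁻¹) ≠ 0 := by
  refine reach ?_ ?_
  · intro u _ h
    exact ⟨1, one_mem _, by rwa [one_mul, inv_one, mul_one]⟩
  · intro i hi r hr ih u hu h
    have h1 := cf_refl hi (tabR1 i hi r hr) hu h
    rw [tabR2 i hi r (I1_sub r hr)] at h1
    obtain ⟨g, hg, h2⟩ := ih _ (conj_V (nc_mem_PK hi) hu) h1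
    refine ⟨g * nc hF K i, mul_mem hg (nc_mem_PK hi), ?_⟩
    have e : g * nc hF K i * u * (g * nc hF K i)⁻¹ = g * (nc hF K i * u * (nc hF K i)⁻¹) * g⁻¹ := by group
    rwa [e]

/-- the torus -/
theorem cf_torus {b : K} (hb : b ≠ 0) {u : ↥(chevF4.group K)} (hu : u ∈ Vq K) :
    cf 24 (hc hF 2 b * u * (hc hF 2 b)⁻¹) = b⁻¹ * cf 24 u := by
  have h24 : 24 ∈ I1 := by decide
  obtain ⟨v, hv, e⟩ := cf_spec h24 hu
  have ht : hc hF 2 b ∈ TT chevF4 K := hc_mem hF 2 hb
  have h1 : ∀ r ∈ IV, ∀ a : K, hc hF 2 b * xr r a * (hc hF 2 b)⁻¹ = xr r (ch hF (vec chevF4 4 r) (hc hF 2 b) * a) :=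
    fun r hr a => (act hF (lt_IV r hr) ht).2 a
  have h2 : hc hF 2 b * v * (hc hF 2 b)⁻¹ ∈ Q K (Nb 24) := by
    refine conj_Q (fun r hr a => ?_) hv
    rw [h1 r hr.1]
    exact mem_Q hr _
  have e2 : hc hF 2 b * u * (hc hF 2 b)⁻¹ = xr 24 (b⁻¹ * cf 24 u) * (hc hF 2 b * v * (hc hF 2 b)⁻¹) := by
    have h3 := h1 24 (I1_sub 24 h24) (cf 24 u)
    rw [ch_hc hF 2 hb (lt_IV 24 (I1_sub 24 h24)), cart24, zpow_neg_one] at h3
    rw [← h3]
    nth_rw 1 [e]
    group
  rw [e2, cf_eq h24 _ h2]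

theorem cf_wd {β : ℕ} (hβ : β ∈ I1) (h2 : (2 : K) = 0) (a s : K) : ∀ l : List (ℕ × ℤ × ℕ × ℕ), (∀ c ∈ l, c.1 ∈ IV) →
    cf β (wd l a s : ↥(chevF4.group K)) =
      ((l.filter fun c => c.1 = β ∧ c.2.1 % 2 ≠ 0).map fun c => (c.2.1 : K) * a ^ c.2.2.1 * (-s) ^ c.2.2.2).sum := by
  intro l
  induction l with
  | nil => intro _; exact cf_one hβ
  | cons c l ih =>
    intro hl
    have h1 : ∀ c ∈ l, c.1 ∈ IV := fun d hd => hl d (List.mem_cons_of_mem _ hd)
    have h3 : c.1 ∈ IV := hl c List.mem_cons_self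
    rw [wd_cons, cf_mul hβ (mem_Q h3 _) (wd_mem h1 _ _), ih h1]
    by_cases h : c.1 = β
    · by_cases h4 : c.2.1 % 2 ≠ 0
      · rw [List.filter_cons_of_pos (by simpa only [_root_.ne_eq, _root_.EuclideanDomain.mod_eq_zero, _root_.Int.two_dvd_ne_zero, _root_.Bool.decide_and, _root_.Bool.and_eq_true, _root_.decide_eq_true_eq] using ⟨h, by simpa using h4⟩), List.map_cons, List.sum_cons]
        congr 1
        rw [h]
        exact cf_self hβ _
      · rw [List.filter_cons_of_neg (by simpa only [_root_.ne_eq, _root_.EuclideanDomain.mod_eq_zero, _root_.Int.two_dvd_ne_zero, _root_.Bool.decide_and, _root_.Bool.and_eq_true, _root_.decide_eq_true_eq, _root_.not_and, _root_.Int.emod_two_ne_one] using fun _ => by simpa using h4)]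
        have h5 : (c.2.1 : K) = 0 := by
          have h6 : c.2.1 = 2 * (c.2.1 / 2) := by
            have := Int.emod_add_mul_ediv c.2.1 2
            omega
          rw [h6]
          push_cast
          rw [h2, zero_mul]
        rw [h5, zero_mul, zero_mul, h, cf_self hβ, zero_add]
    · rw [List.filter_cons_of_neg (by simpa using fun h7 => absurd h7 h), cf_ne hβ h3 h, zero_add]

/-- the action of `x_γ(s)` on the coordinates of the targets -/
theorem cf_conj (h2 : (2 : K) = 0) {n m : ℕ} (hn : n < 6) (hm : m ≤ n + 1) (s : K) {u : ↥(chevF4.group K)}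
    (hu : u ∈ Vq K) : cf (tg m) (xr (gm n) s * u * (xr (gm n) s)⁻¹) =
      cf (tg m) u + (if m = n + 1 then s ^ ex n * cf 24 u else 0) := by
  have h24 : 24 ∈ I1 := by decide
  have hβ : tg m ∈ I1 := tg_mem m (by omega)
  have hγ := gm_mem n hn
  have hP : (xr (gm n) s : ↥(chevF4.group K)) ∈ PK K J3 := xr_mem_PK hγ s
  have hu' : u ∈ Vq K := hu
  have hneg : ∀ x : K, -x = x := fun x => by
    have : x + x = 0 := by rw [← two_mul, h2, zero_mul]
    exact neg_eq_of_add_eq_zero_left this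
  unfold Vq Q at hu
  induction hu using Subgroup.closure_induction with
  | mem x hx =>
    obtain ⟨r, hr, a, rfl⟩ := hx
    have hr' : r ∈ IV := hr
    obtain ⟨n1, n2⟩ := neg_IM r hr' (gm n) hγ
    have h1 : ∀ c ∈ chevF4.commTerms r (gm n), c.1 ∈ IV := tabMV r hr' (gm n) hγ
    rw [conj_xr (lt_IV r hr') (lt_IM (gm n) hγ) n1 n2, cf_mul hβ (wd_mem h1 _ _) (mem_Q hr' _),
      cf_wd hβ h2 _ _ _ h1, tabC n hn r hr' m hm, add_comm]
    congr 1
    by_cases hb : m = n + 1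
    · rw [if_pos hb]
      by_cases h3 : r = 24
      · rw [if_pos ⟨hb, h3⟩, h3, cf_self h24, List.map_cons, List.map_nil, List.sum_cons, List.sum_nil, add_zero,
          pow_one, hneg s]
        have h4 : (((if n = 2 then -1 else 1 : ℤ)) : K) = 1 := by
          split_ifs
          · push_cast
            rw [hneg]
          · push_cast
            rfl
        rw [h4, one_mul, mul_comm]
      · rw [if_neg (fun h => h3 h.2), cf_ne h24 hr' h3]
        simp only [_root_.List.map_nil, _root_.List.sum_nil, _root_.MulZeroClass.mul_zero]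
    · rw [if_neg hb, if_neg (fun h => hb h.1)]
      simp only [_root_.List.map_nil, _root_.List.sum_nil]
  | one =>
    rw [mul_one, mul_inv_cancel, cf_one hβ, cf_one h24]
    simp
  | mul x y hx hy ihx ihy =>
    have e : xr (gm n) s * (x * y) * (xr (gm n) s)⁻¹ =
        (xr (gm n) s * x * (xr (gm n) s)⁻¹) * (xr (gm n) s * y * (xr (gm n) s)⁻¹) := by group
    have hx' : x ∈ Vq K := hx
    have hy' : y ∈ Vq K := hy
    rw [e, cf_mul hβ (conj_V hP hx') (conj_V hP hy'), ihx hx', ihy hy', cf_mul hβ hx' hy', cf_mul h24 hx' hy']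
    split_ifs <;> ring
  | inv x hx ih =>
    have e : xr (gm n) s * x⁻¹ * (xr (gm n) s)⁻¹ = (xr (gm n) s * x * (xr (gm n) s)⁻¹)⁻¹ := by group
    have hx' : x ∈ Vq K := hx
    rw [e, cf_inv hβ (conj_V hP hx'), ih hx', cf_inv hβ hx', cf_inv h24 hx']
    split_ifs <;> ring

theorem exists_pow (h2 : (2 : K) = 0) {n : ℕ} (hn : n < 6) (a : K) : ∃ s : K, s ^ ex n = a := by
  have h1 : ex n = 1 ∨ ex n = 2 := by interval_cases n <;> decide
  rcases h1 with h1 | h1
  · exact ⟨a, by rw [h1, pow_one]⟩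
  · rw [h1]
    have hinj : Function.Injective (fun b : K => b ^ 2) := by
      intro b c hbc
      have h3 : (b - c) ^ 2 = 0 := by
        have h4 : b ^ 2 = c ^ 2 := hbc
        have h5 : (b - c) ^ 2 = b ^ 2 - c ^ 2 + 2 * (c ^ 2 - b * c) := by ring
        rw [h5, h4, h2]; ring
      exact sub_eq_zero.1 ((pow_eq_zero_iff two_ne_zero).1 h3)
    exact Finite.surjective_of_injective hinj a

/-- the coordinates of the targets one after the other -/
theorem run (h2 : (2 : K) = 0) (b : ℕ → K) : ∀ n ≤ 6, ∀ u ∈ Vq K, cf 24 u ≠ 0 → b 0 = cf 24 u →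
    ∃ g ∈ PK K J3, ∀ m ≤ n, cf (tg m) (g * u * g⁻¹) = b m := by
  intro n
  induction n with
  | zero =>
    intro _ u _ _ hb
    refine ⟨1, one_mem _, fun m h1 => ?_⟩
    obtain rfl : m = 0 := by omega
    rw [one_mul, inv_one, mul_one, hb]
    rfl
  | succ n ih =>
    intro hn u hu h0 hb
    obtain ⟨g, hg, h1⟩ := ih (by omega) u hu h0 hb
    have e0 : tg 0 = 24 := rfl
    have hc : cf 24 (g * u * g⁻¹) ≠ 0 := by
      have h3 := h1 0 (Nat.zero_le _)
      rw [e0] at h3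
      rw [h3, hb]
      exact h0
    have hgu := conj_V hg hu
    obtain ⟨s, hs⟩ := exists_pow h2 (n := n) (by omega)
      ((b (n + 1) - cf (tg (n + 1)) (g * u * g⁻¹)) / cf 24 (g * u * g⁻¹))
    refine ⟨xr (gm n) s * g, mul_mem (xr_mem_PK (gm_mem n (by omega)) s) hg, fun m h3 => ?_⟩
    have e : xr (gm n) s * g * u * (xr (gm n) s * g)⁻¹ = xr (gm n) s * (g * u * g⁻¹) * (xr (gm n) s)⁻¹ := by
      group
    rw [e, cf_conj h2 (by omega) h3 s hgu]
    by_cases h4 : m = n + 1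
    · rw [if_pos h4, hs, div_mul_cancel₀ _ hc, h4]
      ring
    · rw [if_neg h4, add_zero]
      exact h1 m (by omega)

/-- all the coordinates -/
theorem run' (h2 : (2 : K) = 0) (b : ℕ → K) (hb : b 0 ≠ 0) {u : ↥(chevF4.group K)} (hu : u ∈ Vq K) (h0 : cf 24 u ≠ 0) :
    ∃ g ∈ PK K J3, ∀ m ≤ 6, cf (tg m) (g * u * g⁻¹) = b m := by
  have hl : cf 24 u / b 0 ≠ 0 := div_ne_zero h0 hb
  have ht : hc hF 2 (cf 24 u / b 0) ∈ PK K J3 := T_le_PK (hc_mem hF 2 hl)
  have h1 : cf 24 (hc hF 2 (cf 24 u / b 0) * u * (hc hF 2 (cf 24 u / b 0))⁻¹) = b 0 := by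
    rw [cf_torus hl hu, inv_div, div_mul_cancel₀ _ h0]
  obtain ⟨g, hg, h3⟩ := run h2 b 6 le_rfl _ (conj_V ht hu) (by rw [h1]; exact hb) h1.symm
  refine ⟨g * hc hF 2 (cf 24 u / b 0), mul_mem hg ht, fun m h4 => ?_⟩
  have e : g * hc hF 2 (cf 24 u / b 0) * u * (g * hc hF 2 (cf 24 u / b 0))⁻¹ =
      g * (hc hF 2 (cf 24 u / b 0) * u * (hc hF 2 (cf 24 u / b 0))⁻¹) * g⁻¹ := by group
  rw [e]
  exact h3 m h4

/-- **The spin layer.** -/
theorem spin3 (h2 : (2 : K) = 0) {u : ↥(chevF4.group K)} (hu : u ∈ VK K J3) (h : u ∉ Q K {r | r ∈ I2}) :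
    (Nat.card K - 1) * Nat.card K ^ 6 ≤ Nat.card ↥(_root_.Cfsg.Agent.H520.FC.cls (PK K J3) u) := by
  rw [VK_eq] at hu
  obtain ⟨β, hβ, h1⟩ : ∃ β ∈ I1, cf β u ≠ 0 := by
    by_contra hne
    push Not at hne
    exact h (mem_two hu hne)
  obtain ⟨k, hk, h3⟩ := move β hβ u hu h1
  have hku := conj_V hk hu
  have key : ∀ f : {a : K // a ≠ 0} × (Fin 6 → K), ∃ x : ↥(_root_.Cfsg.Agent.H520.FC.cls (PK K J3) u),
      cf 24 (x : ↥(chevF4.group K)) = f.1 ∧ ∀ i : Fin 6, cf (tg (i + 1)) (x : ↥(chevF4.group K)) = f.2 i := by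
    intro f
    let b : ℕ → K := fun n => if n = 0 then f.1 else if hn : n - 1 < 6 then f.2 ⟨n - 1, hn⟩ else 0
    have hb : b 0 = f.1 := if_pos rfl
    obtain ⟨g, hg, h4⟩ := run' h2 b (by rw [hb]; exact f.1.2) hku h3
    refine ⟨⟨g * k * u * (g * k)⁻¹, g * k, mul_mem hg hk, rfl⟩, ?_, fun i => ?_⟩
    · have e : g * k * u * (g * k)⁻¹ = g * (k * u * k⁻¹) * g⁻¹ := by group
      show cf (tg 0) (g * k * u * (g * k)⁻¹) = _
      rw [e, h4 0 (by omega), hb]
    · have e : g * k * u * (g * k)⁻¹ = g * (k * u * k⁻¹) * g⁻¹ := by group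
      show cf (tg (i + 1)) (g * k * u * (g * k)⁻¹) = _
      have hi := i.2
      rw [e, h4 (i + 1) (by omega)]
      show (if (i : ℕ) + 1 = 0 then (f.1 : K) else if hn : (i : ℕ) + 1 - 1 < 6 then f.2 ⟨(i : ℕ) + 1 - 1, hn⟩
        else 0) = _
      rw [if_neg (by omega), dif_pos (by omega)]
      refine congrArg f.2 (Fin.ext ?_)
      show (i : ℕ) + 1 - 1 = i
      omega
  choose F hF1 hF2 using key
  have hinj : Function.Injective F := by
    rintro ⟨a, v⟩ ⟨a', v'⟩ e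
    have h3 := hF1 (a, v)
    have h4 := hF1 (a', v')
    rw [← e, h3] at h4
    have h5 : ∀ i : Fin 6, v i = v' i := by
      intro i
      have h6 := hF2 (a, v) i
      have h7 := hF2 (a', v') i
      rw [← e, h6] at h7
      exact h7
    exact Prod.ext (Subtype.ext h4) (funext h5)
  have := cls_finite (PK K J3) u
  have h8 := Nat.card_le_card_of_injective F hinj
  rw [Nat.card_prod, card_ne_zero _ rfl, Nat.card_fun, Nat.card_fin] at h8
  exact h8

end Cfsg.Agent.H930.FE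
end

-- part: H997/FE/OC
section
/-!
# S2452, `F₄(q)`, `q` even: `OC3e`, `OB3e` (helper997)
-/

set_option autoImplicit false
set_option linter.unusedSectionVars false

namespace Cfsg.Agent.H997.FE

open Cfsg.Lie
open Cfsg.Agent.H520.FC (PK VK XT cls d2)

universe u

variable {K : Type u} [Field K]

theorem u2e [Finite K] [CharP K 2] : U2e K := by
  intro u hu hc
  refine H930.FE.spin3 (by exact_mod_cast CharP.cast_eq_zero K 2) hu fun hcon => hc ?_
  rw [Z7_eq fun r hr => ltL r (List.mem_append_right _ hr)]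
  exact hcon

theorem oc3e [Finite K] [CharP K 2] : OC3e K := oc3e_of u2e H446.FE.z1e

theorem ob3e [Finite K] [CharP K 2] : OB3e K := ob3e_of H446.FE.z4e

end Cfsg.Agent.H997.FE
end

private theorem dce_ef2a777be098 : _root_.True := by
  try have : _root_.True := by simp only [_root_.Cfsg.Agent.H446.FE.F7.eq_1]
  try have : _root_.True := by simp only [_root_.Cfsg.Agent.H446.FE.Mat1.eq_1]
  try have : _root_.True := by simp only [_root_.Cfsg.Agent.H446.FE.w7.eq_1]
  try have : _root_.True := by simp only [_root_.Cfsg.Agent.H446.FE.odd.eq_1]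
  try have : _root_.True := by simp only [_root_.Cfsg.Agent.H930.FE.I1.eq_1]
  try have : _root_.True := by simp only [_root_.Cfsg.Agent.H446.FE.L1.eq_1]
  exact _root_.True.intro
end

-- part: H335/TC6/Elt7_mg
section
prune_inst 0x38180002000000000080000000000001c010000
set_option linter.all false
open scoped Cfsg.Agent.FastGrp

-- part: H335/TC6/Elt7
section
/-!
# S2464, `F₄(2)`: products of two elements of one class of order 7 (helper335)

* `P7 X g` : `g` is a product of two conjugates of `X`;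
* `conj_of_mem` : `a * b * x`, `x ∈ cov`, is a product of conjugates of `a` and `b`;
* `good7_of_chk` : the certificates of a coset.
-/

set_option autoImplicit false

namespace Cfsg.Agent.H335.TC6

open scoped commutatorElement
open Cfsg.Agent.H335.FT

universe u

/-! ### the predicate -/

/-- `g` is a product of two conjugates of `X` -/
def P7 {G : Type u} [Group G] (X g : G) : Prop := ∃ a b : G, IsConj X a ∧ IsConj X b ∧ a * b = g

theorem P7.of_conj {G : Type u} [Group G] {X g : G} (x : G) (h : P7 X (x * g * x⁻¹)) : P7 X g := by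
  obtain ⟨a, b, ha, hb, e⟩ := h
  refine ⟨x⁻¹ * a * x, x⁻¹ * b * x, ha.trans (isConj_iff.2 ⟨x⁻¹, by rw [inv_inv]⟩),
    hb.trans (isConj_iff.2 ⟨x⁻¹, by rw [inv_inv]⟩), ?_⟩
  have : x⁻¹ * a * x * (x⁻¹ * b * x) = x⁻¹ * (a * b) * x := by group
  rw [this, e]
  group

theorem P7.map {G H : Type u} [Group G] [Group H] {X g : G} (h : P7 X g) (f : G →* H) : P7 (f X) (f g) := by
  obtain ⟨a, b, ha, hb, e⟩ := h
  obtain ⟨c, rfl⟩ := isConj_iff.1 ha
  obtain ⟨d, rfl⟩ := isConj_iff.1 hb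
  refine ⟨_, _, isConj_iff.2 ⟨f c, rfl⟩, isConj_iff.2 ⟨f d, rfl⟩, ?_⟩
  rw [← e]
  simp only [map_mul, map_inv]

theorem P7.of_isConj {G : Type u} [Group G] {X g g' : G} (h : P7 X g) (e : IsConj g g') : P7 X g' := by
  obtain ⟨c, rfl⟩ := isConj_iff.1 e
  refine P7.of_conj c⁻¹ ?_
  have : c⁻¹ * (c * g * c⁻¹) * c⁻¹⁻¹ = g := by group
  rw [this]
  exact h

theorem P7.six {G : Type u} [Group G] {X g : G} (h : P7 X g) : ∃ u v : G, g = (u * X * u⁻¹) * (v * X * v⁻¹) := by
  obtain ⟨a, b, ha, hb, e⟩ := h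
  obtain ⟨c, rfl⟩ := isConj_iff.1 ha
  obtain ⟨d, rfl⟩ := isConj_iff.1 hb
  exact ⟨c, d, e.symm⟩

/-! ### one coset -/

section

variable {G : Type u} [Group G] {Q Z : Subgroup G} {a b : G} (h : QZ Q Z) (ha : Nz Q Z a) (hb : Nz Q Z b)

/-- **One coset.** -/
theorem conj_of_mem (hz : ∀ x ∈ Z, ∃ p ∈ Z, ∃ q ∈ Z, x = ⁅p, a⁆ * ⁅q, b⁆) {x : G} (hx : x ∈ cov h ha hb) :
    ∃ a' b' : G, IsConj a a' ∧ IsConj b b' ∧ a' * b' = a * b * x := by
  obtain ⟨-, p, hp, q, hq, h1⟩ := conj_mem_cov h ha hb hx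
  obtain ⟨u, hu⟩ : ∃ u, u = a * p * a⁻¹ := ⟨_, rfl⟩
  have huQ : u ∈ Q := by rw [hu]; exact ha.q _ hp
  obtain ⟨a', ha'⟩ : ∃ a', a' = u * a * u⁻¹ := ⟨_, rfl⟩
  obtain ⟨b', hb'⟩ : ∃ b', b' = q * b * q⁻¹ := ⟨_, rfl⟩
  obtain ⟨ζ, hζ⟩ : ∃ ζ, ζ = (a' * b')⁻¹ * (a * b * x) := ⟨_, rfl⟩
  have hζZ : ζ ∈ Z := by
    have e : ζ = b⁻¹ * ((b * x * b⁻¹)⁻¹ * (⁅p, a⁆ * ⁅q, b⁆))⁻¹ * b := by
      rw [hζ, ha', hb', hu]
      simp only [commutatorElement_def]
      group
    rw [e]
    exact hb.z' _ (inv_mem h1)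
  have e1 : a * b * x = a' * b' * ζ := by rw [hζ]; group
  have na' : Nz Q Z a' := by
    rw [ha']
    have nu : Nz Q Z u := ⟨fun x hx => mul_mem (mul_mem huQ hx) (inv_mem huQ),
      fun x hx => mul_mem (mul_mem (inv_mem huQ) hx) huQ, fun x hx => by rw [h.cent x hx u huQ]; exact hx,
      fun x hx => by
        have := h.cent x hx u⁻¹ (inv_mem huQ)
        rw [inv_inv] at this
        rw [this]; exact hx⟩
    exact (nu.mul ha).mul nu.inv
  have nb' : Nz Q Z b' := by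
    rw [hb']
    have nu : Nz Q Z q := ⟨fun x hx => mul_mem (mul_mem hq hx) (inv_mem hq),
      fun x hx => mul_mem (mul_mem (inv_mem hq) hx) hq, fun x hx => by rw [h.cent x hx q hq]; exact hx,
      fun x hx => by
        have := h.cent x hx q⁻¹ (inv_mem hq)
        rw [inv_inv] at this
        rw [this]; exact hx⟩
    exact (nu.mul hb).mul nu.inv
  obtain ⟨p₂, hp₂, q₂, hq₂, h2⟩ := hz _ (nb'.z _ hζZ)
  rw [← comm_conj h huQ ha hp₂, ← comm_conj h hq hb hq₂, ← ha', ← hb'] at h2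
  obtain ⟨u₂, hu₂⟩ : ∃ u₂, u₂ = a' * p₂ * a'⁻¹ := ⟨_, rfl⟩
  have e2 : (u₂ * a' * u₂⁻¹) * (q₂ * b' * q₂⁻¹) = a' * b' * ζ := by
    have e : (u₂ * a' * u₂⁻¹) * (q₂ * b' * q₂⁻¹) = a' * (⁅p₂, a'⁆ * ⁅q₂, b'⁆) * b' := by
      rw [hu₂]
      simp only [commutatorElement_def]
      group
    rw [e, ← h2]
    group
  refine ⟨u₂ * a' * u₂⁻¹, q₂ * b' * q₂⁻¹, ?_, ?_, by rw [e2, e1]⟩
  · exact isConj_iff.2 ⟨u₂ * u, by rw [ha']; group⟩
  · exact isConj_iff.2 ⟨q₂ * q, by rw [hb']; group⟩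

end

/-! ### words -/

/-- the word of order 7 -/
def x0 : List ℕ := [24, 23, 22, 25]

/-- the element of order 7 -/
noncomputable def X0 : GF := wd x0

theorem isConj_of_eqW {c l l' : List ℕ} (h : eqW (c ++ (l ++ c.reverse)) l' = true) : IsConj (wd l) (wd l') := by
  have h1 := wd_eq h
  rw [wd_append, wd_append, wd_reverse, ← mul_assoc] at h1
  exact isConj_iff.2 ⟨wd c, h1⟩

/-- the conjugacy check of a pair -/
def chkC7 (u : List ℕ) (D : PD) (c : List ℕ × List ℕ) : Bool :=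
  eqW (c.1 ++ (x0 ++ c.1.reverse)) D.c && eqW (c.2 ++ (x0 ++ c.2.reverse)) (D.c.reverse ++ u)

section

variable {Nl Ql Zl : List ℕ} (h : QZ (Cl Ql) (Cl Zl)) {u : List ℕ} {D : PD} {c : List ℕ × List ℕ}

include h in
/-- **The soundness of a pair.** -/
theorem sound7 (ha : Nz (Cl Ql) (Cl Zl) D.a) (hb : Nz (Cl Ql) (Cl Zl) (D.b u)) (hA : D.chkA u = true)
    (hC : chkC7 u D c = true) (hZ : D.chkZ Zl = true) {x : GF} (hx : x ∈ cov h ha hb) : P7 X0 (wd u * x) := by
  unfold chkC7 at hC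
  rw [Bool.and_eq_true] at hC
  have oa : IsConj X0 D.a := isConj_of_eqW hC.1
  have ob : IsConj X0 (D.b u) := isConj_of_eqW hC.2
  rw [← D.ab u]
  obtain ⟨a', b', h1, h2, e⟩ := conj_of_mem h ha hb (cover_Z h ha hb rfl (by
    rintro _ ⟨r, hr, rfl⟩
    unfold PD.chkZ at hZ
    rw [List.all_eq_true] at hZ
    have h1 := hZ r hr
    rw [List.any_eq_true] at h1
    obtain ⟨e, -, h3⟩ := h1
    simp only [Bool.and_eq_true] at h3
    obtain ⟨-, h4, h5, h6⟩ := h3
    refine ⟨wd e.2.1, wd_mem_Cl (sub_of_su h4), wd e.2.2, wd_mem_Cl (sub_of_su h5), ?_⟩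
    have := PD.id hA h6
    rwa [wd_cons, wd_nil, mul_one] at this)) hx
  exact ⟨a', b', oa.trans h1, ob.trans h2, e⟩

end

/-- every element of the coset `u V_J` -/
def Good7 (Ql : List ℕ) (u : GF) : Prop := ∀ x ∈ Cl Ql, P7 X0 (u * x)

/-- one representative -/
def chkRep7 (Nl Ql Zl u : List ℕ) : List (PD × List ℕ × List ℕ) → Bool
  | [D] => su D.1.c Nl && (D.1.chkA u && (chkC7 u D.1 D.2 && (D.1.chkZ Zl && (D.1.chkV Zl Ql && D.1.f.isEmpty))))
  | [D1, D2, D3] =>
      (su D1.1.c Nl && (D1.1.chkA u && (chkC7 u D1.1 D1.2 && (D1.1.chkZ Zl && D1.1.chkV Zl Ql)))) &&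
      ((su D2.1.c Nl && (D2.1.chkA u && (chkC7 u D2.1 D2.2 && (D2.1.chkZ Zl && D2.1.chkV Zl Ql)))) &&
      ((su D3.1.c Nl && (D3.1.chkA u && (chkC7 u D3.1 D3.2 && (D3.1.chkZ Zl && D3.1.chkV Zl Ql)))) &&
      Ql.all fun r => !((me r D1.1.f ^^ me r D2.1.f) ^^ me r D3.1.f)))
  | _ => false

section

variable {Nl Ql Zl : List ℕ} (h : QZ (Cl Ql) (Cl Zl)) (hN : ∀ a ∈ Nl, Nz (Cl Ql) (Cl Zl) (gx a))

include h hN

theorem good7_full {u : List ℕ} (hu : ∀ r ∈ u, r ∈ Nl) {D : PD} {c : List ℕ × List ℕ} (hc : su D.c Nl = true)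
    (hA : D.chkA u = true) (hC : chkC7 u D c = true)
    (hZ : D.chkZ Zl = true) (hV : D.chkV Zl Ql = true) (hf : D.f.isEmpty = true) : Good7 Ql (wd u) := by
  intro x hx
  obtain ⟨ha, hb⟩ := nz_pair h hN hu hc
  refine sound7 h ha hb hA hC hZ ?_
  have : Cl Ql ≤ cov h ha hb := by
    change Subgroup.closure _ ≤ _
    rw [Subgroup.closure_le]
    rintro _ ⟨r, hr, rfl⟩
    by_cases hz : r ∈ Zl
    · exact Z_le_cov h ha hb (gx_mem_Cl hz)
    · have h1 := PD.vcov h ha hb hA hV hr hz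
      have h2 : me r D.f = false := by
        rw [List.isEmpty_iff.1 hf]; rfl
      rwa [h2, if_neg (by simp), mul_one] at h1
  exact this hx

theorem good7_triple {u : List ℕ} (hu : ∀ r ∈ u, r ∈ Nl) {D : Fin 3 → PD} {c : Fin 3 → List ℕ × List ℕ}
    (hc : ∀ i, su (D i).c Nl = true)
    (hA : ∀ i, (D i).chkA u = true) (hC : ∀ i, chkC7 u (D i) (c i) = true)
    (hZ : ∀ i, (D i).chkZ Zl = true) (hV : ∀ i, (D i).chkV Zl Ql = true)
    (hf : ∀ r ∈ Ql, ((me r (D 0).f ^^ me r (D 1).f) ^^ me r (D 2).f) = false) : Good7 Ql (wd u) := by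
  intro x hx
  have hab := fun i => nz_pair h hN hu (hc i)
  have hi0 : ∀ i, gx (D i).i0 ∈ Cl Ql := by
    intro i
    have := hV i
    unfold PD.chkV at this
    rw [Bool.and_eq_true] at this
    exact gx_mem_Cl (mem_of_me this.1)
  obtain ⟨i, hi⟩ := triple h (X := gx '' {r | r ∈ Ql}) rfl (C := fun i => cov h (hab i).1 (hab i).2)
    (y := fun i => gx (D i).i0) hi0 (fun i => gx_mul_self _) (fun i => Z_le_cov h _ _) (by
      rintro _ ⟨r, hr, rfl⟩
      by_cases hz : r ∈ Zl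
      · refine ⟨fun _ => false, rfl, fun i => ?_⟩
        simp only [Bool.false_eq_true, if_false, mul_one]
        exact Z_le_cov h _ _ (gx_mem_Cl hz)
      · exact ⟨fun i => me r (D i).f, hf r hr, fun i => PD.vcov h (hab i).1 (hab i).2 (hA i) (hV i) hr hz⟩) x hx
  exact sound7 h (hab i).1 (hab i).2 (hA i) (hC i) (hZ i) hi

theorem good7_of_chk {u : List ℕ} (hu : ∀ r ∈ u, r ∈ Nl) {Ds : List (PD × List ℕ × List ℕ)}
    (hc : chkRep7 Nl Ql Zl u Ds = true) : Good7 Ql (wd u) := by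
  match Ds with
  | [] => simp [chkRep7] at hc
  | [D] =>
    simp only [chkRep7, Bool.and_eq_true] at hc
    obtain ⟨h1, h2, h2', h3, h4, h5⟩ := hc
    exact good7_full h hN hu h1 h2 h2' h3 h4 h5
  | [_, _] => simp [chkRep7] at hc
  | [D1, D2, D3] =>
    simp only [chkRep7, Bool.and_eq_true] at hc
    obtain ⟨⟨a1, a2, a2', a3, a4⟩, ⟨b1, b2, b2', b3, b4⟩, ⟨c1, c2, c2', c3, c4⟩, hx⟩ := hc
    rw [List.all_eq_true] at hx
    refine good7_triple h hN hu (D := ![D1.1, D2.1, D3.1]) (c := ![D1.2, D2.2, D3.2]) ?_ ?_ ?_ ?_ ?_ ?_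
    · intro i; fin_cases i <;> assumption
    · intro i; fin_cases i <;> assumption
    · intro i; fin_cases i <;> assumption
    · intro i; fin_cases i <;> assumption
    · intro i; fin_cases i <;> assumption
    · intro r hr
      have := hx r hr
      rw [Bool.not_eq_true'] at this
      exact this
  | _ :: _ :: _ :: _ :: _ => simp [chkRep7] at hc

end

end Cfsg.Agent.H335.TC6
end

-- part: H335/TC6/Def
section
/-!
# S2464, `F₄(2)`: the words without fixed vector and their complements (helper335)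

* `NF` : the six words of `H612.Ore.rws` whose element of `Sp₆(2)` fixes no vector of `2⁶`;
* `compL`, `comps` : the complement letters and their sublists.
-/

set_option autoImplicit false

namespace Cfsg.Agent.H335.TC6

/-- the six words -/
def NF : List (List ℕ) := [[5, 4, 3, 2, 1, 0], [6, 4, 3, 2, 1, 0], [6, 5, 4, 2, 1, 0], [6, 5, 4, 3, 2, 1, 0],
  [4, 3, 2, 6, 1, 2, 3, 1, 2, 0, 1, 0], [6, 4, 2, 3, 1, 2, 6, 4, 5, 3, 4, 0, 1, 2, 3, 0, 1, 2, 0, 1, 0]]

/-- the complement letters -/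
def compL (w : List ℕ) : List ℕ :=
  if w = [5, 4, 3, 2, 1, 0] then [33, 36, 41] else
  if w = [6, 4, 3, 2, 1, 0] then [33, 34, 41] else
  if w = [6, 5, 4, 2, 1, 0] then [41] else
  if w = [6, 5, 4, 3, 2, 1, 0] then [41] else
  if w = [4, 3, 2, 6, 1, 2, 3, 1, 2, 0, 1, 0] then [33, 34, 41] else [33, 35, 42]

/-- the complements -/
def comps (w : List ℕ) : List (List ℕ) := (compL w).sublists

end Cfsg.Agent.H335.TC6
end

private theorem dce_d6e5c592ff0c : _root_.True := by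
  try have : _root_.True := by simp only [_root_.Cfsg.Agent.H335.TC6.chkRep7._sparseCasesOn_1.else_eq]
  try have : _root_.True := by simp only [_root_.Cfsg.Agent.H335.TC6.chkRep7.eq_3]
  try have : _root_.True := by simp only [_root_.Cfsg.Agent.H335.TC6.chkRep7._sparseCasesOn_2.else_eq]
  try have : _root_.True := by simp only [_root_.Cfsg.Agent.H335.TC6.chkRep7.eq_1]
  try have : _root_.True := by simp only [_root_.Cfsg.Agent.H335.TC6.chkRep7.eq_2]
  exact _root_.True.intro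
end

-- part: H972/CS/F4Gen
section
prune_inst 0xf5705f412162120000040592c1007ce79f000490000b800088e403420f81ec238002a6601e301008004eb8841034082813540090424000000e843000011f01a0900852049308ad9536001981008c41500038180002000000000080000000000401c010000
set_option linter.all false
open scoped Cfsg.Agent.FastGrp

/-!
# Semisimple centralisers in `F₄(q)`, all `q` (helper972)

* `f4_gen` : `|C(x)| ≤ 1152 (q + 1)^4 q^18` for `x` of odd prime order prime to `q` in `F₄(q)`;
* `f4_gen_two` : `|C(x)| ≤ 1152 (q + 1)^4 q^32` for `x` of prime order prime to `q`.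
-/

set_option autoImplicit false
set_option linter.unusedSectionVars false

namespace Cfsg.Agent.H972.CS.F4Gen

open CoxeterSystem Cfsg Cfsg.Lie Cfsg.Lie.ChevalleyDatum
open Cfsg.Agent.ChevalleyStructure Cfsg.Agent.ChevalleyStructure.Elts Cfsg.Agent.ChevalleyStructure.CoxeterGeom
  Cfsg.Agent.ChevalleyStructure.CoxeterGeomTypes Cfsg.Agent.ChevalleyStructure.NPerm
open Cfsg.Agent.Tits.Roots Cfsg.Agent.Tits.Core Cfsg.Agent.Nodes Cfsg.Agent.Nodes.Reps Cfsg.Agent.Nodes.BNOf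
  Cfsg.Agent.Nodes.RGDChev
open Cfsg.Agent.KFacts.RgdField Cfsg.Agent.KFacts.RgdChevCoord
open Cfsg.Agent.BpExc Cfsg.Agent.BpExc.NChev Cfsg.Agent.H129.TorusChar Cfsg.Agent.H129.TorusUntw Cfsg.Agent.H972.CS
  Cfsg.Agent.H972.CS.Main Cfsg.Agent.H972.CS.Eval Cfsg.Agent.H972.CS.LinkOf Cfsg.Agent.H972.CS.F4Link
  Cfsg.Agent.H972.CS.F4Two
open Cfsg.Agent.H931.KC (Kac hr exists_alcove dvd_iff)

universe u v

/-! ### the untwisted bound at any set of representatives -/

section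

variable {D : ChevalleyDatum} {l : ℕ} {M : CoxeterMatrix (Fin l)} (hp : IsType D l M)
  {F : Type u} [Field F] [Fintype F]

/-- **The crude bound** (untwisted groups). -/
theorem cent_crude {d : ℕ} {B' : Fin l → Fin l → ℤ} (hB' : InvC D l d B') (hd : d ≠ 0) (hd1 : d = 1 ∨ d.Prime)
    {s : ℕ} (hs : s.Prime) (hsF : (s : F) ≠ 0) {Rf : Set ((Fin l → ℤ) →+ ZMod s)}
    (hRf : Meets hp M.toCoxeterSystem Rf) {N : ℕ}
    (hN : ∀ f ∈ Rf, f ≠ 0 → (Main.psi M.toCoxeterSystem hp.isCartan f).ncard ≤ N) {x : ↥(D.group F)}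
    (hx : orderOf x = s) :
    Nat.card ↥(Subgroup.centralizer {x}) ≤
      Nat.card M.Group * (Fintype.card F + 1) ^ l * Fintype.card F ^ (2 * N) := by
  obtain ⟨r, e, hr, hrF, hrk, he, hq, hk⟩ := exists_closure (F := F) rfl
  have hsr : s ≠ r := by
    rintro rfl
    exact hsF (CharP.cast_eq_zero F s)
  obtain ⟨p, hp2, hpd⟩ : ∃ p : ℕ, p.Prime ∧ ¬ p ∣ d := by
    obtain ⟨p, h1, h2⟩ := Nat.exists_infinite_primes (d + 1)
    exact ⟨p, h2, fun h => by have := Nat.le_of_dvd (Nat.pos_of_ne_zero hd) h; omega⟩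
  have : Fact p.Prime := ⟨hp2⟩
  have hset := Cfsg.Agent.H795.Untw.setup_untw hp hk (algebraMap F (AlgebraicClosure F)) he hq hB' hd hd1 (p := p) hpd
  have hfin := finite_W hp M.toCoxeterSystem
  have hxs : x ^ s = 1 := by rw [← hx, pow_orderOf_eq_one]
  have hx1 : x ≠ 1 := by
    rintro rfl
    rw [orderOf_one] at hx
    exact hs.one_lt.ne hx
  let _ := ZMod.algebra F r
  have h1 : Algebra.IsAlgebraic (ZMod r) F := Algebra.IsAlgebraic.of_finite _ _
  have h2 : Algebra.IsAlgebraic (ZMod r) (AlgebraicClosure F) := Algebra.IsAlgebraic.trans (ZMod r) F _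
  obtain ⟨z, hz⟩ := TorAll.exists_toral' hp r (y := Cfsg.Agent.GpExc.Field.emb hp.inList (algebraMap F (AlgebraicClosure F)) x) hs hsr
    (by rw [← map_pow, hxs, map_one])
  obtain ⟨f, hf, hf0, w, hP, hC⟩ := bound_setup hk hset hB' hd hs hsr hRf hxs hx1 rfl hz
  let _ : Fintype M.Group := Fintype.ofFinite _
  have hq0 : 0 < r ^ e := pow_pos (Fact.out : r.Prime).pos e
  have h3 := hC Finset.univ (fun v _ _ => Finset.mem_univ v)
  have h4 := Cfsg.Agent.H27.TS.Det.val_le hp M.toCoxeterSystem hq0 f w Finset.univ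
  refine (h3.trans h4).trans ?_
  rw [hq, Finset.card_univ, ← Nat.card_eq_fintype_card]
  calc (r ^ e + 1) ^ l * ((r ^ e) ^ (2 * (Main.psi M.toCoxeterSystem hp.isCartan f).ncard) * Nat.card M.Group)
      ≤ (r ^ e + 1) ^ l * ((r ^ e) ^ (2 * N) * Nat.card M.Group) := by
        refine Nat.mul_le_mul_left _ (Nat.mul_le_mul_right _ (Nat.pow_le_pow_right hq0 ?_))
        exact Nat.mul_le_mul_left 2 (hN f hf hf0)
    _ = _ := by ring

end

/-! ### the number of roots, type `F4` -/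

/-- the roots killed at a pattern -/
def patOk (P : List Bool) (b : Bool) (X : List ℤ) : Bool :=
  ((List.range 4).all fun i => decide (0 ≤ X.getD i 0)) &&
  (((List.range 4).all fun i => X.getD i 0 == 0 || !(P.getD i false)) ||
    (!b && (List.range 4).all fun i => X.getD i 0 == ([2, 4, 3, 2] : List ℤ).getD i 0 || !(P.getD i false)))

/-- their number -/
def cnt (P : List Bool) (b : Bool) : ℕ := (Rt4.filter (patOk P b)).length

/-- the patterns -/
def pats : List (List Bool × Bool) :=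
  [false, true].flatMap fun a => [false, true].flatMap fun b => [false, true].flatMap fun c =>
    [false, true].flatMap fun d => [false, true].map fun e => ([a, b, c, d], e)

set_option maxRecDepth 1000000 in
theorem cnt_nine : (pats.all fun p => p.1 == [false, false, false, false] ||
    (!p.2 && (p.1 == [true, false, false, false] || p.1 == [false, false, false, true])) ||
    decide (cnt p.1 p.2 ≤ 9)) = true := by decide +kernel

theorem mem_pats (a b c d e : Bool) : ([a, b, c, d], e) ∈ pats := by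
  revert a b c d e
  decide

set_option maxRecDepth 1000000 in
theorem hr4 : ∀ i : Fin 4, hr chevF4 4 i = (([2, 4, 3, 2] : List ℤ).getD i 0) := by decide +kernel

section

variable {M : CoxeterMatrix (Fin 4)} (hp : IsType chevF4 4 M)

/-- `f` has the Kac coordinates `c`, `c0` -/
structure Alc {s : ℕ} (f : (Fin 4 → ℤ) →+ ZMod s) (c : Fin 4 → ℕ) (c0 : ℕ) : Prop where
  kac : Kac chevF4 4 s c c0
  eq : ∀ i, f (sr i) = ((c i : ℕ) : ZMod s)

theorem meets_alc {s : ℕ} (hs : 0 < s) :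
    Meets hp M.toCoxeterSystem {f : (Fin 4 → ℤ) →+ ZMod s | ∃ c c0, Alc f c c0} := by
  intro f
  have : NeZero s := ⟨hs.ne'⟩
  let b : (Fin 4 → ℤ) →+ ℤ :=
    { toFun := fun x => ∑ i, x i * ((f (sr i)).val : ℤ)
      map_zero' := by simp
      map_add' := fun x y => by
        rw [← Finset.sum_add_distrib]
        refine Finset.sum_congr rfl fun i _ => ?_
        rw [Pi.add_apply, add_mul] }
  have hb : ∀ x, ((b x : ℤ) : ZMod s) = f x := by
    intro x
    show (((∑ i, x i * ((f (sr i)).val : ℤ) : ℤ)) : ZMod s) = f x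
    conv_rhs => rw [eq_sum_sr x, map_sum]
    rw [Int.cast_sum]
    refine Finset.sum_congr rfl fun i _ => ?_
    rw [map_zsmul, Int.cast_mul, zsmul_eq_mul, Int.cast_natCast, ZMod.natCast_zmod_val]
  obtain ⟨w, c, c0, h1, h2⟩ := exists_alcove hp hs b
  refine ⟨w, c, c0, h1, fun i => ?_⟩
  have h3 := (ZMod.intCast_zmod_eq_zero_iff_dvd _ s).2 (h2 (sr i))
  rw [Int.cast_sub, sub_eq_zero, hb] at h3
  have h4 : (∑ j, (sr i : Fin 4 → ℤ) j * (c j : ℤ)) = c i := by
    rw [Finset.sum_eq_single i]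
    · rw [sr_self, one_mul]
    · intro j _ hj
      rw [sr_ne hj, zero_mul]
    · intro h
      exact absurd (Finset.mem_univ i) h
  rw [h4, Int.cast_natCast] at h3
  exact h3.symm

/-- the pattern of `c` -/
def pt (c : Fin 4 → ℕ) : List Bool := [decide (c 0 ≠ 0), decide (c 1 ≠ 0), decide (c 2 ≠ 0), decide (c 3 ≠ 0)]

theorem psi_le_cnt {s : ℕ} {f : (Fin 4 → ℤ) →+ ZMod s} {c : Fin 4 → ℕ} {c0 : ℕ} (H : Alc f c c0) :
    (Main.psi M.toCoxeterSystem hp.isCartan f).ncard ≤ cnt (pt c) (decide (c0 ≠ 0)) := by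
  refine ncard_le_length _ (vl 4) fun a ha => ?_
  obtain ⟨h1, h2, h3⟩ := ha
  have L := link4 hp M.toCoxeterSystem
  obtain ⟨r, hr', e⟩ := L.root a h1
  have hlen := L.len r hr'
  refine ⟨data4.rt r, List.mem_filter.2 ⟨?_, ?_⟩, e⟩
  · unfold Data.rt
    have h4 : r < data4.Rt.length := by
      have : data4.Rt.length = 48 := by decide +kernel
      rw [this]; exact hr'
    rw [List.getD_eq_getElem _ _ h4]
    exact List.getElem_mem _
  · have hX : ∀ i : Fin 4, (data4.rt r).getD i 0 = a i := fun i => congrFun e i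
    have hf : (s : ℤ) ∣ ∑ i, a i * (c i : ℤ) := by
      rw [← ZMod.intCast_zmod_eq_zero_iff_dvd, Int.cast_sum]
      have h5 := eq_sum_sr a
      rw [h5, map_sum] at h3
      rw [← h3]
      refine Finset.sum_congr rfl fun i _ => ?_
      rw [map_zsmul, H.eq, zsmul_eq_mul, Int.cast_mul, Int.cast_natCast]
    have h6 := (dvd_iff hp H.kac h1 h2).1 hf
    have h0 := hX 0
    have h01 := hX 1
    have h02 := hX 2
    have h03 := hX 3
    have g0 := h2 0
    have g1 := h2 1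
    have g2 := h2 2
    have g3 := h2 3
    unfold patOk pt
    simp only [Fin.val_zero, Fin.isValue, Fin.val_one, Fin.val_two] at h0 h01 h02 h03
    change (data4.rt r).getD 3 0 = a 3 at h03
    simp only [List.range_succ, List.range_zero, List.nil_append, List.cons_append, List.all_cons, List.all_nil,
      Bool.and_true, h0, h01, h02, h03]
    have k0 : (0 : ℤ) ≤ a 0 := g0
    have k1 : (0 : ℤ) ≤ a 1 := g1
    have k2 : (0 : ℤ) ≤ a 2 := g2
    have k3 : (0 : ℤ) ≤ a 3 := g3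
    simp only [k0, k1, k2, k3, decide_true, Bool.true_and]
    rcases h6 with h6 | ⟨h6, h7⟩
    · have m0 := h6 0
      have m1 := h6 1
      have m2 := h6 2
      have m3 := h6 3
      simp
      left
      refine ⟨?_, ?_, ?_, ?_⟩
      · by_cases h : a 0 = 0
        · exact Or.inl h
        · exact Or.inr (m0 h)
      · by_cases h : a 1 = 0
        · exact Or.inl h
        · exact Or.inr (m1 h)
      · by_cases h : a 2 = 0
        · exact Or.inl h
        · exact Or.inr (m2 h)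
      · by_cases h : a 3 = 0
        · exact Or.inl h
        · exact Or.inr (m3 h)
    · have m0 := h7 0
      have m1 := h7 1
      have m2 := h7 2
      have m3 := h7 3
      rw [hr4] at m0 m1 m2 m3
      simp at m0 m1 m2 m3
      simp
      right
      refine ⟨h6, ?_, ?_, ?_, ?_⟩
      · by_cases h : a 0 = 2
        · exact Or.inl h
        · exact Or.inr (m0 h)
      · by_cases h : a 1 = 4
        · exact Or.inl h
        · exact Or.inr (m1 h)
      · by_cases h : a 2 = 3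
        · exact Or.inl h
        · exact Or.inr (m2 h)
      · by_cases h : a 3 = 2
        · exact Or.inl h
        · exact Or.inr (m3 h)

theorem ne_zero_of {s : ℕ} {f : (Fin 4 → ℤ) →+ ZMod s} {c : Fin 4 → ℕ} {c0 : ℕ} (H : Alc f c c0) (hf0 : f ≠ 0) :
    ∃ i, c i ≠ 0 := by
  by_contra h
  push Not at h
  apply hf0
  refine AddMonoidHom.ext fun y => ?_
  rw [eq_sum_sr y, map_sum]
  refine Finset.sum_eq_zero fun i _ => ?_
  rw [map_zsmul, H.eq, h i, Nat.cast_zero, smul_zero]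

theorem psi_le_nine {s : ℕ} (hs : s.Prime) (hs2 : s ≠ 2) {f : (Fin 4 → ℤ) →+ ZMod s} {c : Fin 4 → ℕ} {c0 : ℕ}
    (H : Alc f c c0) (hf0 : f ≠ 0) : (Main.psi M.toCoxeterSystem hp.isCartan f).ncard ≤ 9 := by
  refine (psi_le_cnt hp H).trans ?_
  have h1 := List.all_eq_true.1 cnt_nine _ (mem_pats (decide (c 0 ≠ 0)) (decide (c 1 ≠ 0)) (decide (c 2 ≠ 0))
    (decide (c 3 ≠ 0)) (decide (c0 ≠ 0)))
  have hsum := H.kac.sum
  simp only [hr4, Fin.sum_univ_succ, Finset.univ_eq_empty, Finset.sum_empty] at hsum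
  have hodd := hs.eq_two_or_odd
  rw [Bool.or_eq_true, Bool.or_eq_true, decide_eq_true_iff] at h1
  rcases h1 with (h1 | h1) | h1
  · exfalso
    obtain ⟨i, hi⟩ := ne_zero_of H hf0
    rw [beq_iff_eq] at h1
    simp only [List.cons.injEq, decide_eq_false_iff_not, not_not, and_true] at h1
    obtain ⟨a0, a1, a2, a3⟩ := h1
    fin_cases i
    · exact hi a0
    · exact hi a1
    · exact hi a2
    · exact hi a3
  · exfalso
    simp at h1 hsum
    omega
  · exact h1

end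

/-! ### the theorems -/

/-- **Elements of odd prime order in `F₄(q)`.** -/
theorem f4_gen {F : Type u} [Field F] [Fintype F] {s : ℕ} (hs : s.Prime) (hs2 : s ≠ 2) (hsF : (s : F) ≠ 0)
    {x : ↥(chevF4.group F)} (hx : orderOf x = s) :
    Nat.card ↥(Subgroup.centralizer {x}) ≤ 1152 * (Fintype.card F + 1) ^ 4 * Fintype.card F ^ 18 := by
  have hW : Nat.card CoxeterMatrix.F₄.Group = 1152 :=
    Cfsg.Agent.S1092.result (⟨4, CoxeterMatrix.F₄⟩, 1152) (by simp)
  have h := cent_crude isF4 invC_F4 one_ne_zero (Or.inl rfl) hs hsF (meets_alc isF4 hs.pos) (N := 9) (by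
    rintro f ⟨c, c0, H⟩ hf0
    exact psi_le_nine isF4 hs hs2 H hf0) hx
  rw [hW] at h
  exact h

/-- **Elements of order divisible by an odd prime in `F₄(q)`.** -/
theorem f4_gen_dvd {F : Type u} [Field F] [Fintype F] {s : ℕ} (hs : s.Prime) (hs2 : s ≠ 2) (hsF : (s : F) ≠ 0)
    {x : ↥(chevF4.group F)} (hx : s ∣ orderOf x) (hx0 : orderOf x ≠ 0) :
    Nat.card ↥(Subgroup.centralizer {x}) ≤ 1152 * (Fintype.card F + 1) ^ 4 * Fintype.card F ^ 18 := by
  obtain ⟨m, hm⟩ := hx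
  have hm0 : m ≠ 0 := by
    rintro rfl
    exact hx0 (by rw [hm, mul_zero])
  have h1 : orderOf (x ^ m) = s := by
    rw [orderOf_pow_of_dvd hm0 (hm ▸ dvd_mul_left m s), hm, Nat.mul_div_cancel _ (Nat.pos_of_ne_zero hm0)]
  have h2 : Subgroup.centralizer {x} ≤ Subgroup.centralizer {x ^ m} := by
    intro y hy
    rw [Subgroup.mem_centralizer_singleton_iff] at hy ⊢
    exact (Commute.pow_right (show Commute y x from hy) m).eq
  have hfin : Finite ↥(chevF4.group F) := Subtype.finite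
  exact (Nat.card_le_card_of_injective _ (Subgroup.inclusion_injective h2)).trans (f4_gen hs hs2 hsF h1)

/-- **Elements of `F₄(q)`, `q` even, that are not `2`-elements.** -/
theorem f4_gen_even {F : Type u} [Field F] [Fintype F] (hF : (2 : F) = 0) {x : ↥(chevF4.group F)}
    (hx : ¬ ∃ n : ℕ, orderOf x = 2 ^ n) :
    Nat.card ↥(Subgroup.centralizer {x}) ≤ 1152 * (Fintype.card F + 1) ^ 4 * Fintype.card F ^ 18 := by
  have hfin : Finite ↥(chevF4.group F) := Subtype.finite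
  have hx0 : orderOf x ≠ 0 := (orderOf_pos x).ne'
  obtain ⟨s, hs, hsx, hs2⟩ : ∃ s : ℕ, s.Prime ∧ s ∣ orderOf x ∧ s ≠ 2 := by
    by_contra h
    push Not at h
    refine hx ⟨(orderOf x).primeFactorsList.length, Nat.eq_prime_pow_of_unique_prime_dvd hx0 fun {d} hd hdx => ?_⟩
    exact h d hd hdx
  have hodd : s % 2 = 1 := (hs.eq_two_or_odd).resolve_left hs2
  refine f4_gen_dvd hs hs2 ?_ hsx hx0
  have h4 : s = 2 * (s / 2) + 1 := by omega
  rw [h4]
  push_cast
  rw [hF, zero_mul, zero_add]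
  exact one_ne_zero

end Cfsg.Agent.H972.CS.F4Gen
end

-- part: H800/TF8/E1
section
prune_inst 0xc5703a040100120000180590d1001c468a000402006b8000d9e00f000e863f6320038e21fc700f1a110a88f4403c8868135400a90260000004840600411d01a098801204b008a19132001f01b88a405000381800020000000000000000041004010000000
set_option linter.all false
open scoped Cfsg.Agent.FastGrp

-- part: H800/TF8/Ind
section
/-!
# Induction of cuspidal characters in relative rank one (helper800, S2452, `²F₄(8)`)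

* `isIrr_of_cover` : the restriction of an irreducible character to a supplement of a subgroup of its kernel;
* `norm_two` : Mackey's formula for one subgroup and one character if only the double cosets of `1` and `w` count;
* `cusp` : the induced character is irreducible or a sum of two different irreducible characters, and in the second
  case the character is invariant under `w`;
* `irr_of_norm_two` : a character of norm `2` which is a sum of two non-zero characters.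
-/

set_option autoImplicit false
set_option linter.unusedSectionVars false

open scoped ComplexConjugate
open Cfsg

namespace Cfsg.Agent.H800.TF8

open Cfsg.Agent.OddOrderCharacters.Clifford Cfsg.Agent.Characters Cfsg.Agent.H45.GG

section rep

variable {P : Type*} [Group P]

theorem rep_eq_one [Finite P] {n : ℕ} (σ : Representation ℂ P (Fin n → ℂ)) {u : P}
    (h : σ.character u = σ.character 1) : σ u = 1 := by
  have h1 : σ.character u = (Module.finrank ℂ (Fin n → ℂ) : ℂ) := by rw [h, Representation.char_one]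
  exact (Values.character_eq_finrank_iff σ u).1 h1

/-- The restriction of an irreducible character to a supplement of a subgroup of its kernel is irreducible. -/
theorem isIrr_of_cover [Finite P] {L : Type*} [Group L] (f : L →* P) {ψ : P → ℂ} (hψ : IsIrrCharacter P ψ)
    (hcov : ∀ p : P, ∃ (u : P) (l : L), ψ u = ψ 1 ∧ p = u * f l) : IsIrrCharacter L (ψ ∘ f) := by
  obtain ⟨n, σ, hσ, rfl⟩ := hψ
  refine ⟨n, σ.comp f, ?_, rfl⟩
  rw [Cfsg.Agent.CharactersDeep.InvRep.isIrreducible_iff] at hσ ⊢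
  refine ⟨hσ.1, fun p hp => hσ.2 p fun g v hv => ?_⟩
  obtain ⟨u, l, hu, rfl⟩ := hcov g
  rw [map_mul, rep_eq_one σ hu, one_mul]
  exact hp l v hv

/-- characters are constant on the cosets of their kernel -/
theorem apply_mul_of_ker [Finite P] {ψ : P → ℂ} (hψ : IsCharacter P ψ) {u : P} (hu : ψ u = ψ 1) (p : P) :
    ψ (u * p) = ψ p := by
  obtain ⟨n, σ, rfl⟩ := hψ
  show LinearMap.trace ℂ _ (σ (u * p)) = LinearMap.trace ℂ _ (σ p)
  rw [map_mul, rep_eq_one σ hu, one_mul]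

/-- an element which is central modulo the kernel acts by a scalar -/
theorem central_mod_ker [Finite P] {ψ : P → ℂ} (hψ : IsIrrCharacter P ψ) {z : P}
    (hz : ∀ p : P, ψ (z * p * z⁻¹ * p⁻¹) = ψ 1) : ∃ c : ℂ, (∀ p, ψ (z * p) = c * ψ p) := by
  obtain ⟨n, σ, hσ, rfl⟩ := hψ
  obtain ⟨c, hc⟩ := Cfsg.Agent.CharactersDeep.InvRep.exists_smul_of_comm σ hσ (σ z) (fun g => by
    have h1 := rep_eq_one σ (hz g)
    have h2 : z * g = z * g * z⁻¹ * g⁻¹ * (g * z) := by group
    rw [← map_mul, h2, map_mul, h1, one_mul, map_mul])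
  refine ⟨c, fun p => ?_⟩
  show LinearMap.trace ℂ _ (σ (z * p)) = c * LinearMap.trace ℂ _ (σ p)
  rw [map_mul, hc]
  simp

end rep

section mackey

variable {G : Type*} [Group G] [Fintype G]

theorem tw_one (P : Subgroup G) [Fintype P] {ψ : P → ℂ} (hψ : IsIrrCharacter P ψ) [Fintype (ds P P 1)] :
    (Fintype.card (ds P P 1) : ℂ)⁻¹ * tw P P ψ ψ 1 = 1 := by
  classical
  have h1 : Fintype.card (ds P P 1) = Nat.card P := by
    rw [← Nat.card_eq_fintype_card]
    have : ds P P 1 = ⊤ := by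
      rw [eq_top_iff]
      intro t _
      rw [mem_ds]
      simp
    rw [this, Nat.card_congr (Subgroup.topEquiv (G := P)).toEquiv]
  have h2 : tw P P ψ ψ 1 = (Nat.card P : ℂ) * classInner ψ ψ := by
    rw [classInner_apply, tw_def, mul_inv_cancel_left₀ card_ne_zero']
    refine Finset.sum_congr rfl fun t _ => ?_
    rw [show (1 : G)⁻¹ * t * 1 = t by group, ext_apply_coe]
  rw [h1, h2, Core.classInner_irr_self hψ, mul_one, inv_mul_cancel₀ card_ne_zero']

/-- **Mackey's formula** if only the double cosets of `1` and `w` count. -/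
theorem norm_two (P : Subgroup G) [Fintype P] {ψ : P → ℂ} (hψ : IsIrrCharacter P ψ) {w : G} (hw : w ∉ P)
    (h0 : ∀ x, x ∉ P → ¬ DK P P w x → tw P P ψ ψ x = 0) [Fintype (ds P P w)] :
    classInner (indFun P ψ) (indFun P ψ) =
      1 + classInner (ψ ∘ (ds P P w).subtype) (ψ ∘ dh P P w) := by
  classical
  have hc := Core.isIrr_isClassFunction hψ
  let r : Bool → G := fun b => cond b w 1
  have : ∀ i : Bool, Fintype (ds P P (r i)) := fun i => Fintype.ofFinite _
  rw [classInner_ind_eq_sum P P hc hc r ?_ ?_]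
  · have e0 : ∀ i : Bool, (Fintype.card (ds P P (r i)) : ℂ)⁻¹ * tw P P ψ ψ (r i) =
        (Nat.card (ds P P (r i)) : ℂ)⁻¹ * tw P P ψ ψ (r i) := fun i => by rw [Nat.card_eq_fintype_card]
    rw [Finset.sum_congr rfl fun i _ => e0 i, Fintype.sum_bool]
    have : Fintype (ds P P 1) := Fintype.ofFinite _
    have e1 := tw_one P hψ
    have e2 := tw_eq_classInner P P ψ ψ w
    rw [← Nat.card_eq_fintype_card] at e1 e2
    rw [add_comm]
    show (Nat.card (ds P P 1) : ℂ)⁻¹ * tw P P ψ ψ 1 + (Nat.card (ds P P w) : ℂ)⁻¹ * tw P P ψ ψ w = _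
    rw [e1, e2]
  · intro i j hij
    cases i <;> cases j
    · rfl
    · exfalso
      obtain ⟨a, ha, b, hb, e⟩ := hij
      apply hw
      rw [show w = a * 1 * b from e]
      exact mul_mem (mul_mem ha (one_mem _)) hb
    · exfalso
      obtain ⟨a, ha, b, hb, e⟩ := hij
      apply hw
      have e' : 1 = a * w * b := e
      have : w = a⁻¹ * b⁻¹ := by
        calc w = a⁻¹ * (a * w * b) * b⁻¹ := by group
          _ = a⁻¹ * b⁻¹ := by rw [← e', mul_one]
      rw [this]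
      exact mul_mem (inv_mem ha) (inv_mem hb)
    · rfl
  · intro x hx
    refine h0 x ?_ ?_
    · intro hxP
      exact hx false ⟨x, hxP, 1, one_mem _, by show x = x * 1 * 1; simp⟩
    · intro h
      exact hx true h

/-- the Mackey term of `w` for a character which is irreducible on `P ∩ w P w⁻¹` -/
theorem term_zero_or (P : Subgroup G) [Fintype P] {ψ : P → ℂ} {w : G} [Fintype (ds P P w)]
    (h1 : IsIrrCharacter (ds P P w) (ψ ∘ (ds P P w).subtype)) (h2 : IsIrrCharacter (ds P P w) (ψ ∘ dh P P w)) :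
    classInner (ψ ∘ (ds P P w).subtype) (ψ ∘ dh P P w) = 0 ∨
      (classInner (ψ ∘ (ds P P w).subtype) (ψ ∘ dh P P w) = 1 ∧
        ∀ (l : P) (hl : w⁻¹ * (l : G) * w ∈ P), ψ ⟨w⁻¹ * l * w, hl⟩ = ψ l) := by
  by_cases h : ψ ∘ (ds P P w).subtype = ψ ∘ dh P P w
  · right
    refine ⟨?_, fun l hl => ?_⟩
    · rw [← h]
      exact Core.classInner_irr_self h1
    · have := congrFun h ⟨l, (mem_ds P P w l).2 hl⟩
      exact this.symm
  · left
    exact Core.classInner_irr_ne h1 h2 h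

/-- a character of norm two is a sum of two irreducible characters -/
theorem exists_two {χ : G → ℂ} (hχ : IsCharacter G χ) (h : classInner χ χ = 2) :
    ∃ a b : G → ℂ, IsIrrCharacter G a ∧ IsIrrCharacter G b ∧ a ≠ b ∧ χ = a + b := by
  classical
  have h0 : classInner χ χ ≠ 0 := by rw [h]; norm_num
  obtain ⟨a, ha, h1, -⟩ := Cfsg.Agent.H53.HC.exists_common hχ hχ h0
  have hb := isCharacter_sub_irr hχ ha h1
  obtain ⟨m, hm⟩ := Core.classInner_isNat (Core.isIrr_isCharacter ha) hb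
  obtain ⟨m', hm'⟩ := Core.classInner_isNat hb (Core.isIrr_isCharacter ha)
  obtain ⟨k, hk⟩ := Core.classInner_isNat hb hb
  have e : χ = a + (χ - a) := by ext x; simp
  have h2 : classInner (a + (χ - a)) (a + (χ - a)) = 2 := by rw [← e]; exact h
  rw [Core.classInner_add_left, Core.classInner_add_right, Core.classInner_add_right,
    Core.classInner_irr_self ha, hm, hm', hk] at h2
  have h3 : 1 + m + (m' + k) = 2 := by exact_mod_cast h2
  have hmm : m = m' := by
    have := Core.classInner_conj_symm a (χ - a)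
    rw [hm, hm', Complex.conj_natCast] at this
    exact_mod_cast this
  have hk0 : k ≠ 0 := by
    intro h4
    rw [h4, Nat.cast_zero] at hk
    have h5 := Core.classInner_self_eq_zero hk
    rw [h5, Core.classInner_zero_left] at hm'
    have : m' = 0 := by exact_mod_cast hm'.symm
    omega
  have hk1 : k = 1 := by omega
  have hm0 : m = 0 := by omega
  rw [hk1, Nat.cast_one] at hk
  have hb' := Core.isIrr_of_classInner_self hb hk
  refine ⟨a, χ - a, ha, hb', ?_, e⟩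
  intro h4
  rw [← h4, Core.classInner_irr_self ha, hm0] at hm
  norm_num at hm

/-- **The cuspidal case.** -/
theorem cusp (P : Subgroup G) [Fintype P] {ψ : P → ℂ} (hψ : IsIrrCharacter P ψ) {w : G} (hw : w ∉ P)
    (V : Subgroup G) [Fintype V] (hV : V ≤ P) (hV0 : ∑ v : V, ψ ⟨v, hV v.2⟩ = 0)
    (hG : ∀ x : G, x ∉ P → ¬ DK P P w x → ∃ r, DK P P r x ∧ ∀ v ∈ V, ∃ h : r * v * r⁻¹ ∈ P, ψ ⟨r * v * r⁻¹, h⟩ = ψ 1)
    (hP : ∀ p : P, ∃ u l : P, ψ u = ψ 1 ∧ w⁻¹ * (l : G) * w ∈ P ∧ p = u * l)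
    (hP' : ∀ p : P, ∃ u l : P, ψ u = ψ 1 ∧ w * (l : G) * w⁻¹ ∈ P ∧ p = u * l) :
    IsIrrCharacter G (indFun P ψ) ∨
      ((∃ a b : G → ℂ, IsIrrCharacter G a ∧ IsIrrCharacter G b ∧ a ≠ b ∧ indFun P ψ = a + b) ∧
        ∀ (l : P) (hl : w⁻¹ * (l : G) * w ∈ P), ψ ⟨w⁻¹ * l * w, hl⟩ = ψ l) := by
  classical
  have : Fintype (ds P P w) := Fintype.ofFinite _
  have hch := Core.isIrr_isCharacter hψ
  have hi : IsCharacter G (indFun P ψ) := Cfsg.Agent.OddOrderCharacters.IndRes.isCharacter_indFun P hch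
  have h0 : ∀ x, x ∉ P → ¬ DK P P w x → tw P P ψ ψ x = 0 := by
    intro x hx hx'
    obtain ⟨r, ⟨a, ha, b, hb, rfl⟩, hr⟩ := hG x hx hx'
    have hc := Core.isIrr_isClassFunction hψ
    rw [tw_mul P P hc hc ha hb]
    let f : V →* G := (MulAut.conj r).toMonoidHom.comp V.subtype
    have hf : ∀ l : V, f l ∈ P := fun l => (hr l l.2).1
    have e1 : ∀ l : V, r⁻¹ * f l * r = l := by
      intro l
      show r⁻¹ * (r * l * r⁻¹) * r = l
      group
    refine tw_eq_zero_of_hom P P hch hch r f hf (fun l => by rw [e1]; exact hV l.2) ?_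
    have e2 : ∀ l : V, ψ ⟨f l, hf l⟩ = ψ 1 := fun l => (hr l l.2).2
    have e3 : ∀ l : V, ψ ⟨r⁻¹ * f l * r, by rw [e1]; exact hV l.2⟩ = ψ ⟨l, hV l.2⟩ := fun l => by
      congr 1
      exact Subtype.ext (e1 l)
    simp only [e2, e3]
    rw [← Finset.mul_sum, ← map_sum, hV0, map_zero, mul_zero]
  have hn := norm_two P hψ hw h0
  have i1 : IsIrrCharacter (ds P P w) (ψ ∘ (ds P P w).subtype) := by
    refine isIrr_of_cover _ hψ fun p => ?_
    obtain ⟨u, l, hu, hl, e⟩ := hP p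
    exact ⟨u, ⟨l, (mem_ds P P w l).2 hl⟩, hu, e⟩
  have i2 : IsIrrCharacter (ds P P w) (ψ ∘ dh P P w) := by
    refine isIrr_of_cover _ hψ fun p => ?_
    obtain ⟨u, l, hu, hl, e⟩ := hP' p
    have h1 : w⁻¹ * (w * (l : G) * w⁻¹) * w = l := by group
    refine ⟨u, ⟨⟨w * l * w⁻¹, hl⟩, (mem_ds P P w _).2 (by rw [h1]; exact l.2)⟩, hu, ?_⟩
    rw [e]
    congr 1
    exact Subtype.ext h1.symm
  rcases term_zero_or P i1 i2 with h | ⟨h, h'⟩
  · left
    rw [h, add_zero] at hn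
    exact Core.isIrr_of_classInner_self hi hn
  · right
    rw [h] at hn
    exact ⟨exists_two hi (by rw [hn]; norm_num), h'⟩

/-- if `a + b` has norm two and `a`, `b` are non-zero characters, then `a` is irreducible -/
theorem irr_of_norm_two {a b : G → ℂ} (ha : IsCharacter G a) (hb : IsCharacter G b) (ha0 : a ≠ 0) (hb0 : b ≠ 0)
    (h : classInner (a + b) (a + b) = 2) : IsIrrCharacter G a := by
  obtain ⟨m, hm⟩ := Core.classInner_isNat ha ha
  obtain ⟨k, hk⟩ := Core.classInner_isNat hb hb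
  obtain ⟨j, hj⟩ := Core.classInner_isNat ha hb
  obtain ⟨i, hi⟩ := Core.classInner_isNat hb ha
  rw [Core.classInner_add_left, Core.classInner_add_right, Core.classInner_add_right, hm, hk, hj, hi] at h
  have h1 : m + j + (i + k) = 2 := by exact_mod_cast h
  have hm0 : m ≠ 0 := by
    rintro rfl
    rw [Nat.cast_zero] at hm
    exact ha0 (Core.classInner_self_eq_zero hm)
  have hk0 : k ≠ 0 := by
    rintro rfl
    rw [Nat.cast_zero] at hk
    exact hb0 (Core.classInner_self_eq_zero hk)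
  have hm1 : m = 1 := by omega
  rw [hm1, Nat.cast_one] at hm
  exact Core.isIrr_of_classInner_self ha hm

end mackey

end Cfsg.Agent.H800.TF8
end

-- part: H800/TF8/Lin
section
/-!
# Principal series: a linear character of `B` in general position outside of `P` (helper800, S2452, `²F₄(8)`)

* `e2` : the constituents of `Ind_B^P μ` induce irreducible characters of `G`;
* `f2` : if `μ` is not invariant under `t`, then `Ind_B^P μ` is irreducible.
-/

set_option autoImplicit false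
set_option linter.unusedSectionVars false

open scoped ComplexConjugate
open Cfsg

namespace Cfsg.Agent.H800.TF8

open Cfsg.Agent.OddOrderCharacters.Clifford Cfsg.Agent.Characters Cfsg.Agent.H45.GG
open Cfsg.Agent.OddOrderCharacters

variable {G : Type*} [Group G]

/-- a linear character, as a function -/
noncomputable def lc {B : Type*} [Group B] (μ : B →* ℂˣ) : B → ℂ := fun b => ((μ b : ℂˣ) : ℂ)

theorem lc_irr {B : Type*} [Group B] (μ : B →* ℂˣ) : IsIrrCharacter B (lc μ) := Linear.isIrrCharacter_hom μ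

theorem lc_comp {B C : Type*} [Group B] [Group C] (μ : B →* ℂˣ) (f : C →* B) :
    IsIrrCharacter C (lc μ ∘ f) := Linear.isIrrCharacter_hom (μ.comp f)

theorem tw_lc_zero [Finite G] (B : Subgroup G) [Fintype B] (μ : B →* ℂˣ) {w s : G} (hs : s ∈ B)
    (hs' : w⁻¹ * s * w ∈ B) (hne : μ ⟨w⁻¹ * s * w, hs'⟩ ≠ μ ⟨s, hs⟩) : tw B B (lc μ) (lc μ) w = 0 := by
  classical
  have : Fintype (ds B B w) := Fintype.ofFinite _
  have hne' : lc μ ∘ (ds B B w).subtype ≠ lc μ ∘ dh B B w := by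
    intro h
    have h1 := congrFun h ⟨⟨s, hs⟩, (mem_ds B B w _).2 hs'⟩
    exact hne (Units.ext h1.symm)
  have h3 := Core.classInner_irr_ne (lc_comp μ _) (lc_comp μ _) hne'
  rw [← tw_eq_classInner] at h3
  rcases mul_eq_zero.1 h3 with h | h
  · have : 0 < Fintype.card (ds B B w) := Fintype.card_pos
    exact absurd h (inv_ne_zero (by exact_mod_cast this.ne'))
  · exact h

/-- the norm of an induced linear character -/
theorem lin_norm [Fintype G] (B : Subgroup G) [Fintype B] (μ : B →* ℂˣ) {t : G} (ht : t ∉ B)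
    (h0 : ∀ x, x ∉ B → ¬ DK B B t x → ∃ w, DK B B w x ∧ ∃ (s : G) (hs : s ∈ B) (hs' : w⁻¹ * s * w ∈ B),
      μ ⟨w⁻¹ * s * w, hs'⟩ ≠ μ ⟨s, hs⟩) :
    ((∃ (s : G) (hs : s ∈ B) (hs' : t⁻¹ * s * t ∈ B), μ ⟨t⁻¹ * s * t, hs'⟩ ≠ μ ⟨s, hs⟩) →
      classInner (indFun B (lc μ)) (indFun B (lc μ)) = 1) ∧
    ((∀ (s : G) (hs : s ∈ B) (hs' : t⁻¹ * s * t ∈ B), μ ⟨t⁻¹ * s * t, hs'⟩ = μ ⟨s, hs⟩) →
      classInner (indFun B (lc μ)) (indFun B (lc μ)) = 2) := by
  classical
  have : Fintype (ds B B t) := Fintype.ofFinite _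
  have hn := norm_two B (lc_irr μ) ht (by
    intro x hx hx'
    obtain ⟨w, ⟨a, ha, b, hb, rfl⟩, s, hs, hs', hne⟩ := h0 x hx hx'
    have hc := Core.isIrr_isClassFunction (lc_irr μ)
    rw [tw_mul B B hc hc ha hb]
    exact tw_lc_zero B μ hs hs' hne)
  refine ⟨?_, ?_⟩
  · rintro ⟨s, hs, hs', hne⟩
    have hne' : lc μ ∘ (ds B B t).subtype ≠ lc μ ∘ dh B B t := by
      intro h
      have h1 := congrFun h ⟨⟨s, hs⟩, (mem_ds B B t _).2 hs'⟩
      exact hne (Units.ext h1.symm)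
    rw [hn, Core.classInner_irr_ne (lc_comp μ _) (lc_comp μ _) hne', add_zero]
  · intro h
    have he : lc μ ∘ (ds B B t).subtype = lc μ ∘ dh B B t := by
      funext d
      have := h (d : B) (d : B).2 ((mem_ds B B t _).1 d.2)
      exact (congrArg (fun z : ℂˣ => (z : ℂ)) this).symm
    rw [hn, he, Core.classInner_irr_self (lc_comp μ _)]
    norm_num

theorem classInner_equiv {A C : Type*} [Group A] [Group C] [Fintype A] [Fintype C] (e : A ≃* C) (f g : C → ℂ) :
    classInner (f ∘ e) (g ∘ e) = classInner f g := by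
  rw [classInner_apply, classInner_apply, Nat.card_congr e.toEquiv]
  congr 1
  exact Fintype.sum_equiv e.toEquiv _ _ fun _ => rfl

section main

variable [Fintype G] (B P : Subgroup G) [Fintype B] [Fintype P] (hBP : B ≤ P) (μ : B →* ℂˣ)

/-- `μ` on `B` as a subgroup of `P` -/
noncomputable def mP : B.subgroupOf P →* ℂˣ := μ.comp (Subgroup.subgroupOfEquivOfLe hBP).toMonoidHom

theorem indFun_stage : indFun P (indFun (B.subgroupOf P) (lc (mP B P hBP μ))) = indFun B (lc μ) :=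
  IndRes.indFun_trans B P hBP (lc μ)

theorem inner_stage [Fintype (B.subgroupOf P)] {ρ : P → ℂ} (hρ : IsIrrCharacter P ρ) :
    classInner (indFun (B.subgroupOf P) (lc (mP B P hBP μ))) ρ =
      classInner (lc μ) (fun b : B => ρ ⟨b, hBP b.2⟩) := by
  rw [IndRes.classInner_indFun_left _ _ (Core.isIrr_isClassFunction hρ)]
  exact classInner_equiv (Subgroup.subgroupOfEquivOfLe hBP) (lc μ) (fun b : B => ρ ⟨b, hBP b.2⟩)

variable {B P hBP μ}

/-- the norm of `Ind_B^P μ` -/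
theorem norm_P {t : G} (htP : t ∈ P) (htB : t ∉ B) (hP : ∀ x ∈ P, x ∈ B ∨ DK B B t x) :
    ((∃ (s : G) (hs : s ∈ B) (hs' : t⁻¹ * s * t ∈ B), μ ⟨t⁻¹ * s * t, hs'⟩ ≠ μ ⟨s, hs⟩) →
      classInner (indFun (B.subgroupOf P) (lc (mP B P hBP μ))) (indFun (B.subgroupOf P) (lc (mP B P hBP μ))) = 1) ∧
    ((∀ (s : G) (hs : s ∈ B) (hs' : t⁻¹ * s * t ∈ B), μ ⟨t⁻¹ * s * t, hs'⟩ = μ ⟨s, hs⟩) →
      classInner (indFun (B.subgroupOf P) (lc (mP B P hBP μ))) (indFun (B.subgroupOf P) (lc (mP B P hBP μ))) = 2) := by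
  classical
  have : Fintype (B.subgroupOf P) := Fintype.ofFinite _
  have key := lin_norm (B.subgroupOf P) (mP B P hBP μ) (t := ⟨t, htP⟩)
    (fun h => htB (Subgroup.mem_subgroupOf.1 h)) (by
      intro x hx hx'
      exfalso
      rcases hP x x.2 with h | ⟨a, ha, b, hb, e⟩
      · exact hx (Subgroup.mem_subgroupOf.2 h)
      · exact hx' ⟨⟨a, hBP ha⟩, Subgroup.mem_subgroupOf.2 ha, ⟨b, hBP hb⟩, Subgroup.mem_subgroupOf.2 hb,
          Subtype.ext e⟩)
  refine ⟨fun ⟨s, hs, hs', hne⟩ => key.1 ⟨⟨s, hBP hs⟩, Subgroup.mem_subgroupOf.2 hs, Subgroup.mem_subgroupOf.2 hs', hne⟩,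
    fun h => key.2 fun s hs hs' => h s (Subgroup.mem_subgroupOf.1 hs) (Subgroup.mem_subgroupOf.1 hs')⟩

/-- **(F2)** -/
theorem f2 {t : G} (htP : t ∈ P) (htB : t ∉ B) (hP : ∀ x ∈ P, x ∈ B ∨ DK B B t x)
    (hμ : ∃ (s : G) (hs : s ∈ B) (hs' : t⁻¹ * s * t ∈ B), μ ⟨t⁻¹ * s * t, hs'⟩ ≠ μ ⟨s, hs⟩)
    {ρ : P → ℂ} (hρ : IsIrrCharacter P ρ) (hρμ : classInner (fun b : B => ρ ⟨b, hBP b.2⟩) (lc μ) ≠ 0) :
    ρ = indFun (B.subgroupOf P) (lc (mP B P hBP μ)) := by
  classical
  have : Fintype (B.subgroupOf P) := Fintype.ofFinite _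
  have h1 := (norm_P (hBP := hBP) htP htB hP).1 hμ
  have hi : IsCharacter P (indFun (B.subgroupOf P) (lc (mP B P hBP μ))) :=
    IndRes.isCharacter_indFun _ (Core.isIrr_isCharacter (lc_irr _))
  have h2 := Core.isIrr_of_classInner_self hi h1
  by_contra hne
  have h3 := Core.classInner_irr_ne h2 hρ (Ne.symm hne)
  rw [inner_stage B P hBP μ hρ] at h3
  apply hρμ
  rw [← Core.classInner_conj_symm, h3, map_zero]

/-- `ρ` vanishes on the elements without conjugates in `B` -/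
theorem f2_zero {t : G} (htP : t ∈ P) (htB : t ∉ B) (hP : ∀ x ∈ P, x ∈ B ∨ DK B B t x)
    (hμ : ∃ (s : G) (hs : s ∈ B) (hs' : t⁻¹ * s * t ∈ B), μ ⟨t⁻¹ * s * t, hs'⟩ ≠ μ ⟨s, hs⟩)
    {ρ : P → ℂ} (hρ : IsIrrCharacter P ρ) (hρμ : classInner (fun b : B => ρ ⟨b, hBP b.2⟩) (lc μ) ≠ 0)
    {y : P} (hy : ∀ g : G, g⁻¹ * y * g ∉ B) : ρ y = 0 := by
  rw [f2 htP htB hP hμ hρ hρμ]
  exact IndRes.indFun_eq_zero_of_forall _ _ fun x h => hy x (Subgroup.mem_subgroupOf.1 h)

/-- **(E2)** -/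
theorem e2 {t : G} (htP : t ∈ P) (htB : t ∉ B) (hP : ∀ x ∈ P, x ∈ B ∨ DK B B t x)
    (hG : ∀ x ∉ P, ∃ w, DK B B w x ∧ ∃ (s : G) (hs : s ∈ B) (hs' : w⁻¹ * s * w ∈ B),
      μ ⟨w⁻¹ * s * w, hs'⟩ ≠ μ ⟨s, hs⟩)
    {ρ : P → ℂ} (hρ : IsIrrCharacter P ρ) (hρμ : classInner (fun b : B => ρ ⟨b, hBP b.2⟩) (lc μ) ≠ 0) :
    IsIrrCharacter G (indFun P ρ) := by
  classical
  have : Fintype (B.subgroupOf P) := Fintype.ofFinite _
  have hst := indFun_stage B P hBP μ
  have hnP := norm_P (hBP := hBP) (μ := μ) htP htB hP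
  have hnG := lin_norm B μ htB (by
    intro x hx hx'
    by_cases hxP : x ∈ P
    · rcases hP x hxP with h | h
      · exact (hx h).elim
      · exact (hx' h).elim
    · exact hG x hxP)
  set α := indFun (B.subgroupOf P) (lc (mP B P hBP μ)) with hα
  have hi : IsCharacter P α := IndRes.isCharacter_indFun _ (Core.isIrr_isCharacter (lc_irr _))
  have hαρ : classInner α ρ ≠ 0 := by
    rw [hα, inner_stage B P hBP μ hρ]
    intro h
    apply hρμ
    rw [← Core.classInner_conj_symm, h, map_zero]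
  have hne : ∀ χ : P → ℂ, IsIrrCharacter P χ → indFun P χ ≠ 0 := by
    intro χ hχ h
    have h1 := congrFun h 1
    rw [IndRes.indFun_apply_one, Pi.zero_apply] at h1
    rcases mul_eq_zero.1 h1 with h2 | h2
    · exact Subgroup.index_ne_zero_of_finite (H := P) (by exact_mod_cast h2)
    · exact Core.isIrr_apply_one_ne_zero hχ h2
  by_cases hμ : ∃ (s : G) (hs : s ∈ B) (hs' : t⁻¹ * s * t ∈ B), μ ⟨t⁻¹ * s * t, hs'⟩ ≠ μ ⟨s, hs⟩
  · have h1 := Core.isIrr_of_classInner_self hi (hnP.1 hμ)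
    have h2 : α = ρ := by
      by_contra h3
      exact hαρ (Core.classInner_irr_ne h1 hρ h3)
    have h3 := hnG.1 hμ
    rw [← hst, h2] at h3
    exact Core.isIrr_of_classInner_self (IndRes.isCharacter_indFun _ (Core.isIrr_isCharacter hρ)) h3
  · push Not at hμ
    obtain ⟨a, b, ha, hb, hab, e⟩ := exists_two hi (hnP.2 hμ)
    have h3 := hnG.2 hμ
    rw [← hst, e, IndRes.indFun_add] at h3
    have h4 : ρ = a ∨ ρ = b := by
      by_contra hc
      push Not at hc
      apply hαρ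
      rw [e, Core.classInner_add_left, Core.classInner_irr_ne ha hρ (Ne.symm hc.1),
        Core.classInner_irr_ne hb hρ (Ne.symm hc.2), add_zero]
    have ca := IndRes.isCharacter_indFun P (Core.isIrr_isCharacter ha)
    have cb := IndRes.isCharacter_indFun P (Core.isIrr_isCharacter hb)
    rcases h4 with rfl | rfl
    · exact irr_of_norm_two ca cb (hne _ ha) (hne _ hb) h3
    · rw [add_comm] at h3
      exact irr_of_norm_two cb ca (hne _ hb) (hne _ ha) h3

/-- a character `χ` over `ρ` with `Ind ρ` irreducible vanishes on the elements without conjugates in `P` -/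
theorem zero_of_irr {ρ : P → ℂ} (hρ : IsIrrCharacter P ρ) (hI : IsIrrCharacter G (indFun P ρ)) {χ : G → ℂ}
    (hχ : IsIrrCharacter G χ) (hχρ : classInner (fun h : P => χ h) ρ ≠ 0) {x : G} (hx : ∀ g : G, g⁻¹ * x * g ∉ P) :
    χ x = 0 := by
  have h1 : classInner χ (indFun P ρ) ≠ 0 := by
    rw [IndRes.classInner_indFun_right P ρ (Core.isIrr_isClassFunction hχ)]
    exact hχρ
  have h2 : χ = indFun P ρ := by
    by_contra hne
    exact h1 (Core.classInner_irr_ne hχ hI hne)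
  rw [h2]
  exact IndRes.indFun_eq_zero_of_forall P _ hx

end main

end Cfsg.Agent.H800.TF8
end

-- part: H800/TF8/E1
section
/-!
# The constituents of the characters induced from cuspidal characters (helper800, S2452, `²F₄(8)`)

`Fr G` : the facts on the parabolic subgroup. `e1` : a character of `G` over a cuspidal character of `P` vanishes at `x`.
-/

set_option autoImplicit false
set_option linter.unusedSectionVars false

open scoped ComplexConjugate
open Cfsg

namespace Cfsg.Agent.H800.TF8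

open Cfsg.Agent.OddOrderCharacters.Clifford Cfsg.Agent.Characters Cfsg.Agent.H45.GG
open Cfsg.Agent.OddOrderCharacters

variable {G : Type*} [Group G]

/-- the facts on `P = UP LS Z`, `U = V1 UP` and the element `n` -/
structure Fr (P U UP V1 LS Z : Subgroup G) (n : G) : Prop where
  mem : ∀ g, g ∈ P ↔ ∃ u ∈ UP, ∃ l ∈ LS, ∃ z ∈ Z, g = u * l * z
  norm : ∀ p ∈ P, ∀ u ∈ UP, p * u * p⁻¹ ∈ UP
  UPU : UP ≤ U
  V1L : V1 ≤ LS
  V1U : V1 ≤ U
  split : ∀ u ∈ U, ∃ v ∈ V1, ∃ u' ∈ UP, u = v * u'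
  comm : ∀ z ∈ Z, ∀ l ∈ LS, z * l = l * z
  n_sq : n * n = 1
  n_comm : ∀ l ∈ LS, n * l = l * n
  n_inv : ∀ z ∈ Z, n * z * n⁻¹ = z⁻¹
  n_U : ∀ u ∈ UP, n * u * n⁻¹ ∈ P → u = 1
  n_not : n ∉ P
  cosets : ∀ g, g ∈ P ∨ (∃ p ∈ P, ∃ p' ∈ P, g = p * n * p') ∨
    (∃ p ∈ P, ∃ p' ∈ P, ∃ r, g = p * r * p' ∧ ∀ v ∈ V1, r * v * r⁻¹ ∈ UP)

variable {P U UP V1 LS Z : Subgroup G} {n : G}

namespace Fr

theorem UP_le (F : Fr P U UP V1 LS Z n) : UP ≤ P := fun u hu =>
  (F.mem u).2 ⟨u, hu, 1, one_mem _, 1, one_mem _, by simp⟩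

theorem LS_le (F : Fr P U UP V1 LS Z n) : LS ≤ P := fun l hl =>
  (F.mem l).2 ⟨1, one_mem _, l, hl, 1, one_mem _, by simp⟩

theorem Z_le (F : Fr P U UP V1 LS Z n) : Z ≤ P := fun z hz =>
  (F.mem z).2 ⟨1, one_mem _, 1, one_mem _, z, hz, by simp⟩

theorem U_le (F : Fr P U UP V1 LS Z n) : U ≤ P := by
  intro u hu
  obtain ⟨v, hv, u', hu', rfl⟩ := F.split u hu
  exact mul_mem (F.LS_le (F.V1L hv)) (F.UP_le hu')

theorem n_inv' (F : Fr P U UP V1 LS Z n) : n⁻¹ = n := inv_eq_of_mul_eq_one_left F.n_sq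

theorem comm_Z (F : Fr P U UP V1 LS Z n) {z z' : G} (hz : z ∈ Z) (hz' : z' ∈ Z) : z * z' = z' * z := by
  have h1 := F.n_inv _ (mul_mem hz hz')
  have h2 := F.n_inv _ hz
  have h3 := F.n_inv _ hz'
  have h4 : n * (z * z') * n⁻¹ = (n * z * n⁻¹) * (n * z' * n⁻¹) := by group
  rw [h4, h2, h3, mul_inv_rev] at h1
  have h5 : (z⁻¹ * z'⁻¹)⁻¹ = (z'⁻¹ * z⁻¹)⁻¹ := by rw [h1]
  simpa using h5.symm

theorem inf_trivial (F : Fr P U UP V1 LS Z n) {v : G} (h1 : v ∈ LS) (h2 : v ∈ UP) : v = 1 := by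
  apply F.n_U v h2
  rw [F.n_comm v h1, mul_inv_cancel_right]
  exact F.LS_le h1

theorem n_L (F : Fr P U UP V1 LS Z n) {l z : G} (hl : l ∈ LS) (hz : z ∈ Z) : n * (l * z) * n⁻¹ = l * z⁻¹ := by
  have h4 : n * (l * z) * n⁻¹ = (n * l) * z * n⁻¹ := by group
  rw [h4, F.n_comm l hl, ← F.n_inv z hz]
  group

end Fr

section main

variable [Fintype G] [Fintype P]

/-- an element of `Z` acts as a scalar -/
theorem Fr.scalar (F : Fr P U UP V1 LS Z n) {ρ : P → ℂ} (hρ : IsIrrCharacter P ρ)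
    (hker : ∀ (u : G) (hu : u ∈ UP), ρ ⟨u, F.UP_le hu⟩ = ρ 1) {z : G} (hz : z ∈ Z) :
    ∃ c : ℂ, ∀ p : P, ρ (⟨z, F.Z_le hz⟩ * p) = c * ρ p := by
  refine central_mod_ker hρ fun p => ?_
  obtain ⟨u, hu, l, hl, z', hz', e⟩ := (F.mem p).1 p.2
  have h1 : z * (p : G) * z⁻¹ * (p : G)⁻¹ = (z * u * z⁻¹) * u⁻¹ := by
    rw [e]
    have h2 : z * (u * l * z') * z⁻¹ * (u * l * z')⁻¹ = (z * u * z⁻¹) * ((z * l) * (z' * z⁻¹) * z'⁻¹ * l⁻¹) * u⁻¹ := by
      group
    rw [h2, F.comm z hz l hl, F.comm_Z hz' (inv_mem hz)]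
    group
  have h2 : (z * u * z⁻¹) * u⁻¹ ∈ UP := mul_mem (F.norm z (F.Z_le hz) u hu) (inv_mem hu)
  have h3 := hker _ h2
  rw [← h3]
  congr 1
  exact Subtype.ext h1

/-- the sum over `V1` -/
theorem Fr.sum_V1 (F : Fr P U UP V1 LS Z n) [Fintype U] [Fintype V1] {ρ : P → ℂ} (hρ : IsIrrCharacter P ρ)
    (hker : ∀ (u : G) (hu : u ∈ UP), ρ ⟨u, F.UP_le hu⟩ = ρ 1) (h0 : ∑ u : U, ρ ⟨u, F.U_le u.2⟩ = 0) :
    ∑ v : V1, ρ ⟨v, F.LS_le (F.V1L v.2)⟩ = 0 := by
  classical
  have : Fintype UP := Fintype.ofFinite _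
  have hmul : ∀ p : V1 × UP, (p.1 : G) * p.2 ∈ U := fun p => mul_mem (F.V1U p.1.2) (F.UPU p.2.2)
  have hbij : Function.Bijective (fun p : V1 × UP => (⟨(p.1 : G) * p.2, hmul p⟩ : U)) := by
    constructor
    · rintro ⟨v, u⟩ ⟨v', u'⟩ h
      have h1 : (v : G) * u = v' * u' := congrArg Subtype.val h
      have h2 : (v' : G)⁻¹ * v = u' * (u : G)⁻¹ := by
        rw [eq_mul_inv_iff_mul_eq, mul_assoc, h1]
        group
      have h3 : (v' : G)⁻¹ * v = 1 := by
        apply F.inf_trivial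
        · exact F.V1L (mul_mem (inv_mem v'.2) v.2)
        · rw [h2]
          exact mul_mem u'.2 (inv_mem u.2)
      have h4 : v = v' := Subtype.ext (inv_mul_eq_one.1 h3).symm
      rw [h4] at h1
      have h5 : u = u' := Subtype.ext (mul_left_cancel h1)
      rw [h4, h5]
    · rintro ⟨u, hu⟩
      obtain ⟨v, hv, u', hu', e⟩ := F.split u hu
      exact ⟨(⟨v, hv⟩, ⟨u', hu'⟩), Subtype.ext e.symm⟩
  have h1 := hbij.sum_comp (fun u : U => ρ ⟨u, F.U_le u.2⟩)
  rw [h0] at h1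
  let g : V1 → ℂ := fun v => ρ ⟨v, F.LS_le (F.V1L v.2)⟩
  have h2 : ∀ p : V1 × UP, ρ ⟨(p.1 : G) * p.2, F.U_le (hmul p)⟩ = g p.1 := by
    intro p
    have hc := Core.isIrr_isClassFunction hρ
    set a : P := ⟨p.1, F.LS_le (F.V1L p.1.2)⟩ with ha
    set b : P := ⟨p.2, F.UP_le p.2.2⟩ with hb
    have e1 : (⟨(p.1 : G) * p.2, F.U_le (hmul p)⟩ : P) = a * b := rfl
    have e2 : ρ (a * b) = ρ (b * a) := by
      have := hc (b * a) b⁻¹
      rw [inv_inv] at this
      rw [← this]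
      congr 1
      group
    rw [e1, e2]
    exact apply_mul_of_ker (Core.isIrr_isCharacter hρ) (hker _ p.2.2) a
  have h3 : ∑ p : V1 × UP, ρ ⟨(p.1 : G) * p.2, F.U_le (hmul p)⟩ = 0 := h1
  rw [Finset.sum_congr rfl fun p _ => h2 p, Fintype.sum_prod_type (fun p : V1 × UP => g p.1)] at h3
  have h4 : ∀ v : V1, ∑ u : UP, g ((v, u) : V1 × UP).1 = (Fintype.card UP : ℂ) * g v := by
    intro v
    show ∑ u : UP, g v = _
    rw [Finset.sum_const, Finset.card_univ, nsmul_eq_mul]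
  rw [Finset.sum_congr rfl fun v _ => h4 v, ← Finset.mul_sum] at h3
  rcases mul_eq_zero.1 h3 with h | h
  · exact absurd h (by exact_mod_cast Fintype.card_ne_zero)
  · exact h

/-- **The cuspidal case**: irreducible, or a sum of two irreducible characters with `ρ(n l n l⁻¹) = ρ(1)` on `LS Z`. -/
theorem Fr.cusp (F : Fr P U UP V1 LS Z n) [Fintype U] {ρ : P → ℂ} (hρ : IsIrrCharacter P ρ)
    (hker : ∀ (u : G) (hu : u ∈ UP), ρ ⟨u, F.UP_le hu⟩ = ρ 1) (h0 : ∑ u : U, ρ ⟨u, F.U_le u.2⟩ = 0) :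
    IsIrrCharacter G (indFun P ρ) ∨
      ((∃ a b : G → ℂ, IsIrrCharacter G a ∧ IsIrrCharacter G b ∧ a ≠ b ∧ indFun P ρ = a + b) ∧
        ∀ l ∈ LS ⊔ Z, ∃ h : n * l * n * l⁻¹ ∈ P, ρ ⟨n * l * n * l⁻¹, h⟩ = ρ 1) := by
  classical
  have : Fintype V1 := Fintype.ofFinite _
  have hsup : ∀ l ∈ LS ⊔ Z, ∃ s ∈ LS, ∃ z ∈ Z, l = s * z := by
    intro l hl
    have hle : LS ⊔ Z ≤ (⊤ : Subgroup G) := le_top
    let S : Subgroup G :=
      { carrier := {l | ∃ s ∈ LS, ∃ z ∈ Z, l = s * z}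
        one_mem' := ⟨1, one_mem _, 1, one_mem _, by simp⟩
        mul_mem' := by
          rintro a b ⟨s, hs, z, hz, rfl⟩ ⟨s', hs', z', hz', rfl⟩
          refine ⟨s * s', mul_mem hs hs', z * z', mul_mem hz hz', ?_⟩
          have := F.comm z hz s' hs'
          calc s * z * (s' * z') = s * (z * s') * z' := by group
            _ = s * s' * (z * z') := by rw [this]; group
        inv_mem' := by
          rintro a ⟨s, hs, z, hz, rfl⟩
          refine ⟨s⁻¹, inv_mem hs, z⁻¹, inv_mem hz, ?_⟩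
          rw [mul_inv_rev, F.comm _ (inv_mem hz) _ (inv_mem hs)] }
    have h1 : LS ⊔ Z ≤ S := sup_le (fun s hs => ⟨s, hs, 1, one_mem _, by simp⟩) (fun z hz => ⟨1, one_mem _, z, hz, by simp⟩)
    exact h1 hl
  have hn1 := F.n_inv'
  have key := Cfsg.Agent.H800.TF8.cusp P hρ F.n_not V1 (fun v hv => F.LS_le (F.V1L hv)) (F.sum_V1 hρ hker h0)
    (by
      intro x hx hx'
      rcases F.cosets x with h | ⟨p, hp, p', hp', e⟩ | ⟨p, hp, p', hp', r, e, hr⟩
      · exact (hx h).elim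
      · exact (hx' ⟨p, hp, p', hp', e⟩).elim
      · exact ⟨r, ⟨p, hp, p', hp', e⟩, fun v hv => ⟨F.UP_le (hr v hv), hker _ (hr v hv)⟩⟩)
    (by
      intro p
      obtain ⟨u, hu, l, hl, z, hz, e⟩ := (F.mem p).1 p.2
      refine ⟨⟨u, F.UP_le hu⟩, ⟨l * z, mul_mem (F.LS_le hl) (F.Z_le hz)⟩, hker u hu, ?_,
        Subtype.ext (by rw [e]; exact mul_assoc _ _ _)⟩
      show n⁻¹ * (l * z) * n ∈ P
      have h1 := F.n_L hl hz
      rw [hn1] at h1 ⊢
      rw [h1]
      exact mul_mem (F.LS_le hl) (inv_mem (F.Z_le hz)))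
    (by
      intro p
      obtain ⟨u, hu, l, hl, z, hz, e⟩ := (F.mem p).1 p.2
      refine ⟨⟨u, F.UP_le hu⟩, ⟨l * z, mul_mem (F.LS_le hl) (F.Z_le hz)⟩, hker u hu, ?_,
        Subtype.ext (by rw [e]; exact mul_assoc _ _ _)⟩
      show n * (l * z) * n⁻¹ ∈ P
      rw [F.n_L hl hz]
      exact mul_mem (F.LS_le hl) (inv_mem (F.Z_le hz)))
  rcases key with h | ⟨h, h'⟩
  · exact Or.inl h
  · right
    refine ⟨h, fun l hl => ?_⟩
    obtain ⟨s, hs, z, hz, rfl⟩ := hsup l hl
    have e1 : n * (s * z) * n * (s * z)⁻¹ = z⁻¹ * z⁻¹ := by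
      have h1 := F.n_L hs hz
      rw [hn1] at h1
      rw [h1, mul_inv_rev]
      calc s * z⁻¹ * (z⁻¹ * s⁻¹) = s * (z⁻¹ * z⁻¹ * s⁻¹) := by group
        _ = s * (s⁻¹ * (z⁻¹ * z⁻¹)) := by rw [F.comm _ (mul_mem (inv_mem hz) (inv_mem hz)) _ (inv_mem hs)]
        _ = z⁻¹ * z⁻¹ := by group
    have hzi : z⁻¹ ∈ Z := inv_mem hz
    refine ⟨by rw [e1]; exact mul_mem (F.Z_le hzi) (F.Z_le hzi), ?_⟩
    obtain ⟨c, hc⟩ := F.scalar hρ hker hzi
    -- `ρ(z) = ρ(z⁻¹)`
    have h2 : ρ ⟨z, F.Z_le hz⟩ = ρ ⟨z⁻¹, F.Z_le hzi⟩ := by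
      have hl' : n⁻¹ * ((⟨z, F.Z_le hz⟩ : P) : G) * n ∈ P := by
        have h1 := F.n_inv z hz
        show n⁻¹ * z * n ∈ P
        rw [hn1] at h1 ⊢
        rw [h1]
        exact F.Z_le hzi
      have h3 := h' ⟨z, F.Z_le hz⟩ hl'
      rw [← h3]
      congr 1
      apply Subtype.ext
      show n⁻¹ * z * n = z⁻¹
      have h1 := F.n_inv z hz
      rw [hn1] at h1 ⊢
      exact h1
    have h4 : ρ ⟨z⁻¹, F.Z_le hzi⟩ = c * ρ 1 := by
      rw [← hc 1, mul_one]
    have h5 : ρ 1 = c * ρ ⟨z, F.Z_le hz⟩ := by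
      rw [← hc]
      congr 1
      exact Subtype.ext (inv_mul_cancel z).symm
    have e2 : (⟨n * (s * z) * n * (s * z)⁻¹, by rw [e1]; exact mul_mem (F.Z_le hzi) (F.Z_le hzi)⟩ : P) =
        ⟨z⁻¹, F.Z_le hzi⟩ * ⟨z⁻¹, F.Z_le hzi⟩ := Subtype.ext e1
    rw [e2, hc, ← h2, ← h5]

end main

end Cfsg.Agent.H800.TF8
end
end
end
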