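import Cfsg.Agent.H122.SX.EFrame_m3
import Mathlib
import Cfsg.Agent.H137.G24.Fin_mg
import Cfsg.Agent.H962.TC.Num_m3
import Cfsg.Agent.Lib.Hoist
import Cfsg.Agent.ChevFast.E8
import Cfsg.Agent.ChevFast.Lin
import Cfsg.Agent.Lib.FinFast
import Cfsg.Agent.H315.HT.Mixed
import Mathlib.RingTheory.Coprime.Basic
import Mathlib.Algebra.Polynomial.AlgebraMap
import Cfsg.Agent.H315.CY.StWrap
import Cfsg.Agent.H740.Eight.TwFTwo
import Cfsg.Agent.S1113
import Cfsg.Agent.S1111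
import Cfsg.Agent.H315.CY.TwFRow
import Cfsg.Agent.H961.TF8.Zero_mg_m3
import Cfsg.Agent.H84.SzLevi
import Cfsg.Agent.CharactersDeep.LinearExt
import Cfsg.Agent.OddOrderCharacters.PF9.MackeyIrr
import Cfsg.Agent.Schreier.BNSch
import Cfsg.Agent.FastGrp
import Cfsg.Agent.Prune
set_option linter.all false

section
prune_inst 0x7ffcacfbaba8a3dedfff7e37a6dccdfdf1a80fffa4dff9cb3fe0219f2b9f6b0089c563858be000fe0e76c21410a87803fb7eefffe86bd87ffffd1ff41ffbee0fe5f63508519488340f380ffe03f0778a6f3ffffffffffffffffffff7ffffffbeffbff3feffff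

-- part: H122/SX/ERow
section
prune_inst 0x101001014500000000048000202000813100002000000400040600040108040009800040a1000118020000010035000000000000000000000000000000040000000000000040000000001000000041000000000000000000000080000000000000c010000
set_option linter.all false
open scoped Cfsg.Agent.FastGrp

-- part: H122/SX/ECover
section
/-!
# `E₈(q)`, all `q`: from a good `A₇` part to a product of two conjugates of one element (helper122, S2452)

`cover_of_good` : if a conjugate of `g` is `v * (p8 A * hz z) * u` and the matrix `N = A * diag(1, 1, 1, z, …, z)` is similar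
to a matrix with `2 × 2` corner `1` and Schur complement `C ≠ z²`, then `g` is a product of two conjugates of `p7 c`.
-/

set_option autoImplicit false
set_option linter.unusedSectionVars false

namespace Cfsg.Agent.H122.SX.E127

open CoxeterSystem Cfsg.Agent.ChevalleyStructure.CoxeterGeom Cfsg.Agent.Tits.Roots Cfsg.Agent.Tits.Core
  Cfsg.Agent.Nodes.Reps Cfsg.Agent.Nodes.BNOf Cfsg.Agent.Nodes.RGDLib Cfsg.Agent.Nodes.Bruhat
  Cfsg.Agent.Nodes.OppDec Cfsg.Agent.Nodes.LeviDec Cfsg.Agent.Nodes.KindChev Cfsg.Agent.Nodes.ChevCls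
  Cfsg.Agent.OddHalf.NI.ModelChev Cfsg.Agent.Nodes.StabComb
  Cfsg.Agent.H162.GaussDec Cfsg.Agent.H162.GaussLevi Cfsg.Agent.H162.GaussSL Cfsg.Agent.H162.GaussReg
  Cfsg.Agent.H162.GaussPQ
  Cfsg.Agent.H928.Ore.Frame
open Cfsg.Lie Cfsg.Agent.ChevalleyStructure Cfsg.Agent.ChevalleyStructure.Elts
  Cfsg.Agent.ChevalleyStructure.RootVec Cfsg.Agent.ChevalleyStructure.NPerm
  Cfsg.Agent.ChevalleyStructure.CoxeterGeomTypes Cfsg.Agent.Nodes.RGDChev Cfsg.Agent.KFacts.RgdChevCoord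
open Cfsg.Agent.FixBN.FieldRGD (uu vv dd ww)
open Cfsg.Agent.TitsThree.KExcRT Cfsg.Agent.AGraded
open Cfsg.Agent.H78.Pw Cfsg.Agent.H85.Pw Cfsg.Agent.H194.Pw
open Cfsg.Agent.H150.E6T (le_of_gen)
open Cfsg.Agent.H162.GaussExc (coord act_sg sg_mem)
open Cfsg.Agent.H122.Pw Cfsg.Agent.H122.SX
open scoped MatrixGroups

universe u

/-! ### The corner of the first row and column -/

section corner

variable {K : Type*} [Field K]

theorem col00 {P : Matrix.SpecialLinearGroup (Fin 7) K} (hP : P ∈ ColS K (fun i : Fin 7 => i ≠ 0)) : P.1 0 0 = 1 := by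
  have hP' : ∀ j : Fin 7, j ≠ 0 → ∀ i, P.1 i j = (1 : Matrix (Fin 7) (Fin 7) K) i j := hP
  have h := P.2
  rw [Matrix.det_of_isLowerTriangular P.1 (fun i j hij => by
    have hij' : i < j := hij
    rw [hP' j (by rintro rfl; exact absurd hij' (Fin.not_lt_zero i)) i, Matrix.one_apply_ne hij'.ne]),
    Fin.prod_univ_succ] at h
  have h1 : ∀ i : Fin 6, P.1 i.succ i.succ = 1 := fun i => by
    rw [hP' _ (Fin.succ_ne_zero i), Matrix.one_apply_eq]
  simpa [h1] using h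

theorem row00 {Q : Matrix.SpecialLinearGroup (Fin 7) K} (hQ : Q ∈ RowS K (fun i : Fin 7 => i ≠ 0)) : Q.1 0 0 = 1 := by
  have hQ' : ∀ i : Fin 7, i ≠ 0 → ∀ j, Q.1 i j = (1 : Matrix (Fin 7) (Fin 7) K) i j := hQ
  have h := Q.2
  rw [Matrix.det_of_isUpperTriangular (M := Q.1) (fun i j hij => by
    have hij' : j < i := hij
    rw [hQ' i (by rintro rfl; exact absurd hij' (Fin.not_lt_zero j)) j, Matrix.one_apply_ne hij'.ne']),
    Fin.prod_univ_succ] at h
  have h1 : ∀ i : Fin 6, Q.1 i.succ i.succ = 1 := fun i => by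
    rw [hQ' _ (Fin.succ_ne_zero i), Matrix.one_apply_eq]
  simpa [h1] using h

/-- a scalar product `L * M * U` with `M = diag(z, M')` forces `M' = z` -/
theorem scalar_part {L M U : Matrix.SpecialLinearGroup (Fin 7) K} (hL : L ∈ ColS K (fun i : Fin 7 => i ≠ 0))
    (hU : U ∈ RowS K (fun i : Fin 7 => i ≠ 0)) {z : K} (h0 : M.1 0 0 = z) (h1 : ∀ j : Fin 6, M.1 0 j.succ = 0)
    {a : K} (h : (L * M * U).1 = a • (1 : Matrix (Fin 7) (Fin 7) K))
    (i j : Fin 6) : M.1 i.succ j.succ = z * (1 : Matrix (Fin 6) (Fin 6) K) i j := by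
  have hP := inv_mem hL
  have hQ := inv_mem hU
  have hP0 := col00 hP
  have hQ0 := row00 hQ
  have hP' : ∀ j : Fin 7, j ≠ 0 → ∀ i, (L⁻¹).1 i j = (1 : Matrix (Fin 7) (Fin 7) K) i j := hP
  have hQ' : ∀ i : Fin 7, i ≠ 0 → ∀ j, (U⁻¹).1 i j = (1 : Matrix (Fin 7) (Fin 7) K) i j := hQ
  have hM : M.1 = a • ((L⁻¹).1 * (U⁻¹).1) := by
    have e1 : M = L⁻¹ * (L * M * U) * U⁻¹ := by group
    have e2 : M.1 = (L⁻¹).1 * (L * M * U).1 * (U⁻¹).1 := congrArg Subtype.val e1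
    rw [e2, h, Matrix.mul_smul, Matrix.mul_one, Matrix.smul_mul]
  have hPQ : ∀ i j : Fin 7, ((L⁻¹).1 * (U⁻¹).1) i j = (L⁻¹).1 i 0 * (U⁻¹).1 0 j +
      ∑ k : Fin 6, (1 : Matrix (Fin 7) (Fin 7) K) i k.succ * (1 : Matrix (Fin 7) (Fin 7) K) k.succ j := by
    intro i j
    rw [Matrix.mul_apply, Fin.sum_univ_succ]
    congr 1
    refine Finset.sum_congr rfl fun k _ => ?_
    rw [hP' _ (Fin.succ_ne_zero k), hQ' _ (Fin.succ_ne_zero k)]
  have h00 := congrFun (congrFun hM 0) 0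
  rw [Matrix.smul_apply, hPQ, hP0, hQ0, h0, smul_eq_mul] at h00
  have hs0 : ∀ j : Fin 7, ∑ k : Fin 6, (1 : Matrix (Fin 7) (Fin 7) K) 0 k.succ *
      (1 : Matrix (Fin 7) (Fin 7) K) k.succ j = 0 := fun j =>
    Finset.sum_eq_zero fun k _ => by rw [Matrix.one_apply_ne (Fin.succ_ne_zero k).symm, zero_mul]
  rw [hs0, add_zero, mul_one, mul_one] at h00
  have ha : a ≠ 0 := by
    rintro rfl
    rw [zero_smul] at hM
    have := M.2
    rw [hM, Matrix.det_zero] at this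
    exact zero_ne_one this
  have hr : (U⁻¹).1 0 j.succ = 0 := by
    have e := congrFun (congrFun hM 0) j.succ
    rw [Matrix.smul_apply, hPQ, hP0, hs0, add_zero, one_mul, h1, smul_eq_mul] at e
    exact (mul_eq_zero.1 e.symm).resolve_left ha
  have e := congrFun (congrFun hM i.succ) j.succ
  rw [Matrix.smul_apply, hPQ, hr, mul_zero, zero_add, smul_eq_mul, ← h00] at e
  rw [e]
  congr 1
  rw [Finset.sum_eq_single i]
  · rw [Matrix.one_apply_eq, one_mul, Matrix.one_apply, Matrix.one_apply]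
    simp only [Fin.succ_inj]
  · intro k _ hk
    rw [Matrix.one_apply_ne (fun h => hk (Fin.succ_injective _ h).symm), zero_mul]
  · intro hi
    exact absurd (Finset.mem_univ _) hi

end corner

/-! ### The two blocks -/

section blocks

variable {K : Type u} [Field K]

/-- `diag(1, z, z, z, z, z)` -/
def ez (z : Kˣ) : Fin 6 → K := ![1, z, z, z, z, z]

theorem dz_sub (z : Kˣ) : (Matrix.diagonal (dz z)).submatrix e26 e26 =
    Matrix.fromBlocks 1 0 0 (Matrix.diagonal (ez z)) := by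
  rw [Matrix.submatrix_diagonal_equiv]
  have h1 : (dz z ∘ e26) = Sum.elim (fun _ => (1 : K)) (ez z) := by
    funext i
    rcases i with i | i <;> fin_cases i <;> rfl
  rw [h1]
  ext i j
  rcases i with i | i <;> rcases j with j | j <;>
    simp [Matrix.diagonal_apply, Matrix.one_apply]

/-- conjugation by `diag(1, 1 | 1, z, …, z)` -/
def Dzb (z : Kˣ) (S : Matrix.SpecialLinearGroup (Fin 2 ⊕ Fin 6) K) : Matrix.SpecialLinearGroup (Fin 2 ⊕ Fin 6) K :=
  Ri K (Dz z (Re K S))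

theorem Dzb_val (z : Kˣ) (S : Matrix.SpecialLinearGroup (Fin 2 ⊕ Fin 6) K) : (Dzb z S).1 =
    Matrix.fromBlocks 1 0 0 (Matrix.diagonal (ez z)) * S.1 * Matrix.fromBlocks 1 0 0 (Matrix.diagonal (ez z⁻¹)) := by
  change ((Matrix.diagonal (dz z) * (Matrix.reindex e26 e26 S.1) * Matrix.diagonal (dz z⁻¹))).submatrix e26 e26 = _
  rw [← Matrix.submatrix_mul_equiv _ _ e26 e26 e26, ← Matrix.submatrix_mul_equiv _ _ e26 e26 e26, dz_sub, dz_sub]
  congr 2
  rw [Matrix.reindex_apply, Matrix.submatrix_submatrix]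
  simp

theorem hz_Ps (z : Kˣ) (S : Matrix.SpecialLinearGroup (Fin 2 ⊕ Fin 6) K) :
    hz z * Ps K S * (hz z)⁻¹ = Ps K (Dzb z S) := by
  rw [Ps, MonoidHom.comp_apply, MonoidHom.comp_apply, hz_p8, Dzb, Re_Ri]

theorem Hz_succ (z : Kˣ) (C : Matrix.SpecialLinearGroup (Fin 6) K) (i j : Fin 6) :
    (emb C * Hz z).1 i.succ j.succ = C.1 i j * (![((z⁻¹ : Kˣ) : K), 1, 1, 1, 1, 1] : Fin 6 → K) j := by
  change ((emb C).1 * (Hz z).1) i.succ j.succ = _
  rw [Hz_val, Matrix.mul_diagonal, emb_succ]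
  rfl

theorem Hz_00 (z : Kˣ) (C : Matrix.SpecialLinearGroup (Fin 6) K) : (emb C * Hz z).1 0 0 = z := by
  change ((emb C).1 * (Hz z).1) 0 0 = _
  rw [Hz_val, Matrix.mul_diagonal, emb_zero_zero, one_mul]
  rfl

theorem Hz_0s (z : Kˣ) (C : Matrix.SpecialLinearGroup (Fin 6) K) (j : Fin 6) : (emb C * Hz z).1 0 j.succ = 0 := by
  change ((emb C).1 * (Hz z).1) 0 j.succ = _
  rw [Hz_val, Matrix.mul_diagonal, emb_zero_succ, zero_mul]

theorem ez_prod (z : Kˣ) (j : Fin 6) : ez z⁻¹ j * (![((z⁻¹ : Kˣ) : K), 1, 1, 1, 1, 1] : Fin 6 → K) j = (z : K)⁻¹ := by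
  (revert j; simp only [ez, _root_.Fin.forall_fin_succ, _root_.Units.val_inv_eq_inv_val, Fin.isValue, _root_.Matrix.cons_val_zero, _root_.one_mul, _root_.Matrix.cons_val_succ, _root_.mul_one, _root_.Matrix.cons_val_fin_one, _root_.implies_true, _root_.and_self])

/-- the decomposition -/
theorem exists_dec {A : Matrix.SpecialLinearGroup (Fin 8) K} {z : Kˣ}
    {S : Matrix.SpecialLinearGroup (Fin 2 ⊕ Fin 6) K} {X : Matrix (Fin 6) (Fin 2) K} {Y : Matrix (Fin 2) (Fin 6) K}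
    {C : Matrix (Fin 6) (Fin 6) K}
    (hS : S.1 * (A.1 * Matrix.diagonal (dz z)).submatrix e26 e26 * (S⁻¹).1 =
      Matrix.fromBlocks 1 0 X 1 * Matrix.fromBlocks 1 0 0 C * Matrix.fromBlocks 1 Y 0 1) :
    ∃ (c : Matrix.SpecialLinearGroup (Fin 6) K) (Y' : Matrix (Fin 2) (Fin 6) K),
      c.1 = C * Matrix.diagonal (ez z⁻¹) ∧ S * Ri K A * Dzb z S⁻¹ = low X * dR c * up Y' := by
  have e1 : (S * Ri K A * Dzb z S⁻¹).1 = Matrix.fromBlocks 1 0 X 1 *
      Matrix.fromBlocks 1 0 0 (C * Matrix.diagonal (ez z⁻¹)) * Matrix.fromBlocks 1 (Y * Matrix.diagonal (ez z⁻¹)) 0 1 := by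
    have e2 : (A.1 * Matrix.diagonal (dz z)).submatrix e26 e26 = (Ri K A).1 *
        Matrix.fromBlocks 1 0 0 (Matrix.diagonal (ez z)) := by
      rw [← Matrix.submatrix_mul_equiv _ _ e26 e26 e26, dz_sub]
      rfl
    rw [e2] at hS
    change S.1 * (Ri K A).1 * (Dzb z S⁻¹).1 = _
    rw [Dzb_val]
    calc S.1 * (Ri K A).1 * (Matrix.fromBlocks 1 0 0 (Matrix.diagonal (ez z)) * (S⁻¹).1 *
          Matrix.fromBlocks 1 0 0 (Matrix.diagonal (ez z⁻¹))) =
        (S.1 * ((Ri K A).1 * Matrix.fromBlocks 1 0 0 (Matrix.diagonal (ez z))) * (S⁻¹).1) *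
          Matrix.fromBlocks 1 0 0 (Matrix.diagonal (ez z⁻¹)) := by simp only [Matrix.mul_assoc]
      _ = _ := by
        rw [hS]
        simp only [Matrix.fromBlocks_multiply]
        simp
        rw [Matrix.add_mul, Matrix.mul_assoc]
  have hdet : (C * Matrix.diagonal (ez z⁻¹)).det = 1 := by
    have h2 := (S * Ri K A * Dzb z S⁻¹).2
    rw [e1, Matrix.det_mul, Matrix.det_mul, Matrix.det_fromBlocks_zero₂₁, Matrix.det_fromBlocks_zero₂₁,
      Matrix.det_fromBlocks_zero₁₂, Matrix.det_one, Matrix.det_one] at h2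
    simp only [mul_one, one_mul] at h2
    exact h2
  exact ⟨⟨_, hdet⟩, _, rfl, Subtype.ext e1⟩

end blocks

/-! ### The cover -/

variable {K : Type u} [Field K] [Finite K]

/-- **From a good `A₇` part to a product of two conjugates.** -/
theorem cover_of_good {g x v u : ↥(chevE8.group K)} {A : Matrix.SpecialLinearGroup (Fin 8) K} {z : Kˣ}
    (hv : v ∈ VNJ cs8 hp8.isCartan (XX chevE8 8 K) {k | k ∈ J7})
    (hu : u ∈ VJ cs8 hp8.isCartan (XX chevE8 8 K) {k | k ∈ J7})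
    (e : x * g * x⁻¹ = v * (p8 K A * hz z) * u)
    {S : Matrix.SpecialLinearGroup (Fin 2 ⊕ Fin 6) K} {X : Matrix (Fin 6) (Fin 2) K} {Y : Matrix (Fin 2) (Fin 6) K}
    {C : Matrix (Fin 6) (Fin 6) K}
    (hS : S.1 * (A.1 * Matrix.diagonal (dz z)).submatrix e26 e26 * (S⁻¹).1 =
      Matrix.fromBlocks 1 0 X 1 * Matrix.fromBlocks 1 0 0 C * Matrix.fromBlocks 1 Y 0 1)
    (hC : C ≠ ((z : K) ^ 2) • (1 : Matrix (Fin 6) (Fin 6) K))
    {c : Matrix.SpecialLinearGroup (Fin 7) K}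
    (hcc : ∀ B : Matrix.SpecialLinearGroup (Fin 7) K, (∀ a : K, B.1 ≠ a • (1 : Matrix (Fin 7) (Fin 7) K)) →
      ∃ g h, B = (g * c * g⁻¹) * (h * c * h⁻¹))
    (n1 : NF (VJ cs8 hp8.isCartan (XX chevE8 8 K) {k | k ∈ J6}) (p7 K c))
    (n2 : NF (VNJ cs8 hp8.isCartan (XX chevE8 8 K) {k | k ∈ J6}) (p7 K c)) :
    ∃ u v : ↥(chevE8.group K), g = (u * p7 K c * u⁻¹) * (v * p7 K c * v⁻¹) := by
  obtain ⟨p, hpc⟩ := CharP.exists K
  have : Fact p.Prime := ⟨(CharP.char_is_prime_or_zero K p).resolve_right (CharP.char_ne_zero_of_finite K p)⟩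
  have := finite_W hp8 cs8
  have : Nonempty (Fin 8) := ⟨0⟩
  have R := rgd (K := K) hp8 cs8 p
  have hnf : ∀ g, NF (VJ cs8 hp8.isCartan (XX chevE8 8 K) {k | k ∈ J6}) (p7 K (g * c * g⁻¹)) ∧
      NF (VNJ cs8 hp8.isCartan (XX chevE8 8 K) {k | k ∈ J6}) (p7 K (g * c * g⁻¹)) := by
    intro g
    rw [map_mul, map_mul, map_inv]
    exact ⟨Cfsg.Agent.H928.Ore.Fix.NF.conj (LJ_le_normalizer_VJ R _ (p7_mem K g)) n1,
      Cfsg.Agent.H928.Ore.Fix.NF.conj (LJ_le_normalizer_VNJ R _ (p7_mem K g)) n2⟩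
  obtain ⟨d, Y', hd, hdec⟩ := exists_dec hS
  obtain ⟨s, hs⟩ : ∃ s, s = Ps K S := ⟨_, rfl⟩
  have hsL : s ∈ LJ cs8 hp8.isCartan (TT chevE8 K) (XX chevE8 8 K) {k | k ∈ J7} := by
    rw [hs]; exact (pc7 K).mem _
  obtain ⟨z', hz'⟩ : ∃ z', z' = Ps K (low X) := ⟨_, rfl⟩
  obtain ⟨y', hy'⟩ : ∃ y', y' = (p7 K (Hz z))⁻¹ * Ps K (up Y') * p7 K (Hz z) := ⟨_, rfl⟩
  have hM : s * (p8 K A * hz z) * s⁻¹ = z' * p7 K (emb d * Hz z) * y' := by
    have h1 : p8 K A = Ps K (Ri K A) := by rw [Ps, MonoidHom.comp_apply, Re_Ri]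
    have h2 : s * (p8 K A * hz z) * s⁻¹ = Ps K (S * Ri K A * Dzb z S⁻¹) * hz z := by
      rw [map_mul, map_mul, ← hz_Ps, map_inv, ← hs, ← h1]
      group
    rw [h2, hdec, map_mul, map_mul, Ps_dR', ← p7_Hz, map_mul, hz', hy']
    group
  have hzm : z' ∈ VNJ cs8 hp8.isCartan (XX chevE8 8 K) {k | k ∈ J6} := by rw [hz']; exact Ps_low K X
  have hym : y' ∈ VJ cs8 hp8.isCartan (XX chevE8 8 K) {k | k ∈ J6} := by
    have h1 := (Subgroup.mem_normalizer_iff.1 (LJ_le_normalizer_VJ R _ (inv_mem (p7_mem K (Hz z)))) _).1 (Ps_up K Y')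
    rw [inv_inv] at h1
    rw [hy']
    exact h1
  have hv1 : s * v * s⁻¹ ∈ VNJ cs8 hp8.isCartan (XX chevE8 8 K) {k | k ∈ J7} :=
    (Subgroup.mem_normalizer_iff.1 (LJ_le_normalizer_VNJ R _ hsL) v).1 hv
  have hu1 : s * u * s⁻¹ ∈ VJ cs8 hp8.isCartan (XX chevE8 8 K) {k | k ∈ J7} :=
    (Subgroup.mem_normalizer_iff.1 (LJ_le_normalizer_VJ R _ hsL) u).1 hu
  have hrow : (RowS K (fun i : Fin 7 => i ≠ 0)).map (p7 K) ≤
      LJ cs8 hp8.isCartan (TT chevE8 K) (XX chevE8 8 K) {k | k ∈ J6} := by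
    rintro _ ⟨A, -, rfl⟩
    exact p7_mem K A
  have hcol : (ColS K (fun i : Fin 7 => i ≠ 0)).map (p7 K) ≤
      LJ cs8 hp8.isCartan (TT chevE8 K) (XX chevE8 8 K) {k | k ∈ J6} := by
    rintro _ ⟨A, -, rfl⟩
    exact p7_mem K A
  obtain ⟨w, hw, _, ⟨A1, hA1, rfl⟩, ew⟩ : ∃ w ∈ VNJ cs8 hp8.isCartan (XX chevE8 8 K) {k | k ∈ J6},
      ∃ l ∈ (ColS K (fun i : Fin 7 => i ≠ 0)).map (p7 K), s * v * s⁻¹ = w * l := by
    have h1 : s * v * s⁻¹ ∈ ((VNJ cs8 hp8.isCartan (XX chevE8 8 K) {k | k ∈ J6} ⊔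
      (ColS K (fun i : Fin 7 => i ≠ 0)).map (p7 K) : Subgroup _) : Set _) := VN6_le' K hv1
    rw [Subgroup.coe_mul_of_right_le_normalizer_left _ _ (le_trans hcol (LJ_le_normalizer_VNJ R _)), Set.mem_mul] at h1
    obtain ⟨w, hw, l, hl, e⟩ := h1
    exact ⟨w, hw, l, hl, e.symm⟩
  obtain ⟨_, ⟨A3, hA3, rfl⟩, w', hw', ew'⟩ : ∃ l ∈ (RowS K (fun i : Fin 7 => i ≠ 0)).map (p7 K),
      ∃ w ∈ VJ cs8 hp8.isCartan (XX chevE8 8 K) {k | k ∈ J6}, s * u * s⁻¹ = l * w := by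
    have h1 : s * u * s⁻¹ ∈ (((RowS K (fun i : Fin 7 => i ≠ 0)).map (p7 K) ⊔
      VJ cs8 hp8.isCartan (XX chevE8 8 K) {k | k ∈ J6} : Subgroup _) : Set _) := V6_le' K hu1
    rw [Subgroup.coe_mul_of_left_le_normalizer_right _ _ (le_trans hrow (LJ_le_normalizer_VJ R _)), Set.mem_mul] at h1
    obtain ⟨l, hl, w, hw, e⟩ := h1
    exact ⟨l, hl, w, hw, e.symm⟩
  have hvv : w * (p7 K A1 * z' * (p7 K A1)⁻¹) ∈ VNJ cs8 hp8.isCartan (XX chevE8 8 K) {k | k ∈ J6} :=
    mul_mem hw ((Subgroup.mem_normalizer_iff.1 (LJ_le_normalizer_VNJ R _ (p7_mem K A1)) z').1 hzm)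
  have huu : (p7 K A3)⁻¹ * y' * p7 K A3 * w' ∈ VJ cs8 hp8.isCartan (XX chevE8 8 K) {k | k ∈ J6} := by
    refine mul_mem ?_ hw'
    have h1 := (Subgroup.mem_normalizer_iff.1 (LJ_le_normalizer_VJ R _ (inv_mem (p7_mem K A3))) y').1 hym
    rwa [inv_inv] at h1
  have etot : (s * x) * g * (s * x)⁻¹ = w * (p7 K A1 * z' * (p7 K A1)⁻¹) * p7 K (A1 * (emb d * Hz z) * A3) *
      ((p7 K A3)⁻¹ * y' * p7 K A3 * w') := by
    have h1 : p7 K (A1 * (emb d * Hz z) * A3) = p7 K A1 * p7 K (emb d * Hz z) * p7 K A3 := by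
      rw [map_mul, map_mul]
    rw [h1]
    calc (s * x) * g * (s * x)⁻¹ = s * (x * g * x⁻¹) * s⁻¹ := by group
      _ = (s * v * s⁻¹) * (s * (p8 K A * hz z) * s⁻¹) * (s * u * s⁻¹) := by rw [e]; group
      _ = w * p7 K A1 * (z' * p7 K (emb d * Hz z) * y') * (p7 K A3 * w') := by rw [ew, ew', hM]
      _ = _ := by group
  have hns : ∀ a : K, (A1 * (emb d * Hz z) * A3).1 ≠ a • (1 : Matrix (Fin 7) (Fin 7) K) := by
    intro a ha
    refine hC ?_
    ext i j
    have h1 := scalar_part hA1 hA3 (Hz_00 z d) (Hz_0s z d) ha i j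
    rw [Hz_succ, hd, Matrix.mul_diagonal, mul_assoc, ez_prod] at h1
    rw [Matrix.smul_apply, smul_eq_mul, pow_two, mul_assoc, ← h1]
    have hz0 : (z : K) ≠ 0 := z.ne_zero
    field_simp
  obtain ⟨g₁, g₂, e0⟩ := hcc _ hns
  have hm1 := p7_mem K (g₁ * c * g₁⁻¹)
  have hm2 := p7_mem K (g₂ * c * g₂⁻¹)
  rw [e0, map_mul] at etot
  obtain ⟨a, ha, e1⟩ := exists_conj_of_fix R (LJ_le_normalizer_VNJ R _ hm1) (hnf g₁).2 hvv
  have huP' : p7 K (g₂ * c * g₂⁻¹) * ((p7 K A3)⁻¹ * y' * p7 K A3 * w') * (p7 K (g₂ * c * g₂⁻¹))⁻¹ ∈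
      VJ cs8 hp8.isCartan (XX chevE8 8 K) {k | k ∈ J6} :=
    (Subgroup.mem_normalizer_iff.1 (LJ_le_normalizer_VJ R _ hm2) _).1 huu
  obtain ⟨b, hb, e2⟩ := exists_conj_of_fix R (LJ_le_normalizer_VJ R _ hm2) (hnf g₂).1 huP'
  have e3 : (s * x) * g * (s * x)⁻¹ = (a * p7 K (g₁ * c * g₁⁻¹) * a⁻¹) * (b * p7 K (g₂ * c * g₂⁻¹) * b⁻¹) := by
    rw [etot, ← e1, ← e2]
    group
  refine ⟨(s * x)⁻¹ * a * p7 K g₁, (s * x)⁻¹ * b * p7 K g₂, ?_⟩
  calc g = (s * x)⁻¹ * ((s * x) * g * (s * x)⁻¹) * (s * x) := by group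
    _ = _ := by rw [e3]; simp only [map_mul, map_inv]; group

end Cfsg.Agent.H122.SX.E127
end

-- part: H493/TW/Two
section
/-!
# S2452, `E₈(q)`: a leading two by two block equal to `1` (helper493)

`two_block` : a matrix `a ≠ 1` of size `2 + k`, `k ≥ 3`, such that `a - μ` has rank at least two for all `μ ≠ 1`, is
conjugate to a matrix with leading block `1` and Schur complement different from `1`.
-/

set_option autoImplicit false

namespace Cfsg.Agent.H493.TW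

open Module Submodule

section Lin

variable {K V : Type*} [Field K] [AddCommGroup V] [Module K V] [FiniteDimensional K V]

/-- a map all of whose vectors are eigenvectors modulo a subspace of codimension at least two -/
theorem scalar_mod (N : V →ₗ[K] V) (P : Submodule K V) (hP : finrank K P + 2 ≤ finrank K V)
    (h : ∀ w : V, w ∉ P → ∃ ν : K, N w - ν • w ∈ P) : ∃ ν : K, ∀ w : V, N w - ν • w ∈ P := by
  obtain ⟨w0, hw0⟩ : ∃ w0 : V, w0 ∉ P := by
    by_contra hcon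
    push Not at hcon
    have : P = ⊤ := eq_top_iff.2 fun x _ => hcon x
    rw [this, finrank_top] at hP
    omega
  obtain ⟨ν, hν⟩ := h w0 hw0
  refine ⟨ν, ?_⟩
  -- vectors outside `P + ⟨w0⟩`
  have key : ∀ w : V, w ∉ P ⊔ span K {w0} → N w - ν • w ∈ P := by
    intro w hw
    have hwP : w ∉ P := fun hh => hw (mem_sup_left hh)
    obtain ⟨μ, hμ⟩ := h w hwP
    have hs : w + w0 ∉ P := by
      intro hh
      apply hw
      have : w = (w + w0) + (-1 : K) • w0 := by module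
      rw [this]
      exact add_mem (mem_sup_left hh) (mem_sup_right (smul_mem _ _ (mem_span_singleton_self w0)))
    obtain ⟨ρ, hρ⟩ := h _ hs
    -- `(μ - ρ) w + (ν - ρ) w0 ∈ P`
    have h1 : (μ - ρ) • w + (ν - ρ) • w0 ∈ P := by
      have : (μ - ρ) • w + (ν - ρ) • w0 = (N (w + w0) - ρ • (w + w0)) - (N w - μ • w) - (N w0 - ν • w0) := by
        rw [map_add]; module
      rw [this]
      exact sub_mem (sub_mem hρ hμ) hν
    have h2 : μ = ρ := by
      by_contra hne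
      apply hw
      have h3 : μ - ρ ≠ 0 := sub_ne_zero.2 hne
      have : w = (μ - ρ)⁻¹ • ((μ - ρ) • w + (ν - ρ) • w0) + (-((μ - ρ)⁻¹ * (ν - ρ))) • w0 := by
        rw [smul_add, smul_smul, inv_mul_cancel₀ h3, smul_smul]; module
      rw [this]
      exact add_mem (mem_sup_left (smul_mem _ _ h1)) (mem_sup_right (smul_mem _ _ (mem_span_singleton_self w0)))
    have h3 : ν = ρ := by
      by_contra hne
      apply hw0
      have h3 : ν - ρ ≠ 0 := sub_ne_zero.2 hne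
      rw [h2, sub_self, zero_smul, zero_add] at h1
      have : w0 = (ν - ρ)⁻¹ • ((ν - ρ) • w0) := by rw [smul_smul, inv_mul_cancel₀ h3, one_smul]
      rw [this]
      exact smul_mem _ _ h1
    rw [h3, ← h2]
    exact hμ
  obtain ⟨u, hu⟩ : ∃ u : V, u ∉ P ⊔ span K {w0} := by
    by_contra hcon
    push Not at hcon
    have h1 : P ⊔ span K {w0} = ⊤ := eq_top_iff.2 fun x _ => hcon x
    have h2 := finrank_add_le_finrank_add_finrank P (span K {w0})
    rw [h1, finrank_top] at h2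
    have h3 : finrank K (span K {w0}) = 1 := finrank_span_singleton (fun hh => hw0 (by rw [hh]; exact P.zero_mem))
    omega
  intro w
  by_cases hw : w ∈ P ⊔ span K {w0}
  · have h1 : w + u ∉ P ⊔ span K {w0} := fun hh => hu (by
      have : u = (w + u) - w := by abel
      rw [this]
      exact sub_mem hh hw)
    have h2 := key _ h1
    have h3 := key u hu
    have : N w - ν • w = (N (w + u) - ν • (w + u)) - (N u - ν • u) := by rw [map_add]; module
    rw [this]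
    exact sub_mem h2 h3
  · exact key w hw

/-- two independent vectors spanning a space disjoint from its image -/
def Good (N : V →ₗ[K] V) (w₁ w₂ : V) : Prop :=
  LinearIndependent K ![w₁, w₂] ∧ ∀ a b c d : K, a • w₁ + b • w₂ = c • N w₁ + d • N w₂ → a = 0 ∧ b = 0

omit [FiniteDimensional K V] in
theorem indep {w₁ w₂ : V} (h1 : w₁ ≠ 0) (h2 : w₂ ∉ span K {w₁}) : LinearIndependent K ![w₁, w₂] := by
  rw [LinearIndependent.pair_iff]
  intro a b hab
  have hb : b = 0 := by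
    by_contra hb
    apply h2
    rw [mem_span_singleton]
    refine ⟨-(b⁻¹ * a), ?_⟩
    have : w₂ = b⁻¹ • (b • w₂) := by rw [smul_smul, inv_mul_cancel₀ hb, one_smul]
    rw [this, show b • w₂ = (a • w₁ + b • w₂) - a • w₁ by abel, hab, zero_sub, smul_neg, smul_smul, neg_smul]
  rw [hb, zero_smul, add_zero] at hab
  exact ⟨(smul_eq_zero.1 hab).resolve_right h1, hb⟩

variable {N : V →ₗ[K] V}

omit [FiniteDimensional K V] in
theorem good_of_ker (h : 2 ≤ finrank K (LinearMap.ker N)) : ∃ w₁ w₂ : V, Good N w₁ w₂ := by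
  obtain ⟨w₁, h1, h10⟩ : ∃ w ∈ LinearMap.ker N, w ≠ 0 := by
    refine (Submodule.ne_bot_iff _).1 fun hh => ?_
    rw [hh, finrank_bot] at h
    omega
  obtain ⟨w₂, h2, h20⟩ : ∃ w ∈ LinearMap.ker N, w ∉ span K {w₁} := by
    by_contra hcon
    push Not at hcon
    have h3 : LinearMap.ker N ≤ span K {w₁} := hcon
    have h4 := Submodule.finrank_mono h3
    rw [finrank_span_singleton h10] at h4
    omega
  refine ⟨w₁, w₂, indep h10 h20, ?_⟩
  intro a b c d h
  rw [LinearMap.mem_ker] at h1 h2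
  rw [h1, h2, smul_zero, smul_zero, add_zero] at h
  exact (LinearIndependent.pair_iff.1 (indep h10 h20)) a b h

theorem good_of_line (hn : 5 ≤ finrank K V) (hν : ∀ ν : K, ν ≠ 0 → ∀ P : Submodule K V, finrank K P ≤ 1 →
    ¬ ∀ w, N w - ν • w ∈ P) (h : finrank K (LinearMap.ker N) = 1) : ∃ w₁ w₂ : V, Good N w₁ w₂ := by
  obtain ⟨k, hk, hk0⟩ : ∃ w ∈ LinearMap.ker N, w ≠ 0 := by
    refine (Submodule.ne_bot_iff _).1 fun hh => ?_
    rw [hh, finrank_bot] at h
    omega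
  have hP : LinearMap.ker N = span K {k} := by
    refine (eq_of_le_of_finrank_eq ((span_singleton_le_iff_mem _ _).2 hk) ?_).symm
    rw [finrank_span_singleton hk0, h]
  by_cases hw : ∀ w : V, w ∉ LinearMap.ker N → ∃ ν : K, N w - ν • w ∈ LinearMap.ker N
  · exfalso
    obtain ⟨ν, h1⟩ := scalar_mod N (LinearMap.ker N) (by omega) hw
    by_cases h0 : ν = 0
    · have h2 : LinearMap.range N ≤ LinearMap.ker N := by
        rintro _ ⟨w, rfl⟩
        have := h1 w
        rwa [h0, zero_smul, sub_zero] at this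
      have h3 := Submodule.finrank_mono h2
      have h4 := N.finrank_range_add_finrank_ker
      omega
    · exact hν ν h0 _ h.le h1
  · push Not at hw
    obtain ⟨w, hw1, hw2⟩ := hw
    refine ⟨k, w, indep hk0 (by rwa [← hP]), ?_⟩
    intro a b c d he
    rw [LinearMap.mem_ker] at hk
    rw [hk, smul_zero, zero_add] at he
    by_cases hd : d = 0
    · rw [hd, zero_smul] at he
      exact (LinearIndependent.pair_iff.1 (indep hk0 (by rwa [← hP]))) a b he
    · exfalso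
      apply hw2 (d⁻¹ * b)
      have h5 : N w - (d⁻¹ * b) • w = (d⁻¹ * a) • k := by
        have : N w = d⁻¹ • (d • N w) := by rw [smul_smul, inv_mul_cancel₀ hd, one_smul]
        rw [this, ← he, smul_add, smul_smul, smul_smul]
        abel
      rw [h5, hP]
      exact smul_mem _ _ (mem_span_singleton_self k)

omit [FiniteDimensional K V] in
theorem finrank_pair_le (x y : V) : finrank K (span K {x, y}) ≤ 2 := by
  classical
  have h := finrank_span_finset_le_card (R := K) ({x, y} : Finset V)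
  rw [Set.finrank, Finset.coe_insert, Finset.coe_singleton] at h
  exact h.trans Finset.card_le_two

theorem step (hn : 5 ≤ finrank K V) {w : V} (hw : ∀ ν : K, N w ≠ ν • w) :
    (∃ w₁ w₂ : V, Good N w₁ w₂) ∨ ∃ ν : K, ∀ v, N v - ν • v ∈ span K {w, N w} := by
  have hw0 : w ≠ 0 := by
    rintro rfl
    exact hw 0 (by rw [map_zero, smul_zero])
  have h2 := finrank_pair_le (K := K) w (N w)
  by_cases h : ∀ u : V, u ∉ span K {w, N w} → ∃ ν : K, N u - ν • u ∈ span K {w, N w}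
  · exact Or.inr (scalar_mod N _ (by omega) h)
  · left
    push Not at h
    obtain ⟨u, hu, hu1⟩ := h
    have hww : w ∈ span K {w, N w} := subset_span (by simp)
    have hNw : N w ∈ span K {w, N w} := subset_span (by simp)
    refine ⟨w, u, indep hw0 (fun hh => hu (span_mono (by simp) hh)), ?_⟩
    intro a b c d he
    by_cases hd : d = 0
    · rw [hd, zero_smul, add_zero] at he
      have hb : b = 0 := by
        by_contra hb
        apply hu
        have : u = b⁻¹ • (b • u) := by rw [smul_smul, inv_mul_cancel₀ hb, one_smul]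
        rw [this, show b • u = (a • w + b • u) - a • w by abel, he]
        exact smul_mem _ _ (sub_mem (smul_mem _ _ hNw) (smul_mem _ _ hww))
      rw [hb, zero_smul, add_zero] at he
      refine ⟨?_, hb⟩
      by_cases hc : c = 0
      · rw [hc, zero_smul] at he
        exact (smul_eq_zero.1 he).resolve_right hw0
      · exfalso
        apply hw (c⁻¹ * a)
        rw [mul_smul, he, smul_smul, inv_mul_cancel₀ hc, one_smul]
    · exfalso
      apply hu1 (d⁻¹ * b)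
      have h5 : N u - (d⁻¹ * b) • u = d⁻¹ • (a • w - c • N w) := by
        have h6 : d • N u = a • w + b • u - c • N w := by rw [he]; abel
        have : N u = d⁻¹ • (d • N u) := by rw [smul_smul, inv_mul_cancel₀ hd, one_smul]
        rw [this, h6, mul_smul]
        module
      rw [h5]
      exact smul_mem _ _ (sub_mem (smul_mem _ _ hww) (smul_mem _ _ hNw))

theorem good_of_inj (hn : 5 ≤ finrank K V) (hν : ∀ ν : K, ∀ P : Submodule K V, finrank K P ≤ 1 →
    ¬ ∀ w, N w - ν • w ∈ P) (_ : LinearMap.ker N = ⊥) : ∃ w₁ w₂ : V, Good N w₁ w₂ := by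
  by_contra hcon
  have hst : ∀ w : V, (∀ ν : K, N w ≠ ν • w) → ∃ ν : K, ∀ v, N v - ν • v ∈ span K {w, N w} :=
    fun w hw => (step hn hw).resolve_left hcon
  -- a vector which is not an eigenvector
  obtain ⟨w₁, hw₁⟩ : ∃ w : V, ∀ ν : K, N w ≠ ν • w := by
    by_contra hc
    push Not at hc
    obtain ⟨ν, h1⟩ := scalar_mod N ⊥ (by rw [finrank_bot]; omega) (fun w _ => by
      obtain ⟨ν, h⟩ := hc w
      exact ⟨ν, by rw [h, sub_self]; exact zero_mem _⟩)
    exact hν ν ⊥ (by rw [finrank_bot]; omega) h1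
  obtain ⟨ν₁, h1⟩ := hst w₁ hw₁
  -- the image of `N - ν₁`
  have hR1 : LinearMap.range (N - ν₁ • LinearMap.id) ≤ span K {w₁, N w₁} := by
    rintro _ ⟨v, rfl⟩
    exact h1 v
  have hr1 : 2 ≤ finrank K (LinearMap.range (N - ν₁ • LinearMap.id)) := by
    by_contra hlt
    exact hν ν₁ (LinearMap.range (N - ν₁ • LinearMap.id)) (by omega) fun w => ⟨w, rfl⟩
  have hp1 := finrank_pair_le (K := K) w₁ (N w₁)
  have hE1 : LinearMap.range (N - ν₁ • LinearMap.id) = span K {w₁, N w₁} :=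
    eq_of_le_of_finrank_le hR1 (by omega)
  have hk1 := (N - ν₁ • LinearMap.id).finrank_range_add_finrank_ker
  have hf1 : finrank K (span K {w₁, N w₁}) = 2 := by rw [← hE1] at hp1 ⊢; omega
  -- a vector outside the two subspaces
  obtain ⟨w, hwE, hwP⟩ : ∃ w : V, w ∉ LinearMap.ker (N - ν₁ • LinearMap.id) ∧ w ∉ span K {w₁, N w₁} := by
    obtain ⟨x, hx⟩ : ∃ x : V, x ∉ LinearMap.ker (N - ν₁ • LinearMap.id) := by
      by_contra hc
      push Not at hc
      have : LinearMap.ker (N - ν₁ • LinearMap.id) = ⊤ := eq_top_iff.2 fun x _ => hc x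
      rw [this, finrank_top] at hk1
      omega
    obtain ⟨y, hy⟩ : ∃ y : V, y ∉ span K {w₁, N w₁} := by
      by_contra hc
      push Not at hc
      have : span K {w₁, N w₁} = ⊤ := eq_top_iff.2 fun x _ => hc x
      rw [this, finrank_top] at hf1
      omega
    by_cases hx1 : x ∈ span K {w₁, N w₁}
    · by_cases hy1 : y ∈ LinearMap.ker (N - ν₁ • LinearMap.id)
      · refine ⟨x + y, fun h => hx ?_, fun h => hy ?_⟩
        · have := sub_mem h hy1
          rwa [add_sub_cancel_right] at this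
        · have := sub_mem h hx1
          rwa [add_sub_cancel_left] at this
      · exact ⟨y, hy1, hy⟩
    · exact ⟨x, hx, hx1⟩
  have hwne : ∀ ν : K, N w ≠ ν • w := by
    intro ν h
    have h5 : (N - ν₁ • LinearMap.id : V →ₗ[K] V) w = (ν - ν₁) • w := by
      rw [LinearMap.sub_apply, h, LinearMap.smul_apply, LinearMap.id_apply]
      module
    by_cases h6 : ν = ν₁
    · apply hwE
      rw [LinearMap.mem_ker, h5, h6, sub_self, zero_smul]
    · apply hwP
      rw [← hE1]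
      have h7 : w = (N - ν₁ • LinearMap.id : V →ₗ[K] V) ((ν - ν₁)⁻¹ • w) := by
        rw [map_smul, h5, smul_smul, inv_mul_cancel₀ (sub_ne_zero.2 h6), one_smul]
      rw [h7]
      exact ⟨_, rfl⟩
  obtain ⟨ν₂, h2⟩ := hst w hwne
  have hR2 : LinearMap.range (N - ν₂ • LinearMap.id) ≤ span K {w, N w} := by
    rintro _ ⟨v, rfl⟩
    exact h2 v
  have hp2 := finrank_pair_le (K := K) w (N w)
  by_cases h12 : ν₂ = ν₁
  · rw [h12, hE1] at hR2
    have h8 : span K {w₁, N w₁} = span K {w, N w} := eq_of_le_of_finrank_le hR2 (by omega)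
    apply hwP
    rw [h8]
    exact subset_span (by simp)
  · have hk2 := (N - ν₂ • LinearMap.id).finrank_range_add_finrank_ker
    have hr2 := Submodule.finrank_mono hR2
    have hd : Disjoint (LinearMap.ker (N - ν₁ • LinearMap.id)) (LinearMap.ker (N - ν₂ • LinearMap.id)) := by
      rw [Submodule.disjoint_def]
      intro x hx hy
      rw [LinearMap.mem_ker, LinearMap.sub_apply, LinearMap.smul_apply, LinearMap.id_apply] at hx hy
      have h9 : (ν₂ - ν₁) • x = 0 := by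
        have : (ν₂ - ν₁) • x = (N x - ν₁ • x) - (N x - ν₂ • x) := by module
        rw [this, hx, hy, sub_zero]
      exact (smul_eq_zero.1 h9).resolve_left (sub_ne_zero.2 h12)
    have h10 := Submodule.finrank_add_finrank_le_of_disjoint hd
    have h11 : finrank K (LinearMap.range (N - ν₁ • LinearMap.id)) = 2 := by rw [hE1, hf1]
    omega

/-- **existence of the plane** -/
theorem exists_good (hn : 5 ≤ finrank K V) (hν : ∀ ν : K, ν ≠ 0 → ∀ P : Submodule K V, finrank K P ≤ 1 →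
    ¬ ∀ w, N w - ν • w ∈ P) : ∃ w₁ w₂ : V, Good N w₁ w₂ := by
  rcases (show finrank K (LinearMap.ker N) = 0 ∨ finrank K (LinearMap.ker N) = 1 ∨
      2 ≤ finrank K (LinearMap.ker N) by omega) with h | h | h
  · have h1 : LinearMap.ker N = ⊥ := Submodule.finrank_eq_zero.1 h
    refine good_of_inj hn (fun ν P hP hh => ?_) h1
    by_cases h0 : ν = 0
    · have h2 : LinearMap.range N ≤ P := by
        rintro _ ⟨w, rfl⟩
        have := hh w
        rwa [h0, zero_smul, sub_zero] at this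
      have h3 := Submodule.finrank_mono h2
      have h4 := N.finrank_range_add_finrank_ker
      omega
    · exact hν ν h0 P hP hh
  · exact good_of_line hn hν h
  · exact good_of_ker h

end Lin

section Mat

open Matrix

variable {K : Type*} [Field K] {k : ℕ}

end Mat

end Cfsg.Agent.H493.TW
end

-- part: H493/TW/TwoGl
section
/-!
# S2452, `E₈(q)`: the form with a prescribed scalar (helper493)

`two_block_gl` : an invertible matrix `a` of size `2 + k`, `k ≥ 4`, such that `a - μ` has rank at least two for all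
`μ`, is conjugate under `SL` to a matrix with leading block `1` and Schur complement different from a given scalar `κ`.
-/

set_option autoImplicit false

namespace Cfsg.Agent.H493.TW

open Module Submodule

section Lin

variable {K V : Type*} [Field K] [AddCommGroup V] [Module K V] [FiniteDimensional K V] {N : V →ₗ[K] V}

/-- the plane can be chosen such that `(N - ν) V` is not contained in its image under `1 + N` -/
theorem exists_good_off (hn : 6 ≤ finrank K V) (ν : K) (hinj : ∀ v : V, v + N v = 0 → v = 0)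
    (hν : ∀ μ : K, ∀ P : Submodule K V, finrank K P ≤ 1 → ¬ ∀ w, N w - μ • w ∈ P) :
    ∃ w₁ w₂ v : V, Good N w₁ w₂ ∧ N v - ν • v ∉ span K {w₁ + N w₁, w₂ + N w₂} := by
  obtain ⟨w₁, w₂, hg⟩ := exists_good (N := N) (by omega) fun μ _ => hν μ
  by_cases h : ∃ v, N v - ν • v ∉ span K {w₁ + N w₁, w₂ + N w₂}
  · obtain ⟨v, hv⟩ := h
    exact ⟨w₁, w₂, v, hg, hv⟩
  push Not at h
  obtain ⟨hli, hg2⟩ := hg
  have hli' := LinearIndependent.pair_iff.1 hli
  obtain ⟨T, hT⟩ : ∃ T : V →ₗ[K] V, T = N - ν • LinearMap.id := ⟨_, rfl⟩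
  have hTv : ∀ v, T v = N v - ν • v := fun v => by
    rw [hT, LinearMap.sub_apply, LinearMap.smul_apply, LinearMap.id_apply]
  obtain ⟨S, hS⟩ : ∃ S : Submodule K V, S = span K {w₁ + N w₁, w₂ + N w₂} := ⟨_, rfl⟩
  have hSf : finrank K S ≤ 2 := by rw [hS]; exact finrank_pair_le _ _
  have hTS : LinearMap.range T ≤ S := by
    rintro _ ⟨v, rfl⟩
    rw [hTv, hS]
    exact h v
  have hr : 2 ≤ finrank K (LinearMap.range T) := by
    by_contra hlt
    exact hν ν (LinearMap.range T) (by omega) fun w => ⟨w, hTv w⟩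
  have hRS : LinearMap.range T = S := eq_of_le_of_finrank_le hTS (by omega)
  have hSf2 : finrank K S = 2 := by rw [← hRS] at hSf ⊢; omega
  -- `S` is invariant
  have hNS : ∀ x ∈ S, N x ∈ S := by
    intro x hx
    have hx' := hx
    rw [← hRS] at hx
    obtain ⟨v, rfl⟩ := hx
    have : N (T v) = T (N v) := by
      rw [hTv, hTv, map_sub, map_smul]
    rw [this, ← hRS]
    exact ⟨_, rfl⟩
  obtain ⟨A, hA⟩ : ∃ A : V →ₗ[K] V, A = LinearMap.id + N := ⟨_, rfl⟩
  have hAv : ∀ v, A v = v + N v := fun v => by rw [hA, LinearMap.add_apply, LinearMap.id_apply]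
  have hAi : Function.Injective A := by
    rw [← LinearMap.ker_eq_bot, LinearMap.ker_eq_bot']
    intro v hv
    exact hinj v (by rw [← hAv, hv])
  have hAS : S.map A = S := by
    refine eq_of_le_of_finrank_eq ?_ (LinearEquiv.finrank_eq (S.equivMapOfInjective A hAi)).symm
    rintro _ ⟨x, hx, rfl⟩
    rw [hAv]
    exact add_mem hx (hNS x hx)
  have hmem : ∀ w : V, w + N w ∈ S → w ∈ S := by
    intro w hw
    rw [← hAS] at hw
    obtain ⟨x, hx, hxw⟩ := hw
    rw [← hAv] at hxw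
    rwa [← hAi hxw]
  have hw₁ : w₁ ∈ S := hmem _ (by rw [hS]; exact subset_span (by simp only [_root_.Set.mem_insert_iff, _root_.Set.mem_singleton_iff, _root_.true_or]))
  have hw₂ : w₂ ∈ S := hmem _ (by rw [hS]; exact subset_span (by simp only [_root_.Set.mem_insert_iff, _root_.Set.mem_singleton_iff, _root_.or_true]))
  have hWS : span K {w₁, w₂} = S := by
    refine eq_of_le_of_finrank_le (span_le.2 ?_) ?_
    · rintro x (rfl | rfl)
      · exact hw₁
      · exact hw₂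
    · have h1 := finrank_span_eq_card hli
      rw [Fintype.card_fin] at h1
      have h2 : Set.range ![w₁, w₂] = {w₁, w₂} := by
        ext x
        simp [eq_comm, or_comm]
      rw [h2] at h1
      omega
  -- `N` is zero on it
  have hz : ∀ w ∈ S, N w = 0 := by
    intro w hw
    have h1 := hNS w hw
    rw [← hWS, mem_span_pair] at hw h1
    obtain ⟨c, d, rfl⟩ := hw
    obtain ⟨a, b, hab⟩ := h1
    obtain ⟨rfl, rfl⟩ := hg2 a b c d (by rw [hab, map_add, map_smul, map_smul])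
    rw [← hab]; simp
  have hk := T.finrank_range_add_finrank_ker
  rw [hRS] at hk
  obtain ⟨e₁, he₁, he₁'⟩ : ∃ w ∈ LinearMap.ker T, w ∉ span K {w₁, w₂} := by
    by_contra hc
    push Not at hc
    have h4 := Submodule.finrank_mono (show LinearMap.ker T ≤ span K {w₁, w₂} from hc)
    have h5 := finrank_pair_le (K := K) w₁ w₂
    omega
  obtain ⟨e₂, he₂, he₂'⟩ : ∃ w ∈ LinearMap.ker T, w ∉ span K {w₁, w₂} ⊔ span K {e₁} := by
    by_contra hc
    push Not at hc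
    have h4 := Submodule.finrank_mono (show LinearMap.ker T ≤ span K {w₁, w₂} ⊔ span K {e₁} from hc)
    have h5 := finrank_pair_le (K := K) w₁ w₂
    have h6 := finrank_add_le_finrank_add_finrank (span K {w₁, w₂}) (span K {e₁})
    have h7 : finrank K (span K {e₁}) ≤ 1 := by
      have := finrank_span_finset_le_card (R := K) ({e₁} : Finset V)
      rw [Set.finrank, Finset.coe_singleton, Finset.card_singleton] at this
      exact this
    omega
  have hNe : ∀ e ∈ LinearMap.ker T, N e = ν • e := by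
    intro e he
    rw [LinearMap.mem_ker, hTv, sub_eq_zero] at he
    exact he
  have hind : ∀ a b c d : K, a • w₁ + b • w₂ + c • e₁ + d • e₂ = 0 → (a = 0 ∧ b = 0) ∧ (c = 0 ∧ d = 0) := by
    intro a b c d h0
    have hd : d = 0 := by
      by_contra hd
      apply he₂'
      have h1 : e₂ = (-(d⁻¹)) • (a • w₁ + b • w₂) + (-(d⁻¹ * c)) • e₁ := by
        have : e₂ = d⁻¹ • (d • e₂) := by rw [smul_smul, inv_mul_cancel₀ hd, one_smul]
        rw [this, show d • e₂ = (a • w₁ + b • w₂ + c • e₁ + d • e₂) - (a • w₁ + b • w₂) - c • e₁ by abel, h0]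
        module
      rw [h1]
      exact add_mem (mem_sup_left (smul_mem _ _ (mem_span_pair.2 ⟨a, b, rfl⟩)))
        (mem_sup_right (smul_mem _ _ (mem_span_singleton_self e₁)))
    rw [hd, zero_smul, add_zero] at h0
    have hc : c = 0 := by
      by_contra hc
      apply he₁'
      have h1 : e₁ = (-(c⁻¹)) • (a • w₁ + b • w₂) := by
        have : e₁ = c⁻¹ • (c • e₁) := by rw [smul_smul, inv_mul_cancel₀ hc, one_smul]
        rw [this, show c • e₁ = (a • w₁ + b • w₂ + c • e₁) - (a • w₁ + b • w₂) by abel, h0]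
        module
      rw [h1]
      exact smul_mem _ _ (mem_span_pair.2 ⟨a, b, rfl⟩)
    rw [hc, zero_smul, add_zero] at h0
    exact ⟨hli' a b h0, hc, hd⟩
  obtain ⟨v, hv⟩ : ∃ v, T v = w₁ := by
    rw [← hRS] at hw₁
    exact hw₁
  have hn₁ : N (w₁ + e₁) = ν • e₁ := by rw [map_add, hz _ hw₁, zero_add, hNe _ he₁]
  have hn₂ : N (w₂ + e₂) = ν • e₂ := by rw [map_add, hz _ hw₂, zero_add, hNe _ he₂]
  refine ⟨w₁ + e₁, w₂ + e₂, v, ⟨?_, ?_⟩, ?_⟩
  · rw [LinearIndependent.pair_iff]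
    intro a b h0
    exact (hind a b a b (by rw [← h0]; module)).1
  · intro a b c d h0
    rw [hn₁, hn₂] at h0
    exact (hind a b (a - c * ν) (b - d * ν) (by
      have : a • w₁ + b • w₂ + (a - c * ν) • e₁ + (b - d * ν) • e₂ =
        (a • (w₁ + e₁) + b • (w₂ + e₂)) - (c • ν • e₁ + d • ν • e₂) := by module
      rw [this, h0, sub_self])).1
  · rw [← hTv, hv, hn₁, hn₂, mem_span_pair]
    rintro ⟨a, b, h0⟩
    have h1 := hind (a - 1) b (a * (1 + ν)) (b * (1 + ν)) (by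
      have : (a - 1) • w₁ + b • w₂ + (a * (1 + ν)) • e₁ + (b * (1 + ν)) • e₂ =
        (a • (w₁ + e₁ + ν • e₁) + b • (w₂ + e₂ + ν • e₂)) - w₁ := by module
      rw [this, h0, sub_self])
    have h2 : a = 1 := sub_eq_zero.1 h1.1.1
    have h3 : 1 + ν = 0 := by
      have := h1.2.1
      rwa [h2, one_mul] at this
    have h4 : e₁ = 0 := by
      apply hinj
      rw [hNe _ he₁, show e₁ + ν • e₁ = (1 + ν) • e₁ by module, h3, zero_smul]
    apply he₁'
    rw [h4]
    exact zero_mem _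

/-- the witness can be chosen outside `W + N W` -/
theorem exists_outside (hn : 5 ≤ finrank K V) {w₁ w₂ v : V} (T : V →ₗ[K] V) (S : Submodule K V) (h : T v ∉ S) :
    ∃ u, u ∉ span K {w₁, w₂} ⊔ span K {N w₁, N w₂} ∧ T u ∉ S := by
  obtain ⟨y, hy⟩ : ∃ y, y ∉ span K {w₁, w₂} ⊔ span K {N w₁, N w₂} := by
    by_contra hc
    push Not at hc
    have h1 : span K {w₁, w₂} ⊔ span K {N w₁, N w₂} = ⊤ := eq_top_iff.2 fun x _ => hc x
    have h2 := finrank_add_le_finrank_add_finrank (span K {w₁, w₂}) (span K {N w₁, N w₂})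
    rw [h1, finrank_top] at h2
    have h3 := finrank_pair_le (K := K) w₁ w₂
    have h4 := finrank_pair_le (K := K) (N w₁) (N w₂)
    omega
  by_cases hv : v ∈ span K {w₁, w₂} ⊔ span K {N w₁, N w₂}
  · by_cases hTy : T y ∈ S
    · refine ⟨v + y, fun hh => hy ?_, fun hh => h ?_⟩
      · have := sub_mem hh hv
        rwa [add_sub_cancel_left] at this
      · rw [map_add] at hh
        have := sub_mem hh hTy
        rwa [add_sub_cancel_right] at this
    · exact ⟨y, hy, hTy⟩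
  · exact ⟨v, hv, h⟩

/-- an adapted basis, with a given vector in the complement -/
theorem exists_basis_off {k : ℕ} (hV : finrank K V = 2 + k) {w₁ w₂ u : V} (h : Good N w₁ w₂)
    (hu : u ∉ span K {w₁, w₂} ⊔ span K {N w₁, N w₂}) :
    ∃ b : Basis (Fin 2 ⊕ Fin k) K V, b (Sum.inl 0) = w₁ ∧ b (Sum.inl 1) = w₂ ∧
      (∀ i j : Fin 2, b.repr (N (b (Sum.inl i))) (Sum.inl j) = 0) ∧ ∀ j : Fin 2, b.repr u (Sum.inl j) = 0 := by
  obtain ⟨hli, hg⟩ := h
  let W : Submodule K V := span K (Set.range ![w₁, w₂])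
  let bW : Basis (Fin 2) K W := Basis.span hli
  have hr : W = span K {w₁, w₂} := by
    change span K (Set.range ![w₁, w₂]) = _
    congr 1
    ext x
    simp [eq_comm, or_comm]
  have hw₁ : w₁ ∈ W := subset_span ⟨0, rfl⟩
  have hw₂ : w₂ ∈ W := subset_span ⟨1, rfl⟩
  have hmap : W.map N = span K {N w₁, N w₂} := by
    rw [hr, map_span, Set.image_pair]
  have hdis : Disjoint W (W.map N ⊔ span K {u}) := by
    rw [Submodule.disjoint_def]
    intro x hx hx'
    rw [mem_sup] at hx'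
    obtain ⟨p, hp, q, hq, hpq⟩ := hx'
    rw [mem_span_singleton] at hq
    obtain ⟨c, rfl⟩ := hq
    have hc0 : c = 0 := by
      by_contra hc
      apply hu
      have h1 : u = c⁻¹ • (x - p) := by
        rw [← hpq, add_sub_cancel_left, smul_smul, inv_mul_cancel₀ hc, one_smul]
      rw [h1]
      refine smul_mem _ _ (sub_mem (mem_sup_left ?_) (mem_sup_right ?_))
      · rwa [← hr]
      · rwa [← hmap]
    rw [hc0, zero_smul, add_zero] at hpq
    rw [← hpq] at hx ⊢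
    rw [hmap, mem_span_pair] at hp
    rw [hr, mem_span_pair] at hx
    obtain ⟨c, d, hcd⟩ := hp
    obtain ⟨a, b, hab⟩ := hx
    obtain ⟨rfl, rfl⟩ := hg a b c d (by rw [hab, hcd])
    rw [← hab]
    simp
  obtain ⟨U, hU, hc'⟩ := hdis.symm.exists_isCompl
  have hc : IsCompl W U := hc'.symm
  have hfW : finrank K W = 2 := by rw [Module.finrank_eq_card_basis bW, Fintype.card_fin]
  have hfU : finrank K U = k := by
    have := Submodule.finrank_add_eq_of_isCompl hc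
    omega
  let bU : Basis (Fin k) K U := finBasisOfFinrankEq K U hfU
  let b : Basis (Fin 2 ⊕ Fin k) K V := (bW.prod bU).map (prodEquivOfIsCompl W U hc)
  have hbl : ∀ i : Fin 2, b (Sum.inl i) = ![w₁, w₂] i := by
    intro i
    change (prodEquivOfIsCompl W U hc) ((bW.prod bU) (Sum.inl i)) = _
    have h1 : (bW.prod bU) (Sum.inl i) = (bW i, 0) := by
      ext <;> simp only [_root_.Module.Basis.prod_apply, _root_.LinearMap.coe_inl, _root_.LinearMap.coe_inr, _root_.Sum.elim_inl, _root_.Function.comp_apply, _root_.ZeroMemClass.coe_zero]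
    rw [h1, coe_prodEquivOfIsCompl']
    simp only [coe_zero, add_zero]
    exact congrArg Subtype.val (Basis.span_apply hli i)
  have hrU : ∀ u ∈ U, ∀ j : Fin 2, b.repr u (Sum.inl j) = 0 := by
    intro u hu j
    change (bW.prod bU).repr ((prodEquivOfIsCompl W U hc).symm u) (Sum.inl j) = 0
    have h1 : (prodEquivOfIsCompl W U hc).symm u = (0, ⟨u, hu⟩) :=
      prodEquivOfIsCompl_symm_apply_right W U hc ⟨u, hu⟩
    rw [h1]
    simp
  refine ⟨b, hbl 0, hbl 1, fun i j => hrU _ (hU (mem_sup_left ?_)) j,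
    fun j => hrU _ (hU (mem_sup_right (mem_span_singleton_self u))) j⟩
  rw [hbl]
  refine mem_map_of_mem ?_
  fin_cases i
  · exact hw₁
  · exact hw₂

end Lin

section Mat

open Matrix

variable {K : Type*} [Field K] {k : ℕ}

theorem exists_scaled' {V : Type*} [AddCommGroup V] [Module K V] (hk : 0 < k) (s b : Basis (Fin 2 ⊕ Fin k) K V) :
    ∃ b' : Basis (Fin 2 ⊕ Fin k) K V, (∀ i : Fin 2, b' (Sum.inl i) = b (Sum.inl i)) ∧
      (∀ (v : V) (i : Fin 2), b'.repr v (Sum.inl i) = b.repr v (Sum.inl i)) ∧ (s.toMatrix b').det = 1 := by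
  classical
  have hu : IsUnit (s.toMatrix b).det := by
    have h := Basis.toMatrix_mul_toMatrix_flip s b
    exact IsUnit.of_mul_eq_one _ (by rw [← det_mul, h, det_one])
  let w : Fin 2 ⊕ Fin k → Kˣ := fun i => if i = Sum.inr ⟨0, hk⟩ then hu.unit⁻¹ else 1
  have hw : ∀ i : Fin 2, w (Sum.inl i) = 1 := fun i => if_neg (by simp)
  refine ⟨b.unitsSMul w, fun i => ?_, fun v i => ?_, ?_⟩
  · rw [Basis.unitsSMul_apply, hw, one_smul]
  · rw [Basis.repr_unitsSMul, hw, inv_one, one_smul]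
  · have h1 : s.toMatrix (b.unitsSMul w) = s.toMatrix b * diagonal fun j => ((w j : Kˣ) : K) := by
      ext i j
      rw [mul_diagonal, Basis.toMatrix_apply, Basis.toMatrix_apply, Basis.unitsSMul_apply, Units.smul_def,
        map_smul, Finsupp.smul_apply, smul_eq_mul, mul_comm]
    rw [h1, det_mul, det_diagonal]
    have h2 : ∏ i : Fin 2 ⊕ Fin k, ((w i : Kˣ) : K) = ((hu.unit⁻¹ : Kˣ) : K) := by
      rw [Finset.prod_eq_single (Sum.inr ⟨0, hk⟩)]
      · change (((if _ then _ else _ : Kˣ)) : K) = _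
        rw [if_pos rfl]
      · intro i _ hi
        change (((if _ then _ else _ : Kˣ)) : K) = _
        rw [if_neg hi, Units.val_one]
      · intro h
        exact absurd (Finset.mem_univ _) h
    rw [h2]
    exact hu.unit.mul_inv

/-- **A leading two by two block equal to `1`, Schur complement different from a given scalar.** -/
theorem two_block_gl (hk : 4 ≤ k) (a : Matrix (Fin 2 ⊕ Fin k) (Fin 2 ⊕ Fin k) K) (hdet : a.det ≠ 0) (κ : K)
    (hμ : ∀ μ : K, 2 ≤ (a - Matrix.scalar (Fin 2 ⊕ Fin k) μ).rank) :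
    ∃ (S : Matrix.SpecialLinearGroup (Fin 2 ⊕ Fin k) K) (X : Matrix (Fin k) (Fin 2) K)
      (Y : Matrix (Fin 2) (Fin k) K) (C : Matrix (Fin k) (Fin k) K),
        S.1 * a * (S⁻¹).1 = fromBlocks 1 0 X 1 * fromBlocks 1 0 0 C * fromBlocks 1 Y 0 1 ∧
          C.det = a.det ∧ C ≠ κ • (1 : Matrix (Fin k) (Fin k) K) := by
  classical
  let N : (Fin 2 ⊕ Fin k → K) →ₗ[K] (Fin 2 ⊕ Fin k → K) := toLin' (a - 1)
  have hNa : ∀ v, toLin' a v = v + N v := by
    intro v
    change toLin' a v = v + toLin' (a - 1) v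
    rw [map_sub, toLin'_one, LinearMap.sub_apply, LinearMap.id_apply]
    abel
  have hV : finrank K (Fin 2 ⊕ Fin k → K) = 2 + k := by
    rw [Module.finrank_fintype_fun_eq_card, Fintype.card_sum, Fintype.card_fin, Fintype.card_fin]
  have hinj : ∀ v, v + N v = 0 → v = 0 := by
    intro v hv
    rw [← hNa, toLin'_apply] at hv
    exact Matrix.eq_zero_of_mulVec_eq_zero hdet hv
  have hν : ∀ ν : K, ∀ P : Submodule K (Fin 2 ⊕ Fin k → K), finrank K P ≤ 1 → ¬ ∀ w, N w - ν • w ∈ P := by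
    intro ν P hP h
    have h2 := hμ (1 + ν)
    have h3 : LinearMap.range (a - Matrix.scalar (Fin 2 ⊕ Fin k) (1 + ν)).mulVecLin ≤ P := by
      rintro _ ⟨w, rfl⟩
      have h4 : (a - Matrix.scalar (Fin 2 ⊕ Fin k) (1 + ν)).mulVecLin w = N w - ν • w := by
        have h5 := hNa w
        rw [toLin'_apply] at h5
        rw [mulVecLin_apply, sub_mulVec, h5, Matrix.scalar_apply, ← smul_one_eq_diagonal, smul_mulVec, one_mulVec]
        module
      rw [h4]
      exact h w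
    have h6 := Submodule.finrank_mono h3
    rw [Matrix.rank] at h2
    omega
  -- the plane
  obtain ⟨w₁, w₂, v, hg, hv⟩ := exists_good_off (N := N) (by omega) (κ - 1) hinj hν
  obtain ⟨u, hu, hu'⟩ := exists_outside (N := N) (w₁ := w₁) (w₂ := w₂) (v := v) (by omega)
    (N - (κ - 1) • LinearMap.id) (span K {w₁ + N w₁, w₂ + N w₂})
    (by rwa [LinearMap.sub_apply, LinearMap.smul_apply, LinearMap.id_apply])
  obtain ⟨b₀, hb1, hb2, hb3, hb7⟩ := exists_basis_off hV hg hu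
  let s := Pi.basisFun K (Fin 2 ⊕ Fin k)
  obtain ⟨b, hb4, hb5, hb6⟩ := exists_scaled' (by omega) s b₀
  have hb1' : b (Sum.inl 0) = w₁ := by rw [hb4, hb1]
  have hb2' : b (Sum.inl 1) = w₂ := by rw [hb4, hb2]
  have hb3' : ∀ i j : Fin 2, b.repr (N (b (Sum.inl i))) (Sum.inl j) = 0 := by
    intro i j
    rw [hb5, hb4]
    exact hb3 i j
  have hb7' : ∀ j : Fin 2, b.repr u (Sum.inl j) = 0 := by
    intro j
    rw [hb5]
    exact hb7 j
  obtain ⟨M, hMd⟩ : ∃ M : Matrix (Fin 2 ⊕ Fin k) (Fin 2 ⊕ Fin k) K, M = LinearMap.toMatrix b b (toLin' a) :=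
    ⟨_, rfl⟩
  have hPQ : b.toMatrix s * s.toMatrix b = 1 := Basis.toMatrix_mul_toMatrix_flip b s
  have hM : b.toMatrix s * a * s.toMatrix b = M := by
    have h := basis_toMatrix_mul_linearMap_toMatrix_mul_basis_toMatrix (b := b) (b' := s) (c := b) (c' := s) (toLin' a)
    rw [hMd, ← h]
    congr 2
    exact (LinearMap.toMatrix'_toLin' a).symm
  have hPdet : (b.toMatrix s).det = 1 := by
    have h := congrArg det hPQ
    rw [det_mul, det_one] at h
    rwa [hb6, mul_one] at h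
  obtain ⟨S, hS⟩ : ∃ S : Matrix.SpecialLinearGroup (Fin 2 ⊕ Fin k) K, S.1 = b.toMatrix s := ⟨⟨_, hPdet⟩, rfl⟩
  have hSinv : (S⁻¹).1 = s.toMatrix b := by
    have h1 : (S⁻¹).1 * S.1 = 1 := congrArg Subtype.val (inv_mul_cancel S)
    calc _ = (S⁻¹).1 * (S.1 * s.toMatrix b) := by rw [hS, hPQ, Matrix.mul_one]
      _ = s.toMatrix b := by rw [← Matrix.mul_assoc, h1, Matrix.one_mul]
  have hMe : ∀ i j, M i j = b.repr (b j) i + b.repr (N (b j)) i := by
    intro i j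
    rw [hMd, LinearMap.toMatrix_apply, hNa, map_add, Finsupp.add_apply]
  have h11 : M.toBlocks₁₁ = 1 := by
    ext i j
    rw [toBlocks₁₁, of_apply, hMe, hb3', add_zero, Basis.repr_self, Finsupp.single_apply, one_apply]
    by_cases h : i = j
    · subst h; simp
    · rw [if_neg h, if_neg (fun hh => h (Sum.inl_injective hh).symm)]
  have hMb : M = fromBlocks 1 0 M.toBlocks₂₁ 1 * fromBlocks 1 0 0 (M.toBlocks₂₂ - M.toBlocks₂₁ * M.toBlocks₁₂) *
      fromBlocks 1 M.toBlocks₁₂ 0 1 := by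
    rw [fromBlocks_multiply, fromBlocks_multiply]
    simp only [Matrix.mul_one, Matrix.one_mul, Matrix.mul_zero, Matrix.zero_mul, add_zero, zero_add]
    rw [← h11]
    rw [add_sub_cancel]
    exact (fromBlocks_toBlocks M).symm
  refine ⟨S, M.toBlocks₂₁, M.toBlocks₁₂,
    M.toBlocks₂₂ - M.toBlocks₂₁ * M.toBlocks₁₂, ?_, ?_, ?_⟩
  · rw [hSinv, hS]
    exact hM.trans hMb
  · have hdM : M.det = a.det := by
      rw [← hM, det_mul, det_mul, hPdet, hb6, one_mul, mul_one]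
    rw [hMb, det_mul, det_mul, det_fromBlocks_zero₁₂, det_fromBlocks_zero₁₂, det_fromBlocks_zero₂₁] at hdM
    simpa only [_root_.Matrix.det_one, _root_.mul_one, _root_.one_mul] using hdM
  · intro hC1
    apply hu'
    have hst : ∀ j : Fin k, N (b (Sum.inr j)) - (κ - 1) • b (Sum.inr j) =
        ∑ i : Fin 2, M (Sum.inl i) (Sum.inr j) • (b (Sum.inl i) + N (b (Sum.inl i))) := by
      intro j
      refine b.ext_elem fun r => ?_
      rw [map_sum, Finsupp.finsetSum_apply, map_sub, map_smul, Finsupp.sub_apply, Finsupp.smul_apply]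
      rcases r with r | l
      · have h2 := hMe (Sum.inl r) (Sum.inr j)
        rw [Basis.repr_self, Finsupp.single_apply, if_neg (by simp), zero_add] at h2
        rw [← h2, Basis.repr_self, Finsupp.single_apply, if_neg (by simp), smul_zero, sub_zero,
          Finset.sum_eq_single r]
        · rw [map_smul, Finsupp.smul_apply, map_add, Finsupp.add_apply, hb3', Basis.repr_self, Finsupp.single_eq_same,
            add_zero, smul_eq_mul, mul_one]
        · intro i _ hi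
          rw [map_smul, Finsupp.smul_apply, map_add, Finsupp.add_apply, hb3', Basis.repr_self, Finsupp.single_apply,
            if_neg (fun hh => hi (Sum.inl_injective hh)), add_zero, smul_zero]
        · intro h
          exact absurd (Finset.mem_univ _) h
      · have h2 := hMe (Sum.inr l) (Sum.inr j)
        have h3 := congrFun (congrFun hC1 l) j
        rw [Matrix.sub_apply, toBlocks₂₂, of_apply, h2, mul_apply, Matrix.smul_apply, one_apply, Basis.repr_self,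
          Finsupp.single_apply] at h3
        have h4 : (if (Sum.inr j : Fin 2 ⊕ Fin k) = Sum.inr l then (1 : K) else 0) = if l = j then 1 else 0 := by
          by_cases h : l = j
          · subst h; simp
          · rw [if_neg h, if_neg (fun hh => h (Sum.inr_injective hh).symm)]
        rw [h4, smul_eq_mul] at h3
        rw [Basis.repr_self, Finsupp.single_apply, h4, smul_eq_mul]
        have h5 : b.repr (N (b (Sum.inr j))) (Sum.inr l) - (κ - 1) * (if l = j then 1 else 0) =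
            ∑ i : Fin 2, M.toBlocks₂₁ l i * M.toBlocks₁₂ i j := by
          linear_combination h3
        rw [h5]
        refine Finset.sum_congr rfl fun i _ => ?_
        rw [map_smul, Finsupp.smul_apply, map_add, Finsupp.add_apply, Basis.repr_self, Finsupp.single_apply,
          if_neg (by simp), zero_add, smul_eq_mul, mul_comm]
        have h6 := hMe (Sum.inr l) (Sum.inl i)
        rw [Basis.repr_self, Finsupp.single_apply, if_neg (by simp), zero_add] at h6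
        rw [← h6]
        rfl
    have hmem : ∀ i : Fin 2, b (Sum.inl i) + N (b (Sum.inl i)) ∈ span K {w₁ + N w₁, w₂ + N w₂} := by
      intro i
      apply subset_span
      fin_cases i
      · change b (Sum.inl 0) + N (b (Sum.inl 0)) ∈ _
        rw [hb1']; simp only [_root_.Set.mem_insert_iff, _root_.Set.mem_singleton_iff, _root_.true_or]
      · change b (Sum.inl 1) + N (b (Sum.inl 1)) ∈ _
        rw [hb2']; simp only [_root_.Set.mem_insert_iff, _root_.Set.mem_singleton_iff, _root_.or_true]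
    have hsum : u = ∑ j : Fin k, b.repr u (Sum.inr j) • b (Sum.inr j) := by
      conv_lhs => rw [← b.sum_repr u, Fintype.sum_sum_type]
      rw [Finset.sum_eq_zero (fun i _ => by rw [hb7', zero_smul]), zero_add]
    rw [hsum, map_sum]
    refine sum_mem fun j _ => ?_
    rw [map_smul]
    refine smul_mem _ _ ?_
    rw [LinearMap.sub_apply, LinearMap.smul_apply, LinearMap.id_apply, hst]
    exact sum_mem fun i _ => smul_mem _ _ (hmem i)

/-- the same for a matrix indexed by another type -/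
theorem two_block_of_equiv {n : ℕ} (e : Fin 2 ⊕ Fin k ≃ Fin n) (hk : 4 ≤ k) (a : Matrix (Fin n) (Fin n) K)
    (hdet : a.det ≠ 0) (κ : K) (hμ : ∀ μ : K, 2 ≤ (a - Matrix.scalar (Fin n) μ).rank) :
    ∃ (S : Matrix.SpecialLinearGroup (Fin 2 ⊕ Fin k) K) (X : Matrix (Fin k) (Fin 2) K)
      (Y : Matrix (Fin 2) (Fin k) K) (C : Matrix (Fin k) (Fin k) K),
        S.1 * a.submatrix e e * (S⁻¹).1 = fromBlocks 1 0 X 1 * fromBlocks 1 0 0 C * fromBlocks 1 Y 0 1 ∧
          C.det = a.det ∧ C ≠ κ • (1 : Matrix (Fin k) (Fin k) K) := by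
  have h := two_block_gl hk (a.submatrix e e) (by rwa [det_submatrix_equiv_self]) κ fun μ => by
    have h1 : a.submatrix e e - Matrix.scalar (Fin 2 ⊕ Fin k) μ = (a - Matrix.scalar (Fin n) μ).submatrix e e := by
      ext i j
      simp [Matrix.scalar_apply, diagonal_apply, e.injective.eq_iff]
    rw [h1, rank_submatrix]
    exact hμ μ
  rwa [det_submatrix_equiv_self] at h

end Mat

end Cfsg.Agent.H493.TW
end

-- part: H122/SX/EBig
section
/-!
# `E₈(q)`, `q ≥ 3`: assembly from the boxes (helper122, S2452)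

`pp_of_boxes` : the kick, the class in `SL_7` and the fixed points give `PP`.
-/

set_option autoImplicit false
set_option linter.unusedSectionVars false

namespace Cfsg.Agent.H122.SX.E127

open CoxeterSystem Cfsg.Agent.ChevalleyStructure.CoxeterGeom Cfsg.Agent.Tits.Roots Cfsg.Agent.Tits.Core
  Cfsg.Agent.Nodes.Reps Cfsg.Agent.Nodes.BNOf Cfsg.Agent.Nodes.RGDLib Cfsg.Agent.Nodes.Bruhat
  Cfsg.Agent.Nodes.OppDec Cfsg.Agent.Nodes.LeviDec Cfsg.Agent.Nodes.KindChev Cfsg.Agent.Nodes.ChevCls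
  Cfsg.Agent.OddHalf.NI.ModelChev Cfsg.Agent.Nodes.StabComb
  Cfsg.Agent.H928.Ore.Frame
open Cfsg.Lie Cfsg.Agent.ChevalleyStructure Cfsg.Agent.ChevalleyStructure.Elts
  Cfsg.Agent.ChevalleyStructure.RootVec Cfsg.Agent.ChevalleyStructure.NPerm
  Cfsg.Agent.ChevalleyStructure.CoxeterGeomTypes Cfsg.Agent.Nodes.RGDChev Cfsg.Agent.KFacts.RgdChevCoord
open Cfsg.Agent.TitsThree.KExcRT Cfsg.Agent.AGraded
open Cfsg.Agent.H78.Pw Cfsg.Agent.H85.Pw Cfsg.Agent.H194.Pw
open Cfsg.Agent.H122.Pw Cfsg.Agent.H122.SX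
open scoped MatrixGroups

universe u

variable {K : Type u} [Field K] [Finite K]

/-- the determinant of `A * diag(1, 1, 1, z, …, z)` -/
theorem det_dz (A : Matrix.SpecialLinearGroup (Fin 8) K) (z : Kˣ) : (A.1 * Matrix.diagonal (dz z)).det ≠ 0 := by
  rw [Matrix.det_mul, A.2, one_mul]
  intro h
  have h1 := congrArg Matrix.det (dz_mul z)
  rw [Matrix.det_mul, h, zero_mul, Matrix.det_one] at h1
  exact zero_ne_one h1

/-- **Assembly.** -/
theorem pp_of_boxes
    (kick : ∀ g : ↥(chevE8.group K), g ≠ 1 → ∃ (x v u : ↥(chevE8.group K))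
      (A : Matrix.SpecialLinearGroup (Fin 8) K) (z : Kˣ),
      v ∈ VNJ cs8 hp8.isCartan (XX chevE8 8 K) {k | k ∈ J7} ∧ u ∈ VJ cs8 hp8.isCartan (XX chevE8 8 K) {k | k ∈ J7} ∧
      x * g * x⁻¹ = v * (p8 K A * hz z) * u ∧
      ∀ μ : K, 2 ≤ (A.1 * Matrix.diagonal (dz z) - Matrix.scalar (Fin 8) μ).rank)
    {c : Matrix.SpecialLinearGroup (Fin 7) K} {r : ℕ} (hr : r.Prime) (hr6 : Nat.Coprime r 6) (hc : c ^ r = 1)
    (hcc : ∀ B : Matrix.SpecialLinearGroup (Fin 7) K, (∀ a : K, B.1 ≠ a • (1 : Matrix (Fin 7) (Fin 7) K)) →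
      ∃ g h, B = (g * c * g⁻¹) * (h * c * h⁻¹))
    (n1 : NF (VJ cs8 hp8.isCartan (XX chevE8 8 K) {k | k ∈ J6}) (p7 K c))
    (n2 : NF (VNJ cs8 hp8.isCartan (XX chevE8 8 K) {k | k ∈ J6}) (p7 K c)) :
    Cfsg.Agent.H494.TC.PP ↥(chevE8.group K) := by
  have hall : ∀ g : ↥(chevE8.group K), g ≠ 1 → ∃ u v : ↥(chevE8.group K),
      g = (u * p7 K c * u⁻¹) * (v * p7 K c * v⁻¹) := by
    intro g hg
    obtain ⟨x, v, u, A, z, hv, hu, e, hN⟩ := kick g hg
    obtain ⟨S, X, Y, C, hS, -, hC⟩ := H493.TW.two_block_of_equiv e26 (by norm_num) (A.1 * Matrix.diagonal (dz z))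
      (det_dz A z) ((z : K) ^ 2) hN
    exact cover_of_good hv hu e hS hC hcc n1 n2
  have hx1 : p7 K c ≠ 1 := by
    intro h1
    have hS := Cfsg.Agent.S1054.result (F := K) chevE8 (by simp)
    have := hS.1.toNontrivial
    obtain ⟨g, hg⟩ := exists_ne (1 : ↥(chevE8.group K))
    obtain ⟨u, v, e⟩ := hall g hg
    exact hg (by rw [e, h1]; group)
  have h1 : orderOf (p7 K c) = r := (haveI : Fact r.Prime := ⟨hr⟩
    orderOf_eq_prime (by rw [← map_pow, hc, map_one]) hx1)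
  exact ⟨p7 K c, by rw [h1]; exact hr, by rw [h1]; exact hr6, hall⟩

end Cfsg.Agent.H122.SX.E127
end

-- part: H240/TW/KickA
section
/-!
# The kick by a simple root element, abstract part (helper240, S2452, `E₈(q)`)

* `gauss_kick` : for a node `i ∉ J` and `κ ∈ T` not centralising `X_{α_i}`: every `g` outside the core is conjugate to
  `v m u`, `v ∈ V_J⁻`, `u ∈ V_J`, `m = L κ U`, and for every `z ≠ 0, 1` also to some `v' (h_i(z) n m) u'` with
  `n ∈ U_J⁻` (or to some `v' (m n h_i(z)) u'` with `n ∈ U_J`).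
-/

set_option autoImplicit false
set_option linter.unusedSectionVars false

namespace Cfsg.Agent.H240.TW

open CoxeterSystem Cfsg.Agent.ChevalleyStructure.CoxeterGeom Cfsg.Agent.Tits.Roots Cfsg.Agent.Tits.Core
  Cfsg.Agent.Tits.RootComb Cfsg.Agent.Tits.Exchange Cfsg.Agent.Nodes.Comb Cfsg.Agent.Nodes.Reps
  Cfsg.Agent.Nodes.BNOf Cfsg.Agent.Nodes.StabComb
  Cfsg.Agent.Nodes.RGDLib Cfsg.Agent.Nodes.Bruhat Cfsg.Agent.Nodes.OppDec Cfsg.Agent.Nodes.LeviDec
  Cfsg.Agent.OddHalf.NI.Mult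
  Cfsg.Agent.H162.GaussComb Cfsg.Agent.H162.GaussDec Cfsg.Agent.H162.GaussLevi Cfsg.Agent.H162.GaussSL
  Cfsg.Agent.H928.Ore.Frame
open Cfsg.Agent.FixBN.FieldRGD (uu vv dd ww)

variable {I W Y : Type*} [Fintype I] [DecidableEq I] [Group W] [Group Y] {M : CoxeterMatrix I}
  {cs : CoxeterSystem M W} {A : I → I → ℤ} {h : IsCartan M A} {p : ℕ} {T : Subgroup Y} {n : I → Y}
  {X : (I → ℤ) → Subgroup Y}

theorem eq_sr_of_PosJ {i : I} {x : I → ℤ} (hx : x ∈ PosJ cs h {i}) : x = sr i := by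
  by_contra hne
  obtain ⟨k, hk, h0⟩ := exists_coeff hx.1 hx.2.1 hne
  have h1 := hx.2.2 k hk
  omega

theorem UJ_single_le {i : I} : UJ cs h X {i} ≤ X (sr i) :=
  RGD.Sup_le fun x hx => by rw [eq_sr_of_PosJ hx]

theorem UNJ_single_le {i : I} : UNJ cs h X {i} ≤ X (-sr i) :=
  RGD.Sup_le fun x hx => by rw [← eq_sr_of_PosJ (x := -x) hx, neg_neg]

theorem sr_mem_NotJ {J : Set I} {i : I} (hi : i ∉ J) : sr i ∈ NotJ cs h J :=
  ⟨isRoot_sr cs h i, sr_nonneg i, i, hi, by simp [sr]⟩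

theorem X_le_VJ {J : Set I} {i : I} (hi : i ∉ J) : X (sr i) ≤ VJ cs h X J := RGD.le_Sup (sr_mem_NotJ hi)

theorem XN_le_VNJ {J : Set I} {i : I} (hi : i ∉ J) : X (-sr i) ≤ VNJ cs h X J := by
  refine RGD.le_Sup (S := NotNJ cs h J) ?_
  change - -sr i ∈ NotJ cs h J
  rw [neg_neg]
  exact sr_mem_NotJ hi

theorem PosJ_NotJ {J : Set I} {i : I} (hi : i ∉ J) {x : I → ℤ} (hx : x ∈ PosJ cs h J) : x ∈ NotJ cs h {i} := by
  have hne : x ≠ sr i := by
    rintro rfl
    have h1 := hx.2.2 i hi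
    simp [sr] at h1
  obtain ⟨k, hk, h0⟩ := exists_coeff hx.1 hx.2.1 hne
  exact ⟨hx.1, hx.2.1, k, hk, h0⟩

theorem UJ_le_VJ {J : Set I} {i : I} (hi : i ∉ J) : UJ cs h X J ≤ VJ cs h X {i} :=
  RGD.Sup_mono fun _ hx => PosJ_NotJ hi hx

theorem UNJ_le_VNJ {J : Set I} {i : I} (hi : i ∉ J) : UNJ cs h X J ≤ VNJ cs h X {i} :=
  RGD.Sup_mono fun _ hx => PosJ_NotJ hi hx

theorem sr_RootsJ (i : I) : sr i ∈ RootsJ cs h {i} :=
  ⟨isRoot_sr cs h i, fun k hk => by
    rw [Set.mem_singleton_iff] at hk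
    simp [sr, hk]⟩

theorem X_le_LJ_single (i : I) : X (sr i) ≤ LJ cs h T X {i} := X_le_LJ (sr_RootsJ i)

theorem XN_le_LJ_single (i : I) : X (-sr i) ≤ LJ cs h T X {i} := X_le_LJ (RootsJ.neg (sr_RootsJ i))

variable (R : RGD cs h p T n X)

include R

/-- **Kick from below.** -/
theorem kick_lo {J : Set I} {i : I} (hi : i ∉ J) {v0 m u a a₁ b b₁ t : Y} (hv0 : v0 ∈ VNJ cs h X {i})
    (hm : m ∈ LJ cs h T X J) (hu : u ∈ VJ cs h X J) (ha : a ∈ X (sr i)) (ha₁ : a₁ ∈ X (sr i)) (hb₁ : b₁ ∈ X (-sr i))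
    (ht : t ∈ T) (e : a * b = b₁ * t * a₁) :
    ∃ v ∈ VNJ cs h X J, ∃ k ∈ UNJ cs h X J, ∃ u' ∈ VJ cs h X J,
      a * ((b * v0) * m * u) * a⁻¹ = v * (t * k * m) * u' := by
  have h1 : a₁ * v0 * a₁⁻¹ ∈ VNJ cs h X {i} :=
    (Subgroup.mem_normalizer_iff.1 (LJ_le_normalizer_VNJ R {i} (X_le_LJ_single i ha₁)) v0).1 hv0
  obtain ⟨vP, hvP, k, hk, e1⟩ := exists_UNJ R (J := J) (VNJ_le_UN {i} h1)
  have h2 : t * vP * t⁻¹ ∈ VNJ cs h X J :=
    (Subgroup.mem_normalizer_iff.1 (LJ_le_normalizer_VNJ R J (T_le_LJ ht)) vP).1 hvP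
  have h3 : m⁻¹ * a₁ * m ∈ VJ cs h X J := by
    have h4 := (Subgroup.mem_normalizer_iff.1 (LJ_le_normalizer_VJ R J (inv_mem hm)) a₁).1 (X_le_VJ hi ha₁)
    rwa [inv_inv] at h4
  refine ⟨b₁ * (t * vP * t⁻¹), mul_mem (XN_le_VNJ hi hb₁) h2, k, hk, m⁻¹ * a₁ * m * u * a⁻¹,
    mul_mem (mul_mem h3 hu) (inv_mem (X_le_VJ hi ha)), ?_⟩
  have e2 : v0 = a₁⁻¹ * (vP * k) * a₁ := by rw [← e1]; group
  calc a * (b * v0 * m * u) * a⁻¹ = (a * b) * v0 * m * u * a⁻¹ := by group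
    _ = _ := by rw [e, e2]; group

/-- **Kick from above.** -/
theorem kick_up {J : Set I} {i : I} (hi : i ∉ J) {v m u0 a a₁ b b₁ t : Y} (hv : v ∈ VNJ cs h X J)
    (hm : m ∈ LJ cs h T X J) (hu0 : u0 ∈ VJ cs h X {i}) (hb : b ∈ X (-sr i)) (ha₁ : a₁ ∈ X (sr i)) (hb₁ : b₁ ∈ X (-sr i))
    (ht : t ∈ T) (e : a * b⁻¹ = b₁ * t * a₁) :
    ∃ v' ∈ VNJ cs h X J, ∃ k ∈ UJ cs h X J, ∃ u' ∈ VJ cs h X J,
      b * (v * m * (u0 * a)) * b⁻¹ = v' * (m * k * t) * u' := by
  have h1 : b₁⁻¹ * u0 * b₁ ∈ VJ cs h X {i} := by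
    have h4 := (Subgroup.mem_normalizer_iff.1 (LJ_le_normalizer_VJ R {i} (inv_mem (XN_le_LJ_single i hb₁))) u0).1 hu0
    rwa [inv_inv] at h4
  obtain ⟨k, hk, uP, huP, e1⟩ := (mem_U_iff R (J := J)).1 (VJ_le_U {i} h1)
  have h2 : t⁻¹ * uP * t ∈ VJ cs h X J := by
    have h4 := (Subgroup.mem_normalizer_iff.1 (LJ_le_normalizer_VJ R J (T_le_LJ (inv_mem ht))) uP).1 huP
    rwa [inv_inv] at h4
  have h3 : m * b₁ * m⁻¹ ∈ VNJ cs h X J :=
    (Subgroup.mem_normalizer_iff.1 (LJ_le_normalizer_VNJ R J hm) b₁).1 (XN_le_VNJ hi hb₁)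
  refine ⟨b * v * (m * b₁ * m⁻¹), mul_mem (mul_mem (XN_le_VNJ hi hb) hv) h3, k, hk, t⁻¹ * uP * t * a₁,
    mul_mem h2 (X_le_VJ hi ha₁), ?_⟩
  have e2 : u0 = b₁ * (k * uP) * b₁⁻¹ := by rw [← e1]; group
  calc b * (v * m * (u0 * a)) * b⁻¹ = b * v * m * u0 * (a * b⁻¹) := by group
    _ = _ := by rw [e, e2]; group

variable {F : I → Type*} [∀ i, Field (F i)] {s : ∀ i, Matrix.SpecialLinearGroup (Fin 2) (F i) →* Y}

/-- one of the two simple coordinates is nontrivial -/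
theorem gauss_ne [Finite W] (hG : G1 cs h X = ⊤) (C : Coord X F s)
    (hconn : ∀ J : Set I, J.Nonempty → J ≠ Set.univ → ∃ a ∈ J, ∃ b, b ∉ J ∧ M a b ≠ 2) {g : Y}
    (hg : g ∉ (RGD.B cs h T X).normalCore) {κ : Y} (hκ : κ ∈ T) {i : I} {a : Y} (ha : a ∈ X (sr i))
    (hne : κ⁻¹ * a * κ ≠ a) :
    ∃ x : Y, ∃ w ∈ VNJ cs h X {i}, ∃ β ∈ X (-sr i), ∃ α ∈ X (sr i), ∃ w' ∈ VJ cs h X {i},
      x * g * x⁻¹ = (w * β) * κ * (α * w') ∧ (β ≠ 1 ∨ α ≠ 1) := by
  obtain ⟨x, v, hv, u, hu, e⟩ := Cfsg.Agent.H122.SX.gauss_h R hG C hconn hg hκ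
  obtain ⟨w, hw, β, hβ, rfl⟩ := exists_UNJ R (J := {i}) hv
  obtain ⟨α, hα, w', hw', rfl⟩ := (mem_U_iff R (J := {i})).1 hu
  by_cases hβ1 : β ≠ 1
  · exact ⟨x, w, hw, β, UNJ_single_le hβ, α, UJ_single_le hα, w', hw', e, Or.inl hβ1⟩
  by_cases hα1 : α ≠ 1
  · exact ⟨x, w, hw, β, UNJ_single_le hβ, α, UJ_single_le hα, w', hw', e, Or.inr hα1⟩
  push Not at hβ1 hα1
  subst hβ1 hα1
  have hcon : κ⁻¹ * a * κ ∈ X (sr i) := by
    have h1 := R.T_le_normalizer (S := {sr i}) (fun _ hx => by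
      rw [Set.mem_singleton_iff] at hx
      rw [hx]
      exact isRoot_sr cs h i) (inv_mem hκ)
    have h2 : RGD.Sup X {sr i} = X (sr i) := by
      refine le_antisymm (RGD.Sup_le fun x hx => ?_) (RGD.le_Sup rfl)
      rw [Set.mem_singleton_iff] at hx
      rw [hx]
    rw [h2] at h1
    have h3 := (Subgroup.mem_normalizer_iff.1 h1 a).1 ha
    rwa [inv_inv] at h3
  refine ⟨a * x, a * w * a⁻¹, (Subgroup.mem_normalizer_iff.1 (LJ_le_normalizer_VNJ R {i} (X_le_LJ_single i ha)) w).1 hw,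
    1, one_mem _, κ⁻¹ * a * κ * a⁻¹, mul_mem hcon (inv_mem ha), a * w' * a⁻¹,
    (Subgroup.mem_normalizer_iff.1 (LJ_le_normalizer_VJ R {i} (X_le_LJ_single i ha)) w').1 hw', ?_, Or.inr ?_⟩
  · calc a * x * g * (a * x)⁻¹ = a * (x * g * x⁻¹) * a⁻¹ := by group
      _ = _ := by rw [e]; group
  · intro h1
    exact hne (mul_inv_eq_one.1 h1)

omit R in
theorem sl_kick {F : Type*} [Field F] {σ c z : F} (hz : z ≠ 0) (e : 1 + σ * c = z) :
    uu σ * vv c = vv (c / z) * dd z hz * uu (σ / z) := by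
  apply Subtype.ext
  change !![1, σ; 0, 1] * !![1, 0; c, 1] = !![1, 0; c / z, 1] * !![z, 0; 0, z⁻¹] * !![1, σ / z; 0, 1]
  rw [Matrix.mul_fin_two, Matrix.mul_fin_two, Matrix.mul_fin_two]
  have h1 : z * (σ / z) = σ := by field_simp
  have h2 : c / z * z = c := by field_simp
  have h3 : c * (σ / z) + z⁻¹ = 1 := by
    field_simp
    linear_combination e
  ext i j
  fin_cases i <;> fin_cases j
  · simp only [e, _root_.mul_one, _root_.MulZeroClass.mul_zero, _root_.zero_add, _root_.one_mul, _root_.Fin.zero_eta, _root_.Fin.isValue, _root_.Matrix.of_apply, _root_.Matrix.cons_val', _root_.Matrix.cons_val_zero, _root_.Matrix.cons_val_fin_one, _root_.add_zero, _root_.MulZeroClass.zero_mul]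
  · simp only [h1, _root_.mul_one, _root_.MulZeroClass.mul_zero, _root_.zero_add, _root_.one_mul, _root_.Fin.zero_eta, _root_.Fin.isValue, _root_.Fin.mk_one, _root_.Matrix.of_apply, _root_.Matrix.cons_val', _root_.Matrix.cons_val_one, _root_.Matrix.cons_val_fin_one, _root_.Matrix.cons_val_zero, _root_.add_zero, _root_.MulZeroClass.zero_mul]
  · simp [h2]
  · simp [h2, h3]

/-- **The kick.** -/
theorem gauss_kick [Finite W] (hG : G1 cs h X = ⊤) (C : Coord X F s)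
    (hconn : ∀ J : Set I, J.Nonempty → J ≠ Set.univ → ∃ a ∈ J, ∃ b, b ∉ J ∧ M a b ≠ 2) {g : Y}
    (hg : g ∉ (RGD.B cs h T X).normalCore) {κ : Y} (hκ : κ ∈ T) {i : I} {a : Y} (ha : a ∈ X (sr i))
    (hne : κ⁻¹ * a * κ ≠ a) {J : Set I} (hi : i ∉ J) (hT : ∀ z (hz : z ≠ 0), s i (dd z hz) ∈ T) :
    ∃ L ∈ UNJ cs h X J, ∃ U ∈ UJ cs h X J,
      (∃ x, ∃ v ∈ VNJ cs h X J, ∃ u ∈ VJ cs h X J, x * g * x⁻¹ = v * (L * κ * U) * u) ∧
      ((∀ z (hz : z ≠ 0), z ≠ 1 → ∃ x, ∃ v ∈ VNJ cs h X J, ∃ k ∈ UNJ cs h X J, ∃ u ∈ VJ cs h X J,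
          x * g * x⁻¹ = v * (s i (dd z hz) * k * (L * κ * U)) * u) ∨
        ∀ z (hz : z ≠ 0), z ≠ 1 → ∃ x, ∃ v ∈ VNJ cs h X J, ∃ k ∈ UJ cs h X J, ∃ u ∈ VJ cs h X J,
          x * g * x⁻¹ = v * ((L * κ * U) * k * s i (dd z hz)) * u) := by
  obtain ⟨x, w, hw, β, hβ, α, hα, w', hw', e, hor⟩ := gauss_ne R hG C hconn hg hκ ha hne
  have hv : w * β ∈ UN cs h X := mul_mem (VNJ_le_UN {i} hw) (RGD.le_Sup (S := {x | IsRoot cs h x ∧ x ≤ 0})
    ⟨(isRoot_sr cs h i).neg, neg_nonpos.2 (sr_nonneg i)⟩ hβ)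
  have hu : α * w' ∈ RGD.Sup X (RGD.Pos cs h) := mul_mem (RGD.le_Sup (S := RGD.Pos cs h)
    ⟨isRoot_sr cs h i, sr_nonneg i⟩ hα) (VJ_le_U {i} hw')
  obtain ⟨vP, hvP, L, hL, e1⟩ := exists_UNJ R (J := J) hv
  obtain ⟨U, hU, uP, huP, e2⟩ := (mem_U_iff R (J := J)).1 hu
  have hLL : L ∈ LJ cs h T X J := (RGD.Sup_le fun z hz => by
    have := X_le_LJ (T := T) (X := X) (RootsJ.neg (PosJ_subset J hz))
    rwa [neg_neg] at this : UNJ cs h X J ≤ LJ cs h T X J) hL
  have hUL : U ∈ LJ cs h T X J := (RGD.Sup_le fun z hz => X_le_LJ (PosJ_subset J hz) : UJ cs h X J ≤ LJ cs h T X J) hU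
  have hm : L * κ * U ∈ LJ cs h T X J := mul_mem (mul_mem hLL (T_le_LJ hκ)) hUL
  have e3 : x * g * x⁻¹ = vP * (L * κ * U) * uP := by
    rw [e, e1, e2]
    group
  refine ⟨L, hL, U, hU, ⟨x, vP, hvP, uP, huP, e3⟩, ?_⟩
  rcases hor with h1 | h1
  · left
    intro z hz hz1
    obtain ⟨c, hc⟩ : ∃ c, s i (vv c) = β := by
      have h2 : β ∈ (X (-sr i) : Set Y) := hβ
      rw [C.lo i] at h2
      exact h2
    have hc0 : c ≠ 0 := by
      rintro rfl
      refine h1 ?_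
      rw [← hc]
      have h3 : (vv (0 : F i)) = 1 := by
        apply Subtype.ext
        change !![1, 0; 0, 1] = (1 : Matrix (Fin 2) (Fin 2) (F i))
        exact Matrix.one_fin_two.symm
      rw [h3, map_one]
    -- `vP = β v0`
    have hw1 : β⁻¹ * w * β ∈ VNJ cs h X {i} := by
      have h4 := (Subgroup.mem_normalizer_iff.1 (LJ_le_normalizer_VNJ R {i} (inv_mem (XN_le_LJ_single i hβ))) w).1 hw
      rwa [inv_inv] at h4
    have hv0 : β⁻¹ * w * β * L⁻¹ ∈ VNJ cs h X {i} := mul_mem hw1 (inv_mem (UNJ_le_VNJ hi hL))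
    have e4 : vP = β * (β⁻¹ * w * β * L⁻¹) := by
      calc vP = (vP * L) * L⁻¹ := by group
        _ = _ := by rw [← e1]; group
    have hs := sl_kick (σ := (z - 1) / c) (c := c) hz (by field_simp; ring)
    have hs' := congrArg (s i) hs
    simp only [map_mul] at hs'
    rw [hc] at hs'
    obtain ⟨v, hv, k, hk, u', hu', e5⟩ := kick_lo R hi hv0 hm huP (a := s i (uu ((z - 1) / c)))
      (a₁ := s i (uu ((z - 1) / c / z))) (b := β) (b₁ := s i (vv (c / z))) (t := s i (dd z hz))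
      (by
        have h2 : s i (uu ((z - 1) / c)) ∈ (X (sr i) : Set Y) := by rw [C.up i]; exact ⟨_, rfl⟩
        exact h2)
      (by
        have h2 : s i (uu ((z - 1) / c / z)) ∈ (X (sr i) : Set Y) := by rw [C.up i]; exact ⟨_, rfl⟩
        exact h2)
      (by
        have h2 : s i (vv (c / z)) ∈ (X (-sr i) : Set Y) := by rw [C.lo i]; exact ⟨_, rfl⟩
        exact h2) (hT z hz) hs'
    refine ⟨s i (uu ((z - 1) / c)) * x, v, hv, k, hk, u', hu', ?_⟩
    rw [← e5, ← e4, ← e3]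
    group
  · right
    intro z hz hz1
    obtain ⟨d, hd⟩ : ∃ d, s i (uu d) = α := by
      have h2 : α ∈ (X (sr i) : Set Y) := hα
      rw [C.up i] at h2
      exact h2
    have hd0 : d ≠ 0 := by
      rintro rfl
      refine h1 ?_
      rw [← hd]
      have h3 : (uu (0 : F i)) = 1 := by
        apply Subtype.ext
        change !![1, 0; 0, 1] = (1 : Matrix (Fin 2) (Fin 2) (F i))
        exact Matrix.one_fin_two.symm
      rw [h3, map_one]
    have hw1 : α * w' * α⁻¹ ∈ VJ cs h X {i} :=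
      (Subgroup.mem_normalizer_iff.1 (LJ_le_normalizer_VJ R {i} (X_le_LJ_single i hα)) w').1 hw'
    have hu0 : U⁻¹ * (α * w' * α⁻¹) ∈ VJ cs h X {i} := mul_mem (inv_mem (UJ_le_VJ hi hU)) hw1
    have e4 : uP = U⁻¹ * (α * w' * α⁻¹) * α := by
      calc uP = U⁻¹ * (U * uP) := by group
        _ = _ := by rw [← e2]; group
    have hs := sl_kick (σ := d) (c := -((1 - z) / d)) hz (by field_simp; ring)
    have hs' := congrArg (s i) hs
    simp only [map_mul] at hs'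
    have hvn : s i (vv (-((1 - z) / d))) = (s i (vv ((1 - z) / d)))⁻¹ := by
      rw [← map_inv]
      congr 1
      rw [eq_inv_iff_mul_eq_one]
      apply Subtype.ext
      change !![1, 0; -((1 - z) / d), 1] * !![1, 0; (1 - z) / d, 1] = (1 : Matrix (Fin 2) (Fin 2) (F i))
      rw [Matrix.mul_fin_two, Matrix.one_fin_two]
      simp
    rw [hd, hvn] at hs'
    obtain ⟨v', hv', k, hk, u', hu', e5⟩ := kick_up R hi hvP hm hu0 (a := α)
      (a₁ := s i (uu (d / z))) (b := s i (vv ((1 - z) / d))) (b₁ := s i (vv (-((1 - z) / d) / z))) (t := s i (dd z hz))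
      (by
        have h2 : s i (vv ((1 - z) / d)) ∈ (X (-sr i) : Set Y) := by rw [C.lo i]; exact ⟨_, rfl⟩
        exact h2)
      (by
        have h2 : s i (uu (d / z)) ∈ (X (sr i) : Set Y) := by rw [C.up i]; exact ⟨_, rfl⟩
        exact h2)
      (by
        have h2 : s i (vv (-((1 - z) / d) / z)) ∈ (X (-sr i) : Set Y) := by rw [C.lo i]; exact ⟨_, rfl⟩
        exact h2) (hT z hz) hs'
    refine ⟨s i (vv ((1 - z) / d)) * x, v', hv', k, hk, u', hu', ?_⟩
    rw [← e5, ← e4, ← e3]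
    group

end Cfsg.Agent.H240.TW
end

-- part: H376/TW/Tri
section
/-!
# Triangular kicks (helper376, for S2452, row E8(q); the pure matrix part of helper240's step (4))

`m` an invertible matrix `μ + (rank ≤ 1)`, `N` lower triangular with diagonal `(1, 1, 1, z, ..., z)`, `z ≠ 0, 1`: then
`N m - μ₁` has rank at least two for every `μ₁`.
-/

set_option autoImplicit false

namespace Cfsg.Agent.H376.TW

open Matrix

variable {K : Type*} [Field K]

/-- a matrix of rank at most one is `u φ` -/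
theorem exists_vecMulVec_le {m n : ℕ} (A : Matrix (Fin m) (Fin n) K) (h : A.rank ≤ 1) :
    ∃ (u : Fin m → K) (φ : Fin n → K), A = vecMulVec u φ := by
  rcases Nat.le_one_iff_eq_zero_or_eq_one.1 h with h0 | h1
  · refine ⟨0, 0, ?_⟩
    rw [Matrix.rank] at h0
    have h1 : A.mulVecLin.range = ⊥ := Submodule.finrank_eq_zero.1 h0
    rw [LinearMap.range_eq_bot] at h1
    ext i j
    have h2 := congrFun (LinearMap.congr_fun h1 (Pi.single j 1)) i
    rw [mulVecLin_apply, mulVec_single_one] at h2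
    rw [vecMulVec_apply, Pi.zero_apply, zero_mul]
    exact h2
  · obtain ⟨u, φ, -, -, h⟩ := Cfsg.Agent.H376.TL.exists_vecMulVec A h1
    exact ⟨u, φ, h⟩

/-- two equations in three unknowns -/
theorem det_eq_zero_of_two {u₁ φ₁ u₂ φ₂ : Fin 3 → K} : (vecMulVec u₁ φ₁ + vecMulVec u₂ φ₂).det = 0 := by
  have h1 : LinearMap.ker (Matrix.mulVecLin (Matrix.of ![φ₁, φ₂])) ≠ ⊥ := by
    apply LinearMap.ker_ne_bot_of_finrank_lt
    rw [Module.finrank_fin_fun, Module.finrank_fin_fun]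
    omega
  obtain ⟨w, hw, hw0⟩ := Submodule.exists_mem_ne_zero_of_ne_bot h1
  rw [LinearMap.mem_ker, mulVecLin_apply] at hw
  have e1 : φ₁ ⬝ᵥ w = 0 := congrFun hw 0
  have e2 : φ₂ ⬝ᵥ w = 0 := congrFun hw 1
  rw [← exists_mulVec_eq_zero_iff]
  refine ⟨w, hw0, ?_⟩
  rw [add_mulVec, vecMulVec_mulVec, vecMulVec_mulVec, e1, e2, MulOpposite.op_zero, zero_smul, zero_smul, add_zero]

/-- a lower triangular matrix with three nonzero diagonal entries has rank at least three -/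
theorem tri_ne {n : ℕ} (T : Matrix (Fin n) (Fin n) K) (hT : ∀ i j, i < j → T i j = 0) (e : Fin 3 → Fin n)
    (he : StrictMono e) (hd : ∀ a, T (e a) (e a) ≠ 0) (u₁ φ₁ u₂ φ₂ : Fin n → K) :
    T ≠ vecMulVec u₁ φ₁ + vecMulVec u₂ φ₂ := by
  intro h
  have h1 : (T.submatrix e e).det = 0 := by
    rw [h]
    exact det_eq_zero_of_two (u₁ := u₁ ∘ e) (φ₁ := φ₁ ∘ e) (u₂ := u₂ ∘ e) (φ₂ := φ₂ ∘ e)
  have h2 : (T.submatrix e e).BlockTriangular OrderDual.toDual := by
    intro i j hij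
    exact hT _ _ (he hij)
  rw [det_of_lowerTriangular _ h2] at h1
  obtain ⟨a, -, ha⟩ := Finset.prod_eq_zero_iff.1 h1
  exact hd a ha

theorem tri_good {z : K} (hz1 : z ≠ 1) (N m : Matrix (Fin 8) (Fin 8) K)
    (hN : ∀ i j, i < j → N i j = 0) (hd1 : ∀ i : Fin 8, i.val < 3 → N i i = 1) (hd2 : ∀ i : Fin 8, 3 ≤ i.val → N i i = z)
    (hm : m.det ≠ 0) {μ : K} (hb : (m - Matrix.scalar (Fin 8) μ).rank ≤ 1) (μ₁ : K) :
    2 ≤ (N * m - Matrix.scalar (Fin 8) μ₁).rank := by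
  by_contra hcon
  obtain ⟨u, φ, hu⟩ := exists_vecMulVec_le _ hb
  obtain ⟨u₁, φ₁, hu₁⟩ := exists_vecMulVec_le _ (by omega : (N * m - Matrix.scalar (Fin 8) μ₁).rank ≤ 1)
  have hm' : m = μ • (1 : Matrix (Fin 8) (Fin 8) K) + vecMulVec u φ := by
    rw [← hu, scalar_apply, smul_one_eq_diagonal]
    abel
  have hμ : μ ≠ 0 := by
    rintro rfl
    apply hm
    rw [hm', zero_smul, zero_add, det_vecMulVec]
  have key : μ • N - Matrix.scalar (Fin 8) μ₁ = vecMulVec u₁ φ₁ + vecMulVec (-(N *ᵥ u)) φ := by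
    rw [← hu₁, hm', Matrix.mul_add, Matrix.mul_smul, Matrix.mul_one, mul_vecMulVec, neg_vecMulVec]
    abel
  have hT : ∀ i j : Fin 8, i < j → (μ • N - Matrix.scalar (Fin 8) μ₁) i j = 0 := by
    intro i j hij
    rw [Matrix.sub_apply, Matrix.smul_apply, hN i j hij, scalar_apply, diagonal_apply_ne _ hij.ne, smul_zero, sub_zero]
  have hD : ∀ i : Fin 8, (μ • N - Matrix.scalar (Fin 8) μ₁) i i = μ * N i i - μ₁ := by
    intro i
    rw [Matrix.sub_apply, Matrix.smul_apply, scalar_apply, diagonal_apply_eq, smul_eq_mul]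
  by_cases h1 : μ = μ₁
  · have h2 : μ * z - μ₁ ≠ 0 := by
      rw [← h1]
      intro h3
      have : μ * (z - 1) = 0 := by linear_combination h3
      rcases mul_eq_zero.1 this with h4 | h4
      · exact hμ h4
      · exact hz1 (sub_eq_zero.1 h4)
    refine tri_ne _ hT ![3, 4, 5] ?_ ?_ _ _ _ _ key
    · intro a b hab
      fin_cases a <;> fin_cases b <;> first | exact absurd hab (by decide) | decide
    · intro a
      have h5 : 3 ≤ (![(3 : Fin 8), 4, 5] a).val := by fin_cases a <;> decide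
      rw [hD, hd2 _ h5]
      exact h2
  · have h2 : μ * 1 - μ₁ ≠ 0 := by rw [mul_one]; exact sub_ne_zero.2 h1
    refine tri_ne _ hT ![0, 1, 2] ?_ ?_ _ _ _ _ key
    · intro a b hab
      fin_cases a <;> fin_cases b <;> first | exact absurd hab (by decide) | decide
    · intro a
      have h5 : (![(0 : Fin 8), 1, 2] a).val < 3 := by fin_cases a <;> decide
      rw [hD, hd1 _ h5]
      exact h2

/-- the mirror: `m N` with `N` upper triangular -/
theorem tri_good' {z : K} (hz1 : z ≠ 1) (N m : Matrix (Fin 8) (Fin 8) K)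
    (hN : ∀ i j, j < i → N i j = 0) (hd1 : ∀ i : Fin 8, i.val < 3 → N i i = 1) (hd2 : ∀ i : Fin 8, 3 ≤ i.val → N i i = z)
    (hm : m.det ≠ 0) {μ : K} (hb : (m - Matrix.scalar (Fin 8) μ).rank ≤ 1) (μ₁ : K) :
    2 ≤ (m * N - Matrix.scalar (Fin 8) μ₁).rank := by
  have hs : ∀ c : K, (Matrix.scalar (Fin 8) c)ᵀ = Matrix.scalar (Fin 8) c := by
    intro c
    rw [scalar_apply, diagonal_transpose]
  have h := tri_good hz1 Nᵀ mᵀ (fun i j hij => hN j i hij) hd1 hd2 (by rwa [det_transpose]) (μ := μ)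
    (by rw [← hs, ← transpose_sub, rank_transpose]; exact hb) μ₁
  rwa [← transpose_mul, ← hs, ← transpose_sub, rank_transpose] at h

end Cfsg.Agent.H376.TW
end

-- part: H240/TW/Kick
section
/-!
# The kick by `x_{α₂}(s)` in `E₈(q)`, `q ≥ 3` (helper240, S2452)

* `kick` : every `g ≠ 1` of `E₈(q)`, `q ≥ 3`, is conjugate to `v (φ₈(A) h_{α₂}(z)) u` with `v`, `u` in the unipotent
  radicals of the opposite parabolic subgroups of type `A₇` and `A diag(1, 1, 1, z, …, z) - μ` of rank at least two for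
  every `μ`.
-/

set_option autoImplicit false
set_option linter.unusedSectionVars false

namespace Cfsg.Agent.H240.TW

open CoxeterSystem Cfsg.Agent.ChevalleyStructure.CoxeterGeom Cfsg.Agent.Tits.Roots Cfsg.Agent.Tits.Core
  Cfsg.Agent.Nodes.Reps Cfsg.Agent.Nodes.BNOf Cfsg.Agent.Nodes.RGDLib Cfsg.Agent.Nodes.Bruhat
  Cfsg.Agent.Nodes.OppDec Cfsg.Agent.Nodes.LeviDec Cfsg.Agent.Nodes.KindChev Cfsg.Agent.Nodes.ChevCls
  Cfsg.Agent.OddHalf.NI.ModelChev Cfsg.Agent.Nodes.StabComb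
  Cfsg.Agent.H162.GaussDec Cfsg.Agent.H162.GaussLevi Cfsg.Agent.H162.GaussSL Cfsg.Agent.H162.GaussReg
  Cfsg.Agent.H162.GaussPQ
  Cfsg.Agent.H928.Ore.Frame
open Cfsg.Lie Cfsg.Agent.ChevalleyStructure Cfsg.Agent.ChevalleyStructure.Elts
  Cfsg.Agent.ChevalleyStructure.RootVec Cfsg.Agent.ChevalleyStructure.NPerm
  Cfsg.Agent.ChevalleyStructure.CoxeterGeomTypes Cfsg.Agent.Nodes.RGDChev Cfsg.Agent.KFacts.RgdChevCoord
open Cfsg.Agent.FixBN.FieldRGD (uu vv dd ww)
open Cfsg.Agent.TitsThree.KExcRT Cfsg.Agent.AGraded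
open Cfsg.Agent.H78.Pw Cfsg.Agent.H85.Pw Cfsg.Agent.H194.Pw
open Cfsg.Agent.H150.E6T (le_of_gen)
open Cfsg.Agent.H162.GaussExc (coord act_sg sg_mem)
open Cfsg.Agent.H122.Pw Cfsg.Agent.H122.SX Cfsg.Agent.H122.SX.E127
open scoped MatrixGroups

universe u

theorem r23 : r8 2 3 = chevE8.simple 3 ∧ r8 3 2 = chevE8.neg (chevE8.simple 3) := by decide +kernel

theorem c31 : chevE8.cartan 3 (chevE8.simple 1) = -1 := by decide +kernel

theorem not1 : (1 : Fin 8) ∉ ({k | k ∈ J7} : Set (Fin 8)) := by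
  intro h
  exact absurd (show (1 : Fin 8) ∈ J7 from h) (by decide)

variable {K : Type u} [Field K]

theorem sg_eq (i : Fin 8) (z : Kˣ) : Cfsg.Agent.H162.GaussExc.sg hp8 (Pi.single i 1) z = sl hp8 i (dd (z : K) z.ne_zero) := by
  have h3 : (fun k : Fin 8 => z ^ ((Pi.single i 1 : Fin 8 → ℤ) k)) = Pi.mulSingle i z := by
    funext k
    by_cases hk : k = i
    · subst hk
      rw [Pi.single_eq_same, Pi.mulSingle_eq_same, zpow_one]
    · rw [Pi.single_eq_of_ne hk, Pi.mulSingle_eq_of_ne hk, zpow_zero]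
  rw [Cfsg.Agent.H162.GaussExc.sg, h3, th_mulSingle]

theorem hz_eq (z : Kˣ) : hz z = sl hp8 1 (dd (z : K) z.ne_zero) := sg_eq 1 z

theorem hz_one : hz (1 : Kˣ) = 1 := by
  rw [hz, Cfsg.Agent.H162.GaussExc.sg]
  have h : (fun k : Fin 8 => (1 : Kˣ) ^ ((Pi.single 1 1 : Fin 8 → ℤ) k)) = 1 := by
    funext k
    rw [one_zpow]
    rfl
  rw [h, map_one]

theorem dz_one : dz (1 : Kˣ) = 1 := by
  funext i
  (revert i; simp only [dz, _root_.Fin.forall_fin_succ, _root_.Units.val_one, _root_.Pi.one_apply, Fin.isValue, _root_.Matrix.cons_val_zero, _root_.Matrix.cons_val_succ, _root_.Matrix.cons_val_fin_one, _root_.implies_true, _root_.and_self])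

/-- the torus element of the fourth node lies in the block -/
theorem exists_kappa (z : Kˣ) : ∃ A : Matrix.SpecialLinearGroup (Fin 8) K,
    p8 K A = Cfsg.Agent.H162.GaussExc.sg hp8 (Pi.single 3 1) z := by
  have h1 : (sl hp8 (K := K) 3).range ≤ (p8 K).range := by
    rw [range_sl]
    refine sup_le ?_ ?_
    · intro y hy
      rw [← vec_simple hp8 3] at hy
      have hy' : y ∈ XX chevE8 8 K (vec chevE8 8 (r8 2 3)) := by rw [r23.1]; exact hy
      obtain ⟨c, rfl⟩ := (mem_XX hp8 (rt8.1 2 3 (by decide)) y).1 hy'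
      refine ⟨Matrix.SpecialLinearGroup.transvection (by decide : (2 : Fin 8) ≠ 3) ((s8 2 3 : K) * c), ?_⟩
      rw [p8_tv, ← mul_assoc, ← Int.cast_mul, rt8.2.2.2.1, Int.cast_one, one_mul]
    · intro y hy
      have h0 := simple_lt hp8.inList (lt_rank hp8 3)
      rw [← vec_simple hp8 3, ← vec_neg hp8 h0] at hy
      have hy' : y ∈ XX chevE8 8 K (vec chevE8 8 (r8 3 2)) := by rw [r23.2]; exact hy
      obtain ⟨c, rfl⟩ := (mem_XX hp8 (rt8.1 3 2 (by decide)) y).1 hy'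
      refine ⟨Matrix.SpecialLinearGroup.transvection (by decide : (3 : Fin 8) ≠ 2) ((s8 3 2 : K) * c), ?_⟩
      rw [p8_tv, ← mul_assoc, ← Int.cast_mul, rt8.2.2.2.1, Int.cast_one, one_mul]
  rw [sg_eq]
  exact h1 ⟨_, rfl⟩

theorem kappa_ne {z : Kˣ} (hz : z ≠ 1) :
    (Cfsg.Agent.H162.GaussExc.sg hp8 (Pi.single 3 1) z)⁻¹ * xc hp8 (sr 1) (1 : K) *
      Cfsg.Agent.H162.GaussExc.sg hp8 (Pi.single 3 1) z ≠ xc hp8 (sr 1) 1 := by
  obtain ⟨κ, hκ⟩ : ∃ κ, κ = Cfsg.Agent.H162.GaussExc.sg hp8 (Pi.single 3 1) z := ⟨_, rfl⟩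
  have h0 := simple_lt hp8.inList (lt_rank hp8 1)
  have h1 := act_sg hp8 (Pi.single 3 1) z h0 (1 : K)
  rw [← hκ, vec_simple hp8 1] at h1
  rw [← hκ]
  intro h2
  have h3 : κ * xc hp8 (sr 1) (1 : K) * κ⁻¹ = xc hp8 (sr 1) 1 := by
    calc κ * xc hp8 (sr 1) (1 : K) * κ⁻¹ = κ * (κ⁻¹ * xc hp8 (sr 1) (1 : K) * κ) * κ⁻¹ := by rw [h2]
      _ = _ := by group
  rw [h1, ← vec_simple hp8 1] at h3
  have h4 := xc_inj hp8 h0 h3
  have h5 : ∑ i : Fin 8, (Pi.single 3 1 : Fin 8 → ℤ) i * chevE8.cartan (i : ℕ) (chevE8.simple ((1 : Fin 8) : ℕ)) = -1 := by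
    rw [Finset.sum_eq_single 3]
    · rw [Pi.single_eq_same, one_mul]
      exact c31
    · intro i _ hi
      rw [Pi.single_eq_of_ne hi, zero_mul]
    · intro h
      exact absurd (Finset.mem_univ _) h
  rw [h5, mul_one, zpow_neg_one] at h4
  apply hz
  have h6 : z⁻¹ = 1 := Units.ext h4
  exact inv_eq_one.1 h6

/-- **The kick.** -/
theorem kick [Finite K] (h3 : 3 ≤ Nat.card K) {g : ↥(chevE8.group K)} (hg : g ≠ 1) :
    ∃ (x : ↥(chevE8.group K)) (z : Kˣ) (A : Matrix.SpecialLinearGroup (Fin 8) K),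
      ∃ v ∈ VNJ cs8 hp8.isCartan (XX chevE8 8 K) {k | k ∈ J7}, ∃ u ∈ VJ cs8 hp8.isCartan (XX chevE8 8 K) {k | k ∈ J7},
        x * g * x⁻¹ = v * (p8 K A * hz z) * u ∧
        ∀ μ : K, 2 ≤ (A.1 * Matrix.diagonal (dz z) - Matrix.scalar (Fin 8) μ).rank := by
  have hS := Cfsg.Agent.S1054.result (F := K) chevE8 (by simp)
  obtain ⟨p, hpc⟩ := CharP.exists K
  have : Fact p.Prime := ⟨(CharP.char_is_prime_or_zero K p).resolve_right (CharP.char_ne_zero_of_finite K p)⟩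
  have := finite_W hp8 cs8
  have : Nonempty (Fin 8) := ⟨0⟩
  have R := rgd (K := K) hp8 cs8 p
  obtain ⟨ζ, hζ⟩ : ∃ ζ : Kˣ, ζ ≠ 1 := by
    have h4 : 1 < Nat.card Kˣ := by rw [Nat.card_units]; omega
    have : Nontrivial Kˣ := (Finite.one_lt_card_iff_nontrivial).1 h4
    exact exists_ne 1
  obtain ⟨A0, hA0⟩ := exists_kappa (K := K) ζ
  have hκ : p8 K A0 ∈ TT chevE8 K := by rw [hA0]; exact sg_mem hp8 _ _
  have ha : xc hp8 (sr 1) (1 : K) ∈ XX chevE8 8 K (sr 1) := by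
    have h0 := simple_lt hp8.inList (lt_rank hp8 1)
    rw [← vec_simple hp8 1]
    exact (mem_XX hp8 h0 _).2 ⟨1, rfl⟩
  obtain ⟨_, hL, _, hU, ⟨x, v, hv, u, hu, e⟩, hor⟩ := gauss_kick R (G1_eq_top hp8 _) (coord hp8)
    (Cfsg.Agent.Nodes.ChevChart.irr_of Cfsg.Agent.Nodes.ChevChart.irr8)
    (Cfsg.Agent.H224.Ore.Row.not_mem_core (by norm_num) hS.1 p hp8 hg) hκ ha
    (by rw [hA0]; exact kappa_ne hζ) (J := {k | k ∈ J7}) not1
    (fun z hz => by
      rw [sl_dd]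
      exact hc_mem hp8 1 hz)
  obtain ⟨L, hL, rfl⟩ := (pc7 K).exists_lo sub7 hL
  obtain ⟨U, hU, rfl⟩ := (pc7 K).exists_up sub7 hU
  obtain ⟨A, hA⟩ : ∃ A, A = L * A0 * U := ⟨_, rfl⟩
  have hA' : p8 K L * p8 K A0 * p8 K U = p8 K A := by rw [hA, map_mul, map_mul]
  rw [hA'] at e
  by_cases hgood : ∀ μ : K, 2 ≤ (A.1 - Matrix.scalar (Fin 8) μ).rank
  · refine ⟨x, 1, A, v, hv, u, hu, ?_, fun μ => ?_⟩
    · rw [hz_one, mul_one]
      exact e
    · rw [dz_one]
      have h1 : Matrix.diagonal (1 : Fin 8 → K) = 1 := Matrix.diagonal_one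
      rw [h1, Matrix.mul_one]
      exact hgood μ
  push Not at hgood
  obtain ⟨μ, hμ⟩ := hgood
  have hdet : A.1.det ≠ 0 := by
    have := A.2
    rw [this]
    exact one_ne_zero
  have hζ1 : (ζ : K) ≠ 1 := fun h => hζ (Units.ext h)
  have hd1 : ∀ i : Fin 8, i.val < 3 → dz ζ i = 1 := by
    intro i hi
    fin_cases i <;> first | rfl | exact absurd hi (by decide)
  have hd2 : ∀ i : Fin 8, 3 ≤ i.val → dz ζ i = ζ := by
    intro i hi
    fin_cases i <;> first | exact absurd hi (by decide) | rfl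
  rcases hor with hor | hor
  · obtain ⟨x, v, hv, _, hk, u, hu, e⟩ := hor ζ ζ.ne_zero hζ1
    obtain ⟨N, hN, rfl⟩ := (pc7 K).exists_lo sub7 hk
    refine ⟨x, ζ, Dz ζ (N * A), v, hv, u, hu, ?_, fun μ₁ => ?_⟩
    · rw [e, hA', ← hz_eq, ← hz_p8, map_mul]
      group
    · have h1 : (Dz ζ (N * A)).1 * Matrix.diagonal (dz ζ) = Matrix.diagonal (dz ζ) * N.1 * A.1 := by
        rw [Dz_val]
        change Matrix.diagonal (dz ζ) * (N.1 * A.1) * Matrix.diagonal (dz ζ⁻¹) * Matrix.diagonal (dz ζ) = _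
        rw [Matrix.mul_assoc, dz_mul', Matrix.mul_one, Matrix.mul_assoc]
      rw [h1]
      refine Cfsg.Agent.H376.TW.tri_good hζ1 _ _ (fun i j hij => ?_) (fun i hi => ?_) (fun i hi => ?_) hdet
        (by omega : (A.1 - Matrix.scalar (Fin 8) μ).rank ≤ 1) μ₁
      · rw [Matrix.diagonal_mul, (mem_LT.1 hN).1 _ _ hij, mul_zero]
      · rw [Matrix.diagonal_mul, (mem_LT.1 hN).2, hd1 i hi, mul_one]
      · rw [Matrix.diagonal_mul, (mem_LT.1 hN).2, hd2 i hi, mul_one]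
  · obtain ⟨x, v, hv, _, hk, u, hu, e⟩ := hor ζ ζ.ne_zero hζ1
    obtain ⟨N, hN, rfl⟩ := (pc7 K).exists_up sub7 hk
    refine ⟨x, ζ, A * N, v, hv, u, hu, ?_, fun μ₁ => ?_⟩
    · rw [e, hA', ← hz_eq, map_mul]
    · have h1 : (A * N).1 * Matrix.diagonal (dz ζ) = A.1 * (N.1 * Matrix.diagonal (dz ζ)) := by
        change A.1 * N.1 * Matrix.diagonal (dz ζ) = _
        rw [Matrix.mul_assoc]
      rw [h1]
      refine Cfsg.Agent.H376.TW.tri_good' hζ1 _ _ (fun i j hij => ?_) (fun i hi => ?_) (fun i hi => ?_) hdet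
        (by omega : (A.1 - Matrix.scalar (Fin 8) μ).rank ≤ 1) μ₁
      · rw [Matrix.mul_diagonal, (mem_UT.1 hN).1 _ _ hij, zero_mul]
      · rw [Matrix.mul_diagonal, (mem_UT.1 hN).2, hd1 i hi, mul_one]
      · rw [Matrix.mul_diagonal, (mem_UT.1 hN).2, hd2 i hi, one_mul]

end Cfsg.Agent.H240.TW
end

-- part: H563/TW/Num7
section
/-!
# Partial sums of the powers of an element of order seven (helper563, S2452, row `E₈(q)`)

`t` in a field with `1 + t + … + t^6 = 0`, `t ≠ 1`, `2 ≠ 0`: no proper nonempty partial sum of `1, t, …, t^6` is zero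
(the norm of such a sum in the cyclotomic field is `1` or `8`).
-/

set_option autoImplicit false

namespace Cfsg.Agent.H563.TW

section field

variable {F : Type*} [Field F] {t : F}

theorem pow_seven (hs : ∑ k : Fin 7, t ^ (k : ℕ) = 0) : t ^ 7 = 1 := by
  simp only [Fin.sum_univ_succ, Fin.sum_univ_zero] at hs
  norm_num only [Fin.succ, _root_.Fin.coe_ofNat_eq_mod, _root_.pow_zero, _root_.Fin.succ, _root_.Fin.mk_one, _root_.pow_one, _root_.add_zero] at hs
  linear_combination (t - 1) * hs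

theorem orderOf_seven (hs : ∑ k : Fin 7, t ^ (k : ℕ) = 0) (h1 : t ≠ 1) : orderOf t = 7 :=
  have : Fact (Nat.Prime 7) := ⟨by norm_num⟩
  orderOf_eq_prime (pow_seven hs) h1

theorem tau_add (h7 : t ^ 7 = 1) (a b : Fin 7) : t ^ ((a + b : Fin 7) : ℕ) = t ^ (a : ℕ) * t ^ (b : ℕ) := by
  rw [Fin.val_add, ← pow_add]
  conv_rhs => rw [← Nat.mod_add_div ((a : ℕ) + b) 7, pow_add, pow_mul, h7, one_pow, mul_one]

theorem sum_tau (hs : ∑ k : Fin 7, t ^ (k : ℕ) = 0) (h1 : t ≠ 1) {k : Fin 7} (hk : k ≠ 0) :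
    1 + t ^ (k : ℕ) + (t ^ (k : ℕ)) ^ 2 + (t ^ (k : ℕ)) ^ 3 + (t ^ (k : ℕ)) ^ 4 + (t ^ (k : ℕ)) ^ 5 + (t ^ (k : ℕ)) ^ 6 = 0 := by
  obtain ⟨x, hx⟩ : ∃ x, x = t ^ (k : ℕ) := ⟨_, rfl⟩
  have hx7 : x ^ 7 = 1 := by rw [hx, ← pow_mul, mul_comm, pow_mul, pow_seven hs, one_pow]
  have hx1 : x ≠ 1 := by
    rw [hx]
    refine pow_ne_one_of_lt_orderOf (fun h => hk (Fin.ext h)) ?_
    rw [orderOf_seven hs h1]
    exact k.2
  rw [← hx]
  have h2 : (x - 1) * (1 + x + x ^ 2 + x ^ 3 + x ^ 4 + x ^ 5 + x ^ 6) = 0 := by linear_combination hx7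
  exact (mul_eq_zero.1 h2).resolve_left (sub_ne_zero.2 hx1)

theorem two_ne' {x : F} (hx : 1 + x + x ^ 2 + x ^ 3 + x ^ 4 + x ^ 5 + x ^ 6 = 0) : 1 + x ≠ 0 := by
  intro h
  exact one_ne_zero (α := F) (by linear_combination (1 + x ^ 2 + x ^ 4 + x ^ 6) * h - x * hx)

theorem three_ne' {x : F} (hx : 1 + x + x ^ 2 + x ^ 3 + x ^ 4 + x ^ 5 + x ^ 6 = 0) : 1 + x + x ^ 2 ≠ 0 := by
  intro h
  have h1 : x ^ 6 = 0 := by linear_combination hx - (1 + x ^ 3) * h
  have h2 : x = 0 := by simpa using h1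
  rw [h2] at hx
  norm_num at hx

theorem fano_ne {x : F} (h2 : (2 : F) ≠ 0) (hx : 1 + x + x ^ 2 + x ^ 3 + x ^ 4 + x ^ 5 + x ^ 6 = 0) :
    1 + x + x ^ 3 ≠ 0 := by
  intro h
  exact h2 (by linear_combination (1 + x ^ 4 + x ^ 6) * h - (x ^ 3 - x ^ 2 + 2 * x - 1) * hx)

private noncomputable def _root_.Cfsg.Agent.LsF.fcca6d3_0 : {f // @Cfsg.Agent.Lib.HoistLin.dG = f} := ⟨_, by first | (delta Cfsg.Agent.Lib.HoistLin.dG; rewrite [Cfsg.Agent.LsF.dIff_eq, Cfsg.Agent.LsF.dBoolEq_eq]; exact rfl) | exact rfl⟩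
private noncomputable def _root_.Cfsg.Agent.LsF.fcca6d3_1 : {f // @Cfsg.Agent.Lib.HoistLin.dY = f} := ⟨_, by first | (delta Cfsg.Agent.Lib.HoistLin.dY; rewrite [Cfsg.Agent.LsF.dIff_eq, Cfsg.Agent.LsF.dBoolEq_eq]; exact rfl) | exact rfl⟩
/-- three different elements of `ℤ/7` -/
theorem exists_line : ∀ a b c : Fin 7, a ≠ b → a ≠ c → b ≠ c → ∃ s k : Fin 7, k ≠ 0 ∧
    ((s = a ∨ s = b ∨ s = c) ∧ (s + k = a ∨ s + k = b ∨ s + k = c) ∧
      ((s + k + k = a ∨ s + k + k = b ∨ s + k + k = c) ∨ (s + k + k + k = a ∨ s + k + k + k = b ∨ s + k + k + k = c))) := by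
  (set_option synthInstance.maxSize 2000 in open scoped Cfsg.Agent.Lib.Hoist Cfsg.Agent.Lib.HoistLin in (refine of_decide_eq_true ?_; (try (delta Cfsg.Agent.Lib.Hoist.hE Cfsg.Agent.Lib.Hoist.xB; rewrite [Cfsg.Agent.LsF.fcca6d3_0.2, Cfsg.Agent.LsF.fcca6d3_1.2, Cfsg.Agent.LsF.fadd_pat, Cfsg.Agent.LsF.dAnd_eq, Cfsg.Agent.LsF.dOr_eq, Cfsg.Agent.LsF.dNot_eq, Cfsg.Agent.LsF.dIff_eq, Cfsg.Agent.LsF.dFinEq_eq, Cfsg.Agent.LsF.dAllP_eq, Cfsg.Agent.LsF.decide_eq])); decide +kernel))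

theorem ne_line : ∀ s k : Fin 7, k ≠ 0 → s + k + k ≠ s ∧ s + k + k ≠ s + k ∧ s + k + k + k ≠ s ∧
    s + k + k + k ≠ s + k := by decide +kernel

theorem two_sum (hs : ∑ k : Fin 7, t ^ (k : ℕ) = 0) (h1 : t ≠ 1) {a b : Fin 7} (hab : a ≠ b) :
    t ^ (a : ℕ) + t ^ (b : ℕ) ≠ 0 := by
  have h7 := pow_seven hs
  have ht0 : t ≠ 0 := by
    rintro rfl
    norm_num at h7
  have hk : b - a ≠ 0 := sub_ne_zero.2 hab.symm
  have h3 := two_ne' (sum_tau hs h1 hk)
  have h4 : t ^ (b : ℕ) = t ^ (a : ℕ) * t ^ ((b - a : Fin 7) : ℕ) := by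
    rw [← tau_add h7, add_sub_cancel]
  rw [h4]
  intro h5
  have h6 : t ^ (a : ℕ) * (1 + t ^ ((b - a : Fin 7) : ℕ)) = 0 := by linear_combination h5
  exact (mul_ne_zero (pow_ne_zero _ ht0) h3) h6

theorem three_sum (hs : ∑ k : Fin 7, t ^ (k : ℕ) = 0) (h1 : t ≠ 1) (h2 : (2 : F) ≠ 0) {a b c : Fin 7} (hab : a ≠ b)
    (hac : a ≠ c) (hbc : b ≠ c) : t ^ (a : ℕ) + t ^ (b : ℕ) + t ^ (c : ℕ) ≠ 0 := by
  have h7 := pow_seven hs
  have ht0 : t ≠ 0 := by
    rintro rfl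
    norm_num at h7
  obtain ⟨s, k, hk, hs1, hs2, hs3⟩ := exists_line a b c hab hac hbc
  obtain ⟨x, hx⟩ : ∃ x, x = t ^ (k : ℕ) := ⟨_, rfl⟩
  have hX := sum_tau hs h1 hk
  rw [← hx] at hX
  have e1 : t ^ ((s + k : Fin 7) : ℕ) = t ^ (s : ℕ) * x := by rw [tau_add h7, hx]
  have e2 : t ^ ((s + k + k : Fin 7) : ℕ) = t ^ (s : ℕ) * x ^ 2 := by rw [tau_add h7, e1, ← hx]; ring
  have e3 : t ^ ((s + k + k + k : Fin 7) : ℕ) = t ^ (s : ℕ) * x ^ 3 := by rw [tau_add h7, e2, ← hx]; ring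
  have n1 : s + k ≠ s := fun h => hk (by simpa using h)
  have key : ∀ d : Fin 7, d ≠ s → d ≠ s + k → (d = a ∨ d = b ∨ d = c) →
      t ^ (a : ℕ) + t ^ (b : ℕ) + t ^ (c : ℕ) = t ^ (s : ℕ) + t ^ ((s + k : Fin 7) : ℕ) + t ^ (d : ℕ) := by
    intro d hd1 hd2 hd
    rcases hs1 with h | h | h <;> rcases hs2 with h' | h' | h' <;> rcases hd with h'' | h'' | h'' <;>
      first
        | exact absurd (h'.trans h.symm) n1
        | exact absurd (h''.trans h.symm) hd1
        | exact absurd (h''.trans h'.symm) hd2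
        | (rw [h', h'', h] <;> ring)
  have hP := pow_ne_zero (s : ℕ) ht0
  rcases hs3 with h3 | h3
  · obtain ⟨n3, n2, -, -⟩ := ne_line s k hk
    rw [key _ n3 n2 h3, e1, e2]
    intro h5
    have h6 : t ^ (s : ℕ) * (1 + x + x ^ 2) = 0 := by linear_combination h5
    exact (mul_ne_zero hP (three_ne' hX)) h6
  · obtain ⟨-, -, n3, n2⟩ := ne_line s k hk
    rw [key _ n3 n2 h3, e1, e3]
    intro h5
    have h6 : t ^ (s : ℕ) * (1 + x + x ^ 3) = 0 := by linear_combination h5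
    exact (mul_ne_zero hP (fano_ne h2 hX)) h6

/-- **No proper partial sum is zero.** -/
theorem sum_ne (hs : ∑ k : Fin 7, t ^ (k : ℕ) = 0) (h1 : t ≠ 1) (h2 : (2 : F) ≠ 0) {I : Finset (Fin 7)}
    (hI : I.Nonempty) (hI' : I ≠ Finset.univ) : ∑ k ∈ I, t ^ (k : ℕ) ≠ 0 := by
  have h7 := pow_seven hs
  have ht0 : t ≠ 0 := by
    rintro rfl
    norm_num at h7
  have small : ∀ J : Finset (Fin 7), J.Nonempty → J.card ≤ 3 → ∑ k ∈ J, t ^ (k : ℕ) ≠ 0 := by
    intro J hJ hc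
    have h0 : 0 < J.card := hJ.card_pos
    have : J.card = 1 ∨ J.card = 2 ∨ J.card = 3 := by omega
    rcases this with h | h | h
    · obtain ⟨a, rfl⟩ := Finset.card_eq_one.1 h
      rw [Finset.sum_singleton]
      exact pow_ne_zero _ ht0
    · obtain ⟨a, b, hab, rfl⟩ := Finset.card_eq_two.1 h
      rw [Finset.sum_pair hab]
      exact two_sum hs h1 hab
    · obtain ⟨a, b, c, hab, hac, hbc, rfl⟩ := Finset.card_eq_three.1 h
      rw [Finset.sum_insert (by simp [hab, hac]), Finset.sum_pair hbc, ← add_assoc]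
      exact three_sum hs h1 h2 hab hac hbc
  by_cases hc : I.card ≤ 3
  · exact small I hI hc
  · have h3 : Iᶜ.card ≤ 3 := by
      rw [Finset.card_compl, Fintype.card_fin]
      omega
    have h4 : Iᶜ.Nonempty := by
      rw [Finset.nonempty_iff_ne_empty]
      intro h
      exact hI' ((Finset.compl_eq_empty_iff _).1 h)
    have h5 := small _ h4 h3
    have h6 := Finset.sum_add_sum_compl I (fun k : Fin 7 => t ^ (k : ℕ))
    rw [hs] at h6
    intro h8
    rw [h8, zero_add] at h6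
    exact h5 h6

end field

theorem z2 : ∀ t : ZMod 2, ∑ k : Fin 7, t ^ (k : ℕ) ≠ 0 := by decide +kernel

/-- **The number fact.** -/
theorem num_fact {q r : ℕ} (hr : r.Prime) (hr7 : r ≠ 7) (hd : r ∣ ∑ a ∈ Finset.range 7, q ^ a) {I : Finset (Fin 7)}
    (hI : I.Nonempty) (hI' : I ≠ Finset.univ) : ∑ k ∈ I, (q : ZMod r) ^ (k : ℕ) ≠ 0 := by
  have : Fact r.Prime := ⟨hr⟩
  have hs : ∑ k : Fin 7, (q : ZMod r) ^ (k : ℕ) = 0 := by
    rw [Fin.sum_univ_eq_sum_range (fun a => (q : ZMod r) ^ a) 7]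
    have h1 := (ZMod.natCast_eq_zero_iff _ _).2 hd
    rw [Nat.cast_sum] at h1
    rw [← h1]
    exact Finset.sum_congr rfl fun a _ => (Nat.cast_pow q a).symm
  have h1 : (q : ZMod r) ≠ 1 := by
    intro h
    rw [h] at hs
    simp only [one_pow, Finset.sum_const, Finset.card_univ, Fintype.card_fin, nsmul_eq_mul, mul_one] at hs
    have h2 : ((7 : ℕ) : ZMod r) = 0 := hs
    rw [ZMod.natCast_eq_zero_iff] at h2
    exact hr7 ((Nat.prime_dvd_prime_iff_eq hr (by norm_num)).1 h2)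
  have h2 : (2 : ZMod r) ≠ 0 := by
    intro h
    have h3 : ((2 : ℕ) : ZMod r) = 0 := by exact_mod_cast h
    rw [ZMod.natCast_eq_zero_iff] at h3
    have h4 := (Nat.prime_dvd_prime_iff_eq hr Nat.prime_two).1 h3
    subst h4
    exact z2 _ hs
  exact sum_ne hs h1 h2 hI hI'

end Cfsg.Agent.H563.TW
end

-- part: H563/TW/Fix7
section
/-!
# No fixed points of `(X₇, 1)` on the unipotent radicals of the parabolic `A₆ A₁` of `E₈(q)` (helper563, S2452)

* `out7` : the weights of the roots outside the Levi subgroup (all nodes but `3`) on the block of type `A₆`: two values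
  `m`, `m + 1`;
* `nf7` : `A ∈ SL₇(q)` with irreducible characteristic polynomial and `A ^ r = 1`, `r ≠ 7` prime, `r ∣ 1 + q + … + q⁶`:
  `p7 K A` has no fixed points on `V_J`, `V_J⁻`, `J = J6`.
-/

set_option autoImplicit false
set_option linter.unusedSectionVars false

namespace Cfsg.Agent.H563.TW

open CoxeterSystem Cfsg.Agent.ChevalleyStructure.CoxeterGeom Cfsg.Agent.Tits.Roots Cfsg.Agent.Tits.Core
  Cfsg.Agent.Nodes.Reps Cfsg.Agent.Nodes.BNOf Cfsg.Agent.Nodes.RGDLib Cfsg.Agent.Nodes.Bruhat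
  Cfsg.Agent.Nodes.OppDec Cfsg.Agent.Nodes.LeviDec Cfsg.Agent.Nodes.KindChev Cfsg.Agent.Nodes.ChevCls
  Cfsg.Agent.OddHalf.NI.ModelChev Cfsg.Agent.Nodes.StabComb
  Cfsg.Agent.H162.GaussDec Cfsg.Agent.H162.GaussLevi Cfsg.Agent.H162.GaussSL Cfsg.Agent.H162.GaussReg
  Cfsg.Agent.H162.GaussPQ
  Cfsg.Agent.H928.Ore.Frame
open Cfsg.Lie Cfsg.Agent.ChevalleyStructure Cfsg.Agent.ChevalleyStructure.Elts
  Cfsg.Agent.ChevalleyStructure.RootVec Cfsg.Agent.ChevalleyStructure.NPerm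
  Cfsg.Agent.ChevalleyStructure.CoxeterGeomTypes Cfsg.Agent.Nodes.RGDChev Cfsg.Agent.KFacts.RgdChevCoord
open Cfsg.Agent.FixBN.FieldRGD (uu vv dd ww)
open Cfsg.Agent.TitsThree.KExcRT Cfsg.Agent.AGraded
open Cfsg.Agent.H482.Ore.Fix (Bk SimpB wt Dz)
open Cfsg.Agent.H78.Pw Cfsg.Agent.H85.Pw Cfsg.Agent.H194.Pw
open Cfsg.Agent.H122.Pw Cfsg.Agent.H122.SX.E127
open scoped MatrixGroups

universe u

/-- two values -/
def Two (q : ℕ) (m : ℤ) : Prop := (∀ k : Fin 7, wt chevE8 j7 q k = m ∨ wt chevE8 j7 q k = m + 1) ∧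
  (∃ k : Fin 7, wt chevE8 j7 q k = m) ∧ ∃ k : Fin 7, wt chevE8 j7 q k = m + 1

instance decTwo (q : ℕ) (m : ℤ) : Decidable (Two q m) := by
  unfold Two
  infer_instance

private noncomputable def _root_.Cfsg.Agent.LsF.fcca6d3_2 : {f // @Cfsg.Agent.ChevalleyStructure.RootVecTab.dig = f} := ⟨_, by first | (delta Cfsg.Agent.ChevalleyStructure.RootVecTab.dig; rewrite [Cfsg.Agent.LsF.nmul_pat]; exact rfl) | exact rfl⟩
private noncomputable def _root_.Cfsg.Agent.LsF.fcca6d3_3 : {f // @Cfsg.Agent.ChevalleyStructure.RootVecTab.packTab = f} := ⟨_, by first | (delta Cfsg.Agent.ChevalleyStructure.RootVecTab.packTab; rewrite [Cfsg.Agent.LsF.instDecEq_eq, Cfsg.Agent.LsF.ite_eq]; exact rfl) | exact rfl⟩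
private noncomputable def _root_.Cfsg.Agent.LsF.fcca6d3_4 : {f // @Cfsg.Agent.ChevalleyStructure.RootVecTab.code = f} := ⟨_, by first | (delta Cfsg.Agent.ChevalleyStructure.RootVecTab.code; rewrite [Cfsg.Agent.LsF.fcca6d3_3.2, Cfsg.Agent.LsF.nmul_pat, Cfsg.Agent.LsF.npow_pat]; exact rfl) | exact rfl⟩
private noncomputable def _root_.Cfsg.Agent.LsF.fcca6d3_5 : {f // @Cfsg.Agent.ChevalleyStructure.RootVec.rt = f} := ⟨_, by first | (delta Cfsg.Agent.ChevalleyStructure.RootVec.rt; rewrite [Cfsg.Agent.LsF.fcca6d3_2.2, Cfsg.Agent.LsF.fcca6d3_4.2, Cfsg.Agent.LsF.nsub_pat, Cfsg.Agent.LsF.isub_pat, Cfsg.Agent.LsF.icast_pat, Cfsg.Agent.LsF.decLt_eq, Cfsg.Agent.LsF.dAnd_eq, Cfsg.Agent.LsF.ite_eq]; exact rfl) | exact rfl⟩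
private noncomputable def _root_.Cfsg.Agent.LsF.fcca6d3_6 : {f // @Cfsg.Agent.Nodes.RGDChev.vec = f} := ⟨_, by first | (delta Cfsg.Agent.Nodes.RGDChev.vec; rewrite [Cfsg.Agent.LsF.fcca6d3_5.2]; exact rfl) | exact rfl⟩
private noncomputable def _root_.Cfsg.Agent.LsF.fcca6d3_7 : {f // @Cfsg.Agent.ChevFast.dz = f} := ⟨_, by first | (delta Cfsg.Agent.ChevFast.dz; rewrite [Cfsg.Agent.LsF.cond_eq]; exact rfl) | exact rfl⟩
private noncomputable def _root_.Cfsg.Agent.LsF.fcca6d3_8 : {f // @Cfsg.Agent.ChevFast.gz = f} := ⟨_, by first | (delta Cfsg.Agent.ChevFast.gz; rewrite [Cfsg.Agent.LsF.fcca6d3_7.2]; exact rfl) | exact rfl⟩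
private noncomputable def _root_.Cfsg.Agent.LsF.fcca6d3_9 : {f // @Cfsg.Agent.H122.SX.E127.j7 = f} := ⟨_, by first | (delta Cfsg.Agent.H122.SX.E127.j7; rewrite [Cfsg.Agent.LsF.vecCons_eq]; exact rfl) | exact rfl⟩
private noncomputable def _root_.Cfsg.Agent.LsF.fcca6d3_10 : {f // @Cfsg.Agent.ChevFast.Lin.dB = f} := ⟨_, by first | (delta Cfsg.Agent.ChevFast.Lin.dB; rewrite [Cfsg.Agent.LsF.dIff_eq, Cfsg.Agent.LsF.dBoolEq_eq]; exact rfl) | exact rfl⟩
/-- **The weights.** -/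
theorem out7 : ∀ q < chevE8.nroots, (∃ k : Fin 8, k ∉ J6 ∧ vec chevE8 8 q k ≠ 0) → Two q (-1) ∨ Two q 0 := by
  delta Two wt
  rewrite [Cfsg.Agent.ChevFast.E8.cartan]
  refine @of_decide_eq_true _ ?_ ?_
  · refine @Cfsg.Agent.ChevFast.Lin.dB _ _ fun q => ?_
    infer_instance
  · ((try (rewrite [Cfsg.Agent.LsF.sumF_pat, Cfsg.Agent.LsF.dMemE_pat, Cfsg.Agent.LsF.fcca6d3_6.2, Cfsg.Agent.LsF.fcca6d3_8.2, Cfsg.Agent.LsF.fcca6d3_9.2, Cfsg.Agent.LsF.fcca6d3_10.2, Cfsg.Agent.LsF.iadd_pat, Cfsg.Agent.LsF.ineg_pat, Cfsg.Agent.LsF.iACM_eq, Cfsg.Agent.LsF.instIDecEq_eq, Cfsg.Agent.LsF.dAnd_eq, Cfsg.Agent.LsF.dOr_eq, Cfsg.Agent.LsF.dNot_eq, Cfsg.Agent.LsF.dFinEq_eq, Cfsg.Agent.LsF.dFinLe_eq, Cfsg.Agent.LsF.dForallFin_eq, Cfsg.Agent.LsF.dExistsFin_eq, Cfsg.Agent.LsF.dAllP_eq, Cfsg.Agent.LsF.ite_eq, Cfsg.Agent.LsF.decide_eq])); decide +kernel)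

section

variable {K : Type u} [Field K] [Finite K]

/-- the product of the eigenvalues -/
theorem prod_ne {K' : Type u} [Field K'] {z : K'} {r : ℕ} (hr : r.Prime) (hr7 : r ≠ 7)
    (hd : r ∣ ∑ a ∈ Finset.range 7, Nat.card K ^ a) (hz : orderOf z = r) {w : Fin 7 → ℤ} {m : ℤ}
    (h1 : ∀ k, w k = m ∨ w k = m + 1) (h2 : ∃ k, w k = m) (h3 : ∃ k, w k = m + 1) :
    ∏ b : Fin 7, (z ^ Nat.card K ^ (b : ℕ)) ^ w b ≠ 1 := by
  have hz0 : z ≠ 0 := by
    rintro rfl
    have h4 : orderOf (0 : K') = 0 := by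
      rw [orderOf_eq_zero_iff']
      intro n hn
      rw [zero_pow hn.ne']
      exact zero_ne_one
    rw [h4] at hz
    exact hr.ne_zero hz.symm
  have e1 : ∀ b : Fin 7, (z ^ Nat.card K ^ (b : ℕ)) ^ w b = z ^ (((Nat.card K : ℕ) : ℤ) ^ (b : ℕ) * w b) := by
    intro b
    rw [← zpow_natCast, ← zpow_mul]
    push_cast
    rfl
  rw [Finset.prod_congr rfl fun b _ => e1 b, Cfsg.Agent.H85.Ore.prod_zpow' hz0]
  intro h5
  obtain ⟨u, rfl⟩ : ∃ u : K'ˣ, (u : K') = z := ⟨Units.mk0 z hz0, rfl⟩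
  have h6 : u ^ (∑ b : Fin 7, ((Nat.card K : ℕ) : ℤ) ^ (b : ℕ) * w b) = 1 := by
    apply Units.ext
    rw [Units.val_zpow_eq_zpow_val, Units.val_one]
    exact h5
  have h7 := orderOf_dvd_iff_zpow_eq_one.2 h6
  rw [← orderOf_units, hz] at h7
  have h8 := (ZMod.intCast_zmod_eq_zero_iff_dvd _ r).2 h7
  have hs : ∑ k : Fin 7, ((Nat.card K : ℕ) : ZMod r) ^ (k : ℕ) = 0 := by
    rw [Fin.sum_univ_eq_sum_range (fun a => ((Nat.card K : ℕ) : ZMod r) ^ a) 7]
    have h9 := (ZMod.natCast_eq_zero_iff _ _).2 hd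
    rw [Nat.cast_sum] at h9
    rw [← h9]
    exact Finset.sum_congr rfl fun a _ => (Nat.cast_pow _ a).symm
  have h10 : ∑ k ∈ Finset.univ.filter (fun k => w k = m + 1), ((Nat.card K : ℕ) : ZMod r) ^ (k : ℕ) = 0 := by
    rw [← h8, Int.cast_sum, Finset.sum_filter]
    have h11 : ∀ k : Fin 7, ((((Nat.card K : ℕ) : ℤ) ^ (k : ℕ) * w k : ℤ) : ZMod r) =
        (m : ZMod r) * ((Nat.card K : ℕ) : ZMod r) ^ (k : ℕ) +
          if w k = m + 1 then ((Nat.card K : ℕ) : ZMod r) ^ (k : ℕ) else 0 := by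
      intro k
      rcases h1 k with h | h
      · rw [if_neg (by omega), h]
        push_cast
        ring
      · rw [if_pos h, h]
        push_cast
        ring
    rw [Finset.sum_congr rfl fun k _ => h11 k, Finset.sum_add_distrib, ← Finset.mul_sum, hs, mul_zero, zero_add]
  refine num_fact hr hr7 hd ?_ ?_ h10
  · obtain ⟨k, hk⟩ := h3
    exact ⟨k, by simp [hk]⟩
  · intro h
    obtain ⟨k, hk⟩ := h2
    have h11 := Finset.mem_univ k
    rw [← h, Finset.mem_filter] at h11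
    omega

/-- an eigenvalue has order `r` -/
theorem root_pow {K' : Type u} [Field K'] {i : K →+* K'} {n r : ℕ} {A : Matrix.SpecialLinearGroup (Fin n) K}
    {lam : Fin n → K'} {g : GL (Fin n) K'}
    (hg : (A : Matrix (Fin n) (Fin n) K).map i = (g : Matrix (Fin n) (Fin n) K') * Matrix.diagonal lam *
      ((g⁻¹ : GL (Fin n) K') : Matrix (Fin n) (Fin n) K')) (hA : A ^ r = 1) (a : Fin n) : lam a ^ r = 1 := by
  have h1 : ((A : Matrix (Fin n) (Fin n) K).map i) ^ r = 1 := by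
    have h2 : (A : Matrix (Fin n) (Fin n) K) ^ r = 1 := by
      have := congrArg (fun B : Matrix.SpecialLinearGroup (Fin n) K => (B : Matrix (Fin n) (Fin n) K)) hA
      simpa only [_root_.Matrix.SpecialLinearGroup.coe_pow, _root_.Matrix.SpecialLinearGroup.coe_one] using this
    rw [← Matrix.map_pow, h2, Matrix.map_one _ (map_zero _) (map_one _)]
  rw [hg, Units.conj_pow] at h1
  have h3 : Matrix.diagonal lam ^ r = 1 := by
    have h4 := congrArg (fun M => ((g⁻¹ : GL (Fin n) K') : Matrix (Fin n) (Fin n) K') * M *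
      (g : Matrix (Fin n) (Fin n) K')) h1
    simp only [Matrix.mul_assoc, Matrix.mul_one] at h4
    rw [← Units.val_mul, inv_mul_cancel, Units.val_one, Matrix.mul_one, ← Matrix.mul_assoc, ← Units.val_mul,
      inv_mul_cancel, Units.val_one, Matrix.one_mul] at h4
    exact h4
  rw [Matrix.diagonal_pow] at h3
  have h5 := congrFun (congrFun h3 a) a
  rwa [Matrix.diagonal_apply_eq, Matrix.one_apply_eq, Pi.pow_apply] at h5

/-- **No fixed points.** -/
theorem nf7 {r : ℕ} (hr : r.Prime) (hr7 : r ≠ 7) (hd : r ∣ ∑ a ∈ Finset.range 7, Nat.card K ^ a)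
    {A : Matrix.SpecialLinearGroup (Fin 7) K} (hA : Irreducible (A : Matrix (Fin 7) (Fin 7) K).charpoly)
    (hAr : A ^ r = 1) :
    NF (VJ cs8 hp8.isCartan (XX chevE8 8 K) {k | k ∈ J6}) (p7 K A) ∧
      NF (VNJ cs8 hp8.isCartan (XX chevE8 8 K) {k | k ∈ J6}) (p7 K A) := by
  obtain ⟨K', _, _, i, z, S⟩ := exists_spec hA
  obtain ⟨ch, hch⟩ := CharP.exists K'
  have : Fact ch.Prime := ⟨(CharP.char_is_prime_or_zero K' ch).resolve_right (CharP.char_ne_zero_of_finite K' ch)⟩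
  have BA : Bk hp8 i {k | k ∈ J6} 5 r7 j7 (p7 K) (p7 K') (fun a b => ((s7 a b : ℤ) : K)) :=
    { simp := ⟨sim7.1, sim7.2⟩
      rlt := rt7.1
      rJ := r7J
      hφ := p7_tv K
      hφ' := fun a b hab c => by rw [p7_tv, map_intCast]
      ss := fun a => by rw [rt7.2.2.2.2.1 a.castSucc a.succ, ← Int.cast_mul, rt7.2.2.2.1, Int.cast_one] }
  obtain ⟨g, hg⟩ := Cfsg.Agent.H934.MF.diag_map i (A : Matrix (Fin 7) (Fin 7) K) S.inj S.split
  have hz : orderOf z = r := by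
    have : Fact r.Prime := ⟨hr⟩
    have h1 := root_pow hg hAr 0
    rw [Fin.val_zero, pow_zero, pow_one] at h1
    have h2 := ne_one S (by norm_num) 0
    rw [pow_zero, pow_one] at h2
    exact orderOf_eq_prime h1 h2
  refine H482.Ore.Fix.nf_block' hp8 ch BA hg fun q hq hk => ?_
  rcases out7 q hq hk with h | h
  · exact prod_ne (K := K) hr hr7 hd hz h.1 h.2.1 h.2.2
  · exact prod_ne (K := K) hr hr7 hd hz h.1 h.2.1 h.2.2

end

end Cfsg.Agent.H563.TW
end

-- part: H122/SX/ERow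
section
/-!
# `E₈(q)`, `q ≥ 3`: `PP` from the class in `SL_7(q)` (helper122, S2452)
-/

set_option autoImplicit false
set_option linter.unusedSectionVars false

namespace Cfsg.Agent.H122.SX.E127

open Cfsg.Lie Cfsg.Agent.ChevalleyStructure
open scoped MatrixGroups

universe u

/-- **`E₈(q)` from the class in `SL_7(q)`.** -/
theorem pp_of_seven {K : Type u} [Field K] [Finite K] (h3 : 3 ≤ Nat.card K)
    {c : Matrix.SpecialLinearGroup (Fin 7) K} {r : ℕ} (hr : r.Prime) (hr6 : Nat.Coprime r 6) (hr7 : r ≠ 7)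
    (hd : r ∣ ∑ a ∈ Finset.range 7, Nat.card K ^ a) (hirr : Irreducible (c : Matrix (Fin 7) (Fin 7) K).charpoly)
    (hc : c ^ r = 1)
    (hcc : ∀ B : Matrix.SpecialLinearGroup (Fin 7) K, (∀ a : K, B.1 ≠ a • (1 : Matrix (Fin 7) (Fin 7) K)) →
      ∃ g h, B = (g * c * g⁻¹) * (h * c * h⁻¹)) :
    Cfsg.Agent.H494.TC.PP ↥(chevE8.group K) := by
  obtain ⟨n1, n2⟩ := Cfsg.Agent.H563.TW.nf7 hr hr7 hd hirr hc
  refine pp_of_boxes (fun g hg => ?_) hr hr6 hc hcc n1 n2
  obtain ⟨x, z, A, v, hv, u, hu, e, h⟩ := Cfsg.Agent.H240.TW.kick h3 hg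
  exact ⟨x, v, u, A, z, hv, hu, e, h⟩

end Cfsg.Agent.H122.SX.E127
end

private theorem dce_53d92bb94c2a : _root_.True := by
  try have : _root_.True := by simp only [_root_.Cfsg.Agent.H122.SX.E127.ez.eq_1]
  try have : _root_.True := by simp only [_root_.Cfsg.Agent.H122.SX.E127.Dzb.eq_1]
  try have : _root_.True := by simp only [_root_.Cfsg.Agent.FixBN.FieldRGD.dd.congr_simp]
  exact _root_.True.intro
end

-- part: H315/TF8/KeyBN_mg
section
prune_inst 0x100404041c2100000000080310000400a0001800000080000800840000820008000000024a00000100800000004000000000020004000000400000000000000080000048008000842000000108000000000000000000000000080000000000400c010000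
set_option linter.all false
open scoped Cfsg.Agent.FastGrp

-- part: H315/TF8/Alg
section
/-!
# S2452, `²F₄(8)` : the linear part of the Hecke algebra of the dihedral group of order 16 (helper315)

`A² = (a-1) A + a`, `B² = (b-1) B + b`, `(AB)⁴ = (BA)⁴`, `z = AB + (B-(b-1))(A-(a-1))` central, `Y = AB - BA`:
`Y² = (z-1-ab)(z+a+b)`, `(z³-2abz) Y = 0`, `2A-(a-1)` anticommutes with `Y`.
-/

set_option autoImplicit false
set_option linter.unusedSectionVars false

namespace Cfsg.Agent.H315.TF8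

open Cfsg.Agent.LieRecognition.FeitHigmanGroup Cfsg.Agent.H315.HT Polynomial

variable {M : Type*} [Ring M] [Algebra ℝ M] {A B : M} {a b : ℝ}

/-- the central element -/
def zc (A B : M) (a b : ℝ) : M := A * B + B * A - (a - 1) • B - (b - 1) • A + ((a - 1) * (b - 1)) • (1 : M)

/-- the commutator -/
def Yc (A B : M) : M := A * B - B * A

section rel

variable (hA : A * A = (a - 1) • A + a • (1 : M)) (hB : B * B = (b - 1) • B + b • (1 : M))

include hA in
theorem AAB : A * (A * B) = (a - 1) • (A * B) + a • B := by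
  rw [← mul_assoc, hA, add_mul, smul_mul_assoc, smul_mul_assoc, one_mul]

include hA in
theorem BAA : B * A * A = (a - 1) • (B * A) + a • B := by
  rw [mul_assoc, hA, mul_add, mul_smul_comm, mul_smul_comm, mul_one]

include hA in
theorem zc_A : A * zc A B a b = zc A B a b * A := by
  have h1 := AAB (B := B) hA
  have h2 := BAA (B := B) hA
  have h3 : A * (B * A) = A * B * A := (mul_assoc _ _ _).symm
  unfold zc
  simp only [mul_add, add_mul, mul_sub, sub_mul, smul_mul_assoc, mul_smul_comm, mul_one, one_mul, h1, h2, h3, hA]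
  module

theorem zc_swap : zc A B a b = zc B A b a := by
  unfold zc
  module

include hB in
theorem zc_B : B * zc A B a b = zc A B a b * B := by
  rw [zc_swap]
  exact zc_A hB

include hA in
/-- `z A = A B A + ...` -/
theorem ABA : A * B * A = zc A B a b * A - a • B + (a * (b - 1)) • (1 : M) := by
  have h2 := BAA (B := B) hA
  unfold zc
  simp only [add_mul, sub_mul, smul_mul_assoc, one_mul, h2, hA]
  module

include hA hB in
theorem w_sq : (A * B) * (A * B) = zc A B a b * (A * B) - (a * b) • (1 : M) := by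
  have h1 := AAB (B := B) hA
  have h2 : B * A * (A * B) = (a - 1) • (B * (A * B)) + a • (B * B) := by
    rw [mul_assoc, h1, mul_add, mul_smul_comm, mul_smul_comm]
  unfold zc
  simp only [add_mul, sub_mul, smul_mul_assoc, one_mul, h1, h2, hB]
  module

include hA hB in
theorem w_sq' : (B * A) * (B * A) = zc A B a b * (B * A) - (a * b) • (1 : M) := by
  rw [zc_swap, mul_comm a b]
  exact w_sq hB hA

theorem four {w z : M} {n : ℝ} (hz : w * z = z * w) (h : w * w = z * w - n • (1 : M)) :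
    (w * w) * (w * w) = (z * z * z - (2 * n) • z) * w - n • (z * z) + (n * n) • (1 : M) := by
  have h1 : z * w * (z * w) = z * z * (w * w) := by
    calc z * w * (z * w) = z * (w * z) * w := by simp only [mul_assoc]
      _ = z * (z * w) * w := by rw [hz]
      _ = z * z * (w * w) := by simp only [mul_assoc]
  calc (w * w) * (w * w) = z * w * (z * w) - (2 * n) • (z * w) + (n * n) • (1 : M) := by
        rw [h]
        simp only [sub_mul, mul_sub, smul_mul_assoc, mul_smul_comm, mul_one, one_mul]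
        module
    _ = _ := by
        rw [h1, h]
        simp only [sub_mul, mul_sub, smul_mul_assoc, mul_smul_comm, mul_one, one_mul, mul_assoc]
        module

theorem alt_eight (A B : M) : alt 8 A B = (A * B) * (A * B) * ((A * B) * (A * B)) := by
  have e : alt 8 A B = A * (B * (A * (B * (A * (B * (A * (B * 1))))))) := rfl
  rw [e]
  simp only [mul_assoc, mul_one]

include hA hB in
theorem p_Y (hbr : alt 8 A B = alt 8 B A) :
    (zc A B a b * zc A B a b * zc A B a b - (2 * (a * b)) • zc A B a b) * Yc A B = 0 := by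
  have hzA := zc_A (B := B) (b := b) hA
  have hzB := zc_B (A := A) (a := a) hB
  set z := zc A B a b with hz
  have h1 : A * B * z = z * (A * B) := by rw [mul_assoc, hzB, ← mul_assoc, hzA, mul_assoc]
  have h2 : B * A * z = z * (B * A) := by rw [mul_assoc, hzA, ← mul_assoc, hzB, mul_assoc]
  have h3 := four h1 (w_sq hA hB)
  have h4 := four h2 (w_sq' hA hB)
  rw [alt_eight, alt_eight, h3, h4] at hbr
  unfold Yc
  rw [mul_sub]
  have h5 : ∀ x y c : M, x - c + (a * b * (a * b)) • (1 : M) = y - c + (a * b * (a * b)) • (1 : M) → x - y = 0 := by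
    intro x y c h
    have : x = y := by
      have h6 := add_right_cancel h
      exact sub_left_injective h6
    rw [this, sub_self]
  exact h5 _ _ _ hbr

include hA hB in
theorem Y_sq : Yc A B * Yc A B = (zc A B a b - (1 + a * b) • (1 : M)) * (zc A B a b + (a + b) • (1 : M)) := by
  have hzA := zc_A (B := B) (b := b) hA
  have hzB := zc_B (A := A) (a := a) hB
  have hw := w_sq hA hB
  have hw' := w_sq' hA hB
  have hABA : A * B * A = zc A B a b * A - a • B + (a * (b - 1)) • (1 : M) := ABA hA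
  have hBAB : B * A * B = zc A B a b * B - b • A + (b * (a - 1)) • (1 : M) := by
    rw [zc_swap]
    exact ABA hB
  have hsum : A * B + B * A = zc A B a b + (a - 1) • B + (b - 1) • A - ((a - 1) * (b - 1)) • (1 : M) := by
    unfold zc
    module
  have e1 : A * B * (B * A) = (b - 1) • (A * B * A) + b • (A * A) := by
    calc A * B * (B * A) = A * (B * B) * A := by simp only [mul_assoc]
      _ = _ := by
        rw [hB]
        simp only [mul_add, add_mul, mul_smul_comm, smul_mul_assoc, mul_one]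
  have e2 : B * A * (A * B) = (a - 1) • (B * A * B) + a • (B * B) := by
    calc B * A * (A * B) = B * (A * A) * B := by simp only [mul_assoc]
      _ = _ := by
        rw [hA]
        simp only [mul_add, add_mul, mul_smul_comm, smul_mul_assoc, mul_one]
  set z := zc A B a b with hz
  have e3 : Yc A B * Yc A B = z * (A * B + B * A) - (2 * (a * b)) • (1 : M) - A * B * (B * A) - B * A * (A * B) := by
    unfold Yc
    rw [sub_mul, mul_sub, mul_sub, hw, hw', mul_add]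
    module
  rw [e3, hsum, e1, e2, hABA, hBAB, hA, hB]
  simp only [mul_add, mul_sub, add_mul, sub_mul, mul_smul_comm, smul_mul_assoc, mul_one, one_mul]
  module

include hA in
/-- `2A - (a-1)` anticommutes with the commutator -/
theorem anti : ((2 : ℝ) • A + (1 - a) • (1 : M)) * Yc A B = - (Yc A B * ((2 : ℝ) • A + (1 - a) • (1 : M))) := by
  have h1 := AAB (B := B) hA
  have h2 := BAA (B := B) hA
  have h3 : A * (B * A) = A * B * A := (mul_assoc _ _ _).symm
  unfold Yc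
  simp only [add_mul, mul_add, mul_sub, sub_mul, smul_mul_assoc, mul_smul_comm, mul_one, one_mul, h1, h2, h3]
  module

end rel

end Cfsg.Agent.H315.TF8
end

-- part: H315/TF8/Idem
section
/-!
# S2452, `²F₄(8)` : the four idempotents of the linear part (helper315)

`exists_idem` : with `φ` a trace on the algebra generated by `A`, `B`: `φ((2A-(a-1))/(1+a)) = φ(e₁) + φ(e₂) - φ(e₃) - φ(e₄)`,
`eᵢ` idempotents with `A eᵢ = αᵢ eᵢ`, `B eᵢ = βᵢ eᵢ`, `(α, β) = (a,b), (a,-1), (-1,b), (-1,-1)`.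
-/

set_option autoImplicit false
set_option linter.unusedSectionVars false

namespace Cfsg.Agent.H315.TF8

open Cfsg.Agent.LieRecognition.FeitHigmanGroup Cfsg.Agent.H315.HT Polynomial

variable {M : Type*} [Ring M] [Algebra ℝ M] {A B : M} {a b : ℝ}

theorem comm_aeval {z : M} (h : A * z = z * A) (p : ℝ[X]) : A * aeval z p = aeval z p * A := by
  induction p using Polynomial.induction_on' with
  | add p q hp hq => rw [map_add, mul_add, add_mul, hp, hq]
  | monomial n r =>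
    rw [aeval_monomial, Algebra.algebraMap_eq_smul_one, smul_mul_assoc, one_mul, mul_smul_comm, smul_mul_assoc]
    congr 1
    exact (Commute.pow_right (show Commute A z from h) n).eq

/-- the polynomials -/
noncomputable def pp (a b : ℝ) : ℝ[X] := X * (X ^ 2 - C (2 * (a * b)))
noncomputable def ff (a b : ℝ) : ℝ[X] := (X - C (1 + a * b)) * (X - C (-(a + b)))

theorem coprime_pf (ha : 1 < a) (hb : 1 < b) : IsCoprime (pp a b) (ff a b) := by
  unfold ff
  have key : ∀ u : ℝ, (pp a b).eval u ≠ 0 → IsCoprime (pp a b) (X - C u) := by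
    intro u hu
    refine ((irreducible_X_sub_C u).coprime_iff_not_dvd.2 fun h => ?_).symm
    exact hu (dvd_iff_isRoot.1 h)
  have hev : ∀ u : ℝ, (pp a b).eval u = u * (u ^ 2 - 2 * (a * b)) := by
    intro u
    unfold pp
    simp
  refine IsCoprime.mul_right (key _ ?_) (key _ ?_)
  · rw [hev]
    have h1 : 0 < a * b := by positivity
    have h2 : (1 + a * b) ^ 2 - 2 * (a * b) = 1 + (a * b) ^ 2 := by ring
    rw [h2]
    positivity
  · rw [hev]
    have h2 : (-(a + b)) ^ 2 - 2 * (a * b) = a ^ 2 + b ^ 2 := by ring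
    rw [h2]
    have : 0 < a + b := by linarith
    have h3 : 0 < a ^ 2 + b ^ 2 := by positivity
    exact mul_ne_zero (neg_ne_zero.2 this.ne') h3.ne'

/-- the relation of an idempotent -/
structure Eig (A B e : M) (α β : ℝ) : Prop where
  hA : A * e = α • e
  hB : B * e = β • e
  hA' : e * A = α • e
  hB' : e * B = β • e
  sq : e * e = e

variable (hA : A * A = (a - 1) • A + a • (1 : M)) (hB : B * B = (b - 1) • B + b • (1 : M))
  (hbr : alt 8 A B = alt 8 B A) (ha : 1 < a) (hb : 1 < b)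

/-- the element `ε` -/
theorem exists_eps (hA : A * A = (a - 1) • A + a • (1 : M)) (hB : B * B = (b - 1) • B + b • (1 : M))
    (hbr : alt 8 A B = alt 8 B A) (ha : 1 < a) (hb : 1 < b) : ∃ α β : ℝ[X],
      α * pp a b + β * ff a b = 1 ∧
      aeval (zc A B a b) (α * pp a b) + aeval (zc A B a b) β * (Yc A B * Yc A B) = 1 ∧
      aeval (zc A B a b) (α * pp a b) * Yc A B = 0 := by
  obtain ⟨α, β, h⟩ := coprime_pf ha hb
  refine ⟨α, β, h, ?_, ?_⟩
  · have h1 := congrArg (aeval (zc A B a b)) h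
    rw [map_add, map_one, map_mul _ β] at h1
    rw [Y_sq hA hB]
    have h2 : aeval (zc A B a b) (ff a b) =
        (zc A B a b - (1 + a * b) • (1 : M)) * (zc A B a b + (a + b) • (1 : M)) := by
      unfold ff
      rw [map_mul, map_sub, map_sub, aeval_X, aeval_C, aeval_C, Algebra.algebraMap_eq_smul_one,
        Algebra.algebraMap_eq_smul_one]
      congr 1
      module
    rw [← h2]
    exact h1
  · have h1 := p_Y hA hB hbr
    have h2 : aeval (zc A B a b) (pp a b) =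
        zc A B a b * zc A B a b * zc A B a b - (2 * (a * b)) • zc A B a b := by
      unfold pp
      rw [map_mul, map_sub, map_pow, aeval_X, aeval_C, Algebra.algebraMap_eq_smul_one, mul_sub, mul_smul_comm, mul_one,
        pow_two, mul_assoc]
    rw [map_mul, mul_assoc, h2, h1, mul_zero]

theorem eps_sq {α β : ℝ[X]} (hA : A * A = (a - 1) • A + a • (1 : M)) (hB : B * B = (b - 1) • B + b • (1 : M))
    (h1 : aeval (zc A B a b) (α * pp a b) + aeval (zc A B a b) β * (Yc A B * Yc A B) = 1)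
    (h2 : aeval (zc A B a b) (α * pp a b) * Yc A B = 0) :
    aeval (zc A B a b) (α * pp a b) * aeval (zc A B a b) (α * pp a b) = aeval (zc A B a b) (α * pp a b) := by
  set ε := aeval (zc A B a b) (α * pp a b) with hε
  have h3 : ε * (ε + aeval (zc A B a b) β * (Yc A B * Yc A B)) = ε := by rw [h1, mul_one]
  rw [mul_add] at h3
  have h4 : ε * (aeval (zc A B a b) β * (Yc A B * Yc A B)) = 0 := by
    have h5 : ε * aeval (zc A B a b) β = aeval (zc A B a b) β * ε := by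
      rw [hε, ← map_mul, ← map_mul, mul_comm]
    rw [← mul_assoc, h5, mul_assoc, ← mul_assoc ε, h2, zero_mul, mul_zero]
  rw [h4, add_zero] at h3
  exact h3

/-- the idempotent -/
theorem eig_of {ε : M} (hεA : A * ε = ε * A) (hεB : B * ε = ε * B) (hεY : ε * Yc A B = 0) (hεε : ε * ε = ε)
    {α α' β β' : ℝ} (hA : A * A = (α + α') • A - (α * α') • (1 : M)) (hB : B * B = (β + β') • B - (β * β') • (1 : M))
    (hα : α - α' ≠ 0) (hβ : β - β' ≠ 0) :
    Eig A B (((α - α') * (β - β'))⁻¹ • ((A - α' • (1 : M)) * (B - β' • (1 : M)) * ε)) α β := by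
  set k := ((α - α') * (β - β'))⁻¹ with hk
  set x := (A - α' • (1 : M)) * (B - β' • (1 : M)) * ε with hx
  have hY : A * B * ε = B * A * ε := by
    have h1 : ε * (A * B) = ε * (B * A) := by
      unfold Yc at hεY
      rwa [mul_sub, sub_eq_zero] at hεY
    have h2 : A * B * ε = ε * (A * B) := by rw [mul_assoc, hεB, ← mul_assoc, hεA, mul_assoc]
    have h3 : B * A * ε = ε * (B * A) := by rw [mul_assoc, hεA, ← mul_assoc, hεB, mul_assoc]
    rw [h2, h3, h1]
  have hx' : x = (B - β' • (1 : M)) * (A - α' • (1 : M)) * ε := by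
    rw [hx]
    have h1 : ∀ u v : ℝ, (A - u • (1 : M)) * (B - v • (1 : M)) * ε =
        A * B * ε - v • (A * ε) - u • (B * ε) + (u * v) • ε := by
      intro u v
      simp only [sub_mul, mul_sub, smul_mul_assoc, mul_smul_comm, mul_one, one_mul]
      module
    have h2 : ∀ u v : ℝ, (B - v • (1 : M)) * (A - u • (1 : M)) * ε =
        B * A * ε - v • (A * ε) - u • (B * ε) + (u * v) • ε := by
      intro u v
      simp only [sub_mul, mul_sub, smul_mul_assoc, mul_smul_comm, mul_one, one_mul]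
      module
    rw [h1, h2, hY]
  have rA : A * (A - α' • (1 : M)) = α • (A - α' • (1 : M)) := by
    simp only [mul_sub, hA, mul_smul_comm, mul_one]
    module
  have rB : B * (B - β' • (1 : M)) = β • (B - β' • (1 : M)) := by
    simp only [mul_sub, hB, mul_smul_comm, mul_one]
    module
  have rA' : (A - α' • (1 : M)) * A = α • (A - α' • (1 : M)) := by
    simp only [sub_mul, hA, smul_mul_assoc, one_mul]
    module
  have rB' : (B - β' • (1 : M)) * B = β • (B - β' • (1 : M)) := by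
    simp only [sub_mul, hB, smul_mul_assoc, one_mul]
    module
  have xA : A * x = α • x := by
    rw [hx, ← mul_assoc, ← mul_assoc, rA, smul_mul_assoc, smul_mul_assoc]
  have xB : B * x = β • x := by
    rw [hx', ← mul_assoc, ← mul_assoc, rB, smul_mul_assoc, smul_mul_assoc]
  have xB' : x * B = β • x := by
    rw [hx, mul_assoc, ← hεB, ← mul_assoc, mul_assoc (A - α' • (1 : M)), rB', mul_smul_comm, smul_mul_assoc]
  have xA' : x * A = α • x := by
    rw [hx', mul_assoc, ← hεA, ← mul_assoc, mul_assoc (B - β' • (1 : M)), rA', mul_smul_comm, smul_mul_assoc]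
  refine ⟨by rw [mul_smul_comm, xA, smul_comm], by rw [mul_smul_comm, xB, smul_comm],
    by rw [smul_mul_assoc, xA', smul_comm], by rw [smul_mul_assoc, xB', smul_comm], ?_⟩
  have xx : x * x = ((α - α') * (β - β')) • x := by
    have h1 : x * (A - α' • (1 : M)) = (α - α') • x := by
      rw [mul_sub, xA', mul_smul_comm, mul_one, sub_smul]
    have h2 : x * (B - β' • (1 : M)) = (β - β') • x := by
      rw [mul_sub, xB', mul_smul_comm, mul_one, sub_smul]
    have h3 : x * ε = x := by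
      rw [hx, mul_assoc, hεε]
    calc x * x = x * (A - α' • (1 : M)) * (B - β' • (1 : M)) * ε := by
          nth_rw 2 [hx]
          simp only [mul_assoc]
      _ = _ := by
          rw [h1, smul_mul_assoc, h2, smul_mul_assoc, smul_mul_assoc, h3, smul_smul]
  rw [smul_mul_smul_comm, xx, smul_smul]
  congr 1
  rw [hk]
  have : (α - α') * (β - β') ≠ 0 := mul_ne_zero hα hβ
  field_simp

/-- the idempotents fix the eigenvectors -/
theorem eps_mul {p : ℝ[X]} {x : M} {u : ℝ} (hx : zc A B a b * x = u • x) :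
    aeval (zc A B a b) p * x = p.eval u • x := by
  induction p using Polynomial.induction_on' with
  | add p q hp hq => rw [map_add, add_mul, hp, hq, eval_add, add_smul]
  | monomial n r =>
    rw [aeval_monomial, Algebra.algebraMap_eq_smul_one, smul_mul_assoc, one_mul, smul_mul_assoc, eval_monomial,
      mul_smul]
    congr 1
    induction n with
    | zero => simp
    | succ n ih => rw [pow_succ, mul_assoc, hx, mul_smul_comm, ih, smul_smul, pow_succ, mul_comm]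

theorem zc_mul {x : M} {α β : ℝ} (h1 : A * x = α • x) (h2 : B * x = β • x) :
    zc A B a b * x = (2 * (α * β) - (a - 1) * β - (b - 1) * α + (a - 1) * (b - 1)) • x := by
  unfold zc
  simp only [add_mul, sub_mul, smul_mul_assoc, one_mul, mul_assoc, h1, h2, mul_smul_comm]
  module

/-- **the four idempotents** -/
theorem exists_idem (hA : A * A = (a - 1) • A + a • (1 : M)) (hB : B * B = (b - 1) • B + b • (1 : M))
    (hbr : alt 8 A B = alt 8 B A) (ha : 1 < a) (hb : 1 < b) : ∃ e₁ e₂ e₃ e₄ W : M,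
      Eig A B e₁ a b ∧ Eig A B e₂ a (-1) ∧ Eig A B e₃ (-1) b ∧ Eig A B e₄ (-1) (-1) ∧
      (1 + a)⁻¹ • ((2 : ℝ) • A + (1 - a) • (1 : M)) = e₁ + e₂ - e₃ - e₄ +
        ((2 : ℝ) • A + (1 - a) • (1 : M)) * Yc A B * (Yc A B * W) ∧
      W * A = A * W ∧ W * B = B * W ∧
      (∃ p : ℝ[X], W = aeval (zc A B a b) p) ∧
      (∀ x : M, A * x = a • x → B * x = (-1 : ℝ) • x → e₂ * x = x) ∧
      (∀ x : M, A * x = (-1 : ℝ) • x → B * x = b • x → e₃ * x = x) := by
  obtain ⟨α, β, h0, h1, h2⟩ := exists_eps hA hB hbr ha hb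
  have h3 := eps_sq hA hB h1 h2
  have hzA := zc_A (B := B) (b := b) hA
  have hzB := zc_B (A := A) (a := a) hB
  have hεA := comm_aeval hzA (α * pp a b)
  have hεB := comm_aeval hzB (α * pp a b)
  have hβA := comm_aeval hzA β
  have hβB := comm_aeval hzB β
  have hev : ∀ u : ℝ, (ff a b).eval u = 0 → (α * pp a b).eval u = 1 := by
    intro u hu
    have h4 := congrArg (Polynomial.eval u) h0
    rw [eval_add, eval_mul (p := β), hu, mul_zero, add_zero, eval_one] at h4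
    exact h4
  have hff : ∀ u : ℝ, (ff a b).eval u = (u - (1 + a * b)) * (u + (a + b)) := by
    intro u
    unfold ff
    rw [eval_mul, eval_sub, eval_sub, eval_X, eval_C, eval_C, sub_neg_eq_add]
  have hfix : ∀ (x : M) (u v : ℝ), A * x = u • x → B * x = v • x → (ff a b).eval
      (2 * (u * v) - (a - 1) * v - (b - 1) * u + (a - 1) * (b - 1)) = 0 →
      aeval (zc A B a b) (α * pp a b) * x = x := by
    intro x u v hu hv h4
    rw [eps_mul (zc_mul hu hv), hev _ h4, one_smul]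
  set ε := aeval (zc A B a b) (α * pp a b) with hε
  have hAp : A * A = (a + -1) • A - (a * -1) • (1 : M) := by rw [hA]; module
  have hAm : A * A = (-1 + a) • A - (-1 * a) • (1 : M) := by rw [hA]; module
  have hBp : B * B = (b + -1) • B - (b * -1) • (1 : M) := by rw [hB]; module
  have hBm : B * B = (-1 + b) • B - (-1 * b) • (1 : M) := by rw [hB]; module
  have n1 : a - -1 ≠ 0 := by
    have : 0 < a - -1 := by linarith
    exact this.ne'
  have n2 : -1 - a ≠ 0 := by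
    have : -1 - a < 0 := by linarith
    exact this.ne
  have n3 : b - -1 ≠ 0 := by
    have : 0 < b - -1 := by linarith
    exact this.ne'
  have n4 : -1 - b ≠ 0 := by
    have : -1 - b < 0 := by linarith
    exact this.ne
  have E1 := eig_of hεA hεB h2 h3 hAp hBp n1 n3
  have E2 := eig_of hεA hεB h2 h3 hAp hBm n1 n4
  have E3 := eig_of hεA hεB h2 h3 hAm hBp n2 n3
  have E4 := eig_of hεA hεB h2 h3 hAm hBm n2 n4
  have n5 : 1 + a ≠ 0 := by
    have : 0 < 1 + a := by linarith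
    exact this.ne'
  have n6 : 1 + b ≠ 0 := by
    have : 0 < 1 + b := by linarith
    exact this.ne'
  refine ⟨_, _, _, _, (1 + a)⁻¹ • aeval (zc A B a b) β, E1, E2, E3, E4, ?_, ?_, ?_, ?_, ?_, ?_⟩
  · set R : M := (2 : ℝ) • A + (1 - a) • (1 : M) with hR
    have h5 : (1 + a)⁻¹ • R = (1 + a)⁻¹ • (R * ε) + (1 + a)⁻¹ • (R * (aeval (zc A B a b) β * (Yc A B * Yc A B))) := by
      rw [← smul_add, ← mul_add, h1, mul_one]
    have h6 : aeval (zc A B a b) β * Yc A B = Yc A B * aeval (zc A B a b) β := by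
      unfold Yc
      rw [mul_sub, sub_mul]
      congr 1
      · rw [← mul_assoc, ← hβA, mul_assoc, ← hβB, mul_assoc]
      · rw [← mul_assoc, ← hβB, mul_assoc, ← hβA, mul_assoc]
    have h7 : (1 + a)⁻¹ • (R * (aeval (zc A B a b) β * (Yc A B * Yc A B))) =
        R * Yc A B * (Yc A B * ((1 + a)⁻¹ • aeval (zc A B a b) β)) := by
      rw [mul_smul_comm, mul_smul_comm]
      congr 1
      rw [← mul_assoc (aeval (zc A B a b) β), h6, mul_assoc, mul_assoc, h6]
    rw [h5, h7]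
    congr 1
    have h8 : ∀ u v : ℝ, (A - u • (1 : M)) * (B - v • (1 : M)) * ε =
        A * B * ε - v • (A * ε) - u • (B * ε) + (u * v) • ε := by
      intro u v
      simp only [sub_mul, mul_sub, smul_mul_assoc, mul_smul_comm, mul_one, one_mul]
      module
    rw [h8, h8, h8, h8, hR, add_mul, smul_mul_assoc, smul_mul_assoc, one_mul]
    have n7 : a + 1 ≠ 0 := by rwa [add_comm] at n5
    have n8 : b + 1 ≠ 0 := by rwa [add_comm] at n6
    have i1 : ((a - -1) * (b - -1))⁻¹ = ((a + 1) * (b + 1))⁻¹ := by ring_nf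
    have i2 : ((a - -1) * (-1 - b))⁻¹ = -((a + 1) * (b + 1))⁻¹ := by
      rw [← inv_neg]; ring_nf
    have i3 : ((-1 - a) * (b - -1))⁻¹ = -((a + 1) * (b + 1))⁻¹ := by
      rw [← inv_neg]; ring_nf
    have i4 : ((-1 - a) * (-1 - b))⁻¹ = ((a + 1) * (b + 1))⁻¹ := by ring_nf
    rw [i1, i2, i3, i4]
    match_scalars <;> (field_simp; try ring)
  · rw [smul_mul_assoc, mul_smul_comm, hβA]
  · rw [smul_mul_assoc, mul_smul_comm, hβB]
  · exact ⟨(1 + a)⁻¹ • β, by rw [map_smul]⟩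
  · intro x hx1 hx2
    have h9 := hfix x a (-1) hx1 hx2 (by rw [hff]; ring)
    rw [smul_mul_assoc, mul_assoc, h9, mul_assoc, sub_mul B, hx2, smul_mul_assoc, one_mul]
    have e1 : (-1 : ℝ) • x - b • x = (-1 - b) • x := by module
    have e2 : (A - (-1 : ℝ) • (1 : M)) * x = (a - -1) • x := by
      rw [sub_mul, hx1, smul_mul_assoc, one_mul]; module
    rw [e1, mul_smul_comm, e2, smul_smul, smul_smul]
    have : ((a - -1) * (-1 - b))⁻¹ * (-1 - b) * (a - -1) = 1 := by field_simp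
    rw [this, one_smul]
  · intro x hx1 hx2
    have h9 := hfix x (-1) b hx1 hx2 (by rw [hff]; ring)
    rw [smul_mul_assoc, mul_assoc, h9, mul_assoc, sub_mul B, hx2, smul_mul_assoc, one_mul]
    have e1 : b • x - (-1 : ℝ) • x = (b - -1) • x := by module
    have e2 : (A - a • (1 : M)) * x = (-1 - a) • x := by
      rw [sub_mul, hx1, smul_mul_assoc, one_mul]; module
    rw [e1, mul_smul_comm, e2, smul_smul, smul_smul]
    have : ((-1 - a) * (b - -1))⁻¹ * (b - -1) * (-1 - a) = 1 := by field_simp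
    rw [this, one_smul]

end Cfsg.Agent.H315.TF8
end

-- part: H315/TF8/Prin
section
/-!
# S2452, `²F₄(8)` : the principal series at a regular element of a minimal parabolic subgroup (helper315)

`prin` : for an irreducible character `χ` with `2 [χ, 1]_P - [χ, 1]_B ≠ 0` (`P = P_s`): `χ = 1`, `χ = S` (one fixed
character) or `r ∣ χ(1)`, if `r` divides the degrees of the two mixed linear characters of the Hecke algebra.
-/

set_option autoImplicit false
set_option linter.unusedSectionVars false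

namespace Cfsg.Agent.H315.TF8

open Cfsg Cfsg.Agent.LieRecognition.FeitHigmanGroup Cfsg.Agent.LieExceptional.BNPairCore
open Cfsg.Agent.H740.Eight.Hecke Cfsg.Agent.H740.Eight.HeckeDeg Cfsg.Agent.H315.HT
open Cfsg.Agent.Characters.Core

universe u

section alg

variable {M : Type*} [Ring M] [Algebra ℝ M] {A B : M} {a b c : ℝ}

theorem zz_mul {x : M} (h1 : A * x = a • x) (h2 : B * x = (-1 : ℝ) • x) (hb : b ≠ 0) (hc : b * c = -1) :
    zz A B c * x = kap a b • x := by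
  have h := alt_zz h1 h2
  have hc' : c = - b⁻¹ := by field_simp; linarith
  rw [zz_eq]
  simp only [add_mul, smul_mul_assoc, one_mul, (h 1).1, (h 1).2, (h 2).1, (h 2).2, (h 3).1, (h 3).2, (h 4).1,
    (h 4).2, (h 5).1, (h 5).2, (h 6).1, (h 6).2, (h 7).1, (h 7).2, (h 8).1, Nat.reduceAdd, Nat.reduceDiv]
  rw [kap, hc']
  match_scalars
  ring

end alg

section tau

variable {G : Type u} [Group G] {X : Type*} [MulAction G X] [Fintype X] [DecidableEq X]

/-- the class function of an invariant matrix -/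
def tau (h : Matrix X X ℝ) (g : G) : ℝ := ∑ x, h x (g • x)

theorem tau_add (h k : Matrix X X ℝ) (g : G) : tau (h + k) g = tau h g + tau k g := by
  unfold tau
  rw [← Finset.sum_add_distrib]
  rfl

theorem tau_sub (h k : Matrix X X ℝ) (g : G) : tau (h - k) g = tau h g - tau k g := by
  unfold tau
  rw [← Finset.sum_sub_distrib]
  rfl

theorem tau_neg (h : Matrix X X ℝ) (g : G) : tau (-h) g = - tau h g := by
  unfold tau
  rw [← Finset.sum_neg_distrib]
  rfl

/-- trace property -/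
theorem tau_comm {h : Matrix X X ℝ} (hh : Inv G h) (k : Matrix X X ℝ) (g : G) : tau (h * k) g = tau (k * h) g := by
  unfold tau
  have e1 : ∀ x, (k * h) x (g • x) = ∑ y, k x (g • y) * h y x := by
    intro x
    rw [Matrix.mul_apply]
    refine (Fintype.sum_equiv (MulAction.toPerm g) _ _ fun y => ?_).symm
    show k x (g • y) * h y x = k x (g • y) * h (g • y) (g • x)
    rw [hh]
  have e2 : ∀ x, (h * k) x (g • x) = ∑ y, k y (g • x) * h x y := by
    intro x
    rw [Matrix.mul_apply]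
    exact Fintype.sum_congr _ _ fun y => mul_comm _ _
  rw [Fintype.sum_congr _ _ e1, Fintype.sum_congr _ _ e2, Finset.sum_comm]

/-- the algebra of the invariant matrices -/
def IA (G : Type u) [Group G] (X : Type*) [MulAction G X] [Fintype X] [DecidableEq X] : Subalgebra ℝ (Matrix X X ℝ) where
  carrier := {M | Inv G M}
  mul_mem' := fun ha hb => Inv.mul ha hb
  add_mem' := fun ha hb => Inv.add ha hb
  algebraMap_mem' := fun r => by
    show Inv G (algebraMap ℝ (Matrix X X ℝ) r)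
    rw [Algebra.algebraMap_eq_smul_one]
    exact Inv.smul r Inv.one

theorem alt_coe (x y : IA G X) : ∀ k : ℕ, ((alt k x y : IA G X) : Matrix X X ℝ) = alt k (x : Matrix X X ℝ) y ∧
    ((alt k y x : IA G X) : Matrix X X ℝ) = alt k (y : Matrix X X ℝ) x := by
  intro k
  induction k with
  | zero => exact ⟨rfl, rfl⟩
  | succ k ih =>
    constructor
    · rw [alt_succ, alt_succ, ← ih.2]; rfl
    · rw [alt_succ, alt_succ, ← ih.1]; rfl

end tau

section bn

variable {G : Type u} [Group G] {P : BNPair G} [Finite G] [Fintype (G ⧸ P.B)] [DecidableEq (G ⧸ P.B)] {s t : G}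

/-- an idempotent with a linear character is primitive -/
theorem prim_of (hS : P.S = {s, t}) {e : Matrix (G ⧸ P.B) (G ⧸ P.B) ℝ} {α β : ℝ} (h1 : T P s * e = α • e)
    (h2 : T P t * e = β • e) (hee : e * e = e) {M : Matrix (G ⧸ P.B) (G ⧸ P.B) ℂ} (hM : Inv G M) :
    ∃ c : ℂ, e.map Complex.ofReal * M * e.map Complex.ofReal = c • e.map Complex.ofReal := by
  have hcor : ∀ w : G, ∃ c : ℝ, e * T P w * e = c • e := by
    intro w
    have h4 : T P w * e ∈ Submodule.span ℝ {e} := by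
      refine T_mul_mem hS _ ?_ ?_ w (Submodule.mem_span_singleton_self e)
      · intro x hx
        obtain ⟨c, rfl⟩ := Submodule.mem_span_singleton.1 hx
        rw [mul_smul_comm, h1]
        exact Submodule.smul_mem _ _ (Submodule.smul_mem _ _ (Submodule.mem_span_singleton_self _))
      · intro x hx
        obtain ⟨c, rfl⟩ := Submodule.mem_span_singleton.1 hx
        rw [mul_smul_comm, h2]
        exact Submodule.smul_mem _ _ (Submodule.smul_mem _ _ (Submodule.mem_span_singleton_self _))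
    obtain ⟨c, hc⟩ := Submodule.mem_span_singleton.1 h4
    exact ⟨c, by rw [mul_assoc, ← hc, mul_smul_comm, hee]⟩
  refine Submodule.span_induction (p := fun M _ => ∃ c : ℂ, e.map Complex.ofReal * M * e.map Complex.ofReal =
    c • e.map Complex.ofReal) ?_ ?_ ?_ ?_ (mem_span hM)
  · rintro _ ⟨w, rfl⟩
    obtain ⟨c, hc⟩ := hcor w
    refine ⟨c, ?_⟩
    show e.map Complex.ofReal * (T P w).map Complex.ofReal * e.map Complex.ofReal = _
    rw [← map_mul', ← map_mul', hc]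
    ext x y
    simp
  · exact ⟨0, by simp⟩
  · rintro A B _ _ ⟨a, ha⟩ ⟨b, hb⟩
    exact ⟨a + b, by rw [mul_add, add_mul, ha, hb, add_smul]⟩
  · rintro a A _ ⟨b, hb⟩
    exact ⟨a * b, by rw [mul_smul_comm, smul_mul_assoc, hb, smul_smul]⟩

/-- the character of such an idempotent: zero or irreducible -/
theorem tau_irr (hS : P.S = {s, t}) {e : Matrix (G ⧸ P.B) (G ⧸ P.B) ℝ} (hinv : Inv G e) {α β : ℝ}
    (h1 : T P s * e = α • e) (h2 : T P t * e = β • e) (hee : e * e = e) :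
    (∀ g : G, tau e g = 0) ∨ IsIrrCharacter G (fun g : G => ((tau e g : ℝ) : ℂ)) := by
  by_cases h0 : e = 0
  · left
    intro g
    unfold tau
    rw [h0]
    simp
  · right
    have h3 : IsIrrCharacter G (fun g : G => ∑ x, (e.map Complex.ofReal) x (g • x)) := by
      refine idem_char (Inv.map _ hinv) ?_ ?_ fun M hM => prim_of hS h1 h2 hee hM
      · rw [← map_mul', hee]
      · intro h
        apply h0
        ext x y
        have := congrFun (congrFun h x) y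
        rw [Matrix.map_apply, Matrix.zero_apply] at this
        exact_mod_cast this
    have e3 : (fun g : G => ((tau e g : ℝ) : ℂ)) = fun g : G => ∑ x, (e.map Complex.ofReal) x (g • x) := by
      funext g
      unfold tau
      rw [Complex.ofReal_sum]
      rfl
    rw [e3]
    exact h3

/-- the matrix of `1 - St` on the panels of type `s` -/
noncomputable def Dm (P : BNPair G) [Fintype (G ⧸ P.B)] [DecidableEq (G ⧸ P.B)] (s : G) :
    Matrix (G ⧸ P.B) (G ⧸ P.B) ℝ :=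
  (1 + (q P s : ℝ))⁻¹ • ((2 : ℝ) • T P s + (1 - (q P s : ℝ)) • 1)

/-- **the class function of `Dm` is a combination of four irreducible characters** -/
theorem tau_Dm (hS : P.S = {s, t}) (hst : s ≠ t) (h16 : ((P.B ⊓ P.N).subgroupOf P.N).index = 16) :
    ∃ e₁ e₄ : Matrix (G ⧸ P.B) (G ⧸ P.B) ℝ,
      ((∀ g : G, tau e₁ g = 0) ∨ IsIrrCharacter G (fun g : G => ((tau e₁ g : ℝ) : ℂ))) ∧
      ((∀ g : G, tau e₄ g = 0) ∨ IsIrrCharacter G (fun g : G => ((tau e₄ g : ℝ) : ℂ))) ∧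
      ∀ g : G, ((tau (Dm P s) g : ℝ) : ℂ) = tau e₁ g + ∑ x, eC P s t x (g • x) - ∑ x, eC P t s x (g • x) - tau e₄ g := by
  have hs : s ∈ P.S := by rw [hS]; simp
  have ht : t ∈ P.S := by rw [hS]; simp
  have hS' : P.S = {t, s} := by rw [hS]; exact Set.pair_comm _ _
  have hs2 := two_le_q (P := P) hs
  have ht2 := two_le_q (P := P) ht
  set a : ℝ := (q P s : ℝ) with ha
  set b : ℝ := (q P t : ℝ) with hb
  have ha1 : 1 < a := by rw [ha]; exact_mod_cast (by omega : 1 < q P s)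
  have hb1 : 1 < b := by rw [hb]; exact_mod_cast (by omega : 1 < q P t)
  have ha0 : a ≠ 0 := by
    have : 0 < a := by linarith only [ha1]
    exact this.ne'
  have hb0 : b ≠ 0 := by
    have : 0 < b := by linarith only [hb1]
    exact this.ne'
  have hbr : alt 8 (T P s) (T P t) = alt 8 (T P t) (T P s) := (hecke_data hS hst (n := 8) (by rw [h16])).1
  let A : IA G (G ⧸ P.B) := ⟨T P s, inv_T (P := P) s⟩
  let B : IA G (G ⧸ P.B) := ⟨T P t, inv_T (P := P) t⟩
  have hA : A * A = (a - 1) • A + a • (1 : IA G (G ⧸ P.B)) := Subtype.ext (T_sq hs)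
  have hB : B * B = (b - 1) • B + b • (1 : IA G (G ⧸ P.B)) := Subtype.ext (T_sq ht)
  have hbr' : alt 8 A B = alt 8 B A := by
    apply Subtype.ext
    rw [(alt_coe A B 8).1, (alt_coe A B 8).2]
    exact hbr
  obtain ⟨e₁, e₂, e₃, e₄, W, E1, E2, E3, E4, hsum, hWA, hWB, -, h2, h3⟩ := exists_idem hA hB hbr' ha1 hb1
  have cA : ∀ {x : IA G (G ⧸ P.B)} {α : ℝ}, A * x = α • x → T P s * (x : Matrix (G ⧸ P.B) (G ⧸ P.B) ℝ) =
      α • (x : Matrix (G ⧸ P.B) (G ⧸ P.B) ℝ) := fun h => congrArg Subtype.val h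
  have cB : ∀ {x : IA G (G ⧸ P.B)} {α : ℝ}, B * x = α • x → T P t * (x : Matrix (G ⧸ P.B) (G ⧸ P.B) ℝ) =
      α • (x : Matrix (G ⧸ P.B) (G ⧸ P.B) ℝ) := fun h => congrArg Subtype.val h
  have cs : ∀ {x : IA G (G ⧸ P.B)}, x * x = x → (x : Matrix (G ⧸ P.B) (G ⧸ P.B) ℝ) * (x : Matrix (G ⧸ P.B) (G ⧸ P.B) ℝ) =
      x := fun h => congrArg Subtype.val h
  refine ⟨e₁, e₄, tau_irr hS e₁.2 (cA E1.hA) (cB E1.hB) (cs E1.sq), tau_irr hS e₄.2 (cA E4.hA) (cB E4.hB) (cs E4.sq), ?_⟩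
  intro g
  -- the commutator part
  have hR0 : ((2 : ℝ) • A + (1 - a) • (1 : IA G (G ⧸ P.B))) * Yc A B =
      - (Yc A B * ((2 : ℝ) • A + (1 - a) • (1 : IA G (G ⧸ P.B)))) := (anti hA :)
  set R : IA G (G ⧸ P.B) := (2 : ℝ) • A + (1 - a) • (1 : IA G (G ⧸ P.B)) with hR
  have hWR : W * R = R * W := by
    rw [hR, mul_add, add_mul, mul_smul_comm, smul_mul_assoc, mul_smul_comm, smul_mul_assoc, hWA, mul_one, one_mul]
  have hWY : W * Yc A B = Yc A B * W := by
    unfold Yc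
    rw [mul_sub, sub_mul, ← mul_assoc, hWA, mul_assoc, hWB, ← mul_assoc, ← mul_assoc W, hWB, mul_assoc B W, hWA,
      ← mul_assoc B]
  have hzero : tau ((R * Yc A B * (Yc A B * W) : IA G (G ⧸ P.B)) : Matrix (G ⧸ P.B) (G ⧸ P.B) ℝ) g = 0 := by
    have e1 : Yc A B * W * (R * Yc A B) = -(R * Yc A B * (Yc A B * W)) := by
      calc Yc A B * W * (R * Yc A B) = Yc A B * (W * R) * Yc A B := by simp only [mul_assoc]
        _ = Yc A B * R * (W * Yc A B) := by rw [hWR]; simp only [mul_assoc]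
        _ = Yc A B * R * (Yc A B * W) := by rw [hWY]
        _ = _ := by
          have hR1 : R * Yc A B * (Yc A B * W) + Yc A B * R * (Yc A B * W) = 0 := by
            rw [← add_mul, hR0, neg_add_cancel, zero_mul]
          exact (neg_eq_of_add_eq_zero_right hR1).symm
    have e2 := tau_comm (G := G) (R * Yc A B : IA G (G ⧸ P.B)).2 ((Yc A B * W : IA G (G ⧸ P.B)) :
      Matrix (G ⧸ P.B) (G ⧸ P.B) ℝ) g
    have e3 : (((R * Yc A B * (Yc A B * W) : IA G (G ⧸ P.B))) : Matrix (G ⧸ P.B) (G ⧸ P.B) ℝ) =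
        ((R * Yc A B : IA G (G ⧸ P.B)) : Matrix (G ⧸ P.B) (G ⧸ P.B) ℝ) *
          ((Yc A B * W : IA G (G ⧸ P.B)) : Matrix (G ⧸ P.B) (G ⧸ P.B) ℝ) := rfl
    have e4 : ((Yc A B * W : IA G (G ⧸ P.B)) : Matrix (G ⧸ P.B) (G ⧸ P.B) ℝ) *
        ((R * Yc A B : IA G (G ⧸ P.B)) : Matrix (G ⧸ P.B) (G ⧸ P.B) ℝ) =
        -(((R * Yc A B * (Yc A B * W) : IA G (G ⧸ P.B))) : Matrix (G ⧸ P.B) (G ⧸ P.B) ℝ) := congrArg Subtype.val e1
    rw [← e3, e4, tau_neg] at e2
    linarith only [e2]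
  have hD : (Dm P s) = ((e₁ : IA G (G ⧸ P.B)) : Matrix (G ⧸ P.B) (G ⧸ P.B) ℝ) + e₂ - e₃ - e₄ +
      ((R * Yc A B * (Yc A B * W) : IA G (G ⧸ P.B)) : Matrix (G ⧸ P.B) (G ⧸ P.B) ℝ) := congrArg Subtype.val hsum
  -- the mixed idempotents
  have mix : ∀ {x : Matrix (G ⧸ P.B) (G ⧸ P.B) ℝ} {y : Matrix (G ⧸ P.B) (G ⧸ P.B) ℝ}, Inv G x →
      x * y = y → y * x = x → tau x g = tau y g := by
    intro x y hx h4 h5
    rw [← h4, tau_comm hx, h5]
  have m2 : tau (e₂ : Matrix (G ⧸ P.B) (G ⧸ P.B) ℝ) g = tau ((kap a b)⁻¹ • zz (T P s) (T P t) (-b⁻¹)) g := by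
    have hk : kap a b ≠ 0 := (kap_q hS hst h16).ne'
    obtain ⟨h5, h6, -⟩ := z_props hS hst h16
    have hz : Inv G (zz (T P s) (T P t) (-b⁻¹)) := inv_zz (inv_T (P := P) s) (inv_T (P := P) t) _
    let z' : IA G (G ⧸ P.B) := ⟨(kap a b)⁻¹ • zz (T P s) (T P t) (-b⁻¹), Inv.smul _ hz⟩
    have h7 : e₂ * z' = z' := by
      refine h2 z' (Subtype.ext ?_) (Subtype.ext ?_)
      · show T P s * ((kap a b)⁻¹ • zz (T P s) (T P t) (-b⁻¹)) = a • ((kap a b)⁻¹ • zz (T P s) (T P t) (-b⁻¹))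
        rw [mul_smul_comm, h5, smul_comm]
      · show T P t * ((kap a b)⁻¹ • zz (T P s) (T P t) (-b⁻¹)) = (-1 : ℝ) • ((kap a b)⁻¹ • zz (T P s) (T P t) (-b⁻¹))
        rw [mul_smul_comm, h6, smul_comm]
    refine mix e₂.2 (congrArg Subtype.val h7) ?_
    rw [smul_mul_assoc, zz_mul (cA E2.hA) (cB E2.hB) hb0 (by field_simp), smul_smul, inv_mul_cancel₀ hk, one_smul]
  have m3 : tau (e₃ : Matrix (G ⧸ P.B) (G ⧸ P.B) ℝ) g = tau ((kap b a)⁻¹ • zz (T P t) (T P s) (-a⁻¹)) g := by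
    have hk : kap b a ≠ 0 := (kap_q hS' hst.symm h16).ne'
    obtain ⟨h5, h6, -⟩ := z_props hS' hst.symm h16
    have hz : Inv G (zz (T P t) (T P s) (-a⁻¹)) := inv_zz (inv_T (P := P) t) (inv_T (P := P) s) _
    let z' : IA G (G ⧸ P.B) := ⟨(kap b a)⁻¹ • zz (T P t) (T P s) (-a⁻¹), Inv.smul _ hz⟩
    have h7 : e₃ * z' = z' := by
      refine h3 z' (Subtype.ext ?_) (Subtype.ext ?_)
      · show T P s * ((kap b a)⁻¹ • zz (T P t) (T P s) (-a⁻¹)) = (-1 : ℝ) • ((kap b a)⁻¹ • zz (T P t) (T P s) (-a⁻¹))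
        rw [mul_smul_comm, h6, smul_comm]
      · show T P t * ((kap b a)⁻¹ • zz (T P t) (T P s) (-a⁻¹)) = b • ((kap b a)⁻¹ • zz (T P t) (T P s) (-a⁻¹))
        rw [mul_smul_comm, h5, smul_comm]
    refine mix e₃.2 (congrArg Subtype.val h7) ?_
    rw [smul_mul_assoc, zz_mul (cB E3.hB) (cA E3.hA) ha0 (by field_simp), smul_smul, inv_mul_cancel₀ hk, one_smul]
  have c2 : ∑ x, eC P s t x (g • x) = ((tau ((kap a b)⁻¹ • zz (T P s) (T P t) (-b⁻¹)) g : ℝ) : ℂ) := by
    unfold tau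
    rw [Complex.ofReal_sum]
    rfl
  have c3 : ∑ x, eC P t s x (g • x) = ((tau ((kap b a)⁻¹ • zz (T P t) (T P s) (-a⁻¹)) g : ℝ) : ℂ) := by
    unfold tau
    rw [Complex.ofReal_sum]
    rfl
  rw [hD, tau_add, hzero, add_zero, tau_sub, tau_sub, tau_add, c2, c3, m2, m3]
  push_cast
  ring

theorem tau_sum [Fintype G] {c : G → ℂ} (hc : IsClassFunction G c) (hs : s ∈ P.S)
    (hPi : Nat.card (P.parabolic {s}) = (1 + q P s) * Nat.card P.B) [Fintype P.B] [Fintype (P.parabolic {s})] :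
    (Nat.card G : ℂ)⁻¹ * ∑ g : G, ((tau (Dm P s) g : ℝ) : ℂ) * c g =
      2 * ((Nat.card (P.parabolic {s}) : ℂ)⁻¹ * ∑ g : P.parabolic {s}, c g) -
        (Nat.card P.B : ℂ)⁻¹ * ∑ g : P.B, c g := by
  classical
  have hinv : Inv G ((Dm P s).map Complex.ofReal) :=
    Inv.map _ (Inv.smul _ (Inv.add (Inv.smul _ (inv_T (P := P) s)) (Inv.smul _ Inv.one)))
  have h1 := sum_inv_mul hinv hc
  have h2 : ∀ g : G, ((tau (Dm P s) g : ℝ) : ℂ) = ∑ x, ((Dm P s).map Complex.ofReal) x (g • x) := by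
    intro g
    unfold tau
    rw [Complex.ofReal_sum]
    rfl
  simp only [h2]
  rw [h1]
  set a : ℝ := (q P s : ℝ) with ha
  have ha1 : (1 + a : ℝ) ≠ 0 := by positivity
  have ha1' : (1 + a : ℂ) ≠ 0 := by exact_mod_cast ha1
  have hmkC : ∀ g : G, R P s ((1 : G) : G ⧸ P.B) (g • ((1 : G) : G ⧸ P.B)) ↔ g ∈ C P s := by
    intro g
    have e : g • ((1 : G) : G ⧸ P.B) = ((g : G) : G ⧸ P.B) := by
      show ((g * 1 : G) : G ⧸ P.B) = _
      rw [mul_one]
    rw [e, R_mk_iff, inv_one, one_mul]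
  have hmkB : ∀ g : G, ((1 : G) : G ⧸ P.B) = g • ((1 : G) : G ⧸ P.B) ↔ g ∈ P.B := by
    intro g
    have e : g • ((1 : G) : G ⧸ P.B) = ((g : G) : G ⧸ P.B) := by
      show ((g * 1 : G) : G ⧸ P.B) = _
      rw [mul_one]
    rw [e, QuotientGroup.eq, inv_one, one_mul]
  have hpar : ∀ g : G, g ∈ P.parabolic {s} ↔ g ∈ P.B ∨ g ∈ C P s := by
    intro g
    constructor
    · exact Cfsg.Agent.H978.BR.mem_par hs
    · rintro (h | h)
      · exact (le_sup_left : P.B ≤ P.parabolic {s}) h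
      · exact mem_of_mem_C' (P := P) le_sup_left h
          ((le_sup_right : Subgroup.closure {s} ≤ _) (Subgroup.subset_closure rfl))
  have hdis : ∀ g : G, g ∈ P.B → g ∉ C P s := by
    intro g hB hz
    have h4 := C_eq_of_mem hz
    have h5 := C_eq_of_mem ((mem_C_one (P := P)).2 hB)
    have h6 := self_mem_C (P := P) s
    rw [← h4, h5, mem_C_one] at h6
    exact not_mem_B hs h6
  have h3 : ∀ g : G, ((Dm P s).map Complex.ofReal) ((1 : G) : G ⧸ P.B) (g • ((1 : G) : G ⧸ P.B)) =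
      (1 + a : ℂ)⁻¹ * (2 * (if g ∈ P.parabolic {s} then 1 else 0) - (1 + a) * (if g ∈ P.B then 1 else 0)) := by
    intro g
    rw [Matrix.map_apply]
    unfold Dm
    rw [← ha, Matrix.smul_apply, Matrix.add_apply, Matrix.smul_apply, Matrix.smul_apply, T_apply, Matrix.one_apply]
    simp only [hmkC, hmkB, hpar]
    by_cases h4 : g ∈ P.B
    · simp only [h4, hdis g h4, if_true, if_false, true_or, smul_eq_mul]
      push_cast
      ring
    · by_cases h5 : g ∈ C P s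
      · simp only [h4, h5, if_true, if_false, or_true, smul_eq_mul]
        push_cast
        ring
      · simp only [h4, h5, if_false, or_self, smul_eq_mul]
        push_cast
        ring
  have hsumH : ∀ (H : Subgroup G) [Fintype H], ∑ g : G, (if g ∈ H then (1 : ℂ) else 0) * c g = ∑ g : H, c g := by
    intro H _
    have e1 : ∀ g : G, (if g ∈ H then (1 : ℂ) else 0) * c g = if g ∈ H then c g else 0 := by
      intro g
      split_ifs <;> simp
    rw [Fintype.sum_congr _ _ e1, ← Finset.sum_filter]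
    refine (Finset.sum_subtype _ (fun x => ?_) _)
    simp
  have h4 : ∑ g : G, ((Dm P s).map Complex.ofReal) ((1 : G) : G ⧸ P.B) (g • ((1 : G) : G ⧸ P.B)) * c g =
      (1 + a : ℂ)⁻¹ * (2 * ∑ g : P.parabolic {s}, c g - (1 + a) * ∑ g : P.B, c g) := by
    rw [← hsumH, ← hsumH, Finset.mul_sum, Finset.mul_sum, ← Finset.sum_sub_distrib, Finset.mul_sum]
    refine Fintype.sum_congr _ _ fun g => ?_
    rw [h3]
    ring
  have h5 : (QuotientGroup.mk 1 : G ⧸ P.B) = ((1 : G) : G ⧸ P.B) := rfl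
  rw [h5, h4]
  have h6 : (Nat.card G : ℂ) = Nat.card P.B * Nat.card (G ⧸ P.B) := by
    rw [← Subgroup.index_eq_card]
    exact_mod_cast (P.B.card_mul_index).symm
  have hB0 : (Nat.card P.B : ℂ) ≠ 0 := by exact_mod_cast Nat.card_pos.ne'
  have hX0 : (Nat.card (G ⧸ P.B) : ℂ) ≠ 0 := by exact_mod_cast Nat.card_pos.ne'
  rw [h6, hPi]
  push_cast
  rw [← Complex.ofReal_natCast (q P s), ← ha]
  field_simp

/-- **the principal series** -/
theorem prin [Fintype G] [Fintype P.B] [Fintype (P.parabolic {s})] (hS : P.S = {s, t}) (hst : s ≠ t)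
    (h16 : ((P.B ⊓ P.N).subgroupOf P.N).index = 16)
    (hPi : Nat.card (P.parabolic {s}) = (1 + q P s) * Nat.card P.B) {r : ℕ} (hr : r.Prime) {d₁ d₂ : ℕ}
    (hd1 : (kap (q P s) (q P t))⁻¹ * Nat.card (G ⧸ P.B) = d₁) (hd2 : (kap (q P t) (q P s))⁻¹ * Nat.card (G ⧸ P.B) = d₂)
    (h1 : r ∣ d₁) (h2 : r ∣ d₂) : ∃ S : IrrCharacter G, ∀ χ : IrrCharacter G,
      2 * ((Nat.card (P.parabolic {s}) : ℂ)⁻¹ * ∑ g : P.parabolic {s}, (χ : G → ℂ) g) -
        (Nat.card P.B : ℂ)⁻¹ * ∑ g : P.B, (χ : G → ℂ) g ≠ 0 →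
      (χ : G → ℂ) = (fun _ => 1) ∨ χ = S ∨ r ∣ charDegree (χ : G → ℂ) := by
  classical
  have hs : s ∈ P.S := by rw [hS]; simp
  have hS' : P.S = {t, s} := by rw [hS]; exact Set.pair_comm _ _
  obtain ⟨e₁, e₄, E1, E4, hD⟩ := tau_Dm hS hst h16
  have f2 : IsIrrCharacter G (fun g => ∑ x, eC P s t x (g • x)) :=
    psiA hS hst h16 (inv_T s) (inv_T t) fun g => ⟨g, fun _ => rfl⟩
  have f3 : IsIrrCharacter G (fun g => ∑ x, eC P t s x (g • x)) :=
    psiA hS' hst.symm h16 (inv_T t) (inv_T s) fun g => ⟨g, fun _ => rfl⟩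
  have g2 : charDegree (fun g : G => ∑ x, eC P s t x (g • x)) = d₁ := by
    have h1 := psi_one hS hst h16 (A := G)
    rw [hd1] at h1
    show ⌊(∑ x, eC P s t x ((1 : G) • x)).re⌋₊ = d₁
    rw [h1]
    simp
  have g3 : charDegree (fun g : G => ∑ x, eC P t s x (g • x)) = d₂ := by
    have h1 := psi_one hS' hst.symm h16 (A := G)
    rw [hd2] at h1
    show ⌊(∑ x, eC P t s x ((1 : G) • x)).re⌋₊ = d₂
    rw [h1]
    simp
  have key : ∀ χ : IrrCharacter G,
      2 * ((Nat.card (P.parabolic {s}) : ℂ)⁻¹ * ∑ g : P.parabolic {s}, (χ : G → ℂ) g) -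
        (Nat.card P.B : ℂ)⁻¹ * ∑ g : P.B, (χ : G → ℂ) g ≠ 0 →
      (IsIrrCharacter G (fun g : G => ((tau e₁ g : ℝ) : ℂ)) ∧ (χ : G → ℂ) = fun g : G => ((tau e₁ g : ℝ) : ℂ)) ∨
      (IsIrrCharacter G (fun g : G => ((tau e₄ g : ℝ) : ℂ)) ∧ (χ : G → ℂ) = fun g : G => ((tau e₄ g : ℝ) : ℂ)) ∨
      r ∣ charDegree (χ : G → ℂ) := by
    intro χ hχ
    rw [← tau_sum (isIrr_isClassFunction χ.2) hs hPi] at hχ
    have hcl : classInner (χ : G → ℂ) (fun g : G => ((tau (Dm P s) g : ℝ) : ℂ)) ≠ 0 := by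
      rw [classInner_def]
      simp only [Complex.conj_ofReal]
      intro h
      apply hχ
      rw [← h]
      congr 1
      exact Fintype.sum_congr _ _ fun g => mul_comm _ _
    have hfun : (fun g : G => ((tau (Dm P s) g : ℝ) : ℂ)) = (fun g : G => ((tau e₁ g : ℝ) : ℂ)) +
        (fun g : G => ∑ x, eC P s t x (g • x)) - (fun g : G => ∑ x, eC P t s x (g • x)) -
        (fun g : G => ((tau e₄ g : ℝ) : ℂ)) := by
      funext g
      rw [hD]
      rfl
    rw [hfun, classInner_sub_right, classInner_sub_right, classInner_add_right] at hcl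
    by_cases c2 : (χ : G → ℂ) = fun g => ∑ x, eC P s t x (g • x)
    · right; right
      rw [c2, g2]
      exact h1
    by_cases c3 : (χ : G → ℂ) = fun g => ∑ x, eC P t s x (g • x)
    · right; right
      rw [c3, g3]
      exact h2
    rw [classInner_irr_ne χ.2 f2 c2, classInner_irr_ne χ.2 f3 c3, add_zero, sub_zero] at hcl
    have hz : ∀ e : Matrix (G ⧸ P.B) (G ⧸ P.B) ℝ, (∀ g : G, tau e g = 0) →
        classInner (χ : G → ℂ) (fun g : G => ((tau e g : ℝ) : ℂ)) = 0 := by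
      intro e he
      rw [classInner_def]
      simp [he]
    rcases E1 with E1 | E1
    · rcases E4 with E4 | E4
      · rw [hz _ E1, hz _ E4, sub_zero] at hcl
        exact (hcl rfl).elim
      · right; left
        refine ⟨E4, ?_⟩
        by_contra hne
        rw [hz _ E1, classInner_irr_ne χ.2 E4 hne, sub_zero] at hcl
        exact hcl rfl
    · by_cases c1 : (χ : G → ℂ) = fun g : G => ((tau e₁ g : ℝ) : ℂ)
      · exact Or.inl ⟨E1, c1⟩
      · rcases E4 with E4 | E4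
        · rw [hz _ E4, classInner_irr_ne χ.2 E1 c1, sub_zero] at hcl
          exact (hcl rfl).elim
        · right; left
          refine ⟨E4, ?_⟩
          by_contra hne
          rw [classInner_irr_ne χ.2 E1 c1, classInner_irr_ne χ.2 E4 hne, sub_zero] at hcl
          exact hcl rfl
  let one : IrrCharacter G := ⟨fun _ => 1, Cfsg.Agent.Blocks.Basic.isIrrCharacter_one⟩
  have hone : 2 * ((Nat.card (P.parabolic {s}) : ℂ)⁻¹ * ∑ g : P.parabolic {s}, (one : G → ℂ) g) -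
        (Nat.card P.B : ℂ)⁻¹ * ∑ g : P.B, (one : G → ℂ) g ≠ 0 := by
    have e1 : ∀ (H : Subgroup G) [Fintype H], (Nat.card H : ℂ)⁻¹ * ∑ g : H, (one : G → ℂ) g = 1 := by
      intro H _
      have e2 : ∑ g : H, (one : G → ℂ) g = (Nat.card H : ℂ) := by
        show ∑ g : H, (1 : ℂ) = _
        rw [Finset.sum_const, nsmul_eq_mul, mul_one, Finset.card_univ, Nat.card_eq_fintype_card]
      rw [e2]
      exact inv_mul_cancel₀ (by exact_mod_cast Nat.card_pos.ne')
    rw [e1, e1]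
    norm_num
  rcases key one hone with ⟨I1, h3⟩ | ⟨I4, h3⟩ | h3
  · by_cases I4 : IsIrrCharacter G (fun g : G => ((tau e₄ g : ℝ) : ℂ))
    · refine ⟨⟨_, I4⟩, fun χ hχ => ?_⟩
      rcases key χ hχ with ⟨-, h⟩ | ⟨-, h⟩ | h
      · exact Or.inl (h.trans h3.symm)
      · exact Or.inr (Or.inl (Subtype.ext h))
      · exact Or.inr (Or.inr h)
    · refine ⟨one, fun χ hχ => ?_⟩
      rcases key χ hχ with ⟨-, h⟩ | ⟨I, -⟩ | h
      · exact Or.inl (h.trans h3.symm)
      · exact (I4 I).elim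
      · exact Or.inr (Or.inr h)
  · by_cases I1 : IsIrrCharacter G (fun g : G => ((tau e₁ g : ℝ) : ℂ))
    · refine ⟨⟨_, I1⟩, fun χ hχ => ?_⟩
      rcases key χ hχ with ⟨-, h⟩ | ⟨-, h⟩ | h
      · exact Or.inr (Or.inl (Subtype.ext h))
      · exact Or.inl (h.trans h3.symm)
      · exact Or.inr (Or.inr h)
    · refine ⟨one, fun χ hχ => ?_⟩
      rcases key χ hχ with ⟨I, -⟩ | ⟨-, h⟩ | h
      · exact (I1 I).elim
      · exact Or.inl (h.trans h3.symm)
      · exact Or.inr (Or.inr h)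
  · exfalso
    have h4 : charDegree (one : G → ℂ) = 1 := by
      show charDegree (fun _ : G => (1 : ℂ)) = 1
      simp [charDegree]
    rw [h4] at h3
    exact hr.one_lt.ne' (Nat.dvd_one.1 h3)

end bn

end Cfsg.Agent.H315.TF8
end

-- part: H315/TF8/Pair
section
/-!
# The (B,N)-pair of `²F₄(q)`, explicit form (helper315, S2452)

After `H740.Eight.TwFTwo.exists_pair`, with the names of the subgroups.
-/

set_option autoImplicit false
set_option linter.unusedSectionVars false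

namespace Cfsg.Agent.H315.TF8

open Cfsg.Lie
open Cfsg.Agent.ChevalleyStructure.TwF4.Tables
open Cfsg.Agent.ChevalleyStructure.TwF4.Rel
open Cfsg.Agent.ChevalleyStructure.TwF4.Groups Cfsg.Agent.ChevalleyStructure.TwF4.RankOne
open Cfsg.Agent.ChevalleyStructure.TwF4.Twisted Cfsg.Agent.ChevalleyStructure.TwF4.TwistedFix
open Cfsg.Agent.ChevalleyStructure.TwF4.BN
open Cfsg.Agent.ChevalleyStructure.TwF4.Torus (T chi T_conj_X T_inr chi_def)
open Cfsg.Agent.ChevalleyStructure.F4NTab (ca)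
open Cfsg.Agent.ChevalleyStructure.TwF4.TwGen (tc tc_mul chi_tc_24 chi_tc_25 chi_tc_33 chi_tc_27 chi28 chi30 pow_all
  n1_eq n2_eq n1_conj_T n2_conj_T)
open Cfsg.Agent.ChevalleyStructure.TwF4.TorusFix (mem_iff pow_unit T_rt rt)
open Cfsg.Agent.ChevalleyStructure.TwF4.Fix (Fix)
open Cfsg.Agent.ChevalleyStructure.TwF4.OrderCls (X_inj)
open Cfsg.Agent.Schreier.TwFFour Cfsg.Agent.Schreier.BNSch
open Cfsg.Agent.Octagon.KSys Cfsg.Agent.Octagon.KPar Cfsg.Agent.Octagon.KRoot Cfsg.Agent.Octagon.Pkg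
open Cfsg.Agent.ParSys.Fam.TwoFFour Cfsg.Agent.FixBN Cfsg.Agent.H69.OctTwF

variable {K : Type*} [Field K] [Fintype K] [CharP K 2] {e : ℕ} {φ : K →+* K}

omit [CharP K 2] in
/-- **The split (B,N)-pair of `²F₄(q)`**, explicit form, with the order of the Weyl group. -/
theorem exists_pairG {m : ℕ} (hK : Fintype.card K = 2 ^ (2 * m + 1)) {φ : K →+* K} [CharP K 2] (hφ : Rln φ (2 ^ m)) :
    ∃ (Q : Cfsg.BNPair ↥(twistedF4 K (2 ^ m))), Q.B = B0 K (2 ^ m) ∧ FixBN.Split Q 2 (U0 K (2 ^ m)) ∧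
      Q.S = {m1 K (2 ^ m), m2 hφ} ∧ (Q.B ⊓ Q.N).relIndex Q.N = 16 ∧
      Node Q (U0 K (2 ^ m)) (m1 K (2 ^ m)) (V1 K (2 ^ m)) ∧ Node Q (U0 K (2 ^ m)) (m2 hφ) (V8 K (2 ^ m)) ∧
      (V1 K (2 ^ m)).relIndex (U0 K (2 ^ m)) = 2 ^ (2 * m + 1) ∧
      (V8 K (2 ^ m)).relIndex (U0 K (2 ^ m)) = (2 ^ (2 * m + 1)) ^ 2 ∧ Nat.card (U0 K (2 ^ m)) = (2 ^ (2 * m + 1)) ^ 12 ∧
      Nat.card ↥(Q.B ⊓ Q.N) = (2 ^ (2 * m + 1) - 1) ^ 2 := by
  have : Fact (Nat.Prime 2) := ⟨Nat.prime_two⟩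
  obtain ⟨P, hPB, hPN, -, hPS⟩ := Cfsg.Agent.ChevalleyStructure.TwF4.BNIrred.exists_bnPair_irreducible hφ
  have hB : P.B = B0 K (2 ^ m) := hPB
  have hdec := dec hK hφ
  have hUp := isPGroup_U0 hK
  set s1 : ↥(twistedF4 K (2 ^ m)) := m1 K (2 ^ m) with hs1
  set s2 : ↥(twistedF4 K (2 ^ m)) := m2 hφ with hs2
  have node_1 : Cfsg.Agent.Schreier.BNSch.Node P (U0 K (2 ^ m)) s1 (V1 K (2 ^ m)) := node1 hφ hB
  have node_2 : Cfsg.Agent.Schreier.BNSch.Node P (U0 K (2 ^ m)) s2 (V8 K (2 ^ m)) := node2 hφ hB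
  have hdB : ∀ b ∈ P.B, ∃ s t : Kˣ, ∃ u ∈ U0 K (2 ^ m), b = u * tt hdec s t := by
    intro b hb
    rw [hB] at hb
    obtain ⟨s, t, u, hu, hbu⟩ := hdec.1 b hb
    exact ⟨s, t, u, hu, Subtype.ext hbu⟩
  have httB : ∀ s t : Kˣ, tt hdec s t ∈ P.B := fun s t => by rw [hB]; exact tt_B0 hdec s t
  have httN : ∀ s t : Kˣ, tt hdec s t ∈ P.N := fun s t => by
    rw [hPN]
    exact Cfsg.Agent.ChevalleyStructure.TwF4.NStruct.T_mem_N _
  have hH : ∀ h ∈ P.B, h ∈ P.N → ∃ s t : Kˣ, h = tt hdec s t := by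
    intro h hh hN
    rw [hPB, Subgroup.mem_subgroupOf] at hh
    rw [hPN, Subgroup.mem_subgroupOf] at hN
    have h1 := borel_inf_N ⟨hh, hN⟩
    obtain ⟨s, t, hst⟩ := (mem_iff hK (h : GL chevF4.Idx K)).1 ⟨h1, h.2⟩
    exact ⟨s, t, Subtype.ext hst⟩
  have hUB : U0 K (2 ^ m) ≤ P.B := by rw [hB]; exact U0_le_B0
  have hnorm : ∀ b ∈ P.B, ∀ u ∈ U0 K (2 ^ m), b * u * b⁻¹ ∈ U0 K (2 ^ m) := fun b hb u hu => by
    rw [hB] at hb
    exact conj_U0 hb hu
  have hsplit : FixBN.Split P 2 (U0 K (2 ^ m)) :=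
    { le := hUB
      norm := hnorm
      isP := hUp
      cover := fun b hb => by
        obtain ⟨s, t, u, hu, rfl⟩ := hdB b hb
        refine ⟨u, hu, ?_⟩
        rw [inv_mul_cancel_left]
        exact httN s t
      tor := ⟨2 ^ (2 * m + 1) - 1, by
        have h1 : 2 ∣ 2 ^ (2 * m + 1) := dvd_pow_self 2 (by omega)
        have h2 : 0 < 2 ^ (2 * m + 1) := by positivity
        omega, fun h hh hN => by
        obtain ⟨s, t, rfl⟩ := hH h hh hN
        apply Subtype.ext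
        show T (tc (2 ^ m) s t) ^ (2 ^ (2 * m + 1) - 1) = 1
        rw [← map_pow]
        have h2 : tc (2 ^ m) s t ^ (2 ^ (2 * m + 1) - 1) = 1 := by
          have h3 : ∀ x : Kˣ, x ^ (2 ^ (2 * m + 1) - 1) = 1 := by
            intro x
            have h4 := pow_card_eq_one' (x := x)
            rwa [Nat.card_units, Nat.card_eq_fintype_card, hK] at h4
          funext l
          rw [Pi.pow_apply, h3]; rfl
        rw [h2, map_one]⟩
      node := by
        intro s hs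
        rw [hPS] at hs
        rcases hs with rfl | hs
        · exact ⟨_, node_1⟩
        · rw [Set.mem_singleton_iff] at hs
          subst hs
          exact ⟨_, node_2⟩
      core := by
        rw [hPB, ← Subgroup.inf_subgroupOf_right]
        exact Cfsg.Agent.S1113.result hK }
  have h3 : P.B ⊓ P.N = (chevF4.diagonalSubgroup K ⊓ twistedF4 K (2 ^ m)).subgroupOf (twistedF4 K (2 ^ m)) := by
    rw [hPB, hPN, Subgroup.inf_subgroupOf_right]
    apply le_antisymm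
    · rintro x ⟨hx1, hx2⟩
      exact borel_inf_N ⟨hx1, hx2⟩
    · intro x hx
      have h4 : (x : GL chevF4.Idx K) ∈ chevF4.diagonalSubgroup K := hx
      exact ⟨(le_sup_right : _ ≤ chevF4.posUnipotent K ⊔ chevF4.diagonalSubgroup K) h4,
        (le_sup_left : chevF4.diagonalSubgroup K ≤ chevF4.monomialSubgroup K) h4⟩
  refine ⟨P, hB, hsplit, hPS, ?_, node_1, node_2, ?_, ?_, ?_, ?_⟩
  · obtain ⟨ψ, hψ, hker⟩ := Cfsg.Agent.S1111.result hK
    have h1 : ((chevF4.diagonalSubgroup K ⊓ twistedF4 K (2 ^ m)).relIndex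
        (chevF4.monomialSubgroup K ⊓ twistedF4 K (2 ^ m))) = 16 := by
      rw [Subgroup.relIndex, ← hker, Subgroup.index_ker, MonoidHom.range_eq_top.2 hψ, Subgroup.card_top]
      rw [DihedralGroup.nat_card]
    have h2 : P.N = (chevF4.monomialSubgroup K ⊓ twistedF4 K (2 ^ m)).subgroupOf (twistedF4 K (2 ^ m)) := by
      rw [hPN, Subgroup.inf_subgroupOf_right]
    rw [h3, h2, Subgroup.relIndex_subgroupOf inf_le_right, h1]
  · rw [relIndex_V1 hφ, Nat.card_eq_fintype_card, hK]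
  · rw [relIndex_V8 hφ, Nat.card_eq_fintype_card, hK]
  · rw [← Cfsg.Agent.S1090.result hK]
    have h2 : (U0 K (2 ^ m)).map (twistedF4 K (2 ^ m)).subtype = chevF4.posUnipotent K ⊓ twistedF4 K (2 ^ m) := by
      rw [U0, Subgroup.subgroupOf_map_subtype, posUnipotent_eq]
    rw [← h2]
    exact Nat.card_congr ((U0 K (2 ^ m)).equivMapOfInjective _ (Subgroup.subtype_injective _)).toEquiv
  · rw [h3, ← Cfsg.Agent.S1110.result hK]
    exact Nat.card_congr (Subgroup.subgroupOfEquivOfLe inf_le_right).toEquiv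

end Cfsg.Agent.H315.TF8
end

-- part: H371/TF8/Num
section
/-!
# The orders in `²F₄(8)` (helper371, S2452)

`Q` a split (B, N)-pair of `twistedF4 K (2 ^ 1)`, `|K| = 8`, as in `H315.CY.exists_pairE`, `Pi = Q.parabolic {m2 hφ}`:

* `card_U`, `card_V8`, `card_QB`, `card_Pi`, `index_Pi`, `card_G`;
* `nineteen_dvd`, `nineteen_not_dvd`, `five_not_dvd`, `coprime_5461`, `nineteen_sq`.
-/

set_option autoImplicit false
set_option linter.unusedSectionVars false

namespace Cfsg.Agent.H371.TF8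

open Cfsg Cfsg.Lie
open Cfsg.Agent.ChevalleyStructure.TwF4.TwistedFix
open Cfsg.Agent.Schreier.TwFFour Cfsg.Agent.Schreier.BNSch
open Cfsg.Agent.Octagon.KSys Cfsg.Agent.H315.CY

variable {K : Type*} [Field K] [Fintype K] [CharP K 2] {φ : K →+* K}

theorem card_G (hK : Fintype.card K = 2 ^ (2 * 1 + 1)) :
    Nat.card ↥(twistedF4 K (2 ^ 1)) = 8 ^ 12 * 49 * 65 * (262145 * 513 * 9) := by
  rw [Cfsg.Agent.S1068.result hK]
  norm_num

theorem card_U (hK : Fintype.card K = 2 ^ (2 * 1 + 1)) (hφ : Rln φ (2 ^ 1)) : Nat.card (U0 K (2 ^ 1)) = 8 ^ 12 := by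
  obtain ⟨Q, -, -, -, -, -, -, h, -⟩ := exists_pairE (m := 1) le_rfl hK hφ
  rw [h]; norm_num

theorem card_V8 (hK : Fintype.card K = 2 ^ (2 * 1 + 1)) (hφ : Rln φ (2 ^ 1)) : Nat.card (V8 K (2 ^ 1)) = 2 ^ 30 := by
  obtain ⟨Q, -, -, -, hV, -, h, -, -⟩ := exists_pairE (m := 1) le_rfl hK hφ
  have h1 : Nat.card (V8 K (2 ^ 1)) * (V8 K (2 ^ 1)).relIndex (U0 K (2 ^ 1)) = Nat.card (U0 K (2 ^ 1)) := by
    have := Subgroup.relIndex_mul_relIndex ⊥ (V8 K (2 ^ 1)) (U0 K (2 ^ 1)) bot_le hV.le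
    rwa [Subgroup.relIndex_bot_left, Subgroup.relIndex_bot_left] at this
  rw [h, card_U hK hφ] at h1
  norm_num only [] at h1 ⊢
  omega

theorem card_QB (hK : Fintype.card K = 2 ^ (2 * 1 + 1)) (hφ : Rln φ (2 ^ 1))
    {Q : BNPair ↥(twistedF4 K (2 ^ 1))} (hsp : FixBN.Split Q 2 (U0 K (2 ^ 1))) : Nat.card Q.B = 8 ^ 12 * 49 := by
  have : Fact (Nat.Prime 2) := ⟨Nat.prime_two⟩
  obtain ⟨Q', hsp', -, -, -, -, -, h, h'⟩ := exists_pairE (m := 1) le_rfl hK hφ
  have h1 : Q.B = Q'.B := by rw [← hsp.normalizer_eq, ← hsp'.normalizer_eq]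
  rw [h1, Cfsg.Agent.H978.BR.card_B hsp', h, h']
  norm_num

theorem card_Pi (hK : Fintype.card K = 2 ^ (2 * 1 + 1)) (hφ : Rln φ (2 ^ 1))
    {Q : BNPair ↥(twistedF4 K (2 ^ 1))} (hsp : FixBN.Split Q 2 (U0 K (2 ^ 1)))
    (hQS : Q.S = {m1 K (2 ^ 1), m2 hφ}) (hV : Node Q (U0 K (2 ^ 1)) (m2 hφ) (V8 K (2 ^ 1))) :
    Nat.card (Q.parabolic {m2 hφ}) = 8 ^ 12 * 49 * 65 := by
  obtain ⟨Q', -, -, -, -, -, h, -, -⟩ := exists_pairE (m := 1) le_rfl hK hφ
  rw [Cfsg.Agent.H978.BR.card_par hsp (by rw [hQS]; exact Or.inr rfl) hV, h, card_QB hK hφ hsp]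
  norm_num

theorem index_Pi (hK : Fintype.card K = 2 ^ (2 * 1 + 1)) (hφ : Rln φ (2 ^ 1))
    {Q : BNPair ↥(twistedF4 K (2 ^ 1))} (hsp : FixBN.Split Q 2 (U0 K (2 ^ 1)))
    (hQS : Q.S = {m1 K (2 ^ 1), m2 hφ}) (hV : Node Q (U0 K (2 ^ 1)) (m2 hφ) (V8 K (2 ^ 1))) :
    (Q.parabolic {m2 hφ}).index = 262145 * 513 * 9 := by
  have h1 := (Q.parabolic {m2 hφ}).card_mul_index
  rw [card_Pi hK hφ hsp hQS hV, card_G hK] at h1
  exact Nat.eq_of_mul_eq_mul_left (by norm_num) h1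

/-- `19` divides the index of `Pi` -/
theorem nineteen_dvd (hK : Fintype.card K = 2 ^ (2 * 1 + 1)) (hφ : Rln φ (2 ^ 1))
    {Q : BNPair ↥(twistedF4 K (2 ^ 1))} (hsp : FixBN.Split Q 2 (U0 K (2 ^ 1)))
    (hQS : Q.S = {m1 K (2 ^ 1), m2 hφ}) (hV : Node Q (U0 K (2 ^ 1)) (m2 hφ) (V8 K (2 ^ 1))) :
    19 ∣ (Q.parabolic {m2 hφ}).index := by
  rw [index_Pi hK hφ hsp hQS hV]
  norm_num

theorem nineteen_not_dvd (hK : Fintype.card K = 2 ^ (2 * 1 + 1)) (hφ : Rln φ (2 ^ 1))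
    {Q : BNPair ↥(twistedF4 K (2 ^ 1))} (hsp : FixBN.Split Q 2 (U0 K (2 ^ 1)))
    (hQS : Q.S = {m1 K (2 ^ 1), m2 hφ}) (hV : Node Q (U0 K (2 ^ 1)) (m2 hφ) (V8 K (2 ^ 1))) :
    ¬ 19 ∣ Nat.card (Q.parabolic {m2 hφ}) := by
  rw [card_Pi hK hφ hsp hQS hV]
  norm_num

theorem five_not_dvd (hK : Fintype.card K = 2 ^ (2 * 1 + 1)) (hφ : Rln φ (2 ^ 1))
    {Q : BNPair ↥(twistedF4 K (2 ^ 1))} (hsp : FixBN.Split Q 2 (U0 K (2 ^ 1))) : ¬ 5 ∣ Nat.card Q.B := by
  rw [card_QB hK hφ hsp]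
  norm_num

theorem coprime_5461 (hK : Fintype.card K = 2 ^ (2 * 1 + 1)) : Nat.Coprime (Nat.card ↥(twistedF4 K (2 ^ 1))) 5461 := by
  rw [card_G hK]
  norm_num

end Cfsg.Agent.H371.TF8
end

-- part: H315/TF8/KeyBN
section
/-!
# `²F₄(8)`: the two characters which do not vanish at `x` and `y` (helper315, S2452)

`key_eight` : from the value at `y`.
-/

set_option autoImplicit false
set_option linter.unusedSectionVars false

open Cfsg Cfsg.Lie

namespace Cfsg.Agent.H315.TF8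

open Cfsg.Agent.LieRecognition.FeitHigmanGroup Cfsg.Agent.H315.CY
open Cfsg.Agent.ChevalleyStructure.TwF4.TwistedFix
open Cfsg.Agent.Schreier.TwFFour Cfsg.Agent.Schreier.BNSch
open Cfsg.Agent.Octagon.KSys Cfsg.Agent.FixBN Cfsg.Agent.H315.HT

theorem kap_one : (kap (((8 : ℕ) ^ 2 : ℕ) : ℝ) ((8 : ℕ) : ℝ))⁻¹ * ((65 * (262145 * 513 * 9) : ℕ) : ℝ) =
    ((1839048 : ℕ) : ℝ) := by
  unfold kap
  norm_num

theorem kap_two : (kap ((8 : ℕ) : ℝ) (((8 : ℕ) ^ 2 : ℕ) : ℝ))⁻¹ * ((65 * (262145 * 513 * 9) : ℕ) : ℝ) =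
    ((7532740608 : ℕ) : ℝ) := by
  unfold kap
  norm_num

section main

variable {K : Type*} [Field K] [Fintype K] [CharP K 2] {φ : K →+* K}

/-- **From the value at `y`.** -/
theorem key_eight (hK : Fintype.card K = 2 ^ (2 * 1 + 1)) (hφ : Rln φ (2 ^ 1)) {Q : BNPair ↥(twistedF4 K (2 ^ 1))}
    (hsp : FixBN.Split Q 2 (U0 K (2 ^ 1))) (hS : Q.S = {m1 K (2 ^ 1), m2 hφ})
    (h16 : (Q.B ⊓ Q.N).relIndex Q.N = 16) (hV : Node Q (U0 K (2 ^ 1)) (m1 K (2 ^ 1)) (V1 K (2 ^ 1)))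
    (hV' : Node Q (U0 K (2 ^ 1)) (m2 hφ) (V8 K (2 ^ 1))) (hcV : (V1 K (2 ^ 1)).relIndex (U0 K (2 ^ 1)) = 2 ^ (2 * 1 + 1))
    (hcV' : (V8 K (2 ^ 1)).relIndex (U0 K (2 ^ 1)) = (2 ^ (2 * 1 + 1)) ^ 2)
    [Fintype ↥(twistedF4 K (2 ^ 1))] [Fintype Q.B] [Fintype (Q.parabolic {m2 hφ})] {x y : ↥(twistedF4 K (2 ^ 1))}
    (hx : orderOf x = 19)
    (hval : ∀ χ : ↥(twistedF4 K (2 ^ 1)) → ℂ, IsIrrCharacter ↥(twistedF4 K (2 ^ 1)) χ → χ x ≠ 0 →
      χ y = 2 * ((Nat.card (Q.parabolic {m2 hφ}) : ℂ)⁻¹ * ∑ g : Q.parabolic {m2 hφ}, χ g) -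
        (Nat.card Q.B : ℂ)⁻¹ * ∑ g : Q.B, χ g) :
    ∃ S₀ : IrrCharacter ↥(twistedF4 K (2 ^ 1)), ∀ χ : IrrCharacter ↥(twistedF4 K (2 ^ 1)),
      (χ : ↥(twistedF4 K (2 ^ 1)) → ℂ) x ≠ 0 → (χ : ↥(twistedF4 K (2 ^ 1)) → ℂ) y ≠ 0 →
        (χ : ↥(twistedF4 K (2 ^ 1)) → ℂ) = (fun _ => 1) ∨ χ = S₀ := by
  classical
  have h2 : Fact (Nat.Prime 2) := ⟨Nat.prime_two⟩
  have hs : m2 hφ ∈ Q.S := by rw [hS]; exact Or.inr rfl
  have ht : m1 K (2 ^ 1) ∈ Q.S := by rw [hS]; exact Or.inl rfl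
  have hqt := Cfsg.Agent.H740.Eight.HeckeDeg.q_eq hsp ht hV
  have hqs := Cfsg.Agent.H740.Eight.HeckeDeg.q_eq hsp hs hV'
  have hcB := H371.TF8.card_QB hK hφ hsp
  have hcP := H371.TF8.card_Pi hK hφ hsp hS hV'
  have hcG := H371.TF8.card_G hK
  rw [hcV] at hqt
  rw [hcV'] at hqs
  have hst : m2 hφ ≠ m1 K (2 ^ 1) := by
    intro h
    rw [h, hqt] at hqs
    norm_num at hqs
  have hidx : Nat.card (↥(twistedF4 K (2 ^ 1)) ⧸ Q.B) = 65 * (262145 * 513 * 9) := by
    have h5 := Q.B.card_mul_index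
    rw [hcG, hcB, Q.B.index_eq_card] at h5
    refine Nat.eq_of_mul_eq_mul_left (show 0 < 8 ^ 12 * 49 by norm_num) ?_
    rw [h5]
    norm_num
  have hPi : Nat.card (Q.parabolic {m2 hφ}) = (1 + q Q (m2 hφ)) * Nat.card Q.B := by
    rw [hcP, hcB, hqs]
    norm_num
  obtain ⟨S, hS'⟩ := prin (P := Q) (s := m2 hφ) (t := m1 K (2 ^ 1)) (by rw [hS]; exact Set.pair_comm _ _) hst h16 hPi
    (r := 19) (by norm_num) (d₁ := 1839048) (d₂ := 7532740608) (by rw [hqs, hqt, hidx]; exact kap_one)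
    (by rw [hqs, hqt, hidx]; exact kap_two) (by norm_num) (by norm_num)
  refine ⟨S, fun χ h1 h2 => ?_⟩
  rw [hval χ χ.2 h1] at h2
  rcases hS' χ h2 with h3 | h3 | h3
  · exact Or.inl h3
  · exact Or.inr h3
  · refine absurd (H961.TF8.zero_of_dvd h3 ?_ (by rw [hx])) h1
    rw [hcG]
    norm_num

end main

end Cfsg.Agent.H315.TF8
end

-- part: H83/TF8/Exp
section
/-!
# `²F₄(8)`: the Levi factor `⟨X_0, X_8⟩ ≅ Sz(8)` has order `29120` and exponent dividing `1820` (helper83)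

`card_LL`, `pow_LL`; `pow_mem` : hence `p ^ 1820` lies in the unipotent radical for all `p` of the parabolic subgroup.
-/

set_option autoImplicit false
set_option linter.unusedSectionVars false

namespace Cfsg.Agent.H83.TF8

open Cfsg.Agent.SplitTwo Cfsg.Agent.SplitTwo.ZS Cfsg.Agent.TitsThree.RankTwoZ
open Cfsg.Agent.KFacts.TwF4 Cfsg.Agent.KFacts.TwF4.Arc Cfsg.Agent.KFacts.TwF4.Inv
open Cfsg.Agent.H84.TwF4Two Cfsg.Agent.H67.TwFFourOdd Cfsg.Agent.H67.RankTwo Cfsg.Agent.H67.RankOneId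
open Cfsg.Agent.H84.GaussTwF4

universe u

section full

variable {F : Type*} [Field F] {σ : F →+* F} {G : Type u} [Group G] (S : Full σ G) [Finite F] [Finite G]

/-- **The order of the Levi factor.** -/
theorem card_LL {k : ℕ} (hk : 2 ≤ k) (hF : Nat.card F = 2 ^ k) :
    Nat.card ↥(LL S) = ((2 ^ k) ^ 2 * (2 ^ k - 1)) * ((2 ^ k) ^ 2 + 1) := by
  have h4 : 4 ≤ Nat.card F := by
    rw [hF]
    calc 4 = 2 ^ 2 := rfl
      _ ≤ 2 ^ k := Nat.pow_le_pow_right (by norm_num) hk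
  have hTo : Odd (Nat.card ↥(torus (cc S).X)) := by
    rw [card_torus, hF]
    exact (Nat.Even.sub_odd Nat.one_le_two_pow ((Nat.even_pow' (by omega)).mpr even_two) odd_one).pow
  have D := rkOne_of (cc S).X (i := (8 : ℕ)) (j := 0) (e := (8 : ℕ)) (by ring)
    (L := LJ (cc S).X) le_sup_left le_rfl (cc S).muJ (n2_mem S) S.n2_sq (maps_n2 S)
    (pX S (8 : ℕ)) hTo (by
      have h1 := opp_inf S.R 0
      rw [zero_add, inf_comm] at h1
      exact h1) (by
      obtain ⟨x, hx0, hx1⟩ := exists_ne h4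
      refine ⟨_, (memX8 S).2 ⟨0, 1, rfl⟩, _, (memX8 S).2 ⟨0, x, rfl⟩, ?_, ?_, ?_, ?_, ?_, ?_⟩
      · exact fun h => one_ne_zero (S.injE 4 _ _ _ _ (h.trans (e_zero S 4).symm)).2
      · exact fun h => hx0 (S.injE 4 _ _ _ _ (h.trans (e_zero S 4).symm)).2
      · exact fun h => hx1 (S.injE 4 _ _ _ _ h).2.symm
      · rw [S.e_mul, zero_mul, add_zero, add_zero, add_self S, e_zero]
      · rw [S.e_mul, zero_mul, add_zero, add_zero, add_self S, e_zero]
      · rw [S.e_mul, S.e_mul, zero_mul, add_comm 1 x])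
  have hT := (rkJ S hk hF).2
  have hA : Nat.card ↥(((cc S).X (8 : ℕ)).subgroupOf (LJ (cc S).X)) = (2 ^ k) ^ 2 := by
    have h0 : (cc S).X (8 : ℕ) ⊓ LJ (cc S).X = (cc S).X (8 : ℕ) := inf_eq_left.2 le_sup_left
    rw [card_subgroupOf_eq, h0, card_X8, hF]
  have hT' : Nat.card ↥((torus (cc S).X).subgroupOf (LJ (cc S).X)) = 2 ^ k - 1 := by
    rw [card_subgroupOf_eq]; exact hT
  have h1 := (((cc S).X (8 : ℕ)).subgroupOf (LJ (cc S).X) ⊔ (torus (cc S).X).subgroupOf (LJ (cc S).X)).card_mul_index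
  rw [D.card_H, D.data.index, hA, hT'] at h1
  rw [← LJ_eq, ← h1]

/-- The elements of `X_8` have order dividing `4`. -/
theorem pow_four {x : G} (hx : x ∈ (cc S).X (8 : ℕ)) : x ^ 4 = 1 := by
  obtain ⟨p, u, rfl⟩ := (memX8 S).1 hx
  rw [Cfsg.Agent.H84.SzLevi.four_eq, S.e_mul, add_self S p, S.e_mul, zero_mul, add_zero, add_zero, add_self S, e_zero]

/-- **`l ^ 1820 = 1` in `Sz(8)`.** -/
theorem pow_LL (hF : Nat.card F = 8) {l : G} (hl : l ∈ LL S) : l ^ 1820 = 1 := by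
  have hF' : Nat.card F = 2 ^ 3 := by rw [hF]; norm_num
  have hc : Nat.card ↥(LL S) = 29120 := by rw [card_LL S (by norm_num) hF']; norm_num
  have hp : Fact (Nat.Prime 2) := ⟨Nat.prime_two⟩
  have hle : (cc S).X (8 : ℕ) ≤ LL S := by
    rw [← LJ_eq]; exact le_sup_left
  have hA : Nat.card ↥(((cc S).X (8 : ℕ)).subgroupOf (LL S)) = 2 ^ (Nat.card ↥(LL S)).factorization 2 := by
    have h0 : (cc S).X (8 : ℕ) ⊓ LL S = (cc S).X (8 : ℕ) := inf_eq_left.2 hle
    have h1 : (29120 : ℕ).factorization 2 = 6 := by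
      rw [show (29120 : ℕ) = 2 ^ 6 * 455 by norm_num, Nat.factorization_mul (by norm_num) (by norm_num),
        Nat.Prime.factorization_pow Nat.prime_two]
      rw [Finsupp.add_apply, Finsupp.single_eq_same, Nat.factorization_eq_zero_of_not_dvd (by norm_num)]
    rw [card_subgroupOf_eq, h0, card_X8, hF, hc, h1]
    norm_num
  let P : Sylow 2 ↥(LL S) := Sylow.ofCard _ hA
  have hP : (P : Subgroup ↥(LL S)) = ((cc S).X (8 : ℕ)).subgroupOf (LL S) := rfl
  let x : ↥(LL S) := ⟨l, hl⟩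
  have hx : (x ^ 455) ^ 64 = 1 := by
    rw [← pow_mul, show 455 * 64 = 29120 by norm_num, ← hc]
    exact pow_card_eq_one'
  have hpg : IsPGroup 2 ↥(Subgroup.zpowers (x ^ 455)) := by
    rw [IsPGroup.iff_orderOf]
    rintro ⟨y, hy⟩
    rw [Subgroup.orderOf_mk]
    obtain ⟨j, rfl⟩ := Subgroup.mem_zpowers_iff.1 hy
    have h1 : orderOf ((x ^ 455) ^ j) ∣ 2 ^ 6 := by
      refine orderOf_dvd_of_pow_eq_one ?_
      rw [show (2 : ℕ) ^ 6 = 64 by norm_num, ← zpow_natCast, ← zpow_mul, mul_comm, zpow_mul, zpow_natCast, hx, one_zpow]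
    obtain ⟨i, -, hi⟩ := (Nat.dvd_prime_pow Nat.prime_two).1 h1
    exact ⟨i, hi⟩
  obtain ⟨Q, hQ⟩ := hpg.exists_le_sylow
  obtain ⟨g, hg⟩ := MulAction.exists_smul_eq ↥(LL S) Q P
  have h1 : g * x ^ 455 * g⁻¹ ∈ (P : Subgroup ↥(LL S)) := by
    rw [← hg, Sylow.coe_subgroup_smul]
    have h2 : x ^ 455 ∈ (Q : Subgroup ↥(LL S)) := hQ (Subgroup.mem_zpowers _)
    have := Subgroup.smul_mem_pointwise_smul _ (MulAut.conj g) _ h2
    simpa only [MulAut.smul_def, _root_.smul_pow', _root_.MulAut.conj_apply, _root_.conj_pow] using this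
  rw [hP, Subgroup.mem_subgroupOf] at h1
  have h2 := pow_four S h1
  have h3 : (g * x ^ 455 * g⁻¹) ^ 4 = 1 := by
    apply Subtype.ext
    rw [Subgroup.coe_pow, h2, Subgroup.coe_one]
  rw [conj_pow, conj_eq_one_iff, ← pow_mul, show 455 * 4 = 1820 by norm_num] at h3
  have h4 := congrArg Subtype.val h3
  rw [Subgroup.coe_pow] at h4
  exact h4

end full

/-- **The exponent modulo the unipotent radical**: abstract form. -/
theorem pow_mem {G : Type*} [Group G] {Pi UP LS Z : Subgroup G} {n : ℕ}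
    (hmem : ∀ g ∈ Pi, ∃ u ∈ UP, ∃ l ∈ LS, ∃ z ∈ Z, g = u * l * z) (hUP : ∀ p ∈ Pi, ∀ u ∈ UP, p * u * p⁻¹ ∈ UP)
    (hLS : LS ≤ Pi) (hZ : Z ≤ Pi) (hc : ∀ l ∈ LS, ∀ z ∈ Z, l * z = z * l) (h1 : ∀ l ∈ LS, l ^ n = 1)
    (h2 : ∀ z ∈ Z, z ^ n = 1) {p : G} (hp : p ∈ Pi) : p ^ n ∈ UP := by
  obtain ⟨u, hu, l, hl, z, hz, rfl⟩ := hmem p hp
  have hm : l * z ∈ Pi := mul_mem (hLS hl) (hZ hz)
  have key : ∀ k : ℕ, ∃ v ∈ UP, (u * l * z) ^ k = v * (l * z) ^ k := by
    intro k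
    induction k with
    | zero => exact ⟨1, one_mem _, by simp⟩
    | succ k ih =>
      obtain ⟨v, hv, e⟩ := ih
      refine ⟨v * ((l * z) ^ k * u * ((l * z) ^ k)⁻¹), mul_mem hv (hUP _ (Subgroup.pow_mem _ hm k) _ hu), ?_⟩
      rw [pow_succ, e, pow_succ (l * z)]
      group
  obtain ⟨v, hv, e⟩ := key n
  have hcom : Commute l z := hc l hl z hz
  rw [e, hcom.mul_pow, h1 l hl, h2 z hz, one_mul, mul_one]
  exact hv

end Cfsg.Agent.H83.TF8

namespace Cfsg.Agent.H83.TF8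

open Cfsg.Agent.KFacts.TwF4 Cfsg.Agent.KFacts.TwF4.Arc Cfsg.Agent.KFacts.TwF4.Inv

universe u

section torus

variable {F : Type*} [Field F] {σ : F →+* F} {G : Type u} [Group G] (S : Full σ G) [Finite F]

theorem pow_h (c d : Fˣ) (n : ℕ) : S.h c d ^ (n + 1) = S.h (c ^ (n + 1)) (d ^ (n + 1)) := by
  induction n with
  | zero => simp
  | succ n ih => rw [pow_succ, ih, S.h_mul, ← pow_succ, ← pow_succ]

/-- The torus of `²F₄(8)` has exponent `7`. -/
theorem pow_T (hF : Nat.card F = 8) {t : G} (ht : t ∈ S.T) : t ^ 7 = 1 := by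
  obtain ⟨c, d, rfl⟩ := S.mem_T.1 ht
  have h7 : ∀ c : Fˣ, c ^ 7 = 1 := by
    intro c
    have h1 : Nat.card Fˣ = 7 := by rw [Nat.card_units, hF]
    rw [← h1]
    exact pow_card_eq_one'
  have h1 : S.h (1 : Fˣ) 1 = 1 := by
    have h2 := S.h_mul 1 1 1 1
    rw [one_mul] at h2
    exact mul_eq_left.1 h2
  rw [show (7 : ℕ) = 6 + 1 by norm_num, pow_h, show 6 + 1 = 7 by norm_num, h7, h7, h1]

theorem pow_T' (hF : Nat.card F = 8) {t : G} (ht : t ∈ S.T) : t ^ 1820 = 1 := by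
  rw [show 1820 = 7 * 260 by norm_num, pow_mul, pow_T S hF ht, one_pow]

end torus

end Cfsg.Agent.H83.TF8
end

-- part: H83/TF8/Par
section
/-!
# `²F₄(8)`: the parabolic subgroup `P = J 1 7 · ⟨X_0, X_8⟩ · {h 1 d}` (helper83)

`B = J 1 8 · T`, `P = B ∪ B n2 B`: `fac`, `conj17`, `pow_par` : `p ^ 1820 ∈ J 1 7` for all `p ∈ P` if `|F| = 8`.
-/

set_option autoImplicit false
set_option linter.unusedSectionVars false

namespace Cfsg.Agent.H83.TF8

open Cfsg.Agent.SplitTwo Cfsg.Agent.SplitTwo.ZS Cfsg.Agent.TitsThree.RankTwoZ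
open Cfsg.Agent.KFacts.TwF4 Cfsg.Agent.KFacts.TwF4.Arc Cfsg.Agent.KFacts.TwF4.Inv
open Cfsg.Agent.H84.TwF4Two Cfsg.Agent.H84.GaussTwF4

universe u

variable {F : Type*} [Field F] {σ : F →+* F} {G : Type u} [Group G] {S : Full σ G}

variable [Finite F] {B Pi : Subgroup G}

end Cfsg.Agent.H83.TF8
end

-- part: H83/TF8/Inst
section
/-!
# `²F₄(8)`: the frame `P, U_P, L, n` of helper961's theorem on Harish-Chandra series (helper83)

`pow_Pa`, `frame_Pa`, `ker_Pa`.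
-/

set_option autoImplicit false
set_option linter.unusedSectionVars false

namespace Cfsg.Agent.H83.TF8

open Cfsg.Agent.SplitTwo Cfsg.Agent.SplitTwo.ZS Cfsg.Agent.TitsThree.RankTwoZ
open Cfsg.Agent.KFacts.TwF4 Cfsg.Agent.KFacts.TwF4.Arc Cfsg.Agent.KFacts.TwF4.Inv
open Cfsg.Agent.H84.TwF4Two Cfsg.Agent.H84.GaussTwF4 Cfsg.Agent.H84.TF8
open Cfsg Cfsg.Agent.Characters

universe u

variable {F : Type*} [Field F] {σ : F →+* F} {G : Type u} [Group G] {S : Full σ G} [Finite F]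

/-- **(EXP)** -/
theorem pow_Pa [Finite G] (hF : Nat.card F = 8) {p : G} (hp : p ∈ Pa S) : p ^ 1820 ∈ J S.XZ 1 7 := by
  exact pow_mem (Pi := Pa S) (LS := LL S) (Z := Zz S) (fun p hp => hp) (fun p hp u hu => UP_normal hp hu) LL_le_Pa
    Zz_le_Pa (fun l hl z hz => (Zz_comm hz hl).symm) (fun l hl => pow_LL S hF hl) (fun z hz => pow_T' S hF (Zz_le_T hz)) hp

end Cfsg.Agent.H83.TF8
end

private theorem dce_c5db26568f7a : _root_.True := by
  try have : _root_.True := by simp only [_root_.Cfsg.Agent.H315.TF8.Dm.congr_simp]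
  exact _root_.True.intro
end

-- part: H315/TF8/Inst
section
prune_inst 0x153041040482120000008080112000400e00042200400c00c4420804000020420980004081200018120a000100010048110000200240000004000400000500009880100490480008420009001080400000000000000000000000000000000004000000000
set_option linter.all false
open scoped Cfsg.Agent.FastGrp

-- part: H315/TF8/Key
section
/-!
# The value at a regular element of a parabolic subgroup (helper315, S2452, `²F₄(8)`)

* `sum_or` : the sums over a normal subgroup of an irreducible character;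
* `linear_of_sum` : if `λ ∈ Irr(B)` has a nonzero sum over `U`, `B/U` abelian, then `λ` is a linear character of `B/U`;
* `key_abs` : if `χ(x) ≠ 0` then `χ(y) = 2 [χ, 1]_P - [χ, 1]_B`.
-/

set_option autoImplicit false
set_option linter.unusedSectionVars false

open scoped ComplexConjugate
open Cfsg

namespace Cfsg.Agent.H315.TF8

open Cfsg.Agent.OddOrderCharacters.Clifford Cfsg.Agent.Characters Cfsg.Agent.H45.GG
open Cfsg.Agent.OddOrderCharacters Cfsg.Agent.H800.TF8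

section sums

variable {P : Type*} [Group P]

/-- the sums of an irreducible character over the cosets of a normal subgroup -/
theorem sum_or [Finite P] {ψ : P → ℂ} (hψ : IsIrrCharacter P ψ) (N : Subgroup P) [hN : N.Normal] [Fintype N] :
    (∀ m ∈ N, ψ m = ψ 1) ∨ ∀ y, ∑ m : N, ψ (m * y) = 0 := by
  classical
  obtain ⟨n, σ, hσ, rfl⟩ := hψ
  set S : Module.End ℂ (Fin n → ℂ) := ∑ m : N, σ (m : P) with hS
  have h1 : ∀ g : P, S * σ g = σ g * S := by
    intro g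
    rw [hS, Finset.sum_mul, Finset.mul_sum]
    refine Fintype.sum_equiv (MulAut.conjNormal g⁻¹ : MulAut N).toEquiv _ _ fun m => ?_
    rw [← map_mul, ← map_mul]
    congr 1
    show (m : P) * g = g * (g⁻¹ * m * g⁻¹⁻¹)
    group
  obtain ⟨c, hc⟩ := Cfsg.Agent.CharactersDeep.InvRep.exists_smul_of_comm σ hσ S h1
  by_cases h0 : c = 0
  · right
    intro y
    have h2 : ∑ m : N, σ.character (m * y) = LinearMap.trace ℂ _ (S * σ y) := by
      rw [hS, Finset.sum_mul, map_sum]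
      refine Finset.sum_congr rfl fun m _ => ?_
      rw [← map_mul]
      rfl
    rw [h2, hc, h0, zero_smul, zero_mul, map_zero]
  · left
    intro m hm
    have h2 : S * σ m = S := by
      rw [hS, Finset.sum_mul]
      refine Fintype.sum_equiv (Equiv.mulRight (⟨m, hm⟩ : N)) _ _ fun k => ?_
      rw [← map_mul]
      rfl
    rw [hc, smul_mul_assoc, one_mul] at h2
    have h3 : σ m = 1 := by
      have := congrArg (fun f => c⁻¹ • f) h2
      simpa only [smul_smul, inv_mul_cancel₀ h0, one_smul] using this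
    show LinearMap.trace ℂ _ (σ m) = LinearMap.trace ℂ _ (σ 1)
    rw [h3, map_one σ]

end sums

section sub

variable {G : Type*} [Group G] [Finite G]

/-- the same for subgroups of `G` -/
theorem sum_or' {P N : Subgroup G} (hNP : N ≤ P) (hN : ∀ p ∈ P, ∀ u ∈ N, p * u * p⁻¹ ∈ N) [Fintype N] {ψ : P → ℂ}
    (hψ : IsIrrCharacter P ψ) :
    (∀ (m : G) (hm : m ∈ N), ψ ⟨m, hNP hm⟩ = ψ 1) ∨ ∀ y : P, ∑ m : N, ψ (⟨m, hNP m.2⟩ * y) = 0 := by
  classical
  have : Fintype (N.subgroupOf P) := Fintype.ofFinite _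
  have : (N.subgroupOf P).Normal := ⟨fun u hu g => by
    rw [Subgroup.mem_subgroupOf] at hu ⊢
    exact hN g g.2 u hu⟩
  rcases sum_or hψ (N.subgroupOf P) with h | h
  · left
    intro m hm
    exact h ⟨m, hNP hm⟩ (Subgroup.mem_subgroupOf.2 hm)
  · right
    intro y
    rw [← h y]
    exact (Fintype.sum_equiv (Subgroup.subgroupOfEquivOfLe hNP).toEquiv _ _ fun m => rfl).symm

/-- an irreducible character of `B` with a nonzero sum over `U` is linear, if `B/U` is abelian -/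
theorem linear_of_sum {B U : Subgroup G} [Fintype B] (hUB : U ≤ B) (hUn : ∀ b ∈ B, ∀ u ∈ U, b * u * b⁻¹ ∈ U)
    (hBU : ∀ b ∈ B, ∀ c ∈ B, b * c * b⁻¹ * c⁻¹ ∈ U) [Fintype U] {l : B → ℂ} (hl : IsIrrCharacter B l)
    (h : ∑ u : U, l ⟨u, hUB u.2⟩ ≠ 0) :
    ∃ μ : B →* ℂˣ, (∀ (u : G) (hu : u ∈ U), μ ⟨u, hUB hu⟩ = 1) ∧ l = lc μ := by
  have h1 : ∀ (m : G) (hm : m ∈ U), l ⟨m, hUB hm⟩ = l 1 := by
    rcases sum_or' hUB hUn hl with h1 | h1
    · exact h1
    · exact absurd (by simpa only [mul_one] using h1 1) h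
  have h2 : ∀ z p : B, l (z * p) * l 1 = l z * l p := by
    intro z p
    obtain ⟨c, hc⟩ := central_mod_ker hl (z := z) fun p => h1 _ (hBU z z.2 p p.2)
    have h3 := hc 1
    rw [mul_one] at h3
    rw [hc, h3]
    ring
  obtain ⟨n, hn, h3⟩ := Core.isIrr_apply_one hl
  have h4 : ∀ z : B, l z * conj (l z) = l 1 * l 1 := by
    intro z
    rw [← Core.isCharacter_apply_inv (Core.isIrr_isCharacter hl), ← h2 z z⁻¹, mul_inv_cancel]
  have h5 := Core.classInner_irr_self hl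
  rw [classInner_apply, Finset.sum_congr rfl fun z _ => h4 z, Finset.sum_const, Finset.card_univ, nsmul_eq_mul,
    ← mul_assoc, ← Nat.card_eq_fintype_card, inv_mul_cancel₀ (by exact_mod_cast Nat.card_pos.ne'), one_mul, h3] at h5
  have h6 : n = 1 := by
    have : n * n = 1 := by exact_mod_cast h5
    exact Nat.eq_one_of_mul_eq_one_right this
  rw [h6, Nat.cast_one] at h3
  obtain ⟨μ, hμ⟩ := Cfsg.Agent.CharactersDeep.LinearExt.exists_hom_of_isCharacter (Core.isIrr_isCharacter hl) h3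
  refine ⟨μ, fun u hu => Units.ext ?_, funext fun b => (hμ b).symm⟩
  rw [hμ, h1 u hu, h3]
  rfl

end sub

section main

variable {G : Type*} [Group G] [Fintype G]

theorem one_eq_lc {B : Type*} [Group B] : lc (1 : B →* ℂˣ) = 1 := by
  funext b
  simp [lc]

/-- the permutation character of `P` on `P/B` -/
theorem exists_theta {B P : Subgroup G} [Fintype B] [Fintype P] (hBP : B ≤ P) {n : G} (hnP : n ∈ P) (hnB : n ∉ B)
    (hPn : ∀ g ∈ P, g ∈ B ∨ DK B B n g) {y : P} (hyB : ∀ g : G, g⁻¹ * y * g ∉ B) :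
    ∃ θ : P → ℂ, IsIrrCharacter P θ ∧ θ ≠ 1 ∧ θ y = -1 ∧
      (∀ f : P → ℂ, IsCharacter P f → classInner f 1 + classInner f θ = (Nat.card B : ℂ)⁻¹ * ∑ g : B, f ⟨g, hBP g.2⟩) ∧
      ∀ ρ : P → ℂ, IsIrrCharacter P ρ → classInner (fun b : B => ρ ⟨b, hBP b.2⟩) (lc (1 : B →* ℂˣ)) ≠ 0 →
        ρ = 1 ∨ ρ = θ := by
  classical
  have : Fintype (B.subgroupOf P) := Fintype.ofFinite _
  set π := indFun (B.subgroupOf P) (lc (mP B P hBP 1)) with hπ
  have hchar : IsCharacter P π := IndRes.isCharacter_indFun _ (Core.isIrr_isCharacter (lc_irr _))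
  have hnorm := (norm_P (hBP := hBP) (μ := 1) hnP hnB hPn).2 fun _ _ _ => rfl
  have hin : ∀ f : P → ℂ, IsClassFunction P f →
      classInner f π = (Nat.card B : ℂ)⁻¹ * ∑ g : B, f ⟨g, hBP g.2⟩ := by
    intro f hf
    rw [hπ, IndRes.classInner_indFun_right _ _ hf]
    have h1 := classInner_equiv (Subgroup.subgroupOfEquivOfLe hBP) (fun b : B => f ⟨b, hBP b.2⟩) (lc (1 : B →* ℂˣ))
    have h2 : classInner (IndRes.res (B.subgroupOf P) f) (lc (mP B P hBP 1)) =
        classInner (fun b : B => f ⟨b, hBP b.2⟩) (lc (1 : B →* ℂˣ)) := h1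
    rw [h2, classInner_apply, one_eq_lc]
    simp only [_root_.Nat.card_eq_fintype_card, _root_.Pi.one_apply, _root_.map_one, _root_.mul_one]
  have h1 : classInner (1 : P → ℂ) π = 1 := by
    rw [hin 1 (Core.isCharacter_isClassFunction Core.isCharacter_one)]
    simp only [Pi.one_apply, Finset.sum_const, Finset.card_univ, nsmul_eq_mul, mul_one]
    rw [← Nat.card_eq_fintype_card]
    exact inv_mul_cancel₀ (by exact_mod_cast Nat.card_pos.ne')
  obtain ⟨a, b, ha, hb, hab, e⟩ := exists_two hchar hnorm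
  have key : ∃ θ : P → ℂ, IsIrrCharacter P θ ∧ θ ≠ 1 ∧ π = 1 + θ := by
    rw [e, Core.classInner_add_right] at h1
    by_cases ea : (1 : P → ℂ) = a
    · exact ⟨b, hb, fun h => hab (by rw [← ea, h]), by rw [e, ea]⟩
    by_cases eb : (1 : P → ℂ) = b
    · exact ⟨a, ha, fun h => ea h.symm, by rw [e, eb, add_comm]⟩
    · rw [Core.classInner_irr_ne Core.isIrr_one ha ea, Core.classInner_irr_ne Core.isIrr_one hb eb, add_zero] at h1
      exact absurd h1 zero_ne_one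
  obtain ⟨θ, hθ, hθ1, eθ⟩ := key
  refine ⟨θ, hθ, hθ1, ?_, ?_, ?_⟩
  · have h2 : π y = 0 := IndRes.indFun_eq_zero_of_forall _ _ fun x h => hyB x (Subgroup.mem_subgroupOf.1 h)
    rw [eθ, Pi.add_apply, Pi.one_apply] at h2
    linear_combination h2
  · intro f hf
    rw [← Core.classInner_add_right, ← eθ, hin f (Core.isCharacter_isClassFunction hf)]
  · intro ρ hρ hρ1
    by_contra hc
    push Not at hc
    apply hρ1
    rw [classInner_apply, one_eq_lc]
    have h3 := hin ρ (Core.isIrr_isClassFunction hρ)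
    rw [eθ, Core.classInner_add_right, Core.classInner_irr_ne hρ Core.isIrr_one hc.1,
      Core.classInner_irr_ne hρ hθ hc.2, add_zero] at h3
    rw [h3]
    simp only [_root_.Nat.card_eq_fintype_card, _root_.Pi.one_apply, _root_.map_one, _root_.mul_one]

/-- **The value at a regular element.** -/
theorem key_abs {B P U UP : Subgroup G} [Fintype B] [Fintype P] [Fintype U] (hBP : B ≤ P) (hUB : U ≤ B) (hUPU : UP ≤ U)
    (hUPn : ∀ p ∈ P, ∀ u ∈ UP, p * u * p⁻¹ ∈ UP) (hUn : ∀ b ∈ B, ∀ u ∈ U, b * u * b⁻¹ ∈ U)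
    (hBU : ∀ b ∈ B, ∀ c ∈ B, b * c * b⁻¹ * c⁻¹ ∈ U) {n : G} (hnP : n ∈ P) (hnB : n ∉ B)
    (hPn : ∀ g ∈ P, g ∈ B ∨ DK B B n g) {x y : G} (hyP : y ∈ P) (hreg : ∀ u ∈ UP, y * u = u * y → u = 1)
    (hyB : ∀ g : G, g⁻¹ * y * g ∉ B)
    (E1 : ∀ ρ : P → ℂ, IsIrrCharacter P ρ → (∀ (u : G) (hu : u ∈ UP), ρ ⟨u, hBP (hUB (hUPU hu))⟩ = ρ 1) →
      ∑ u : U, ρ ⟨u, hBP (hUB u.2)⟩ = 0 → ∀ χ : G → ℂ, IsIrrCharacter G χ →
      classInner (fun h : P => χ h) ρ ≠ 0 → χ x = 0)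
    (E2 : ∀ μ : B →* ℂˣ, (∀ (u : G) (hu : u ∈ U), μ ⟨u, hUB hu⟩ = 1) → μ ≠ 1 → ∀ ρ : P → ℂ, IsIrrCharacter P ρ →
      classInner (fun b : B => ρ ⟨b, hBP b.2⟩) (lc μ) ≠ 0 → ρ ⟨y, hyP⟩ ≠ 0 → ∀ χ : G → ℂ, IsIrrCharacter G χ →
      classInner (fun h : P => χ h) ρ ≠ 0 → χ x = 0)
    {χ : G → ℂ} (hχ : IsIrrCharacter G χ) (hx : χ x ≠ 0) :
    χ y = 2 * ((Nat.card P : ℂ)⁻¹ * ∑ g : P, χ g) - (Nat.card B : ℂ)⁻¹ * ∑ g : B, χ g := by
  classical
  obtain ⟨θ, hθ, hθ1, hθy, hin, hall⟩ := exists_theta hBP hnP hnB hPn (y := ⟨y, hyP⟩) hyB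
  have : Finite (IrrCharacter P) := Core.finite_irr
  have := Fintype.ofFinite (IrrCharacter P)
  have : Finite (IrrCharacter B) := Core.finite_irr
  have := Fintype.ofFinite (IrrCharacter B)
  have hUPP : UP ≤ P := fun u hu => hBP (hUB (hUPU hu))
  set f : P → ℂ := fun h : P => χ h with hf
  have hfc : IsCharacter P f := IndRes.isCharacter_res P (Core.isIrr_isCharacter hχ)
  -- the constituents which do not vanish at `y`
  have main : ∀ ρ : P → ℂ, IsIrrCharacter P ρ → classInner f ρ ≠ 0 → ρ ⟨y, hyP⟩ ≠ 0 → ρ = 1 ∨ ρ = θ := by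
    intro ρ hρ hm hy
    have hker : ∀ (u : G) (hu : u ∈ UP), ρ ⟨u, hUPP hu⟩ = ρ 1 := by
      have : Fintype UP := Fintype.ofFinite _
      rcases sum_or' hUPP hUPn hρ with h | h
      · exact h
      · exfalso
        apply hy
        -- the coset of `y` consists of conjugates of `y`
        have hinj : Function.Injective (fun v : UP => (⟨(v : G)⁻¹ * y * v * y⁻¹, by
            have h1 := hUPn y hyP v v.2
            have h2 : (v : G)⁻¹ * y * v * y⁻¹ = (v : G)⁻¹ * (y * v * y⁻¹) := by group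
            rw [h2]
            exact mul_mem (inv_mem v.2) h1⟩ : UP)) := by
          intro v w hvw
          have h1 : (v : G)⁻¹ * y * v * y⁻¹ = (w : G)⁻¹ * y * w * y⁻¹ := congrArg Subtype.val hvw
          have h2 : (v : G)⁻¹ * y * v = (w : G)⁻¹ * y * w := mul_right_cancel h1
          have h3 : y * ((v : G) * (w : G)⁻¹) = ((v : G) * (w : G)⁻¹) * y := by
            calc y * ((v : G) * (w : G)⁻¹) = (v : G) * ((v : G)⁻¹ * y * v) * (w : G)⁻¹ := by group
              _ = (v : G) * ((w : G)⁻¹ * y * w) * (w : G)⁻¹ := by rw [h2]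
              _ = _ := by group
          have h4 := hreg _ (mul_mem v.2 (inv_mem w.2)) h3
          exact Subtype.ext (mul_inv_eq_one.1 h4)
        have hbij := Finite.injective_iff_bijective.1 hinj
        have h1 := h ⟨y, hyP⟩
        rw [← hbij.sum_comp (fun m : UP => ρ (⟨m, hUPP m.2⟩ * ⟨y, hyP⟩))] at h1
        have h2 : ∀ v : UP, ρ ((⟨(v : G)⁻¹ * y * v * y⁻¹, hUPP (by
            have h1 := hUPn y hyP v v.2
            have h2 : (v : G)⁻¹ * y * v * y⁻¹ = (v : G)⁻¹ * (y * v * y⁻¹) := by group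
            rw [h2]
            exact mul_mem (inv_mem v.2) h1)⟩ : P) * ⟨y, hyP⟩) = ρ ⟨y, hyP⟩ := by
          intro v
          have h3 := Core.isIrr_isClassFunction hρ ⟨y, hyP⟩ (⟨v, hUPP v.2⟩ : P)⁻¹
          rw [← h3]
          congr 1
          apply Subtype.ext
          show (v : G)⁻¹ * y * v * y⁻¹ * y = (v : G)⁻¹ * y * ((v : G)⁻¹)⁻¹
          group
        rw [Finset.sum_congr rfl fun v _ => h2 v, Finset.sum_const, Finset.card_univ, nsmul_eq_mul] at h1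
        rcases mul_eq_zero.1 h1 with h3 | h3
        · exact absurd h3 (by exact_mod_cast Fintype.card_ne_zero)
        · exact h3
    have hU0 : ∑ u : U, ρ ⟨u, hBP (hUB u.2)⟩ ≠ 0 := fun h0 => hx (E1 ρ hρ hker h0 χ hχ hm)
    -- a constituent of the restriction to `B`
    set g : B → ℂ := fun b : B => ρ ⟨b, hBP b.2⟩ with hg
    have hgc : IsCharacter B g :=
      Core.isCharacter_comp (Subgroup.inclusion hBP) (Core.isIrr_isCharacter hρ)
    have hdec := Core.classFunction_eq_sum (Core.isCharacter_isClassFunction hgc)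
    obtain ⟨l, hl1, hl2⟩ : ∃ l : IrrCharacter B, classInner g (l : B → ℂ) ≠ 0 ∧
        ∑ u : U, (l : B → ℂ) ⟨u, hUB u.2⟩ ≠ 0 := by
      by_contra hcon
      push Not at hcon
      apply hU0
      have h1 : ∀ u : U, ρ ⟨u, hBP (hUB u.2)⟩ =
          ∑ l : IrrCharacter B, classInner g (l : B → ℂ) * (l : B → ℂ) ⟨u, hUB u.2⟩ := by
        intro u
        have h2 := congrFun hdec ⟨u, hUB u.2⟩
        rw [Finset.sum_apply] at h2
        exact h2
      rw [Finset.sum_congr rfl fun u _ => h1 u, Finset.sum_comm]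
      refine Finset.sum_eq_zero fun l _ => ?_
      rw [← Finset.mul_sum]
      by_cases h2 : classInner g (l : B → ℂ) = 0
      · rw [h2, zero_mul]
      · rw [hcon l h2, mul_zero]
    obtain ⟨μ, hμU, hμ⟩ := linear_of_sum hUB hUn hBU l.2 hl2
    rw [hμ] at hl1
    by_cases hμ1 : μ = 1
    · rw [hμ1] at hl1
      exact hall ρ hρ hl1
    · exact absurd (E2 μ hμU hμ1 ρ hρ hl1 hy χ hχ hm) hx
  -- the sum
  have hdec := congrFun (Core.classFunction_eq_sum (Core.isCharacter_isClassFunction hfc)) ⟨y, hyP⟩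
  rw [Finset.sum_apply] at hdec
  have h1 : f ⟨y, hyP⟩ = classInner f 1 - classInner f θ := by
    rw [hdec]
    set o : IrrCharacter P := ⟨1, Core.isIrr_one⟩ with ho
    set t : IrrCharacter P := ⟨θ, hθ⟩ with ht
    have hot : o ≠ t := fun h => hθ1 (congrArg Subtype.val h).symm
    rw [← Finset.sum_subset (Finset.subset_univ ({o, t} : Finset (IrrCharacter P)))]
    · rw [Finset.sum_pair hot]
      show classInner f 1 * 1 + classInner f θ * θ ⟨y, hyP⟩ = _
      rw [hθy]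
      ring
    · intro ρ _ hρ
      rw [Finset.mem_insert, Finset.mem_singleton] at hρ
      push Not at hρ
      show classInner f (ρ : P → ℂ) * (ρ : P → ℂ) ⟨y, hyP⟩ = 0
      by_contra hne
      rcases main ρ ρ.2 (left_ne_zero_of_mul hne) (right_ne_zero_of_mul hne) with h | h
      · exact hρ.1 (Subtype.ext h)
      · exact hρ.2 (Subtype.ext h)
  have h2 := hin f hfc
  have h3 : classInner f 1 = (Nat.card P : ℂ)⁻¹ * ∑ g : P, χ g := by
    rw [classInner_apply]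
    simp only [hf, _root_.Nat.card_eq_fintype_card, _root_.Pi.one_apply, _root_.map_one, _root_.mul_one]
  have h4 : χ y = f ⟨y, hyP⟩ := rfl
  have h5 : (Nat.card B : ℂ)⁻¹ * ∑ g : B, f ⟨g, hBP g.2⟩ = (Nat.card B : ℂ)⁻¹ * ∑ g : B, χ g := rfl
  rw [h4, h1, ← h5, ← h2, ← h3]
  ring

end main

end Cfsg.Agent.H315.TF8
end

-- part: H800/TF8/E1F
section
/-!
# (E1) with helper961's square argument (helper800, S2452, `²F₄(8)`)
-/

set_option autoImplicit false
set_option linter.unusedSectionVars false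

open scoped ComplexConjugate
open Cfsg

namespace Cfsg.Agent.H800.TF8

open Cfsg.Agent.OddOrderCharacters.Clifford Cfsg.Agent.Characters Cfsg.Agent.H45.GG
open Cfsg.Agent.OddOrderCharacters

variable {G : Type*} [Group G] {P U UP V1 LS Z : Subgroup G} {n : G}

theorem Fr.mem_sup (F : Fr P U UP V1 LS Z n) {l : G} (hl : l ∈ LS ⊔ Z) : ∃ s ∈ LS, ∃ z ∈ Z, l = s * z := by
  let S : Subgroup G :=
    { carrier := {l | ∃ s ∈ LS, ∃ z ∈ Z, l = s * z}
      one_mem' := ⟨1, one_mem _, 1, one_mem _, by simp⟩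
      mul_mem' := by
        rintro a b ⟨s, hs, z, hz, rfl⟩ ⟨s', hs', z', hz', rfl⟩
        refine ⟨s * s', mul_mem hs hs', z * z', mul_mem hz hz', ?_⟩
        have := F.comm z hz s' hs'
        calc s * z * (s' * z') = s * (z * s') * z' := by group
          _ = s * s' * (z * z') := by rw [this]; group
      inv_mem' := by
        rintro a ⟨s, hs, z, hz, rfl⟩
        refine ⟨s⁻¹, inv_mem hs, z⁻¹, inv_mem hz, ?_⟩
        rw [mul_inv_rev, F.comm _ (inv_mem hz) _ (inv_mem hs)] }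
  have h1 : LS ⊔ Z ≤ S := sup_le (fun s hs => ⟨s, hs, 1, one_mem _, by simp⟩) (fun z hz => ⟨1, one_mem _, z, hz, by simp⟩)
  exact h1 hl

theorem Fr.frame (F : Fr P U UP V1 LS Z n) : H961.TF8.Frame P UP (LS ⊔ Z) n where
  hU := F.UP_le
  hL := sup_le F.LS_le F.Z_le
  fac := by
    intro p hp
    obtain ⟨u, hu, l, hl, z, hz, e⟩ := (F.mem p).1 hp
    exact ⟨u, hu, l * z, mul_mem ((le_sup_left : LS ≤ LS ⊔ Z) hl) ((le_sup_right : Z ≤ LS ⊔ Z) hz),
      by rw [e, mul_assoc]⟩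
  nrm := fun l hl u hu => F.norm l (sup_le F.LS_le F.Z_le hl) u hu
  sq := F.n_sq
  nmem := F.n_not
  opp := fun u hu h => F.n_U u hu (by rw [F.n_inv']; exact h)
  wL := by
    intro l hl
    obtain ⟨s, hs, z, hz, rfl⟩ := F.mem_sup hl
    have h1 := F.n_L hs hz
    rw [F.n_inv'] at h1
    rw [h1]
    exact mul_mem ((le_sup_left : LS ≤ LS ⊔ Z) hs) ((le_sup_right : Z ≤ LS ⊔ Z) (inv_mem hz))

/-- **(E1)**: a character of `G` over a cuspidal character of `P` vanishes at the elements of order 19. -/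
theorem Fr.e1F [Fintype G] [Fintype P] [Fintype U] (F : Fr P U UP V1 LS Z n) (hexp : ∀ p ∈ P, p ^ 1820 ∈ UP)
    (hcU : Nat.card UP = 2 ^ 30) (h19 : 19 ∣ P.index) (hcP : ¬ 19 ∣ Nat.card P) (hcop : Nat.Coprime 5461 (Nat.card G))
    (hG : ¬ 19 ^ 2 ∣ Nat.card G) {ρ : P → ℂ} (hρ : IsIrrCharacter P ρ)
    (hker : ∀ u : P, (u : G) ∈ UP → ρ u = ρ 1) (h0 : ∑ u : U, ρ ⟨u, F.U_le u.2⟩ = 0) {x : G}
    (hx : orderOf x = 19) {χ : G → ℂ} (hχ : IsIrrCharacter G χ) (hχρ : classInner (fun h : P => χ h) ρ ≠ 0) :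
    χ x = 0 := by
  have hxP : ∀ g : G, g⁻¹ * x * g ∉ P := by
    intro g hg
    apply hcP
    have h1 : orderOf (⟨g⁻¹ * x * g, hg⟩ : P) = 19 := by
      rw [Subgroup.orderOf_mk]
      have h2 := orderOf_injective (MulAut.conj g⁻¹).toMonoidHom (MulAut.conj g⁻¹).injective x
      have h3 : (MulAut.conj g⁻¹).toMonoidHom x = g⁻¹ * x * g := by simp only [_root_.map_inv, _root_.MulEquiv.toMonoidHom_eq_coe, _root_.MonoidHom.coe_coe, _root_.MulAut.inv_apply, _root_.MulAut.conj_symm_apply]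
      rw [h3] at h2
      rw [h2, hx]
    rw [← h1]
    exact orderOf_dvd_natCard _
  rcases F.cusp hρ (fun u hu => hker ⟨u, F.UP_le hu⟩ hu) h0 with h | ⟨⟨a, b, ha, hb, hab, e⟩, h⟩
  · exact zero_of_irr hρ h hχ hχρ hxP
  · have hK : H961.TF8.Ker F.frame ρ := by
      refine ⟨hker, ?_⟩
      rintro k ⟨l, hl, e'⟩
      obtain ⟨h1, h2⟩ := h l hl
      rw [← h2]
      congr 1
      exact Subtype.ext e'
    exact H961.TF8.zero_of_over F.frame hexp hcU h19 hcop hG hρ hK ha hb e hx hχ hχρ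

end Cfsg.Agent.H800.TF8
end

-- part: H800/TF8/Glue
section
/-!
# (E1), (E2) in the form of helper315's `key_abs` (helper800, S2452, `²F₄(8)`)
-/

set_option autoImplicit false
set_option linter.unusedSectionVars false

open scoped ComplexConjugate
open Cfsg

namespace Cfsg.Agent.H800.TF8

open Cfsg.Agent.OddOrderCharacters.Clifford Cfsg.Agent.Characters Cfsg.Agent.H45.GG
open Cfsg.Agent.OddOrderCharacters
open Cfsg.Agent.SplitTwo Cfsg.Agent.SplitTwo.ZS Cfsg.Agent.KFacts.TwF4 Cfsg.Agent.KFacts.TwF4.Arc Cfsg.Agent.H84.GaussTwF4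
open Cfsg.Agent.H84.TF8 Cfsg.Agent.TitsThree.RankTwoZ

universe u

variable {F : Type*} [Field F] [Finite F] {σ : F →+* F} {G : Type u} [Group G] [Fintype G] (S : Full σ G)

/-- **(E2)** for `Bo S ≤ Pa S` -/
theorem glue_e2 [Fintype (Bo S)] [Fintype (Pa S)] (hn : S.n2 ∉ Bo S) {x y : G} (hyP : y ∈ Pa S)
    (hyB : ∀ g : G, g⁻¹ * y * g ∉ Bo S) (hxP : ∀ g : G, g⁻¹ * x * g ∉ Pa S) :
    ∀ μ : ↥(Bo S) →* ℂˣ, (∀ (u : G) (hu : u ∈ J S.XZ 1 8), μ ⟨u, U_le_Bo hu⟩ = 1) → μ ≠ 1 → ∀ ρ : ↥(Pa S) → ℂ,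
      IsIrrCharacter ↥(Pa S) ρ → classInner (fun b : ↥(Bo S) => ρ ⟨b, Bo_le_Pa b.2⟩) (lc μ) ≠ 0 → ρ ⟨y, hyP⟩ ≠ 0 →
      ∀ χ : G → ℂ, IsIrrCharacter G χ → classInner (fun h : ↥(Pa S) => χ h) ρ ≠ 0 → χ x = 0 := by
  intro μ hU hμ1 ρ hρ hρμ hρy χ hχ hχρ
  have hPB : ∀ g ∈ Pa S, g ∈ Bo S ∨ DK (Bo S) (Bo S) S.n2 g := fun g hg => BPB hg
  by_cases hTS : ∀ s (hs : s ∈ TS S), μ ⟨s, TS_le_Bo hs⟩ = 1
  · have hG : ∀ g ∉ Pa S, ∃ w, DK (Bo S) (Bo S) w g ∧ ∃ (s : G) (hs : s ∈ Bo S) (hs' : w⁻¹ * s * w ∈ Bo S),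
        μ ⟨w⁻¹ * s * w, hs'⟩ ≠ μ ⟨s, hs⟩ := by
      intro g hg
      obtain ⟨b, hb, b', hb', w, e, s, hs, hs', hne⟩ := e2_key μ hU hTS hμ1 hg
      have h1 : w⁻¹ * (w * s * w⁻¹) * w = s := by group
      refine ⟨w, ⟨b, hb, b', hb', e⟩, w * s * w⁻¹, hs', by rw [h1]; exact hs, ?_⟩
      have h2 : (⟨w⁻¹ * (w * s * w⁻¹) * w, by rw [h1]; exact hs⟩ : ↥(Bo S)) = ⟨s, hs⟩ := Subtype.ext h1
      rw [h2]
      exact Ne.symm hne
    have hirr := e2 (hBP := Bo_le_Pa) (μ := μ) n2_mem_Pa hn hPB hG hρ hρμ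
    exact zero_of_irr hρ hirr hχ hχρ hxP
  · exfalso
    obtain ⟨s, hs, hs', hne⟩ := f2_key μ hTS
    have h1 : S.n2⁻¹ * (S.n2 * s * S.n2⁻¹) * S.n2 = s := by group
    have h2 : (⟨S.n2⁻¹ * (S.n2 * s * S.n2⁻¹) * S.n2, by rw [h1]; exact hs⟩ : ↥(Bo S)) = ⟨s, hs⟩ := Subtype.ext h1
    exact hρy (f2_zero (hBP := Bo_le_Pa) (μ := μ) n2_mem_Pa hn hPB
      ⟨S.n2 * s * S.n2⁻¹, hs', by rw [h1]; exact hs, by rw [h2]; exact Ne.symm hne⟩ hρ hρμ hyB)

omit [Finite F] in
/-- **(E1)** in the form of `key_abs` -/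
theorem glue_e1 {B P U UP V1 LS Z : Subgroup G} {n : G} [Fintype P] [Fintype U] (Fr : Fr P U UP V1 LS Z n)
    (hBP : B ≤ P) (hUB : U ≤ B) (hUPU : UP ≤ U) (hexp : ∀ p ∈ P, p ^ 1820 ∈ UP)
    (hcU : Nat.card UP = 2 ^ 30) (h19 : 19 ∣ P.index) (hcP : ¬ 19 ∣ Nat.card P) (hcop : Nat.Coprime 5461 (Nat.card G))
    (hG : ¬ 19 ^ 2 ∣ Nat.card G) {x : G} (hx : orderOf x = 19) :
    ∀ ρ : P → ℂ, IsIrrCharacter P ρ → (∀ (u : G) (hu : u ∈ UP), ρ ⟨u, hBP (hUB (hUPU hu))⟩ = ρ 1) →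
      ∑ u : U, ρ ⟨u, hBP (hUB u.2)⟩ = 0 → ∀ χ : G → ℂ, IsIrrCharacter G χ →
      classInner (fun h : P => χ h) ρ ≠ 0 → χ x = 0 := fun _ hρ hker h0 _ hχ hχρ =>
  Fr.e1F hexp hcU h19 hcP hcop hG hρ (fun u hu => hker u hu) h0 hx hχ hχρ

end Cfsg.Agent.H800.TF8
end

-- part: H84/TF8/Model
section
/-!
# `²F₄(8)`: the facts on the parabolic subgroup in the model (S2452; helper84)
-/

set_option autoImplicit false
set_option linter.unusedSectionVars false

namespace Cfsg.Agent.H84.TF8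

open Cfsg.Agent.SplitTwo Cfsg.Agent.SplitTwo.ZS Cfsg.Agent.TitsThree.RankTwoZ
open Cfsg.Agent.KFacts.TwF4 Cfsg.Agent.KFacts.TwF4.Arc Cfsg.Agent.KFacts.TwF4.Inv
open Cfsg.Agent.H84.TwF4Two Cfsg.Agent.H84.GaussTwF4

universe u

section frame

variable {F : Type*} [Field F] {σ : F →+* F} {G : Type u} [Group G] {S : Full σ G} [Finite F]

theorem nn_not_mem : nn S ∉ Pa S := by
  intro h
  have := refl_Pa (k := 0) (by rw [mul_zero]; exact nn_refl) h le_rfl (by norm_num)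
  omega

/-- **the facts on `P`** -/
theorem fr (hopp : ∀ x ∈ Bo S, x ∈ J S.XZ 9 16 → x = 1) :
    Cfsg.Agent.H800.TF8.Fr (Pa S) (J S.XZ 1 8) (J S.XZ 1 7) (S.XZ 8) (LL S) (Zz S) (nn S) where
  mem _ := mem_Pa
  norm _ hp _ hu := UP_normal hp hu
  UPU := J_mono le_rfl (by norm_num)
  V1L := X8_le
  V1U := X_le_J (by norm_num) le_rfl
  split _ hu := U_split hu
  comm _ hz _ hl := Zz_comm hz hl
  n_sq := nn_sq
  n_comm _ hl := nn_LL hl
  n_inv _ hz := nn_Zz hz
  n_U u hu h := UP_inter hopp hu (by rwa [nn_inv, ← nn_inv, nn_inv, show nn S * u * nn S = nn S * u * (nn S)⁻¹ by rw [nn_inv]])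
  n_not := nn_not_mem
  cosets g := PGP g

/-- **the element of order 35** -/
theorem exists_y [Finite G] (hF : Nat.card F = 8) : ∃ y ∈ Pa S, orderOf y = 35 ∧ ∀ u ∈ J S.XZ 1 7, y * u = u * y → u = 1 := by
  have h7 : Nat.card Fˣ = 7 := by rw [Nat.card_units, hF]
  have hp7 : Fact (Nat.Prime 7) := ⟨by norm_num⟩
  have hp5 : Fact (Nat.Prime 5) := ⟨by norm_num⟩
  obtain ⟨d, hd⟩ : ∃ d : Fˣ, d ≠ 1 := by
    by_contra hcon
    push Not at hcon
    have : Nat.card Fˣ = 1 := Nat.card_eq_one_iff_unique.2 ⟨⟨fun a b => by rw [hcon a, hcon b]⟩, ⟨1⟩⟩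
    omega
  have hd7 : d ^ 7 = 1 := by
    rw [← h7]; exact pow_card_eq_one'
  obtain ⟨s, hs, hs5, hc⟩ := LL_cover (S := S) (k := 3) (by norm_num) (by rw [hF]; norm_num)
  have hs1 : s ≠ 1 := by
    rintro rfl
    have h1 : ∀ l ∈ LL S, l = 1 := by
      intro l hl
      obtain ⟨a, -, b, -, h⟩ := hc l hl
      rw [h]; group
    obtain ⟨a, ha, ha1⟩ := S.zsys8.exists_ne 8
    exact ha1 (h1 a (X8_le ha))
  have ho5 : orderOf s = 5 := orderOf_eq_prime hs5 hs1
  have hz : S.h 1 d ∈ Zz S := ⟨d, rfl⟩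
  have hz1 : S.h 1 d ≠ 1 := by
    intro h
    rw [← S.h_one] at h
    exact hd (S.h_inj _ _ _ _ h).2
  have ho7 : orderOf (S.h 1 d) = 7 := orderOf_eq_prime (by rw [h_pow', hd7, S.h_one]) hz1
  have hcomm : Commute s (S.h 1 d) := (h_comm_LL d hs).symm
  refine ⟨s * S.h 1 d, mul_mem (LL_le_Pa hs) (Zz_le_Pa hz), ?_, ?_⟩
  · rw [hcomm.orderOf_mul_eq_mul_orderOf_of_coprime (by rw [ho5, ho7]; norm_num), ho5, ho7]
  · intro u hu h
    have h1 : (s * S.h 1 d) ^ 15 = S.h 1 d := by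
      rw [hcomm.mul_pow, show (15 : ℕ) = 5 * 3 by norm_num, pow_mul, hs5, one_pow, one_mul, h_pow']
      congr 1
      calc d ^ (5 * 3) = (d ^ 7) ^ 2 * d := by rw [← pow_mul, ← pow_succ]
        _ = d := by rw [hd7, one_pow, one_mul]
    have h2 : Commute (s * S.h 1 d) u := h
    have h3 := h2.pow_left 15
    rw [h1] at h3
    exact fix17 hd hu h3

end frame

/-! ### the model -/

section model

open Cfsg.Lie Cfsg.Agent.ChevalleyStructure.TwF4.Tables
open Cfsg.Agent.ChevalleyStructure.TwF4.Groups Cfsg.Agent.ChevalleyStructure.TwF4.BN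
open Cfsg.Agent.ChevalleyStructure.TwF4.TwistedFix Cfsg.Agent.KFacts.TwF4.Inst
open Cfsg.Agent.Octagon.KSys Cfsg.Agent.Schreier.TwFFour
open Cfsg.Agent.Octagon.KPar

variable {K : Type} [Field K] [Fintype K] {m : ℕ} [CharP K 2] {φ : K →+* K}

theorem J_neg (hK : Fintype.card K = 2 ^ (2 * m + 1)) (hφ : Rln φ (2 ^ m)) {x : ↥(twistedF4 K (2 ^ m))}
    (hx : x ∈ J (full hK hφ).XZ 9 16) : (x : GL chevF4.Idx K) ∈ GA K negB := by
  have h : J (full hK hφ).XZ 9 16 ≤ (GA K negB).subgroupOf (twistedF4 K (2 ^ m)) := by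
    refine J_le fun k h1 h2 => ?_
    intro x hx
    have h3 : x ∈ XX K (2 ^ m) ((k : ℤ) : ZMod (2 * 8)) := hx
    rw [mem_XX] at h3
    have hr : 8 < rep ((k : ℤ) : ZMod (2 * 8)) := by
      interval_cases k <;> decide
    exact neg_le_neg' (cls_neg hr) h3
  exact h hx

theorem mem_B0_of_Bo (hK : Fintype.card K = 2 ^ (2 * m + 1)) (hφ : Rln φ (2 ^ m)) {x : ↥(twistedF4 K (2 ^ m))}
    (hx : x ∈ Bo (full hK hφ)) : x ∈ B0 K (2 ^ m) := by
  obtain ⟨u, hu, t, ht, rfl⟩ := hx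
  rw [Cfsg.Agent.H315.CY.J_eq hK hφ] at hu
  exact mul_mem (U0_le_B0 hu) (torus_norm hφ ht)

/-- **`B ∩ U⁻ = 1`** -/
theorem hopp (hK : Fintype.card K = 2 ^ (2 * m + 1)) (hφ : Rln φ (2 ^ m)) :
    ∀ x ∈ Bo (full hK hφ), x ∈ J (full hK hφ).XZ 9 16 → x = 1 := by
  intro x hx hx'
  exact Subtype.ext (borel_inf_negB _ (mem_B0_of_Bo hK hφ hx) (J_neg hK hφ hx'))

/-- **the facts on the parabolic subgroup in the model** -/
theorem fr_model (hK : Fintype.card K = 2 ^ (2 * m + 1)) (hφ : Rln φ (2 ^ m)) :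
    Cfsg.Agent.H800.TF8.Fr (Pa (full hK hφ)) (J (full hK hφ).XZ 1 8) (J (full hK hφ).XZ 1 7) ((full hK hφ).XZ 8)
      (LL (full hK hφ)) (Zz (full hK hφ)) (nn (full hK hφ)) := fr (hopp hK hφ)

/-- the Borel subgroup of the pair -/
theorem Bo_eq (hm : 1 ≤ m) (hK : Fintype.card K = 2 ^ (2 * m + 1)) (hφ : Rln φ (2 ^ m))
    {Q : Cfsg.BNPair ↥(twistedF4 K (2 ^ m))} (hsp : FixBN.Split Q 2 (U0 K (2 ^ m))) : Q.B = Bo (full hK hφ) := by
  have hF : ∃ c : Kˣ, c ≠ 1 := by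
    by_contra hcon
    push Not at hcon
    have h3 : Nat.card Kˣ = 1 := Nat.card_eq_one_iff_unique.2 ⟨⟨fun a b => by rw [hcon a, hcon b]⟩, ⟨1⟩⟩
    rw [Nat.card_units, Nat.card_eq_fintype_card, hK] at h3
    have h4 : 8 ≤ 2 ^ (2 * m + 1) := by
      calc 8 = 2 ^ 3 := by norm_num
        _ ≤ 2 ^ (2 * m + 1) := Nat.pow_le_pow_right (by norm_num) (by omega)
    omega
  have hR : (full hK hφ).R.p = 2 := rfl
  rw [← Cfsg.Agent.H315.CY.J_eq hK hφ] at hsp
  ext g
  show g ∈ Q.B ↔ g ∈ Cfsg.Agent.H315.CY.UT (full hK hφ)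
  rw [Cfsg.Agent.H315.CY.mem_UT_iff (full hK hφ) hF hR, ← hsp.normalizer_eq, Subgroup.mem_normalizer_iff]

/-- the parabolic subgroup of the pair -/
theorem Pa_par (hm : 1 ≤ m) (hK : Fintype.card K = 2 ^ (2 * m + 1)) (hφ : Rln φ (2 ^ m))
    {Q : Cfsg.BNPair ↥(twistedF4 K (2 ^ m))} (hsp : FixBN.Split Q 2 (U0 K (2 ^ m))) :
    Q.parabolic {m2 hφ} = Pa (full hK hφ) := by
  rw [Pa_eq, ← Bo_eq hm hK hφ hsp]
  rfl

theorem V8_eq (hK : Fintype.card K = 2 ^ (2 * m + 1)) (hφ : Rln φ (2 ^ m)) : V8 K (2 ^ m) = J (full hK hφ).XZ 1 7 := by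
  have he : (2 ^ m : ℕ) ≠ 0 := by positivity
  have hle : J (full hK hφ).XZ 1 7 ≤ V8 K (2 ^ m) := by
    refine J_le fun k h1 h2 => ?_
    intro x hx
    have h3 : x ∈ XX K (2 ^ m) ((k : ℤ) : ZMod (2 * 8)) := hx
    rw [mem_XX] at h3
    show (x : GL chevF4.Idx K) ∈ GA K (leB 7)
    refine GA_mono ?_ h3
    intro r hr h
    interval_cases k <;> revert r <;> decide +kernel
  apply le_antisymm _ hle
  intro x hx
  have hxU : x ∈ J (full hK hφ).XZ 1 8 := by
    rw [Cfsg.Agent.H315.CY.J_eq hK hφ]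
    exact pos_le_pos (le_pos 7) hx
  obtain ⟨v, hv, u', hu', rfl⟩ := U_split hxU
  have hv8 : v ∈ V8 K (2 ^ m) := by
    have := mul_mem hx (inv_mem (hle hu'))
    rwa [mul_inv_cancel_right] at this
  have h1 : m2 hφ * v * (m2 hφ)⁻¹ ∈ U0 K (2 ^ m) := n2_le7 (v : GL chevF4.Idx K) hv8
  rw [← Cfsg.Agent.H315.CY.J_eq hK hφ] at h1
  have h2 : m2 hφ * v * (m2 hφ)⁻¹ ∈ (full hK hφ).XZ 0 := (full hK hφ).n2_refl.mem' hv (by norm_num)
  have h3 : m2 hφ * v * (m2 hφ)⁻¹ ∈ J (full hK hφ).XZ 9 16 := by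
    have := XZ_per (full hK hφ) 0
    rw [zero_add] at this
    exact mem_J (by rw [this]; exact h2) (by norm_num) le_rfl
  have h4 := hopp hK hφ _ (U_le_Bo h1) h3
  have h5 : v = 1 := by
    have : v = (m2 hφ)⁻¹ * (m2 hφ * v * (m2 hφ)⁻¹) * m2 hφ := by group
    rw [this, h4]; group
  rw [h5, one_mul]
  exact hu'

end model

end Cfsg.Agent.H84.TF8
end

-- part: H371/TC/FTwo
section
/-!
# Linear characters of `B` moved by the reflection (helper371, S2452, row `²F₄(8)`)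

`P = B ∪ B w B`, `mu : B →* ℂˣ` with `mu (w t w⁻¹) ≠ mu t` for some `t ∈ B ∩ w⁻¹ B w`:

* `isIrr_ind_two` : the induced character is irreducible;
* `eq_ind_of_over` : it is the only irreducible character of `P` over `mu`;
* `zero_of_over` : which vanishes outside the conjugates of `B`;
* `zero_bn` : the same for the minimal parabolic subgroups of a group with a (B, N)-pair.
-/

set_option autoImplicit false

open Cfsg
open scoped ComplexConjugate

namespace Cfsg.Agent.H371.TC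

universe u

section abs

variable {P : Type u} [Group P]

end abs

section grp

variable {G : Type u} [Group G]

/-- elements of order divisible by a prime not dividing `|B|` -/
theorem not_mem_of_order {B : Subgroup G} [Finite B] {n r : ℕ} (hr : ¬ r ∣ Nat.card B) {y : G} (hy : orderOf y = n)
    (hn : r ∣ n) (g : G) : g⁻¹ * y * g ∉ B := by
  intro h
  apply hr
  have h1 : orderOf (g⁻¹ * y * g) = orderOf y := by
    have := (MulAut.conj g⁻¹).orderOf_eq y
    simpa only [_root_.map_inv, _root_.MulAut.inv_apply, _root_.MulAut.conj_symm_apply] using this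
  have h2 : orderOf (⟨g⁻¹ * y * g, h⟩ : B) = n := by rw [Subgroup.orderOf_mk, h1, hy]
  exact hn.trans (h2 ▸ orderOf_dvd_natCard _)

end grp

end Cfsg.Agent.H371.TC
end

-- part: H371/TC/FTwoF
section
/-!
# `²F₄(q)`: the linear characters of `B` which are not trivial on the torus of `⟨X_0, X_8⟩` (helper371, S2452)

Frame `S : Full σ G`, `B = J 1 8 · T`, `mu : B →* ℂˣ` trivial on `J 1 8`, `mu b ≠ 1` for some `b ∈ B ∩ LL S`:
`mu` is moved by the reflection `n2`.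
-/

set_option autoImplicit false
set_option linter.unusedSectionVars false

namespace Cfsg.Agent.H371.TC

open Cfsg
open Cfsg.Agent.SplitTwo Cfsg.Agent.SplitTwo.ZS Cfsg.Agent.TitsThree.RankTwoZ
open Cfsg.Agent.KFacts.TwF4 Cfsg.Agent.KFacts.TwF4.Arc Cfsg.Agent.KFacts.TwF4.Inv
open Cfsg.Agent.H84.TwF4Two Cfsg.Agent.H84.GaussTwF4

universe u

variable {F : Type*} [Field F] {σ : F →+* F} {G : Type u} [Group G] {S : Full σ G}

end Cfsg.Agent.H371.TC
end

-- part: H371/TC/FTwoM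
section
/-!
# `²F₄(q)`: the linear characters of `B` moved by `n2`, on the model (helper371, S2452)

`Q` any split (B, N)-pair of `twistedF4 K (2 ^ m)` as in `H315.CY.exists_pairE`.
-/

set_option autoImplicit false
set_option linter.unusedSectionVars false

namespace Cfsg.Agent.H371.TC

open Cfsg Cfsg.Lie
open Cfsg.Agent.KFacts.TwF4 Cfsg.Agent.KFacts.TwF4.AutTau
open Cfsg.Agent.SplitTwo Cfsg.Agent.SplitTwo.ZS Cfsg.Agent.TitsThree.RankTwoZ Cfsg.Agent.TitsThree.RankTwoRGD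
open Cfsg.Agent.SplitTwo.RootSysZ Cfsg.Agent.H978.BR
open Cfsg.Agent.ChevalleyStructure.TwF4.Rel Cfsg.Agent.ChevalleyStructure.TwF4.TwistedFix
open Cfsg.Agent.KFacts.TwF4.Inst Cfsg.Agent.H770.CY
open Cfsg.Agent.Schreier.TwFFour
open Cfsg.Agent.Octagon.KSys Cfsg.Agent.H84.GaussTwF4 Cfsg.Agent.H315.CY

variable {K : Type} [Field K] [Fintype K] [CharP K 2] {φ : K →+* K} {m : ℕ}

/-- the field has an element different from `0` and `1` -/
theorem exists_ne_one (hm : 1 ≤ m) (hK : Fintype.card K = 2 ^ (2 * m + 1)) : ∃ c : Kˣ, c ≠ 1 := by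
  by_contra hcon
  push Not at hcon
  have h3 : Nat.card Kˣ = 1 := Nat.card_eq_one_iff_unique.2 ⟨⟨fun a b => by rw [hcon a, hcon b]⟩, ⟨1⟩⟩
  rw [Nat.card_units, Nat.card_eq_fintype_card, hK] at h3
  have h4 : 8 ≤ 2 ^ (2 * m + 1) :=
    calc 8 = 2 ^ 3 := by norm_num
      _ ≤ 2 ^ (2 * m + 1) := Nat.pow_le_pow_right (by norm_num) (by omega)
  omega

/-- `Q.B = J 1 8 · T` -/
theorem mem_QB (hm : 1 ≤ m) (hK : Fintype.card K = 2 ^ (2 * m + 1)) (hφ : Rln φ (2 ^ m))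
    {Q : BNPair ↥(twistedF4 K (2 ^ m))} (hsp : FixBN.Split Q 2 (U0 K (2 ^ m))) (g : ↥(twistedF4 K (2 ^ m))) :
    g ∈ Q.B ↔ ∃ u ∈ J (full hK hφ).XZ 1 8, ∃ t ∈ (full hK hφ).T, g = u * t := by
  have hR : (full hK hφ).R.p = 2 := rfl
  rw [← hsp.normalizer_eq, Subgroup.mem_normalizer_iff, ← J_eq hK hφ]
  exact (mem_UT_iff (full hK hφ) (exists_ne_one hm hK) hR).symm

end Cfsg.Agent.H371.TC
end

-- part: H371/TF8/HyB
section
/-!
# `²F₄(8)`: elements of order 35 and 19, `B / U` abelian (helper371, S2452)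

`Q` a split (B, N)-pair of `twistedF4 K (2 ^ 1)`, `|K| = 8`, as in `H315.CY.exists_pairE`:

* `hyB` : elements of order 35 have no conjugates in `Q.B`;
* `hxP` : elements of order 19 have no conjugates in `Q.parabolic {m2 hφ}`;
* `hBU`, `hBU'` : the commutators of `Q.B` are in `U0`; `hUn` : `U0` is normal in `Q.B`.
-/

set_option autoImplicit false
set_option linter.unusedSectionVars false

namespace Cfsg.Agent.H371.TF8

open Cfsg Cfsg.Lie
open Cfsg.Agent.KFacts.TwF4 Cfsg.Agent.KFacts.TwF4.Inst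
open Cfsg.Agent.SplitTwo Cfsg.Agent.SplitTwo.ZS Cfsg.Agent.TitsThree.RankTwoZ
open Cfsg.Agent.ChevalleyStructure.TwF4.TwistedFix
open Cfsg.Agent.Schreier.TwFFour Cfsg.Agent.Schreier.BNSch
open Cfsg.Agent.Octagon.KSys Cfsg.Agent.H315.CY Cfsg.Agent.H84.GaussTwF4

section frame

universe u

variable {F : Type*} [Field F] {σ : F →+* F} {G : Type u} [Group G] {S : Full σ G}

/-- commutators of `J 1 8 · T` are in `J 1 8` -/
theorem comm_mem {b c : G} (hb : ∃ u ∈ J S.XZ 1 8, ∃ t ∈ S.T, b = u * t)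
    (hc : ∃ u ∈ J S.XZ 1 8, ∃ t ∈ S.T, c = u * t) : b * c * b⁻¹ * c⁻¹ ∈ J S.XZ 1 8 := by
  obtain ⟨u, hu, t, ht, rfl⟩ := hb
  obtain ⟨v, hv, s, hs, rfl⟩ := hc
  have h1 : t * v * t⁻¹ ∈ J S.XZ 1 8 := S.T_conj_J ht hv
  have h2 : s * u * s⁻¹ ∈ J S.XZ 1 8 := S.T_conj_J hs hu
  have h3 := T_comm ht hs
  have e : u * t * (v * s) * (u * t)⁻¹ * (v * s)⁻¹ = u * (t * v * t⁻¹) * (s * u * s⁻¹)⁻¹ * v⁻¹ := by
    calc u * t * (v * s) * (u * t)⁻¹ * (v * s)⁻¹
        = u * (t * v * t⁻¹) * (t * s) * t⁻¹ * u⁻¹ * s⁻¹ * v⁻¹ := by group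
      _ = u * (t * v * t⁻¹) * (s * t) * t⁻¹ * u⁻¹ * s⁻¹ * v⁻¹ := by rw [h3]
      _ = _ := by group
  rw [e]
  exact mul_mem (mul_mem (mul_mem hu h1) (inv_mem h2)) (inv_mem hv)

end frame

section model

variable {K : Type} [Field K] [Fintype K] [CharP K 2] {φ : K →+* K}

/-- elements of order 35 have no conjugates in `Q.B` -/
theorem hyB (hK : Fintype.card K = 2 ^ (2 * 1 + 1)) (hφ : Rln φ (2 ^ 1))
    {Q : BNPair ↥(twistedF4 K (2 ^ 1))} (hsp : FixBN.Split Q 2 (U0 K (2 ^ 1))) {y : ↥(twistedF4 K (2 ^ 1))}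
    (hy : orderOf y = 35) : ∀ g : ↥(twistedF4 K (2 ^ 1)), g⁻¹ * y * g ∉ Q.B :=
  H371.TC.not_mem_of_order (five_not_dvd hK hφ hsp) hy (by norm_num)

/-- elements of order 19 have no conjugates in `Q.parabolic {m2 hφ}` -/
theorem hxP (hK : Fintype.card K = 2 ^ (2 * 1 + 1)) (hφ : Rln φ (2 ^ 1))
    {Q : BNPair ↥(twistedF4 K (2 ^ 1))} (hsp : FixBN.Split Q 2 (U0 K (2 ^ 1)))
    (hQS : Q.S = {m1 K (2 ^ 1), m2 hφ}) (hV : Node Q (U0 K (2 ^ 1)) (m2 hφ) (V8 K (2 ^ 1)))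
    {x : ↥(twistedF4 K (2 ^ 1))} (hx : orderOf x = 19) :
    ∀ g : ↥(twistedF4 K (2 ^ 1)), g⁻¹ * x * g ∉ Q.parabolic {m2 hφ} :=
  H371.TC.not_mem_of_order (nineteen_not_dvd hK hφ hsp hQS hV) hx dvd_rfl

/-- the same with `J 1 8` -/
theorem hBU' (hK : Fintype.card K = 2 ^ (2 * 1 + 1)) (hφ : Rln φ (2 ^ 1))
    {Q : BNPair ↥(twistedF4 K (2 ^ 1))} (hsp : FixBN.Split Q 2 (U0 K (2 ^ 1))) :
    ∀ b ∈ Q.B, ∀ c ∈ Q.B, b * c * b⁻¹ * c⁻¹ ∈ J (full hK hφ).XZ 1 8 :=
  fun b hb c hc => comm_mem ((H371.TC.mem_QB le_rfl hK hφ hsp b).1 hb) ((H371.TC.mem_QB le_rfl hK hφ hsp c).1 hc)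

end model

end Cfsg.Agent.H371.TF8
end

-- part: H371/TF8/NumG
section
/-!
# `19 ^ 2` does not divide `|²F₄(8)|` (helper371, S2452)
-/

set_option autoImplicit false

namespace Cfsg.Agent.H371.TF8

open Cfsg Cfsg.Lie

variable {K : Type*} [Field K] [Fintype K] [CharP K 2]

theorem nineteen_sq_G (hK : Fintype.card K = 2 ^ (2 * 1 + 1)) : ¬ 19 ^ 2 ∣ Nat.card ↥(twistedF4 K (2 ^ 1)) := by
  rw [card_G hK]
  norm_num

theorem coprime_5461' (hK : Fintype.card K = 2 ^ (2 * 1 + 1)) : Nat.Coprime 5461 (Nat.card ↥(twistedF4 K (2 ^ 1))) :=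
  (coprime_5461 hK).symm

end Cfsg.Agent.H371.TF8
end

-- part: H315/TF8/Inst
section
/-!
# `²F₄(8)`: the irreducible characters which do not vanish at `x` and `y` (helper315, S2452)

`exists_key` : there is `y` of order 35 such that for all `x` of order 19 only the trivial character and one more
irreducible character do not vanish at `x` and `y`.
-/

set_option autoImplicit false
set_option linter.unusedSectionVars false

open Cfsg Cfsg.Lie

namespace Cfsg.Agent.H315.TF8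

open Cfsg.Agent.SplitTwo Cfsg.Agent.SplitTwo.ZS Cfsg.Agent.TitsThree.RankTwoZ
open Cfsg.Agent.KFacts.TwF4 Cfsg.Agent.KFacts.TwF4.Inst
open Cfsg.Agent.ChevalleyStructure.TwF4.TwistedFix
open Cfsg.Agent.Schreier.TwFFour Cfsg.Agent.Schreier.BNSch
open Cfsg.Agent.Octagon.KSys Cfsg.Agent.H315.CY Cfsg.Agent.H84.GaussTwF4 Cfsg.Agent.H84.TF8

theorem sum_sub_eq {G : Type*} [Group G] {A B : Subgroup G} (h : A = B) [Fintype A] [Fintype B] (f : G → ℂ) :
    ∑ g : A, f g = ∑ g : B, f g :=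
  Fintype.sum_equiv (MulEquiv.subgroupCongr h).toEquiv _ _ fun _ => rfl

variable {K : Type} [Field K] [Fintype K] [CharP K 2] {φ : K →+* K}

/-- **the key for `²F₄(8)`** -/
theorem exists_key (hK : Fintype.card K = 2 ^ (2 * 1 + 1)) (hφ : Rln φ (2 ^ 1)) :
    ∃ y : ↥(twistedF4 K (2 ^ 1)), orderOf y = 35 ∧ ∀ x : ↥(twistedF4 K (2 ^ 1)), orderOf x = 19 →
      ∃ S₀ : IrrCharacter ↥(twistedF4 K (2 ^ 1)), ∀ χ : IrrCharacter ↥(twistedF4 K (2 ^ 1)),
        (χ : ↥(twistedF4 K (2 ^ 1)) → ℂ) x ≠ 0 → (χ : ↥(twistedF4 K (2 ^ 1)) → ℂ) y ≠ 0 →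
          (χ : ↥(twistedF4 K (2 ^ 1)) → ℂ) = (fun _ => 1) ∨ χ = S₀ := by
  classical
  have hfin : Finite ↥(twistedF4 K (2 ^ 1)) := inferInstance
  have := Fintype.ofFinite ↥(twistedF4 K (2 ^ 1))
  obtain ⟨Q, hQB, hsp, hS, h16, hV, hV', hcV, hcV', hcU, hcT⟩ := exists_pairG (m := 1) hK hφ
  have hF : Nat.card K = 8 := by rw [Nat.card_eq_fintype_card, hK]; norm_num
  obtain ⟨y, hyP, hy, hreg⟩ := H84.TF8.exists_y (S := full hK hφ) hF
  refine ⟨y, hy, fun x hx => ?_⟩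
  have hB : Q.B = Bo (full hK hφ) := Bo_eq le_rfl hK hφ hsp
  have hP : Q.parabolic {m2 hφ} = Pa (full hK hφ) := Pa_par le_rfl hK hφ hsp
  have := Fintype.ofFinite ↥(Bo (full hK hφ))
  have := Fintype.ofFinite ↥(Pa (full hK hφ))
  have := Fintype.ofFinite ↥(J (full hK hφ).XZ 1 8)
  have := Fintype.ofFinite ↥Q.B
  have := Fintype.ofFinite ↥(Q.parabolic {m2 hφ})
  have hyB : ∀ g, g⁻¹ * y * g ∉ Bo (full hK hφ) := by rw [← hB]; exact H371.TF8.hyB hK hφ hsp hy
  have hxP : ∀ g, g⁻¹ * x * g ∉ Pa (full hK hφ) := by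
    rw [← hP]; exact H371.TF8.hxP hK hφ hsp hS hV' hx
  have hn : (full hK hφ).n2 ∉ Bo (full hK hφ) := by
    intro hn
    rcases BPB hyP with h | ⟨b, hb, b', hb', h⟩
    · exact hyB 1 (by simpa using h)
    · exact hyB 1 (by rw [h]; simpa only [_root_.Nat.reducePow, _root_.inv_one, _root_.one_mul, _root_.mul_one] using mul_mem (mul_mem hb hn) hb')
  refine key_eight hK hφ hsp hS h16 hV hV' hcV hcV' hx fun χ hχ hχx => ?_
  rw [sum_sub_eq hP, sum_sub_eq hB, hP, hB]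
  refine key_abs (B := Bo (full hK hφ)) (P := Pa (full hK hφ)) (U := J (full hK hφ).XZ 1 8)
    (UP := J (full hK hφ).XZ 1 7) Bo_le_Pa U_le_Bo (J_mono le_rfl (by norm_num)) (fun p hp u hu => UP_normal hp hu) ?_
    ?_ n2_mem_Pa hn (fun g hg => BPB hg) hyP hreg hyB ?_ (H800.TF8.glue_e2 (full hK hφ) hn hyP hyB hxP) hχ hχx
  · intro b hb u hu
    obtain ⟨v, hv, t, ht, rfl⟩ := hb
    have h1 := mul_mem (mul_mem hv ((full hK hφ).T_conj_J ht hu)) (inv_mem hv)
    rwa [show v * (t * u * t⁻¹) * v⁻¹ = v * t * u * (v * t)⁻¹ by group] at h1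
  · rw [← hB]
    exact H371.TF8.hBU' hK hφ hsp
  · refine H800.TF8.glue_e1 (fr_model hK hφ) Bo_le_Pa U_le_Bo (J_mono le_rfl (by norm_num))
      (fun p hp => H83.TF8.pow_Pa hF hp) ?_ ?_ ?_ (H371.TF8.coprime_5461' hK) (H371.TF8.nineteen_sq_G hK) hx
    · rw [← V8_eq hK hφ]
      exact H371.TF8.card_V8 hK hφ
    · rw [← hP]
      exact H371.TF8.nineteen_dvd hK hφ hsp hS hV'
    · rw [← hP]
      exact H371.TF8.nineteen_not_dvd hK hφ hsp hS hV'

end Cfsg.Agent.H315.TF8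
end

private theorem dce_0fe6f2aeda1c : _root_.True := by
  try have : _root_.True := by simp only [_root_.Cfsg.Agent.KFacts.TwF4.Inst.full.congr_simp]
  try have : _root_.True := by simp only [_root_.Cfsg.Agent.H800.TF8.lc.eq_1]
  exact _root_.True.intro
end
end
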